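import Mathlib

universe u

namespace Groth.Agent.H27.ResidueExt

open Polynomial

/-- a finite algebra over a local ring whose quotient by the extended maximal ideal is a field is
local -/
theorem isLocalRing_of_surjective {A B K : Type*} [CommRing A] [IsLocalRing A] [CommRing B]
    [Algebra A B] [Module.Finite A B] [Field K] (ρ : B →+* K) (hρ : Function.Surjective ρ)
    (hker : RingHom.ker ρ = (IsLocalRing.maximalIdeal A).map (algebraMap A B)) :
    IsLocalRing B := by
  haveI hmax : (RingHom.ker ρ).IsMaximal := RingHom.ker_isMaximal_of_surjective ρ hρ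
  refine IsLocalRing.of_unique_max_ideal ⟨RingHom.ker ρ, hmax, fun M hM => ?_⟩
  haveI := hM
  haveI : (M.comap (algebraMap A B)).IsMaximal :=
    Ideal.isMaximal_comap_of_isIntegral_of_isMaximal (R := A) M
  have h1 : M.comap (algebraMap A B) = IsLocalRing.maximalIdeal A :=
    IsLocalRing.eq_maximalIdeal inferInstance
  have h2 : RingHom.ker ρ ≤ M := by
    rw [hker, Ideal.map_le_iff_le_comap, h1]
  exact (hmax.eq_of_le hM.ne_top h2).symm

section adjoin
variable {A k : Type*} [CommRing A] [CommRing k] (π : A →+* k) (hπ : Function.Surjective π)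
  (f : A[X]) (g : k[X]) (hfg : f.map π = g)

include hπ in
theorem map_surjective : Function.Surjective (AdjoinRoot.map π f g (by rw [hfg])) := by
  intro z
  obtain ⟨q, rfl⟩ := AdjoinRoot.mk_surjective z
  obtain ⟨q', rfl⟩ := Polynomial.map_surjective π hπ q
  refine ⟨AdjoinRoot.mk f q', ?_⟩
  induction q' using Polynomial.induction_on' with
  | add p q hp hq => simp only [map_add, Polynomial.map_add, hp, hq]
  | monomial n a =>
    rw [← C_mul_X_pow_eq_monomial]
    simp only [map_mul, map_pow, Polynomial.map_mul, Polynomial.map_pow, Polynomial.map_C,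
      Polynomial.map_X, AdjoinRoot.mk_C, AdjoinRoot.mk_X, AdjoinRoot.map_of, AdjoinRoot.map_root]

theorem map_mk (q : A[X]) :
    AdjoinRoot.map π f g (by rw [hfg]) (AdjoinRoot.mk f q) = AdjoinRoot.mk g (q.map π) := by
  induction q using Polynomial.induction_on' with
  | add p q hp hq => simp only [map_add, Polynomial.map_add, hp, hq]
  | monomial n a =>
    rw [← C_mul_X_pow_eq_monomial]
    simp only [map_mul, map_pow, Polynomial.map_mul, Polynomial.map_pow, Polynomial.map_C,
      Polynomial.map_X, AdjoinRoot.mk_C, AdjoinRoot.mk_X, AdjoinRoot.map_of, AdjoinRoot.map_root]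

include hπ in
theorem ker_map : RingHom.ker (AdjoinRoot.map π f g (by rw [hfg])) =
    (RingHom.ker π).map (AdjoinRoot.of f) := by
  apply le_antisymm
  · intro z hz
    obtain ⟨q, rfl⟩ := AdjoinRoot.mk_surjective z
    rw [RingHom.mem_ker, map_mk π f g hfg, AdjoinRoot.mk_eq_zero] at hz
    obtain ⟨h, hh⟩ := hz
    obtain ⟨h', rfl⟩ := Polynomial.map_surjective π hπ h
    have h1 : q - f * h' ∈ RingHom.ker (Polynomial.mapRingHom π) := by
      rw [RingHom.mem_ker, Polynomial.coe_mapRingHom, Polynomial.map_sub, Polynomial.map_mul, hfg,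
        hh, sub_self]
    rw [Polynomial.ker_mapRingHom] at h1
    have h2 : AdjoinRoot.mk f q = AdjoinRoot.mk f (q - f * h') := by
      rw [AdjoinRoot.mk_eq_mk]
      exact ⟨h', by ring⟩
    rw [h2]
    have h3 := Ideal.mem_map_of_mem (AdjoinRoot.mk f) h1
    rwa [Ideal.map_map] at h3
  · rw [Ideal.map_le_iff_le_comap]
    intro a ha
    rw [Ideal.mem_comap, RingHom.mem_ker, AdjoinRoot.map_of, RingHom.mem_ker.mp ha, map_zero]

end adjoin

theorem key (n : ℕ) : ∀ (A : Type u) [CommRing A] [IsLocalRing A] (k : Type u) [Field k]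
    (π : A →+* k) (_ : Function.Surjective π) (K : Type u) [Field K] [Algebra k K]
    [Module.Finite k K], Module.finrank k K = n →
    ∃ (B : Type u) (_ : CommRing B) (_ : Algebra A B), IsLocalRing B ∧ Module.Flat A B ∧
      Module.Finite A B ∧ ∃ ρ : B →+* K, Function.Surjective ρ ∧
        RingHom.ker ρ = (RingHom.ker π).map (algebraMap A B) ∧
        ∀ a, ρ (algebraMap A B a) = algebraMap k K (π a) := by
  induction n using Nat.strong_induction_on with
  | _ n ih =>
    intro A _ _ k _ π hπ K _ _ _ hn
    by_cases hsurj : Function.Surjective (algebraMap k K)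
    · refine ⟨A, inferInstance, Algebra.id A, inferInstance, inferInstance, inferInstance,
        (algebraMap k K).comp π, hsurj.comp hπ, ?_, fun a => rfl⟩
      rw [Algebra.algebraMap_self, Ideal.map_id]
      ext x
      simp [RingHom.mem_ker]
    · -- pick θ outside k
      have : ∃ θ : K, θ ∉ (algebraMap k K).range := by
        by_contra hcon
        push Not at hcon
        exact hsurj fun x => (hcon x)
      obtain ⟨θ, hθ⟩ := this
      have hθint : IsIntegral k θ := IsIntegral.of_finite k θ
      have hirr : Irreducible (minpoly k θ) := minpoly.irreducible hθint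
      have hmonic : (minpoly k θ).Monic := minpoly.monic hθint
      have hdeg : 2 ≤ (minpoly k θ).natDegree := (minpoly.two_le_natDegree_iff hθint).mpr hθ
      obtain ⟨f, hfmap, hfdeg, hfmonic⟩ := Polynomial.lifts_and_natDegree_eq_and_monic
        ((Polynomial.mem_lifts _).mpr (Polynomial.map_surjective π hπ (minpoly k θ))) hmonic
      haveI : Fact (Irreducible (minpoly k θ)) := ⟨hirr⟩
      -- the algebra structure of `K` over `k₁ = k[X]/(minpoly θ)`
      letI algK : Algebra (AdjoinRoot (minpoly k θ)) K :=
        (AdjoinRoot.lift (algebraMap k K) θ (by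
          rw [← Polynomial.aeval_def]; exact minpoly.aeval k θ)).toAlgebra
      haveI : IsScalarTower k (AdjoinRoot (minpoly k θ)) K :=
        IsScalarTower.of_algebraMap_eq fun x => by
          change algebraMap k K x = AdjoinRoot.lift (algebraMap k K) θ _ (AdjoinRoot.of _ x)
          rw [AdjoinRoot.lift_of]
      haveI : Module.Finite (AdjoinRoot (minpoly k θ)) K :=
        Module.Finite.of_restrictScalars_finite k _ K
      have hfr : Module.finrank k (AdjoinRoot (minpoly k θ)) = (minpoly k θ).natDegree := by
        rw [PowerBasis.finrank (AdjoinRoot.powerBasis hmonic.ne_zero), AdjoinRoot.powerBasis_dim]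
      have hlt : Module.finrank (AdjoinRoot (minpoly k θ)) K < n := by
        have h1 := Module.finrank_mul_finrank k (AdjoinRoot (minpoly k θ)) K
        have h2 : 0 < Module.finrank (AdjoinRoot (minpoly k θ)) K := Module.finrank_pos
        rw [hfr, hn] at h1
        nlinarith
      -- the first step
      haveI : Module.Finite A (AdjoinRoot f) := hfmonic.finite_adjoinRoot
      haveI : Module.Free A (AdjoinRoot f) := hfmonic.free_adjoinRoot
      have hπ₁ := map_surjective π hπ f (minpoly k θ) hfmap
      have hker₁ := ker_map π hπ f (minpoly k θ) hfmap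
      have hkerπ : RingHom.ker π = IsLocalRing.maximalIdeal A :=
        IsLocalRing.eq_maximalIdeal (RingHom.ker_isMaximal_of_surjective π hπ)
      haveI : IsLocalRing (AdjoinRoot f) :=
        isLocalRing_of_surjective (A := A) _ hπ₁ (by rw [hker₁, hkerπ]; rfl)
      obtain ⟨B, _, _, hBloc, hBflat, hBfin, ρ, hρ, hkerρ, hcomp⟩ :=
        ih _ hlt (AdjoinRoot f) (AdjoinRoot (minpoly k θ))
          (AdjoinRoot.map π f (minpoly k θ) (by rw [hfmap])) hπ₁ K rfl
      letI : Algebra A B := ((algebraMap (AdjoinRoot f) B).comp (algebraMap A (AdjoinRoot f))).toAlgebra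
      haveI : IsScalarTower A (AdjoinRoot f) B := IsScalarTower.of_algebraMap_eq fun _ => rfl
      refine ⟨B, inferInstance, inferInstance, hBloc, Module.Flat.trans A (AdjoinRoot f) B,
        Module.Finite.trans (AdjoinRoot f) B, ρ, hρ, ?_, fun a => ?_⟩
      · rw [hkerρ, hker₁, Ideal.map_map]
        rfl
      · rw [IsScalarTower.algebraMap_apply A (AdjoinRoot f) B, hcomp]
        change AdjoinRoot.lift (algebraMap k K) θ _ (AdjoinRoot.map π f _ _ (AdjoinRoot.of f a)) = _
        rw [AdjoinRoot.map_of, AdjoinRoot.lift_of]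

theorem main {A : Type u} [CommRing A] [IsLocalRing A] (K : Type u) [Field K]
    [Algebra (IsLocalRing.ResidueField A) K] [Module.Finite (IsLocalRing.ResidueField A) K] :
    ∃ (B : Type u) (_ : CommRing B) (_ : Algebra A B), IsLocalRing B ∧
      IsLocalHom (algebraMap A B) ∧ Module.Flat A B ∧ Module.Finite A B ∧
      ∃ e : (B ⧸ (IsLocalRing.maximalIdeal A).map (algebraMap A B)) ≃+* K,
        ∀ a : A, e (Ideal.Quotient.mk _ (algebraMap A B a)) =
          algebraMap (IsLocalRing.ResidueField A) K (IsLocalRing.residue A a) := by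
  obtain ⟨B, _, _, hloc, hflat, hfin, ρ, hρ, hker, hcomp⟩ :=
    key _ A (IsLocalRing.ResidueField A) (IsLocalRing.residue A)
      IsLocalRing.residue_surjective K rfl
  rw [IsLocalRing.ker_residue] at hker
  refine ⟨B, inferInstance, inferInstance, hloc, ?_, hflat, hfin,
    (Ideal.quotEquivOfEq hker.symm).trans (RingHom.quotientKerEquivOfSurjective hρ),
    fun a => ?_⟩
  · constructor
    intro a ha
    by_contra hna
    have hmem : a ∈ IsLocalRing.maximalIdeal A := (IsLocalRing.mem_maximalIdeal a).mpr hna
    have h0 : ρ (algebraMap A B a) = 0 := by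
      rw [hcomp, (IsLocalRing.residue_eq_zero_iff a).mpr hmem, map_zero]
    exact (ha.map ρ).ne_zero h0
  · rw [RingEquiv.trans_apply, Ideal.quotEquivOfEq_mk,
      RingHom.quotientKerEquivOfSurjective_apply_mk, hcomp]

end Groth.Agent.H27.ResidueExt
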