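import Groth.Prelude.Def_EtBase
import Groth.Agent.H67.HenselFinite
import Mathlib.FieldTheory.IsSepClosed

/-!
# Transport of strictly henselian local rings along ring isomorphisms
-/

set_option autoImplicit false
universe u

namespace Groth.Agent.H27.SHTransport

open Polynomial

/-- separably closed fields transfer along ring isomorphisms -/
theorem isSepClosed_of_ringEquiv {k k' : Type*} [Field k] [Field k'] (e : k ≃+* k')
    [IsSepClosed k] : IsSepClosed k' := by
  apply IsSepClosed.of_exists_root
  intro p _ hirr hsep
  have hsep' : (p.map e.symm.toRingHom).Separable := hsep.map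
  have hdeg : (p.map e.symm.toRingHom).degree ≠ 0 := by
    rw [Polynomial.degree_map]
    exact fun h => hirr.not_isUnit (Polynomial.isUnit_iff_degree_eq_zero.mpr h)
  obtain ⟨x, hx⟩ := IsSepClosed.exists_root _ hdeg hsep'
  refine ⟨e x, ?_⟩
  have h1 : (p.map e.symm.toRingHom).eval x = 0 := hx
  rw [Polynomial.eval_map] at h1
  have h2 := Polynomial.hom_eval₂ p e.symm.toRingHom e.toRingHom x
  rw [h1, map_zero] at h2
  have h3 : e.toRingHom.comp e.symm.toRingHom = RingHom.id k' := by
    ext y; simp
  rw [h3, Polynomial.eval₂_id] at h2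
  exact h2.symm

/-- strictly henselian local rings transfer along ring isomorphisms -/
theorem isStrictlyHenselian_of_ringEquiv {S S' : Type u} [CommRing S] [CommRing S']
    (φ : S ≃+* S') (h : EtCoh.IsStrictlyHenselianLocalRing S) :
    EtCoh.IsStrictlyHenselianLocalRing S' := by
  obtain ⟨hH, hS⟩ := h
  haveI := hH
  haveI hH' : HenselianLocalRing S' := Groth.Agent.H67.HenselFinite.henselian_of_ringEquiv φ
  refine ⟨hH', ?_⟩
  exact isSepClosed_of_ringEquiv (IsLocalRing.ResidueField.mapEquiv φ)

/-- strictly henselian local rings transfer along bijective ring homs -/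
theorem isStrictlyHenselian_of_bijective {S S' : Type u} [CommRing S] [CommRing S']
    (φ : S →+* S') (hφ : Function.Bijective φ) (h : EtCoh.IsStrictlyHenselianLocalRing S) :
    EtCoh.IsStrictlyHenselianLocalRing S' :=
  isStrictlyHenselian_of_ringEquiv (RingEquiv.ofBijective φ hφ) h

end Groth.Agent.H27.SHTransport
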