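import Groth.Agent.H27.OlivierMain
import Groth.Agent.H27.SHTransport
import Groth.Agent.H3.HensUnion
import Groth.Agent.H3.UnionEtaleWeakly
import Groth.Agent.H3.StrictHensBaseEquiv
import Groth.Agent.S0537
import Groth.Agent.S7127
import Groth.Agent.S1996

/-!
# Weakly étale local homomorphisms and strict henselizations
-/

set_option autoImplicit false
set_option linter.style.haveILetI false
universe u

open IsLocalRing

namespace Groth.Agent.H27.SHWeaklyEtale

section Transfer

variable {A S R : Type u} [CommRing A] [IsLocalRing A] [CommRing S] [IsLocalRing S]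
  [CommRing R] [IsLocalRing R] [Algebra A S] [IsLocalHom (algebraMap A S)]
  [Algebra A R] [IsLocalHom (algebraMap A R)]

/-- strict henselizations transfer along an isomorphism of the target -/
theorem isStrictHenselization_of_ringEquiv (e : S ≃+* R)
    (he : ∀ a : A, e (algebraMap A S a) = algebraMap A R a)
    (h : Hensel.IsStrictHenselization A S) : Hensel.IsStrictHenselization A R := by
  have hsc := h.isSepClosure
  haveI := h.henselian
  have hR : HenselianLocalRing R := Groth.Agent.H67.HenselFinite.henselian_of_ringEquiv e
  haveI := hsc.sep_closed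
  have hmapres : ∀ s : S, ResidueField.map (e : S →+* R) (residue S s) = residue R (e s) :=
    fun s => ResidueField.map_residue _ s
  refine ⟨hR, ?_, ?_⟩
  · refine ⟨Groth.Agent.H27.SHTransport.isSepClosed_of_ringEquiv (ResidueField.mapEquiv e), ?_⟩
    haveI := hsc.separable
    refine Algebra.IsSeparable.of_equiv_equiv (RingEquiv.refl (ResidueField A))
      (ResidueField.mapEquiv e) ?_
    ext x
    obtain ⟨a, rfl⟩ := residue_surjective x
    change algebraMap (ResidueField A) (ResidueField R) (residue A a) =
      ResidueField.map (e : S →+* R) (algebraMap (ResidueField A) (ResidueField S)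
      (residue A a))
    rw [ResidueField.algebraMap_residue, ResidueField.algebraMap_residue, hmapres, he]
  · intro D _ _ f hf τ hτ
    have hτ' : (τ.comp (ResidueField.map (e : S →+* R))).comp
        (ResidueField.map (algebraMap A S)) = ResidueField.map f := by
      rw [← hτ]
      ext x
      obtain ⟨a, rfl⟩ := residue_surjective x
      simp only [RingHom.comp_apply, ResidueField.map_residue]
      rw [show (e : S →+* R) (algebraMap A S a) = algebraMap A R a from he a]
    obtain ⟨g, ⟨hg, hgres⟩, huniq⟩ := h.universal D f (τ.comp (ResidueField.map (e : S →+* R))) hτ'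
    refine ⟨g.comp (e.symm : R →+* S), ⟨?_, ?_⟩, ?_⟩
    · ext a
      have h1 : (e.symm : R →+* S) (algebraMap A R a) = algebraMap A S a := by
        rw [← he a]
        exact e.symm_apply_apply _
      rw [RingHom.comp_apply, RingHom.comp_apply, h1]
      exact congrArg (fun φ : A →+* D => φ a) hg
    · intro x
      rw [RingHom.comp_apply, hgres, RingHom.comp_apply, hmapres]
      congr 2
      exact e.apply_symm_apply x
    · rintro g' ⟨hg', hg'res⟩
      have h2 : g'.comp (e : S →+* R) = g := by
        apply huniq
        refine ⟨?_, ?_⟩
        · ext a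
          rw [RingHom.comp_apply, RingHom.comp_apply]
          have : (e : S →+* R) (algebraMap A S a) = algebraMap A R a := he a
          rw [this]
          exact congrArg (fun φ : A →+* D => φ a) hg'
        · intro s
          rw [RingHom.comp_apply, hg'res, RingHom.comp_apply, hmapres]
          rfl
      rw [← h2]
      ext x
      simp only [RingHom.comp_apply]
      congr 1
      exact (e.apply_symm_apply x).symm

end Transfer

section Main

variable (A B R : Type u) [CommRing A] [IsLocalRing A] [CommRing B] [IsLocalRing B]
  [CommRing R] [IsLocalRing R]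
  [Algebra A B] [IsLocalHom (algebraMap A B)] [Algebra B R] [IsLocalHom (algebraMap B R)]
  [Algebra A R] [IsScalarTower A B R]

include B in
theorem isLocalHom_comp : IsLocalHom (algebraMap A R) := by
  rw [IsScalarTower.algebraMap_eq A B R]
  exact RingHom.isLocalHom_comp _ _

/-- a strict henselization of a local weakly étale algebra is a strict henselization of the
base -/
theorem isStrictHenselization_of_weaklyEtale [Algebra.WeaklyEtale A B]
    [IsLocalHom (algebraMap A R)]
    (hR : Hensel.IsStrictHenselization B R) : Hensel.IsStrictHenselization A R := by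
  obtain ⟨S, iS, iSl, iAS, iASl, hS⟩ := Groth.Agent.S0537.result A
  haveI := hR.henselian
  haveI := hR.isSepClosure.sep_closed
  obtain ⟨g, hg, hgl⟩ := Groth.Agent.H3.StrictHensBaseEquiv.exists_local_map A S R hS
  letI := g.toAlgebra
  haveI : IsScalarTower A S R :=
    IsScalarTower.of_algebraMap_eq (fun a => (congrArg (fun φ : A →+* R => φ a) hg).symm)
  haveI : IsLocalHom (algebraMap S R) := hgl
  obtain ⟨hUS, hffS⟩ := Groth.Agent.H3.HensUnion.package (R := A) (S := S) (Or.inr hS)
  obtain ⟨hUR, hffR⟩ := Groth.Agent.H3.HensUnion.package (R := B) (S := R) (Or.inr hR)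
  haveI := hffS
  haveI := hffR
  haveI : Algebra.WeaklyEtale A S := hUS.weaklyEtale
  haveI : Algebra.WeaklyEtale B R := hUR.weaklyEtale
  haveI : Algebra.WeaklyEtale A R := Algebra.WeaklyEtale.trans A B R
  haveI : Algebra.WeaklyEtale S R := Groth.Agent.S7127.result A S R
  haveI := hS.henselian
  haveI := hS.isSepClosure.sep_closed
  have hbij : Function.Bijective (algebraMap S R) := Groth.Agent.H27.Olivier.main S R
  exact isStrictHenselization_of_ringEquiv (RingEquiv.ofBijective (algebraMap S R) hbij)
    (fun a => (IsScalarTower.algebraMap_apply A S R a).symm) hS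

/-- if a strict henselization of `B` is also one of `A`, then `A → B` is weakly étale -/
theorem weaklyEtale_of_isStrictHenselization [IsLocalHom (algebraMap A R)]
    (hR : Hensel.IsStrictHenselization B R) (hR' : Hensel.IsStrictHenselization A R) :
    Algebra.WeaklyEtale A B := by
  obtain ⟨hUR, hffR⟩ := Groth.Agent.H3.HensUnion.package (R := B) (S := R) (Or.inr hR)
  obtain ⟨hUR', hffR'⟩ := Groth.Agent.H3.HensUnion.package (R := A) (S := R) (Or.inr hR')
  haveI := hffR
  haveI := hffR'
  haveI : Algebra.WeaklyEtale A R := hUR'.weaklyEtale
  exact Groth.Agent.S1996.result A B R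

end Main

end Groth.Agent.H27.SHWeaklyEtale
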