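import Mathlib.RingTheory.Filtration
import Mathlib.RingTheory.Ideal.Quotient.PowTransition

/-!
# Artin–Rees input for comparing the `J`-adic and `J + (f)`-adic towers `Λ/Jⁿ`, `Λ/(J+(f))ⁿ`
-/

set_option autoImplicit false

namespace Groth.Agent.H27.ARQuot

open Submodule

variable {Λ : Type*} [CommRing Λ] (J : Ideal Λ) (f : Λ)

theorem pow_succ_le (n : ℕ) :
    (J ⊔ Ideal.span {f}) ^ (n + 1) ≤ J ^ (n + 1) ⊔ Ideal.span {f} * (J ⊔ Ideal.span {f}) ^ n := by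
  induction n with
  | zero => simp
  | succ n ih =>
    rw [pow_succ' (J ⊔ Ideal.span {f}) (n + 1)]
    nth_rewrite 1 [Ideal.sup_mul]
    apply sup_le
    · refine (Ideal.mul_mono_right ih).trans ?_
      rw [Ideal.mul_sup]
      apply sup_le
      · rw [← pow_succ']
        exact le_sup_left
      · refine le_trans ?_ le_sup_right
        rw [← mul_assoc, mul_comm J, mul_assoc]
        apply Ideal.mul_mono_right
        rw [pow_succ' (J ⊔ Ideal.span {f}) n]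
        exact Ideal.mul_mono_left le_sup_left
    · exact le_sup_right

/-- `J'ⁿ⁺¹ ⊆ Jⁿ⁺¹ + f J'ⁿ` -/
theorem exists_sub_mem {n : ℕ} {x : Λ} (hx : x ∈ (J ⊔ Ideal.span {f}) ^ (n + 1)) :
    ∃ y ∈ (J ⊔ Ideal.span {f}) ^ n, x - f * y ∈ J ^ (n + 1) := by
  obtain ⟨j, hj, z, hz, rfl⟩ := Submodule.mem_sup.mp (pow_succ_le J f n hx)
  obtain ⟨y, hy, rfl⟩ := Ideal.mem_span_singleton_mul.mp hz
  exact ⟨y, hy, by simpa using hj⟩

/-- `J'ᵏ` acts on the `f`-torsion through `Jᵏ` -/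
theorem pow_smul_ker_le (k : ℕ) :
    ((J ⊔ Ideal.span {f}) ^ k • LinearMap.ker (LinearMap.mulLeft Λ f) : Submodule Λ Λ) ≤
      J ^ k • LinearMap.ker (LinearMap.mulLeft Λ f) := by
  induction k with
  | zero => simp
  | succ k ih =>
    rw [pow_succ', mul_smul, pow_succ' J, mul_smul]
    refine (Submodule.smul_mono le_rfl ih).trans ?_
    rw [Submodule.smul_le]
    intro r hr m hm
    obtain ⟨j, hj, z, hz, rfl⟩ := Submodule.mem_sup.mp hr
    obtain ⟨c, rfl⟩ := Ideal.mem_span_singleton'.mp hz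
    have hm2 : m ∈ LinearMap.ker (LinearMap.mulLeft Λ f) :=
      (Submodule.smul_le_right : J ^ k • LinearMap.ker (LinearMap.mulLeft Λ f) ≤ _) hm
    have hfm : f * m = 0 := by simpa using hm2
    have : (j + c * f) • m = j • m := by
      rw [add_smul, smul_eq_mul, smul_eq_mul, mul_assoc, hfm, mul_zero, add_zero]
    rw [this]
    exact Submodule.smul_mem_smul hj hm



/-- the key Artin–Rees consequence -/
theorem exists_shift [IsNoetherianRing Λ] : ∃ d : ℕ, ∀ (n : ℕ) (z : Λ),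
    z ∈ (J ⊔ Ideal.span {f}) ^ (n + d) → f * z ∈ J ^ (n + d) → z ∈ J ^ n := by
  obtain ⟨c₁, h₁⟩ := Ideal.exists_pow_inf_eq_pow_smul J (Ideal.span {f} : Submodule Λ Λ)
  obtain ⟨c₂, h₂⟩ := Ideal.exists_pow_inf_eq_pow_smul (J ⊔ Ideal.span {f})
    (LinearMap.ker (LinearMap.mulLeft Λ f) : Submodule Λ Λ)
  refine ⟨c₁ + c₂, ?_⟩
  intro n z hz hfz
  -- step 1
  have hmem : f * z ∈ (J ^ (n + (c₁ + c₂)) • ⊤ ⊓ (Ideal.span {f} : Submodule Λ Λ) :
      Submodule Λ Λ) := by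
    refine ⟨?_, Ideal.mem_span_singleton'.mpr ⟨z, mul_comm z f⟩⟩
    simpa using hfz
  rw [h₁ _ (by omega)] at hmem
  have hmem2 : f * z ∈ (J ^ (n + c₂) * Ideal.span {f} : Ideal Λ) := by
    have hle : (J ^ (n + (c₁ + c₂) - c₁) • (J ^ c₁ • ⊤ ⊓ (Ideal.span {f} : Submodule Λ Λ)) :
        Submodule Λ Λ) ≤ (J ^ (n + c₂) * Ideal.span {f} : Ideal Λ) := by
      have he : n + (c₁ + c₂) - c₁ = n + c₂ := by omega
      rw [he]
      exact Submodule.smul_mono le_rfl inf_le_right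
    exact hle hmem
  obtain ⟨z₁, hz₁, hzz⟩ := Ideal.mem_mul_span_singleton.mp hmem2
  -- step 2
  have hτ : f * (z - z₁) = 0 := by rw [mul_sub, ← hzz, mul_comm z₁ f, sub_self]
  have hle' : J ^ (n + c₂) ≤ (J ⊔ Ideal.span {f}) ^ (n + c₂) := Ideal.pow_right_mono le_sup_left _
  have hτ1 : z - z₁ ∈ (J ⊔ Ideal.span {f}) ^ (n + c₂) :=
    Ideal.sub_mem _ (Ideal.pow_le_pow_right (by omega) hz) (hle' hz₁)
  have hτmem : z - z₁ ∈ ((J ⊔ Ideal.span {f}) ^ (n + c₂) • ⊤ ⊓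
      LinearMap.ker (LinearMap.mulLeft Λ f) : Submodule Λ Λ) := by
    refine ⟨by simpa using hτ1, by simpa using hτ⟩
  rw [h₂ _ (by omega)] at hτmem
  have hτ2 : z - z₁ ∈ J ^ n := by
    have he : n + c₂ - c₂ = n := by omega
    rw [he] at hτmem
    have h3 := pow_smul_ker_le J f n
      (Submodule.smul_mono le_rfl inf_le_right hτmem)
    have h4 : (J ^ n • LinearMap.ker (LinearMap.mulLeft Λ f) : Submodule Λ Λ) ≤ J ^ n := by
      rw [Submodule.smul_le]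
      intro r hr m _
      exact Ideal.mul_mem_right _ _ hr
    exact h4 h3
  have : z = z₁ + (z - z₁) := by ring
  rw [this]
  exact Ideal.add_mem _ (Ideal.pow_le_pow_right (by omega) hz₁) hτ2

/-- the comparison of quotient modules `Λ/Jⁿ → Λ/J'ⁿ` -/
theorem le' (n : ℕ) : (J ^ n • ⊤ : Submodule Λ Λ) ≤ (J ⊔ Ideal.span {f}) ^ n • ⊤ :=
  Submodule.smul_mono_left (Ideal.pow_right_mono le_sup_left n)

theorem mk_eq_zero_iff (I : Ideal Λ) (n : ℕ) (z : Λ) :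
    (Submodule.mkQ (I ^ n • ⊤ : Submodule Λ Λ) z = 0) ↔ z ∈ I ^ n := by
  rw [Submodule.mkQ_apply, Submodule.Quotient.mk_eq_zero]
  simp

/-- pro-injectivity of `f` on the kernel tower -/
theorem quot_inj [IsNoetherianRing Λ] : ∃ d : ℕ, ∀ (n : ℕ) (x : Λ ⧸ (J ^ (n + d) • ⊤ : Submodule Λ Λ)),
    Submodule.factor (le' J f (n + d)) x = 0 → f • x = 0 →
      Submodule.factorPow J Λ (Nat.le_add_right n d) x = 0 := by
  obtain ⟨d, hd⟩ := exists_shift J f
  refine ⟨d, ?_⟩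
  intro n x h1 h2
  obtain ⟨z, rfl⟩ := Submodule.mkQ_surjective _ x
  rw [Submodule.factor_mk] at h1 ⊢
  rw [mk_eq_zero_iff] at h1 ⊢
  rw [← map_smul, mk_eq_zero_iff, smul_eq_mul] at h2
  exact hd n z h1 h2

/-- pro-surjectivity of `f` on the kernel tower -/
theorem quot_div (n : ℕ) (x : Λ ⧸ (J ^ (n + 1) • ⊤ : Submodule Λ Λ))
    (h1 : Submodule.factor (le' J f (n + 1)) x = 0) :
    ∃ y : Λ ⧸ (J ^ n • ⊤ : Submodule Λ Λ), Submodule.factor (le' J f n) y = 0 ∧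
      Submodule.factorPow J Λ (Nat.le_succ n) x = f • y := by
  obtain ⟨z, rfl⟩ := Submodule.mkQ_surjective _ x
  rw [Submodule.factor_mk, mk_eq_zero_iff] at h1
  obtain ⟨y, hy, hxy⟩ := exists_sub_mem J f h1
  refine ⟨Submodule.mkQ _ y, ?_, ?_⟩
  · rw [Submodule.factor_mk, mk_eq_zero_iff]
    exact hy
  · rw [Submodule.factor_mk, ← map_smul, ← sub_eq_zero, ← map_sub, mk_eq_zero_iff, smul_eq_mul]
    exact Ideal.pow_le_pow_right (Nat.le_succ n) hxy

end Groth.Agent.H27.ARQuot
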