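import Mathlib.RingTheory.Ideal.Operations
import Mathlib.Algebra.Module.Submodule.Pointwise
import Mathlib.LinearAlgebra.Span.Basic
import Mathlib.LinearAlgebra.Finsupp.LinearCombination

/-!
# The limit of an `I`-adic tower of modules

For a tower `(M_n)` of `Λ`-modules with surjective transition maps `M_j → M_i` whose kernel is
`I^(i+1) M_j`, and `I^(n+1)` generated by finitely many elements `a_k`: the projection from the
limit to `M_n` is surjective and every element of its kernel is a combination `∑ a_k • Y_k` of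
elements of the limit.
-/

set_option autoImplicit false
universe u v

namespace Groth.Agent.H27.AdicLim

variable {Λ : Type u} [CommRing Λ]

/-- elements of `span (range a) • N` are combinations of the `a k` with coefficients in `N` -/
theorem exists_sum_of_mem_span_smul {M : Type v} [AddCommGroup M] [Module Λ M] {r : ℕ}
    (a : Fin r → Λ) (N : Submodule Λ M) {x : M}
    (hx : x ∈ Ideal.span (Set.range a) • N) :
    ∃ y : Fin r → M, (∀ k, y k ∈ N) ∧ x = ∑ k, a k • y k := by
  refine Submodule.smul_induction_on hx ?_ ?_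
  · intro c hc m hm
    obtain ⟨d, rfl⟩ := (Ideal.mem_span_range_iff_exists_fun).mp hc
    refine ⟨fun k => d k • m, fun k => N.smul_mem _ hm, ?_⟩
    rw [Finset.sum_smul]
    refine Finset.sum_congr rfl (fun k _ => ?_)
    rw [smul_smul, mul_comm, ← smul_smul]
  · rintro _ _ ⟨y, hy, rfl⟩ ⟨y', hy', rfl⟩
    refine ⟨fun k => y k + y' k, fun k => N.add_mem (hy k) (hy' k), ?_⟩
    rw [← Finset.sum_add_distrib]
    exact Finset.sum_congr rfl (fun k _ => (smul_add _ _ _).symm)

variable (I : Ideal Λ) (M : ℕ → Type v) [∀ n, AddCommGroup (M n)] [∀ n, Module Λ (M n)]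

/-- an `I`-adic tower of modules -/
structure Tower where
  /-- the transition maps -/
  tr : ∀ i j : ℕ, i ≤ j → M j →ₗ[Λ] M i
  tr_id : ∀ (i : ℕ) (x : M i), tr i i le_rfl x = x
  tr_comp : ∀ (i j k : ℕ) (h : i ≤ j) (h' : j ≤ k) (x : M k),
    tr i j h (tr j k h' x) = tr i k (h.trans h') x
  surj : ∀ (i j : ℕ) (h : i ≤ j), Function.Surjective (tr i j h)
  ker : ∀ (i j : ℕ) (h : i ≤ j),
    LinearMap.ker (tr i j h) = I ^ (i + 1) • (⊤ : Submodule Λ (M j))

variable {I M}

namespace Tower

variable (T : Tower I M)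

/-- a compatible family -/
def Compat (x : ∀ n, M n) : Prop := ∀ (i j : ℕ) (h : i ≤ j), T.tr i j h (x j) = x i

theorem compat_of_succ {x : ∀ n, M n}
    (h : ∀ j, T.tr j (j + 1) (Nat.le_succ j) (x (j + 1)) = x j) : T.Compat x := by
  intro i j hij
  induction j, hij using Nat.le_induction with
  | base => exact T.tr_id i _
  | succ j hij ih =>
    rw [← T.tr_comp i j (j + 1) hij (Nat.le_succ j), h j, ih]

section Surj

variable (n : ℕ) (m : M n)

/-- successive lifts of `m` -/
noncomputable def liftSeq : ∀ t : ℕ, M (n + t)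
  | 0 => m
  | t + 1 => Classical.choose (T.surj (n + t) (n + t + 1) (Nat.le_succ _) (liftSeq t))

theorem tr_liftSeq_succ (t : ℕ) :
    T.tr (n + t) (n + t + 1) (Nat.le_succ _) (T.liftSeq n m (t + 1)) = T.liftSeq n m t :=
  Classical.choose_spec (T.surj (n + t) (n + t + 1) (Nat.le_succ _) (T.liftSeq n m t))

theorem tr_liftSeq (t : ℕ) :
    T.tr n (n + t) (Nat.le_add_right n t) (T.liftSeq n m t) = m := by
  induction t with
  | zero => exact T.tr_id n m
  | succ t ih =>
    have := T.tr_comp n (n + t) (n + t + 1) (Nat.le_add_right n t) (Nat.le_succ _)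
      (T.liftSeq n m (t + 1))
    rw [T.tr_liftSeq_succ] at this
    exact this.symm.trans ih

/-- the projection from the limit is surjective -/
theorem exists_compat : ∃ x : ∀ j, M j, T.Compat x ∧ x n = m := by
  refine ⟨fun j => T.tr j (n + j) (Nat.le_add_left j n) (T.liftSeq n m j), ?_, ?_⟩
  · apply T.compat_of_succ
    intro j
    show T.tr j (j + 1) _ (T.tr (j + 1) (n + (j + 1)) _ (T.liftSeq n m (j + 1))) = _
    rw [T.tr_comp]
    have := T.tr_comp j (n + j) (n + j + 1) (Nat.le_add_left j n) (Nat.le_succ _)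
      (T.liftSeq n m (j + 1))
    rw [T.tr_liftSeq_succ] at this
    exact this.symm
  · exact T.tr_liftSeq n m n

end Surj

section Ker

variable (n : ℕ) {r : ℕ} (a : Fin r → Λ) (ha : Ideal.span (Set.range a) = I ^ (n + 1))
variable (x : ∀ j, M j) (hx : T.Compat x) (hxn : x n = 0)

/-- approximations at level `n + 1 + t` -/
structure Approx (t : ℕ) where
  /-- coefficients -/
  y : Fin r → M (n + 1 + t)
  sum_eq : ∑ k, a k • y k = x (n + 1 + t)

include ha hx hxn in
theorem nonempty_approx_zero : Nonempty (Approx n a x 0) := by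
  have h1 : x (n + 1) ∈ LinearMap.ker (T.tr n (n + 1) (Nat.le_succ n)) := by
    rw [LinearMap.mem_ker, hx n (n + 1) (Nat.le_succ n), hxn]
  rw [T.ker, ← ha] at h1
  obtain ⟨y, -, hy⟩ := exists_sum_of_mem_span_smul a ⊤ h1
  exact ⟨⟨y, hy.symm⟩⟩

include ha hx in
theorem exists_approx_succ (t : ℕ) (p : Approx n a x t) :
    ∃ q : Approx n a x (t + 1), ∀ k,
      T.tr (n + 1 + t) (n + 1 + t + 1) (Nat.le_succ _) (q.y k) - p.y k ∈
        I ^ (t + 1) • (⊤ : Submodule Λ (M (n + 1 + t))) := by
  choose y' hy' using fun k => T.surj (n + 1 + t) (n + 1 + t + 1) (Nat.le_succ _) (p.y k)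
  have h1 : x (n + 1 + t + 1) - ∑ k, a k • y' k ∈
      LinearMap.ker (T.tr (n + 1 + t) (n + 1 + t + 1) (Nat.le_succ _)) := by
    rw [LinearMap.mem_ker, map_sub, hx _ _ _, map_sum]
    simp only [map_smul, hy']
    rw [p.sum_eq, sub_self]
  rw [T.ker] at h1
  have h2 : I ^ (n + 1 + t + 1) = I ^ (n + 1) * I ^ (t + 1) := by
    rw [← pow_add]
    rfl
  rw [h2, ← ha, mul_smul] at h1
  obtain ⟨z, hz, hz'⟩ := exists_sum_of_mem_span_smul a _ h1
  refine ⟨⟨fun k => y' k + z k, ?_⟩, fun k => ?_⟩
  · simp only [smul_add]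
    rw [Finset.sum_add_distrib, ← hz']
    abel
  · show T.tr _ _ _ (y' k + z k) - p.y k ∈ _
    rw [map_add, hy', add_sub_cancel_left]
    have h3 := hz k
    -- the image of `I^(t+1) • ⊤` lies in `I^(t+1) • ⊤`
    have h4 : Submodule.map (T.tr (n + 1 + t) (n + 1 + t + 1) (Nat.le_succ _))
        (I ^ (t + 1) • (⊤ : Submodule Λ (M (n + 1 + t + 1)))) ≤
        I ^ (t + 1) • (⊤ : Submodule Λ (M (n + 1 + t))) := by
      rw [Submodule.map_smul'']
      exact Submodule.smul_mono le_rfl le_top
    exact h4 ⟨z k, h3, rfl⟩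

/-- the chosen sequence of approximations -/
noncomputable def approxSeq (p0 : Approx n a x 0)
    (step : ∀ t (p : Approx n a x t), Approx n a x (t + 1)) : ∀ t, Approx n a x t
  | 0 => p0
  | t + 1 => step t (approxSeq p0 step t)

include ha hx hxn in
/-- every element of the kernel of the projection from the limit to `M_n` is a combination of
the generators `a k` of `I^(n+1)` with coefficients in the limit -/
theorem exists_sum_of_compat : ∃ Y : Fin r → ∀ j, M j,
    (∀ k, T.Compat (Y k)) ∧ ∀ j, ∑ k, a k • Y k j = x j := by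
  obtain ⟨p0⟩ := T.nonempty_approx_zero n a ha x hx hxn
  choose step hstep using T.exists_approx_succ n a ha x hx
  let s := approxSeq n a x p0 step
  have hs : ∀ t k, T.tr (n + 1 + t) (n + 1 + t + 1) (Nat.le_succ _) ((s (t + 1)).y k) -
      (s t).y k ∈ I ^ (t + 1) • (⊤ : Submodule Λ (M (n + 1 + t))) :=
    fun t k => hstep t (s t) k
  refine ⟨fun k j => T.tr j (n + 1 + j) (Nat.le_add_left j (n + 1)) ((s j).y k), fun k => ?_,
    fun j => ?_⟩
  · apply T.compat_of_succ
    intro j
    show T.tr j (j + 1) _ (T.tr (j + 1) (n + 1 + (j + 1)) _ ((s (j + 1)).y k)) = _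
    rw [T.tr_comp]
    have h1 := T.tr_comp j (n + 1 + j) (n + 1 + j + 1) (Nat.le_add_left j (n + 1))
      (Nat.le_succ _) ((s (j + 1)).y k)
    refine h1.symm.trans ?_
    have h2 : T.tr (n + 1 + j) (n + 1 + j + 1) (Nat.le_succ _) ((s (j + 1)).y k) =
        (s j).y k + (T.tr (n + 1 + j) (n + 1 + j + 1) (Nat.le_succ _) ((s (j + 1)).y k) -
          (s j).y k) := by abel
    rw [h2, map_add]
    have h3 : T.tr (n + 1 + j) (n + 1 + j + 1) (Nat.le_succ _) ((s (j + 1)).y k) - (s j).y k ∈
        LinearMap.ker (T.tr j (n + 1 + j) (Nat.le_add_left j (n + 1))) := by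
      rw [T.ker]
      exact hs j k
    rw [LinearMap.mem_ker.mp h3, add_zero]
  · show ∑ k, a k • T.tr j (n + 1 + j) _ ((s j).y k) = x j
    simp only [← map_smul]
    rw [← map_sum, (s j).sum_eq]
    exact hx _ _ _

end Ker

end Tower

end Groth.Agent.H27.AdicLim
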