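import Groth.Agent.H27.AdicLimFF

/-!
# Essential image of `G ↦ lim ε G_n` on adic systems (abstract form)
-/

set_option autoImplicit false
set_option linter.style.haveILetI false
set_option linter.unusedSectionVars false
open CategoryTheory CategoryTheory.Limits Opposite
universe w v₁ v₂ u₁ u₂

namespace Groth.Agent.H27.AdicLimEss

open AdicLimFF

section Adj

variable {Λ : Type w} [CommRing Λ] {C : Type u₁} [Category.{v₁} C] {D : Type u₂} [Category.{v₂} D]
  [Preadditive C] [Preadditive D] [Linear Λ C] [Linear Λ D]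
  {L : C ⥤ D} {R : D ⥤ C} (adj : L ⊣ R)
  (hR : ∀ {Y Y' : D} (a : Λ) (g : Y ⟶ Y'), R.map (a • g) = a • R.map g)

include adj hR in
/-- a left adjoint whose right adjoint is linear is linear -/
theorem map_smul_of_adj {A B : C} (a : Λ) (f : A ⟶ B) : L.map (a • f) = a • L.map f := by
  apply (adj.homEquiv _ _).injective
  rw [adj.homEquiv_unit, adj.homEquiv_unit, hR, Linear.comp_smul, adj.unit_naturality,
    adj.unit_naturality, Linear.smul_comp]

end Adj

variable {Λ : Type w} [CommRing Λ] {C : Type u₁} [Category.{v₁} C] {D : Type u₂} [Category.{v₂} D]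
  [Preadditive C] [Preadditive D] [Linear Λ C] [Linear Λ D]

section Quot

/-- quotient maps are stable under precomposition with isomorphisms -/
theorem isQuot_iso_comp {J : Ideal Λ} {X' X Q : D} (e : X' ≅ X) {p : X ⟶ Q}
    (hp : ARSys.IsQuot J p) : ARSys.IsQuot J (e.hom ≫ p) := by
  refine ⟨hp.1, fun Y φ hφ => ?_⟩
  have hφ' : ARSys.HomKilledBy J (e.inv ≫ φ) := by
    intro a ha
    rw [← Linear.comp_smul, hφ a ha, comp_zero]
  obtain ⟨ψ, hψ, hu⟩ := hp.2 Y (e.inv ≫ φ) hφ'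
  refine ⟨ψ, ?_, fun ψ₂ hψ₂ => hu ψ₂ ?_⟩
  · show (e.hom ≫ p) ≫ ψ = φ
    rw [Category.assoc, hψ, e.hom_inv_id_assoc]
  · rw [← hψ₂, Category.assoc, e.inv_hom_id_assoc]

/-- quotient maps are stable under postcomposition with isomorphisms -/
theorem isQuot_comp_iso {J : Ideal Λ} {X Q Q' : D} (e : Q ≅ Q') {p : X ⟶ Q}
    (hp : ARSys.IsQuot J p) : ARSys.IsQuot J (p ≫ e.hom) := by
  refine ⟨fun a ha => ?_, fun Y φ hφ => ?_⟩
  · have h1 : a • 𝟙 Q' = e.inv ≫ (a • 𝟙 Q) ≫ e.hom := by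
      rw [Linear.smul_comp, Linear.comp_smul, Category.id_comp, e.inv_hom_id]
    rw [h1, hp.1 a ha, zero_comp, comp_zero]
  · obtain ⟨ψ, hψ, hu⟩ := hp.2 Y φ hφ
    refine ⟨e.inv ≫ ψ, ?_, fun ψ₂ hψ₂ => ?_⟩
    · show (p ≫ e.hom) ≫ e.inv ≫ ψ = φ
      rw [Category.assoc, e.hom_inv_id_assoc, hψ]
    · have := hu (e.hom ≫ ψ₂) (by
        show p ≫ e.hom ≫ ψ₂ = φ
        rw [← Category.assoc]; exact hψ₂)
      rw [← this, e.inv_hom_id_assoc]

/-- if `p_m` is a quotient modulo `J'`, `p_n = p_m ≫ t` is a quotient modulo `J`, then `t` is a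
quotient modulo `J` -/
theorem isQuot_of_comp {J J' : Ideal Λ} {X Qm Qn : D} {pm : X ⟶ Qm} {t : Qm ⟶ Qn}
    (hm : ARSys.IsQuot J' pm) (hn : ARSys.IsQuot J (pm ≫ t)) : ARSys.IsQuot J t := by
  haveI := epi_of_isQuot hm
  refine ⟨hn.1, fun Y φ hφ => ?_⟩
  have hφ' : ARSys.HomKilledBy J (pm ≫ φ) := by
    intro a ha
    rw [← Linear.comp_smul, hφ a ha, comp_zero]
  obtain ⟨ψ, hψ, hu⟩ := hn.2 Y (pm ≫ φ) hφ'
  refine ⟨ψ, ?_, fun ψ₂ hψ₂ => hu ψ₂ ?_⟩
  · show t ≫ ψ = φ
    rw [← cancel_epi pm, ← Category.assoc]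
    exact hψ
  · show (pm ≫ t) ≫ ψ₂ = pm ≫ φ
    have h2 : t ≫ ψ₂ = φ := hψ₂
    rw [Category.assoc, h2]

variable (ε : C ⥤ D) [ε.Full] [ε.Faithful]
  (hε : ∀ {A B : C} (a : Λ) (f : A ⟶ B), ε.map (a • f) = a • ε.map f)

include hε in
omit [ε.Full] [ε.Faithful] in
theorem map_zero' {A B : C} : ε.map (0 : A ⟶ B) = 0 := by
  have := hε (0 : Λ) (0 : A ⟶ B)
  rw [zero_smul, zero_smul] at this
  exact this

include hε in
omit [ε.Full] in
/-- a fully faithful linear functor reflects being killed -/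
theorem killedBy_of_map {J : Ideal Λ} {A : C} (h : ARSys.KilledBy J (ε.obj A)) :
    ARSys.KilledBy J A := by
  intro a ha
  apply ε.map_injective
  rw [hε, CategoryTheory.Functor.map_id, h a ha, map_zero' ε hε]

include hε in
/-- a fully faithful linear functor reflects quotient maps -/
theorem isQuot_of_map {J : Ideal Λ} {A B : C} {t : A ⟶ B} (h : ARSys.IsQuot J (ε.map t)) :
    ARSys.IsQuot J t := by
  refine ⟨killedBy_of_map ε hε h.1, fun Y φ hφ => ?_⟩
  have hφ' : ARSys.HomKilledBy J (ε.map φ) := by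
    intro a ha
    rw [← hε, hφ a ha, map_zero' ε hε]
  obtain ⟨ψ', hψ', hu⟩ := h.2 _ (ε.map φ) hφ'
  refine ⟨ε.preimage ψ', ?_, fun ψ₂ hψ₂ => ?_⟩
  · apply ε.map_injective
    show ε.map (t ≫ ε.preimage ψ') = ε.map φ
    rw [Functor.map_comp, Functor.map_preimage, hψ']
  · apply ε.map_injective
    rw [Functor.map_preimage]
    apply hu
    rw [← Functor.map_comp, hψ₂]

end Quot

section Main

variable (ε : C ⥤ D) [ε.Full] [ε.Faithful]
  (hε : ∀ {A B : C} (a : Λ) (f : A ⟶ B), ε.map (a • f) = a • ε.map f)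
  [HasLimitsOfShape ℕᵒᵖ D] (I : Ideal Λ)

/-- being killed is invariant under isomorphism -/
theorem killedBy_of_iso {J : Ideal Λ} {Q Q' : D} (e : Q' ≅ Q) (h : ARSys.KilledBy J Q) :
    ARSys.KilledBy J Q' := by
  intro a ha
  have h1 : a • 𝟙 Q' = e.hom ≫ (a • 𝟙 Q) ≫ e.inv := by
    rw [Linear.smul_comp, Linear.comp_smul, Category.id_comp, e.hom_inv_id]
  rw [h1, h a ha, zero_comp, comp_zero]

include hε in
/-- a tower of quotients of `F` whose terms lie in the essential image of `ε` comes from an adic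
system -/
theorem exists_system (Pr : C → Prop) (F : D) (Q : ℕᵒᵖ ⥤ D) (p : (Functor.const ℕᵒᵖ).obj F ⟶ Q)
    (hp : ∀ n : ℕ, ARSys.IsQuot (I ^ (n + 1)) (p.app (op n)))
    (E : ℕ → C) (hE : ∀ n, Pr (E n)) (e : ∀ n, ε.obj (E n) ≅ Q.obj (op n)) :
    ∃ (G : ℕᵒᵖ ⥤ C), ARSys.IsAdic I G ∧ (∀ n : ℕ, Pr (G.obj (op n))) ∧
      Nonempty (G ⋙ ε ≅ Q) := by
  let G : ℕᵒᵖ ⥤ C :=
    { obj := fun n => E n.unop
      map := fun {n m} k => ε.preimage ((e n.unop).hom ≫ Q.map k ≫ (e m.unop).inv)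
      map_id := by
        intro n
        apply ε.map_injective
        simp
      map_comp := by
        intro n m l k k'
        apply ε.map_injective
        simp }
  have hGmap : ∀ {n m : ℕᵒᵖ} (k : n ⟶ m),
      ε.map (G.map k) = (e n.unop).hom ≫ Q.map k ≫ (e m.unop).inv := fun k =>
    Functor.map_preimage _ _
  refine ⟨G, ⟨fun n => ?_, fun n m h => ?_⟩, fun n => hE n, ⟨?_⟩⟩
  · exact killedBy_of_map ε hε (killedBy_of_iso (e n) (hp n).1)
  · apply isQuot_of_map ε hε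
    have hnat : p.app (op m) ≫ Q.map (homOfLE h).op = p.app (op n) := by
      have := p.naturality (homOfLE h).op
      simpa using this.symm
    have h1 : ARSys.IsQuot (I ^ (n + 1)) (Q.map (homOfLE h).op) :=
      isQuot_of_comp (hp m) (by rw [hnat]; exact hp n)
    show ARSys.IsQuot (I ^ (n + 1)) (ε.map (G.map (homOfLE h).op))
    rw [hGmap, ← Category.assoc]
    exact isQuot_comp_iso (e n).symm (isQuot_iso_comp (e m) h1)
  · exact NatIso.ofComponents (fun n => e n.unop) (by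
      intro n m k
      show ε.map (G.map k) ≫ (e m.unop).hom = (e n.unop).hom ≫ Q.map k
      rw [hGmap, Category.assoc, Category.assoc, Iso.inv_hom_id, Category.comp_id])

/-- the limit of `ε G` is the limit of the tower of its quotients -/
theorem exists_tower (G : ℕᵒᵖ ⥤ C) (F : D) (iso : limit (G ⋙ ε) ≅ F)
    (hG : ∀ n : ℕ, ARSys.IsQuot (I ^ (n + 1)) (limit.π (G ⋙ ε) (op n))) :
    ∃ (p : (Functor.const ℕᵒᵖ).obj F ⟶ G ⋙ ε),
      (∀ n : ℕ, ARSys.IsQuot (I ^ (n + 1)) (p.app (op n))) ∧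
        IsIso (limit.lift (G ⋙ ε) (Cone.mk F p)) := by
  refine ⟨((limit.cone (G ⋙ ε)).extend iso.inv).π, fun n => ?_, ?_⟩
  · exact isQuot_iso_comp iso.symm (hG n)
  · have h1 : limit.lift (G ⋙ ε) (Cone.mk F ((limit.cone (G ⋙ ε)).extend iso.inv).π) =
        iso.inv := by
      apply limit.hom_ext
      intro j
      rw [limit.lift_π]
      rfl
    rw [h1]
    infer_instance

end Main

end Groth.Agent.H27.AdicLimEss
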