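import Groth.Prelude.Def_ARSys


/-!
# Full faithfulness of `G ↦ lim ε G_n` on systems whose limit projections are quotient maps
-/

set_option autoImplicit false
set_option linter.style.haveILetI false
open CategoryTheory CategoryTheory.Limits Opposite
universe w v₁ v₂ u₁ u₂

namespace Groth.Agent.H27.AdicLimFF

variable {Λ : Type w} [CommRing Λ] {C : Type u₁} [Category.{v₁} C] {D : Type u₂} [Category.{v₂} D]
  [Preadditive D] [Linear Λ D]

/-- quotient maps are epimorphisms -/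
theorem epi_of_isQuot {J : Ideal Λ} {X Q : D} {p : X ⟶ Q} (hp : ARSys.IsQuot J p) : Epi p := by
  constructor
  intro Y a b hab
  have hk : ARSys.HomKilledBy J (p ≫ a) := by
    intro c hc
    have h1 : c • (p ≫ a) = p ≫ (c • 𝟙 Q) ≫ a := by
      rw [Linear.smul_comp, Category.id_comp, Linear.comp_smul]
    rw [h1, hp.1 c hc, zero_comp, comp_zero]
  obtain ⟨ψ, -, hu⟩ := hp.2 Y (p ≫ a) hk
  exact (hu a rfl).trans (hu b hab.symm).symm

/-- morphisms into an object killed by `J` are killed by `J` -/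
theorem homKilledBy_of_killedBy {J : Ideal Λ} {X Y : D} (hY : ARSys.KilledBy J Y) (f : X ⟶ Y) :
    ARSys.HomKilledBy J f := by
  intro c hc
  have h1 : c • f = f ≫ (c • 𝟙 Y) := by rw [Linear.comp_smul, Category.comp_id]
  rw [h1, hY c hc, comp_zero]

variable (ε : C ⥤ D) [ε.Full] [ε.Faithful] [HasLimitsOfShape ℕᵒᵖ D] (I : Ideal Λ)
  (G H : ℕᵒᵖ ⥤ C)

include I in
omit [ε.Full] in
theorem map_injective
    (hG : ∀ n : ℕ, ARSys.IsQuot (I ^ (n + 1)) (limit.π (G ⋙ ε) (op n)))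
    (φ ψ : G ⟶ H)
    (h : limMap (Functor.whiskerRight φ ε) = limMap (Functor.whiskerRight ψ ε)) : φ = ψ := by
  ext ⟨n⟩
  apply ε.map_injective
  haveI := epi_of_isQuot (hG n)
  rw [← cancel_epi (limit.π (G ⋙ ε) (op n))]
  have h1 := limMap_π (Functor.whiskerRight φ ε) (op n)
  have h2 := limMap_π (Functor.whiskerRight ψ ε) (op n)
  rw [h] at h1
  exact h1.symm.trans h2

theorem exists_map
    (hG : ∀ n : ℕ, ARSys.IsQuot (I ^ (n + 1)) (limit.π (G ⋙ ε) (op n)))
    (hH : ∀ n : ℕ, ARSys.KilledBy (I ^ (n + 1)) (ε.obj (H.obj (op n))))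
    (f : limit (G ⋙ ε) ⟶ limit (H ⋙ ε)) :
    ∃ φ : G ⟶ H, limMap (Functor.whiskerRight φ ε) = f := by
  have hex : ∀ n : ℕ, ∃ g : ε.obj (G.obj (op n)) ⟶ ε.obj (H.obj (op n)),
      limit.π (G ⋙ ε) (op n) ≫ g = f ≫ limit.π (H ⋙ ε) (op n) := by
    intro n
    obtain ⟨g, hg, -⟩ := (hG n).2 _ (f ≫ limit.π (H ⋙ ε) (op n))
      (homKilledBy_of_killedBy (hH n) _)
    exact ⟨g, hg⟩
  choose g hg using hex
  have hnat : ∀ (n m : ℕ) (h : n ≤ m),
      G.map (homOfLE h).op ≫ ε.preimage (g n) = ε.preimage (g m) ≫ H.map (homOfLE h).op := by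
    intro n m h
    apply ε.map_injective
    haveI := epi_of_isQuot (hG m)
    rw [← cancel_epi (limit.π (G ⋙ ε) (op m)), Functor.map_comp, Functor.map_comp,
      Functor.map_preimage, Functor.map_preimage]
    have w1 : limit.π (G ⋙ ε) (op m) ≫ ε.map (G.map (homOfLE h).op) =
        limit.π (G ⋙ ε) (op n) := limit.w (G ⋙ ε) (homOfLE h).op
    have w2 : limit.π (H ⋙ ε) (op m) ≫ ε.map (H.map (homOfLE h).op) =
        limit.π (H ⋙ ε) (op n) := limit.w (H ⋙ ε) (homOfLE h).op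
    rw [← Category.assoc, w1, hg n, ← Category.assoc, hg m, Category.assoc, w2]
  let φ : G ⟶ H :=
    { app := fun n => ε.preimage (g n.unop)
      naturality := by
        intro j j' k
        have hk : k = (homOfLE (leOfHom k.unop)).op := Subsingleton.elim _ _
        rw [hk]
        exact hnat j'.unop j.unop _ }
  refine ⟨φ, ?_⟩
  apply limit.hom_ext
  intro j
  rw [limMap_π]
  show limit.π (G ⋙ ε) j ≫ ε.map (ε.preimage (g j.unop)) = f ≫ limit.π (H ⋙ ε) j
  rw [Functor.map_preimage]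
  exact hg j.unop

end Groth.Agent.H27.AdicLimFF
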