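import Mathlib.RingTheory.Localization.AtPrime.Basic
import Mathlib.RingTheory.Spectrum.Prime.Topology
import Mathlib.Tactic.LinearCombination

/-!
# The ring of admissible sections (w-localization)

For a ring `A` and an ideal `K` we consider the product `∏_{p ∈ V(K)} A_p` and its subalgebra `R K`
of *admissible* elements: those `x` for which there is a finite cover of `V(K)` by basic
constructible sets `Z(s,g) = V(s) ∩ D(g)` (`s` a finite set) on each of which `x` is given by a
fraction `a / g`.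
-/

set_option autoImplicit false
universe u

namespace Groth.Agent.H27.Adm

variable {A : Type u} [CommRing A] (K : Ideal A)

/-- the index set: the primes containing `K` -/
abbrev Y : Type u := {p : PrimeSpectrum A // K ≤ p.asIdeal}

/-- the ambient product of local rings -/
abbrev Prod : Type u := ∀ p : Y K, Localization.AtPrime p.1.asIdeal

/-- basic constructible sets `V(s) ∩ D(g)` -/
def Zs (s : Finset A) (g : A) : Set (PrimeSpectrum A) :=
  {p | (∀ f ∈ s, f ∈ p.asIdeal) ∧ g ∉ p.asIdeal}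

theorem mem_Zs {s : Finset A} {g : A} {p : PrimeSpectrum A} :
    p ∈ Zs s g ↔ (∀ f ∈ s, f ∈ p.asIdeal) ∧ g ∉ p.asIdeal := Iff.rfl

/-- admissible elements -/
def IsAdm (x : Prod K) : Prop :=
  ∃ T : Finset (Finset A × A × A),
    (∀ p : Y K, ∃ t ∈ T, p.1 ∈ Zs t.1 t.2.1) ∧
    ∀ t ∈ T, ∀ p : Y K, p.1 ∈ Zs t.1 t.2.1 →
      algebraMap A (Localization.AtPrime p.1.asIdeal) t.2.1 * x p =
        algebraMap A (Localization.AtPrime p.1.asIdeal) t.2.2

theorem isAdm_algebraMap (r : A) : IsAdm K (algebraMap A (Prod K) r) := by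
  classical
  refine ⟨{(∅, 1, r)}, fun p => ⟨(∅, 1, r), Finset.mem_singleton_self _, ?_⟩, ?_⟩
  · refine ⟨fun f hf => absurd hf (Finset.notMem_empty f), ?_⟩
    exact fun h => p.1.isPrime.ne_top ((Ideal.eq_top_iff_one _).mpr h)
  · intro t ht p _
    rw [Finset.mem_singleton] at ht
    subst ht
    simp [Pi.algebraMap_apply]

theorem isAdm_add {x y : Prod K} (hx : IsAdm K x) (hy : IsAdm K y) : IsAdm K (x + y) := by
  classical
  obtain ⟨T, hT, hTx⟩ := hx
  obtain ⟨T', hT', hTy⟩ := hy
  refine ⟨(T ×ˢ T').image (fun tt => (tt.1.1 ∪ tt.2.1, tt.1.2.1 * tt.2.2.1,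
    tt.1.2.2 * tt.2.2.1 + tt.2.2.2 * tt.1.2.1)), fun p => ?_, ?_⟩
  · obtain ⟨t, ht, hpt⟩ := hT p
    obtain ⟨t', ht', hpt'⟩ := hT' p
    refine ⟨_, Finset.mem_image.mpr ⟨(t, t'), Finset.mem_product.mpr ⟨ht, ht'⟩, rfl⟩, ?_⟩
    refine ⟨fun f hf => ?_, fun h => ?_⟩
    · rcases Finset.mem_union.mp hf with h | h
      · exact hpt.1 f h
      · exact hpt'.1 f h
    · rcases p.1.isPrime.mem_or_mem h with h | h
      · exact hpt.2 h
      · exact hpt'.2 h
  · intro t ht p hp
    obtain ⟨⟨t1, t2⟩, htt, rfl⟩ := Finset.mem_image.mp ht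
    obtain ⟨h1, h2⟩ := Finset.mem_product.mp htt
    have hp1 : p.1 ∈ Zs t1.1 t1.2.1 :=
      ⟨fun f hf => hp.1 f (Finset.mem_union_left _ hf),
        fun h => hp.2 (Ideal.mul_mem_right _ _ h)⟩
    have hp2 : p.1 ∈ Zs t2.1 t2.2.1 :=
      ⟨fun f hf => hp.1 f (Finset.mem_union_right _ hf),
        fun h => hp.2 (Ideal.mul_mem_left _ _ h)⟩
    have e1 := hTx t1 h1 p hp1
    have e2 := hTy t2 h2 p hp2
    simp only [Pi.add_apply, map_mul, map_add]
    linear_combination (algebraMap A (Localization.AtPrime p.1.asIdeal) t2.2.1) * e1 +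
      (algebraMap A (Localization.AtPrime p.1.asIdeal) t1.2.1) * e2

theorem isAdm_mul {x y : Prod K} (hx : IsAdm K x) (hy : IsAdm K y) : IsAdm K (x * y) := by
  classical
  obtain ⟨T, hT, hTx⟩ := hx
  obtain ⟨T', hT', hTy⟩ := hy
  refine ⟨(T ×ˢ T').image (fun tt => (tt.1.1 ∪ tt.2.1, tt.1.2.1 * tt.2.2.1,
    tt.1.2.2 * tt.2.2.2)), fun p => ?_, ?_⟩
  · obtain ⟨t, ht, hpt⟩ := hT p
    obtain ⟨t', ht', hpt'⟩ := hT' p
    refine ⟨_, Finset.mem_image.mpr ⟨(t, t'), Finset.mem_product.mpr ⟨ht, ht'⟩, rfl⟩, ?_⟩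
    refine ⟨fun f hf => ?_, fun h => ?_⟩
    · rcases Finset.mem_union.mp hf with h | h
      · exact hpt.1 f h
      · exact hpt'.1 f h
    · rcases p.1.isPrime.mem_or_mem h with h | h
      · exact hpt.2 h
      · exact hpt'.2 h
  · intro t ht p hp
    obtain ⟨⟨t1, t2⟩, htt, rfl⟩ := Finset.mem_image.mp ht
    obtain ⟨h1, h2⟩ := Finset.mem_product.mp htt
    have hp1 : p.1 ∈ Zs t1.1 t1.2.1 :=
      ⟨fun f hf => hp.1 f (Finset.mem_union_left _ hf),
        fun h => hp.2 (Ideal.mul_mem_right _ _ h)⟩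
    have hp2 : p.1 ∈ Zs t2.1 t2.2.1 :=
      ⟨fun f hf => hp.1 f (Finset.mem_union_right _ hf),
        fun h => hp.2 (Ideal.mul_mem_left _ _ h)⟩
    have e1 := hTx t1 h1 p hp1
    have e2 := hTy t2 h2 p hp2
    simp only [Pi.mul_apply, map_mul]
    linear_combination (algebraMap A (Localization.AtPrime p.1.asIdeal) t2.2.1 * y p) * e1 +
      (algebraMap A (Localization.AtPrime p.1.asIdeal) t1.2.2) * e2

/-- the subalgebra of admissible elements -/
def R : Subalgebra A (Prod K) where
  carrier := {x | IsAdm K x}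
  mul_mem' := fun hx hy => isAdm_mul K hx hy
  add_mem' := fun hx hy => isAdm_add K hx hy
  algebraMap_mem' := fun r => isAdm_algebraMap K r

theorem mem_R {x : Prod K} : x ∈ R K ↔ IsAdm K x := Iff.rfl

open Classical in
/-- the extension by zero of the fraction `a / g` on `Z(s,g)` -/
noncomputable def elt (s : Finset A) (g a : A) : Prod K := fun p =>
  if h : p.1 ∈ Zs s g then
    IsLocalization.mk' (Localization.AtPrime p.1.asIdeal) a (⟨g, h.2⟩ : p.1.asIdeal.primeCompl)
  else 0

theorem elt_of_mem (s : Finset A) (g a : A) (p : Y K) (h : p.1 ∈ Zs s g) :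
    elt K s g a p =
      IsLocalization.mk' (Localization.AtPrime p.1.asIdeal) a (⟨g, h.2⟩ : p.1.asIdeal.primeCompl) := by
  simp only [elt]
  rw [dif_pos h]

theorem elt_of_notMem (s : Finset A) (g a : A) (p : Y K) (h : p.1 ∉ Zs s g) :
    elt K s g a p = 0 := by
  simp only [elt]
  rw [dif_neg h]

theorem smul_elt_of_mem (s : Finset A) (g a : A) (p : Y K) (h : p.1 ∈ Zs s g) :
    algebraMap A (Localization.AtPrime p.1.asIdeal) g * elt K s g a p =
      algebraMap A (Localization.AtPrime p.1.asIdeal) a := by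
  rw [elt_of_mem K s g a p h]
  exact IsLocalization.mk'_spec' _ a (⟨g, h.2⟩ : p.1.asIdeal.primeCompl)

theorem isAdm_elt (s : Finset A) (g a : A) : IsAdm K (elt K s g a) := by
  classical
  refine ⟨{(s, g, a)} ∪ s.image (fun f => (∅, f, 0)) ∪ {({g}, 1, 0)}, fun p => ?_, ?_⟩
  · by_cases hp : p.1 ∈ Zs s g
    · exact ⟨(s, g, a), by simp, hp⟩
    · rw [mem_Zs, not_and_or] at hp
      rcases hp with hp | hp
      · push Not at hp
        obtain ⟨f, hf, hfp⟩ := hp
        refine ⟨(∅, f, 0), ?_, ?_⟩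
        · apply Finset.mem_union_left
          apply Finset.mem_union_right
          exact Finset.mem_image.mpr ⟨f, hf, rfl⟩
        · exact ⟨fun f' hf' => absurd hf' (Finset.notMem_empty f'), hfp⟩
      · rw [not_not] at hp
        refine ⟨({g}, 1, 0), by simp, ?_⟩
        refine ⟨fun f hf => ?_, fun h => p.1.isPrime.ne_top ((Ideal.eq_top_iff_one _).mpr h)⟩
        rw [Finset.mem_singleton] at hf
        rw [hf]
        exact hp
  · intro t ht p hp
    rcases Finset.mem_union.mp ht with ht | ht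
    · rcases Finset.mem_union.mp ht with ht | ht
      · rw [Finset.mem_singleton] at ht
        subst ht
        exact smul_elt_of_mem K s g a p hp
      · obtain ⟨f, hf, rfl⟩ := Finset.mem_image.mp ht
        have : p.1 ∉ Zs s g := fun h => hp.2 (h.1 f hf)
        rw [elt_of_notMem K s g a p this]
        simp
    · rw [Finset.mem_singleton] at ht
      subst ht
      have : p.1 ∉ Zs s g := fun h => h.2 (hp.1 g (Finset.mem_singleton_self g))
      rw [elt_of_notMem K s g a p this]
      simp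

/-- the element of `R K` given by the fraction `a/g` on `Z(s,g)` and `0` elsewhere -/
noncomputable def eltR (s : Finset A) (g a : A) : R K := ⟨elt K s g a, isAdm_elt K s g a⟩

/-- the indicator of `Z(s,g)` -/
noncomputable def ind (s : Finset A) (g : A) : R K := eltR K s g g

/-- evaluation at a point -/
noncomputable def ev (p : Y K) : R K →ₐ[A] Localization.AtPrime p.1.asIdeal :=
  (Pi.evalAlgHom A (fun p : Y K => Localization.AtPrime p.1.asIdeal) p).comp (R K).val

theorem ev_apply (p : Y K) (x : R K) : ev K p x = x.1 p := rfl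

theorem ext_ev {x y : R K} (h : ∀ p, ev K p x = ev K p y) : x = y :=
  Subtype.ext (funext h)

theorem ev_eltR_of_mem (s : Finset A) (g a : A) (p : Y K) (h : p.1 ∈ Zs s g) :
    ev K p (eltR K s g a) =
      IsLocalization.mk' (Localization.AtPrime p.1.asIdeal) a (⟨g, h.2⟩ : p.1.asIdeal.primeCompl) :=
  elt_of_mem K s g a p h

theorem ev_eltR_of_notMem (s : Finset A) (g a : A) (p : Y K) (h : p.1 ∉ Zs s g) :
    ev K p (eltR K s g a) = 0 :=
  elt_of_notMem K s g a p h

theorem ev_ind_of_mem (s : Finset A) (g : A) (p : Y K) (h : p.1 ∈ Zs s g) :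
    ev K p (ind K s g) = 1 := by
  rw [ind, ev_eltR_of_mem K s g g p h]
  exact IsLocalization.mk'_self _ _

theorem ev_ind_of_notMem (s : Finset A) (g : A) (p : Y K) (h : p.1 ∉ Zs s g) :
    ev K p (ind K s g) = 0 :=
  ev_eltR_of_notMem K s g g p h

open Classical in
theorem ev_ind (s : Finset A) (g : A) (p : Y K) :
    ev K p (ind K s g) = if p.1 ∈ Zs s g then 1 else 0 := by
  split_ifs with h
  · exact ev_ind_of_mem K s g p h
  · exact ev_ind_of_notMem K s g p h

/-- admissibility, rephrased inside `R K` -/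
theorem exists_triple (x : R K) (p : Y K) :
    ∃ (s : Finset A) (g a : A), p.1 ∈ Zs s g ∧
      ind K s g * (g • x) = ind K s g * (algebraMap A (R K) a) := by
  obtain ⟨T, hT, hTx⟩ := x.2
  obtain ⟨t, ht, hpt⟩ := hT p
  refine ⟨t.1, t.2.1, t.2.2, hpt, ?_⟩
  apply ext_ev
  intro q
  rw [map_mul, map_mul, map_smul, AlgHom.commutes, Algebra.smul_def]
  by_cases hq : q.1 ∈ Zs t.1 t.2.1
  · rw [ev_ind_of_mem K _ _ q hq, one_mul, one_mul]
    exact hTx t ht q hq
  · rw [ev_ind_of_notMem K _ _ q hq, zero_mul, zero_mul]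

end Groth.Agent.H27.Adm
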