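import Groth.Agent.H27.AdmProfinite
import Mathlib.RingTheory.Algebraic.Integral
import Mathlib.RingTheory.IntegralClosure.IsIntegralClosure.Basic

/-!
# w-local ind-Zariski hull over a w-local base, for algebraic residue field extensions
-/

set_option autoImplicit false
universe u

namespace Groth.Agent.H27.Adm

open PrimeSpectrum

/-- the map on prime spectra induced by a ring hom is spectral -/
theorem isSpectralMap_comap' {A B : Type*} [CommRing A] [CommRing B] (f : A →+* B) :
    IsSpectralMap (PrimeSpectrum.comap f) := by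
  refine ⟨PrimeSpectrum.continuous_comap f, fun U hU hc => ?_⟩
  obtain ⟨s, hs, rfl⟩ := (isCompact_open_iff_eq_finite_iUnion_of_isTopologicalBasis
    (fun r : A => (basicOpen r : Set (PrimeSpectrum A))) isTopologicalBasis_basic_opens
    (fun r => isCompact_basicOpen r) U).mp ⟨hc, hU⟩
  rw [Set.preimage_iUnion₂]
  refine hs.isCompact_biUnion fun r _ => ?_
  exact isCompact_basicOpen (f r)

/-- a prime lying over a maximal ideal with algebraic residue extension is maximal -/
theorem isMaximal_of_algebraic {A B : Type u} [CommRing A] [CommRing B] [Algebra A B]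
    (h : ProEtW.AlgebraicResidueExtensions A B) (q : Ideal B) [q.IsPrime]
    (hq : (q.comap (algebraMap A B)).IsMaximal) : q.IsMaximal := by
  letI := Ideal.Quotient.field (q.comap (algebraMap A B))
  haveI : Algebra.IsAlgebraic (A ⧸ q.comap (algebraMap A B)) (B ⧸ q) := h q
  haveI : Algebra.IsIntegral (A ⧸ q.comap (algebraMap A B)) (B ⧸ q) :=
    Algebra.IsAlgebraic.isIntegral
  apply Ideal.Quotient.maximal_of_isField
  exact isField_of_isIntegral_of_isField' (R := A ⧸ q.comap (algebraMap A B))
    (Field.toIsField _)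

variable (A B : Type u) [CommRing A] [CommRing B] [Algebra A B]

theorem main737 (I : Ideal A)
    (hI0 : PrimeSpectrum.zeroLocus (R := A) I = ProEtW.closedPoints (PrimeSpectrum A))
    (h : ProEtW.AlgebraicResidueExtensions A B) :
    PrimeSpectrum.zeroLocus (R := B) (I.map (algebraMap A B)) ⊆
        ProEtW.closedPoints (PrimeSpectrum B) ∧
    ∃ (C : Type u) (_ : CommRing C) (_ : Algebra B C) (_ : Algebra A C) (_ : IsScalarTower A B C),
      EtPBC.IsIndZariski B C ∧
      Function.Bijective (Ideal.quotientMap ((I.map (algebraMap A B)).map (algebraMap B C))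
        (algebraMap B C) Ideal.le_comap_map) ∧
      ProEtW.IsWLocal (PrimeSpectrum C) ∧
      ProEtW.IsWLocalMap (PrimeSpectrum.comap (algebraMap A C)) ∧
      ProEtW.closedPoints (PrimeSpectrum C) =
        PrimeSpectrum.comap (algebraMap A C) ⁻¹' ProEtW.closedPoints (PrimeSpectrum A) := by
  have hmaxA : ∀ p : PrimeSpectrum A, I ≤ p.asIdeal → p.asIdeal.IsMaximal := by
    intro p hp
    have : p ∈ PrimeSpectrum.zeroLocus (R := A) I := hp
    rw [hI0] at this
    exact (PrimeSpectrum.isClosed_singleton_iff_isMaximal p).mp this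
  have hmax : ∀ q : PrimeSpectrum B, I.map (algebraMap A B) ≤ q.asIdeal → q.asIdeal.IsMaximal := by
    intro q hq
    apply isMaximal_of_algebraic h
    exact hmaxA ⟨q.asIdeal.comap (algebraMap A B), Ideal.comap_isPrime _ _⟩
      (Ideal.map_le_iff_le_comap.mp hq)
  refine ⟨fun q hq => (PrimeSpectrum.isClosed_singleton_iff_isMaximal q).mpr (hmax q hq), ?_⟩
  set IB := I.map (algebraMap A B) with hIB
  letI algAC : Algebra A (R IB) := ((algebraMap B (R IB)).comp (algebraMap A B)).toAlgebra
  haveI tower : IsScalarTower A B (R IB) := IsScalarTower.of_algebraMap_eq (fun _ => rfl)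
  have hcl : ∀ x : PrimeSpectrum (R IB), IsClosed ({x} : Set (PrimeSpectrum (R IB))) ↔
      PrimeSpectrum.comap (algebraMap A (R IB)) x ∈ ProEtW.closedPoints (PrimeSpectrum A) := by
    intro x
    have h1 : IsClosed ({x} : Set (PrimeSpectrum (R IB))) ↔
        x ∈ ProEtW.closedPoints (PrimeSpectrum (R IB)) := Iff.rfl
    rw [h1, closedPoints_eq_zeroLocus IB hmax, ← hI0, PrimeSpectrum.mem_zeroLocus,
      PrimeSpectrum.mem_zeroLocus, SetLike.coe_subset_coe, SetLike.coe_subset_coe,
      Ideal.map_le_iff_le_comap]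
    have h2 : IB ≤ Ideal.comap (algebraMap B (R IB)) x.asIdeal ↔
        I ≤ (Ideal.comap (algebraMap B (R IB)) x.asIdeal).comap (algebraMap A B) :=
      Ideal.map_le_iff_le_comap
    rw [h2, Ideal.comap_comap]
    rfl
  refine ⟨R IB, inferInstance, inferInstance, algAC, tower, isIndZariski IB,
    quotientMap_bijective IB hmax, isWLocal IB, ⟨isSpectralMap_comap' _, ?_⟩, ?_⟩
  · intro x hx
    exact (hcl x).mp hx
  · ext x
    exact hcl x

end Groth.Agent.H27.Adm
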