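import Groth.Agent.H27.AdmPrimes

/-!
# Generators of the ring of admissible sections, and a local criterion for membership in `I R`
-/

set_option autoImplicit false
universe u

namespace Groth.Agent.H27.Adm

variable {A : Type u} [CommRing A] (K : Ideal A)

theorem eltR_eq (s : Finset A) (g a : A) :
    eltR K s g a = algebraMap A (R K) a * (ind K s g * eltR K ∅ g 1) := by
  apply ext_ev
  intro p
  rw [map_mul, map_mul, AlgHom.commutes]
  by_cases hp : p.1 ∈ Zs s g
  · have hp' : p.1 ∈ Zs ∅ g := mem_Zs_empty.mpr hp.2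
    rw [ev_ind_of_mem K _ _ p hp, one_mul, ev_eltR_of_mem K _ _ _ p hp,
      ev_eltR_of_mem K _ _ _ p hp']
    exact IsLocalization.mk'_eq_mul_mk'_one (M := p.1.asIdeal.primeCompl) a _
  · rw [ev_ind_of_notMem K _ _ p hp, ev_eltR_of_notMem K _ _ _ p hp, zero_mul, mul_zero]

theorem ind_mem_of (S : Subalgebra A (R K)) (h1 : ∀ f, ind K ∅ f ∈ S) (s : Finset A) (g : A) :
    ind K s g ∈ S := by
  classical
  induction s using Finset.induction_on with
  | empty => exact h1 g
  | insert f s _ ih =>
    rw [ind_insert]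
    exact S.mul_mem ih (S.sub_mem S.one_mem (h1 f))

/-- the ring of admissible sections is generated by the indicators of the `D(f)` and the
inverses `1/g` on `D(g)` -/
theorem subalgebra_eq_top (S : Subalgebra A (R K)) (h1 : ∀ f, ind K ∅ f ∈ S)
    (h2 : ∀ g, eltR K ∅ g 1 ∈ S) : S = ⊤ := by
  classical
  have h3 : ∀ s g a, eltR K s g a ∈ S := by
    intro s g a
    rw [eltR_eq]
    exact S.mul_mem (S.algebraMap_mem a) (S.mul_mem (ind_mem_of K S h1 s g) (h2 g))
  rw [eq_top_iff]
  rintro x -
  obtain ⟨T, hT, hTx⟩ := x.2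
  have hmul : ∀ t ∈ T, ind K t.1 t.2.1 * x = eltR K t.1 t.2.1 t.2.2 := by
    intro t ht
    apply ext_ev
    intro p
    rw [map_mul]
    by_cases hp : p.1 ∈ Zs t.1 t.2.1
    · rw [ev_ind_of_mem K _ _ p hp, one_mul, ev_eltR_of_mem K _ _ _ p hp]
      rw [IsLocalization.eq_mk'_iff_mul_eq, mul_comm]
      exact hTx t ht p hp
    · rw [ev_ind_of_notMem K _ _ p hp, zero_mul, ev_eltR_of_notMem K _ _ _ p hp]
  have hprod : ∀ T' : Finset (Finset A × A × A), T' ⊆ T →
      (∏ t ∈ T', (1 - ind K t.1 t.2.1)) ∈ S ∧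
        x - (∏ t ∈ T', (1 - ind K t.1 t.2.1)) * x ∈ S := by
    intro T'
    induction T' using Finset.induction_on with
    | empty =>
      intro _
      rw [Finset.prod_empty, one_mul, sub_self]
      exact ⟨S.one_mem, S.zero_mem⟩
    | insert t T' ht ih =>
      intro hsub
      obtain ⟨ih1, ih2⟩ := ih (fun y hy => hsub (Finset.mem_insert_of_mem hy))
      have htT : t ∈ T := hsub (Finset.mem_insert_self t T')
      rw [Finset.prod_insert ht]
      refine ⟨S.mul_mem (S.sub_mem S.one_mem (ind_mem_of K S h1 _ _)) ih1, ?_⟩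
      have : x - (1 - ind K t.1 t.2.1) * (∏ t ∈ T', (1 - ind K t.1 t.2.1)) * x =
          (x - (∏ t ∈ T', (1 - ind K t.1 t.2.1)) * x) +
            (∏ t ∈ T', (1 - ind K t.1 t.2.1)) * (ind K t.1 t.2.1 * x) := by ring
      rw [this, hmul t htT]
      exact S.add_mem ih2 (S.mul_mem ih1 (h3 _ _ _))
  have hzero : (∏ t ∈ T, (1 - ind K t.1 t.2.1)) = 0 := by
    apply ext_ev
    intro p
    rw [map_prod, map_zero]
    obtain ⟨t, ht, hpt⟩ := hT p
    apply Finset.prod_eq_zero ht
    rw [map_sub, map_one, ev_ind_of_mem K _ _ p hpt, sub_self]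
  have := (hprod T (Finset.Subset.refl T)).2
  rwa [hzero, zero_mul, sub_zero] at this

/-- an ideal of `R K` not contained in any `maxAt q` is the unit ideal -/
theorem eq_top_of_forall_exists (𝔞 : Ideal (R K))
    (h : ∀ q : Y K, ∃ u ∈ 𝔞, u ∉ maxAt K q) : 𝔞 = ⊤ := by
  by_contra hne
  obtain ⟨M, hM, hle⟩ := Ideal.exists_le_maximal 𝔞 hne
  obtain ⟨u, hu, hu'⟩ := h (cPt K M)
  apply hu'
  rw [← eq_maxAt_of_isMaximal K M]
  exact hle hu

/-- membership in `I R` can be tested in the local rings -/
theorem mem_map_of_forall_ev (I : Ideal A) (y : R K)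
    (h : ∀ q : Y K, ev K q y ∈ I.map (algebraMap A (Localization.AtPrime q.1.asIdeal))) :
    y ∈ I.map (algebraMap A (R K)) := by
  let 𝔞 : Ideal (R K) :=
    { carrier := {u | u * y ∈ I.map (algebraMap A (R K))}
      zero_mem' := by
        change (0 : R K) * y ∈ I.map (algebraMap A (R K))
        rw [zero_mul]; exact Ideal.zero_mem _
      add_mem' := by
        intro u v hu hv
        change (u + v) * y ∈ I.map (algebraMap A (R K))
        rw [add_mul]; exact Ideal.add_mem _ hu hv
      smul_mem' := by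
        intro c u hu
        change (c * u) * y ∈ I.map (algebraMap A (R K))
        rw [mul_assoc]; exact Ideal.mul_mem_left _ _ hu }
  have htop : 𝔞 = ⊤ := by
    apply eq_top_of_forall_exists
    intro q
    obtain ⟨s, g, b, hmem, htr⟩ := exists_triple K y q
    have hev : algebraMap A (Localization.AtPrime q.1.asIdeal) g * ev K q y =
        algebraMap A (Localization.AtPrime q.1.asIdeal) b := by
      have := congrArg (ev K q) htr
      rw [map_mul, map_mul, ev_ind_of_mem K _ _ _ hmem, one_mul, one_mul, map_smul,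
        Algebra.smul_def, AlgHom.commutes] at this
      exact this
    have hb : algebraMap A (Localization.AtPrime q.1.asIdeal) b ∈
        I.map (algebraMap A (Localization.AtPrime q.1.asIdeal)) := by
      rw [← hev]
      exact Ideal.mul_mem_left _ _ (h q)
    rw [IsLocalization.algebraMap_mem_map_algebraMap_iff q.1.asIdeal.primeCompl] at hb
    obtain ⟨w, hw, hwb⟩ := hb
    refine ⟨ind K s g * algebraMap A (R K) (w * g), ?_, ?_⟩
    · change ind K s g * algebraMap A (R K) (w * g) * y ∈ I.map (algebraMap A (R K))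
      have : ind K s g * algebraMap A (R K) (w * g) * y =
          algebraMap A (R K) (w * b) * ind K s g := by
        rw [map_mul, map_mul]
        have h1 : ind K s g * (algebraMap A (R K) w * algebraMap A (R K) g) * y =
            algebraMap A (R K) w * (ind K s g * (g • y)) := by
          rw [Algebra.smul_def]; ring
        rw [h1, htr]; ring
      rw [this]
      exact Ideal.mul_mem_right _ _ (Ideal.mem_map_of_mem _ hwb)
    · rw [mem_maxAt, map_mul, ev_ind_of_mem K _ _ _ hmem, one_mul, AlgHom.commutes,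
        IsLocalization.AtPrime.to_map_mem_maximal_iff _ q.1.asIdeal]
      intro hmem'
      rcases q.1.isPrime.mem_or_mem hmem' with h' | h'
      · exact hw h'
      · exact hmem.2 h'
  have h1 : (1 : R K) ∈ 𝔞 := by rw [htop]; trivial
  have h2 : (1 : R K) * y ∈ I.map (algebraMap A (R K)) := h1
  rwa [one_mul] at h2

theorem ev_mem_map_of_mem (I : Ideal A) {y : R K} (hy : y ∈ I.map (algebraMap A (R K))) (q : Y K) :
    ev K q y ∈ I.map (algebraMap A (Localization.AtPrime q.1.asIdeal)) := by
  have h1 : ev K q y ∈ (I.map (algebraMap A (R K))).map (ev K q).toRingHom :=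
    Ideal.mem_map_of_mem _ hy
  rw [Ideal.map_map] at h1
  have h2 : (ev K q).toRingHom.comp (algebraMap A (R K)) =
      algebraMap A (Localization.AtPrime q.1.asIdeal) := by
    ext a
    exact (ev K q).commutes a
  rwa [h2] at h1

end Groth.Agent.H27.Adm
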