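import Groth.Agent.H27.WLocal
import Groth.Prelude.Def_ProEtW
import Mathlib.RingTheory.Spectrum.Prime.Topology
import Mathlib.RingTheory.Localization.AtPrime.Basic

/-!
# Idempotents in rings with w-local spectrum attached to elements

For `b ∈ B` with `Spec B` w-local, there is an idempotent `e` such that a maximal ideal contains
`e` iff it contains `b`, and `b` is invertible "on `D(e)`".
-/

set_option autoImplicit false
universe u

namespace Groth.Agent.H27.Adm

open Set

section Top

variable {X : Type u} [TopologicalSpace X] [SpectralSpace X]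

/-- in a w-local space, the set of points whose closed specialization lies in a given
quasi-compact open is clopen -/
theorem isClopen_generizations (h0 : IsClosed {x : X | IsClosed ({x} : Set X)})
    (huniq : ∀ x : X, ∃! z : X, IsClosed ({z} : Set X) ∧ x ⤳ z) {W : Set X}
    (hWo : IsOpen W) (hWc : IsCompact W) :
    IsClopen {z : X | ∃ k ∈ W ∩ {x : X | IsClosed ({x} : Set X)}, z ⤳ k} := by
  set X0 : Set X := {x : X | IsClosed ({x} : Set X)} with hX0
  have hA : IsCompact (W ∩ X0) := hWc.inter_right h0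
  have hB : IsCompact (X0 \ W) := (h0.sdiff hWo).isCompact
  have hUcl := Groth.Agent.H27.WLocal.isClosed_generizations huniq hA (fun a ha => ha.2)
  have hVcl := Groth.Agent.H27.WLocal.isClosed_generizations huniq hB (fun a ha => ha.1)
  set U : Set X := {z | ∃ k ∈ W ∩ X0, z ⤳ k} with hU
  set V : Set X := {z | ∃ k ∈ X0 \ W, z ⤳ k} with hV
  have hUV : U = Vᶜ := by
    ext z
    constructor
    · rintro ⟨k1, hk1, hzk1⟩ ⟨k2, hk2, hzk2⟩
      have : k1 = k2 := (huniq z).unique ⟨hk1.2, hzk1⟩ ⟨hk2.1, hzk2⟩
      exact hk2.2 (this ▸ hk1.1)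
    · intro hz
      obtain ⟨z0, ⟨hz0cl, hzz0⟩, -⟩ := huniq z
      by_cases hW : z0 ∈ W
      · exact ⟨z0, ⟨hW, hz0cl⟩, hzz0⟩
      · exact absurd ⟨z0, ⟨hz0cl, hW⟩, hzz0⟩ hz
  exact ⟨hUcl, by rw [hUV]; exact hVcl.isOpen_compl⟩

end Top

variable {B : Type u} [CommRing B]

/-- the idempotent attached to an element of a ring with w-local spectrum -/
theorem exists_idem (hB : ProEtW.IsWLocal (PrimeSpectrum B)) (b : B) :
    ∃ e : B, IsIdempotentElem e ∧ (∀ m : Ideal B, m.IsMaximal → (e ∈ m ↔ b ∈ m)) ∧
      ∃ b' : B, b * b' = e ∧ b' * e = b' := by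
  obtain ⟨-, h0, huniq⟩ := hB
  have hcl := isClopen_generizations h0 huniq (PrimeSpectrum.basicOpen b).isOpen
    (PrimeSpectrum.isCompact_basicOpen b)
  obtain ⟨e, he, hUe⟩ := PrimeSpectrum.isClopen_iff.mp hcl
  refine ⟨e, he, ?_, ?_⟩
  · intro m hm
    let x : PrimeSpectrum B := ⟨m, hm.isPrime⟩
    have hx : IsClosed ({x} : Set (PrimeSpectrum B)) :=
      (PrimeSpectrum.isClosed_singleton_iff_isMaximal x).mpr hm
    have h1 : x ∈ (PrimeSpectrum.basicOpen e : Set (PrimeSpectrum B)) ↔
        x ∈ (PrimeSpectrum.basicOpen b : Set (PrimeSpectrum B)) := by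
      rw [← hUe]
      constructor
      · rintro ⟨k, hk, hxk⟩
        exact hxk.mem_open (PrimeSpectrum.basicOpen b).isOpen hk.1
      · intro hxb
        exact ⟨x, ⟨hxb, hx⟩, specializes_rfl⟩
    exact not_iff_not.mp h1
  · have hle : PrimeSpectrum.basicOpen e ≤ PrimeSpectrum.basicOpen b := by
      intro z hz
      have hz' : z ∈ (PrimeSpectrum.basicOpen e : Set (PrimeSpectrum B)) := hz
      rw [← hUe] at hz'
      obtain ⟨k, hk, hzk⟩ := hz'
      exact hzk.mem_open (PrimeSpectrum.basicOpen b).isOpen hk.1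
    rw [PrimeSpectrum.basicOpen_le_basicOpen_iff] at hle
    obtain ⟨n, hn⟩ := hle
    obtain ⟨c, hc⟩ := Ideal.mem_span_singleton'.mp hn
    have hen : e ^ n * e = e := by
      rw [← pow_succ]
      exact he.pow_succ_eq n
    refine ⟨c * e, ?_, ?_⟩
    · rw [← mul_assoc, mul_comm b c, hc, hen]
    · rw [mul_assoc, he.eq]

/-- an idempotent outside a prime becomes `1` in the local ring -/
theorem algebraMap_idem_eq_one {e : B} (he : IsIdempotentElem e) (m : Ideal B) [m.IsPrime]
    (hem : e ∉ m) : algebraMap B (Localization.AtPrime m) e = 1 := by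
  have hu : IsUnit (algebraMap B (Localization.AtPrime m) e) :=
    IsLocalization.map_units _ (⟨e, hem⟩ : m.primeCompl)
  have h1 : algebraMap B (Localization.AtPrime m) e * algebraMap B (Localization.AtPrime m) e =
      algebraMap B (Localization.AtPrime m) e * 1 := by
    rw [← map_mul, he.eq, mul_one]
  exact hu.mul_left_cancel h1

/-- an idempotent inside a prime becomes `0` in the local ring -/
theorem algebraMap_idem_eq_zero {e : B} (he : IsIdempotentElem e) (m : Ideal B) [hm : m.IsPrime]
    (hem : e ∈ m) : algebraMap B (Localization.AtPrime m) e = 0 := by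
  have h1e : 1 - e ∉ m := by
    intro h
    apply hm.ne_top
    rw [Ideal.eq_top_iff_one]
    have := m.add_mem h hem
    rwa [sub_add_cancel] at this
  have hu : IsUnit (algebraMap B (Localization.AtPrime m) (1 - e)) :=
    IsLocalization.map_units _ (⟨1 - e, h1e⟩ : m.primeCompl)
  have h1 : algebraMap B (Localization.AtPrime m) (1 - e) * algebraMap B (Localization.AtPrime m) e =
      algebraMap B (Localization.AtPrime m) (1 - e) * 0 := by
    rw [← map_mul, sub_mul, one_mul, he.eq, sub_self, map_zero, mul_zero]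
  exact hu.mul_left_cancel h1

end Groth.Agent.H27.Adm
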