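import Groth.Agent.H27.CoverFactor
import Mathlib.RingTheory.Localization.Away.Basic
import Mathlib.RingTheory.Localization.AtPrime.Basic

/-!
# A localization is covered by the principal localizations

For a submonoid `M` of `R` and `T = M⁻¹R`, the family `R_a → T` (`a ∈ M`) is a directed cover.
Consequently maps from finitely presented `R`-algebras into `T` factor through some `R_a`.
-/

set_option autoImplicit false
universe u

namespace Groth.Agent.H27.AwayCover

open Groth.Agent.H4.DirFlat

variable {R : Type u} [CommRing R] (M : Submonoid R) (T : Type u) [CommRing T] [Algebra R T]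
  [IsLocalization M T]

/-- the map `R_a → T` for `a ∈ M` -/
noncomputable def awayMap (a : M) : Localization.Away (a : R) →ₐ[R] T :=
  IsLocalization.Away.liftAlgHom (A := R) (a : R) (f := Algebra.ofId R T)
    (IsLocalization.map_units T a)

instance subsingleton_algHom (a : R) (S : Type u) [CommRing S] [Algebra R S] :
    Subsingleton (Localization.Away a →ₐ[R] S) :=
  IsLocalization.algHom_subsingleton (Submonoid.powers a)

/-- the transition map `R_a → R_{ab}` -/
noncomputable def trans (a b : R) : Localization.Away a →ₐ[R] Localization.Away (a * b) :=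
  IsLocalization.Away.liftAlgHom (A := R) a (f := Algebra.ofId R (Localization.Away (a * b)))
    (isUnit_of_dvd_unit (map_dvd (Algebra.ofId R (Localization.Away (a * b))) (dvd_mul_right a b))
      (IsLocalization.Away.algebraMap_isUnit (a * b)))

/-- the transition map `R_b → R_{ab}` -/
noncomputable def trans' (a b : R) : Localization.Away b →ₐ[R] Localization.Away (a * b) :=
  IsLocalization.Away.liftAlgHom (A := R) b (f := Algebra.ofId R (Localization.Away (a * b)))
    (isUnit_of_dvd_unit (map_dvd (Algebra.ofId R (Localization.Away (a * b))) (dvd_mul_left b a))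
      (IsLocalization.Away.algebraMap_isUnit (a * b)))

theorem dir : Dir (awayMap M T) := by
  intro a b
  exact ⟨a * b, trans (a : R) (b : R), trans' (a : R) (b : R), Subsingleton.elim _ _,
    Subsingleton.elim _ _⟩

theorem surj : Surj (awayMap M T) := by
  intro x
  obtain ⟨r, s, rfl⟩ := IsLocalization.exists_mk'_eq M x
  refine ⟨s, IsLocalization.Away.invSelf (s : R) * algebraMap R _ r, ?_⟩
  have hu : IsUnit (algebraMap R T (s : R)) := IsLocalization.map_units T s
  apply hu.mul_left_injective
  change awayMap M T s _ * algebraMap R T s = IsLocalization.mk' T r s * algebraMap R T s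
  rw [IsLocalization.mk'_spec, ← (awayMap M T s).commutes (s : R), ← map_mul,
    mul_assoc, mul_comm _ (algebraMap R (Localization.Away (s : R)) (s : R)),
    ← mul_assoc, mul_comm (IsLocalization.Away.invSelf (s : R)),
    IsLocalization.Away.mul_invSelf, one_mul, AlgHom.commutes]

theorem inj : Inj (awayMap M T) := by
  intro a c hc
  obtain ⟨r, ⟨_, n, rfl⟩, rfl⟩ := IsLocalization.exists_mk'_eq (Submonoid.powers (a : R)) c
  -- `c * a^n = r`
  have h1 : awayMap M T a (IsLocalization.mk' (Localization.Away (a : R)) r
      (⟨(a : R) ^ n, n, rfl⟩ : Submonoid.powers (a : R))) * algebraMap R T ((a : R) ^ n) =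
      algebraMap R T r := by
    rw [← (awayMap M T a).commutes ((a : R) ^ n), ← map_mul]
    have := IsLocalization.mk'_spec (Localization.Away (a : R)) r
      (⟨(a : R) ^ n, n, rfl⟩ : Submonoid.powers (a : R))
    rw [this, AlgHom.commutes]
  rw [hc, zero_mul] at h1
  obtain ⟨t, ht⟩ := (IsLocalization.map_eq_zero_iff M T r).mp h1.symm
  refine ⟨a * t, trans (a : R) (t : R), Subsingleton.elim _ _, ?_⟩
  have hu : IsUnit (algebraMap R (Localization.Away ((a : R) * (t : R))) ((a : R) ^ n)) := by
    rw [map_pow]
    exact (isUnit_of_dvd_unit (map_dvd _ (dvd_mul_right (a : R) (t : R)))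
      (IsLocalization.Away.algebraMap_isUnit ((a : R) * (t : R)))).pow n
  apply hu.mul_left_injective
  change trans (a : R) (t : R) _ * _ = 0 * _
  rw [zero_mul, ← (trans (a : R) (t : R)).commutes ((a : R) ^ n), ← map_mul]
  have := IsLocalization.mk'_spec (Localization.Away (a : R)) r
    (⟨(a : R) ^ n, n, rfl⟩ : Submonoid.powers (a : R))
  rw [this, AlgHom.commutes]
  -- `r = 0` in `R_{at}` since `t * r = 0`
  have hut : IsUnit (algebraMap R (Localization.Away ((a : R) * (t : R))) (t : R)) :=
    isUnit_of_dvd_unit (map_dvd _ (dvd_mul_left (t : R) (a : R)))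
      (IsLocalization.Away.algebraMap_isUnit ((a : R) * (t : R)))
  apply hut.mul_right_injective
  change algebraMap R (Localization.Away ((a : R) * (t : R))) (t : R) *
    algebraMap R (Localization.Away ((a : R) * (t : R))) r =
    algebraMap R (Localization.Away ((a : R) * (t : R))) (t : R) * 0
  rw [mul_zero, ← map_mul, ht, map_zero]

/-- maps from finitely presented algebras into a localization factor through a principal
localization -/
theorem exists_factor (P : Type u) [CommRing P] [Algebra R P] [Algebra.FinitePresentation R P]
    (ψ : P →ₐ[R] T) :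
    ∃ (a : M) (g : P →ₐ[R] Localization.Away (a : R)), (awayMap M T a).comp g = ψ :=
  CoverFactor.exists_factor (dir M T) (surj M T) (inj M T) P ψ

/-- finitely many elements of `R_a` dying in `T` die in some `R_{a t}`, `t ∈ M` -/
theorem exists_kill (a : M) (s : Finset (Localization.Away (a : R)))
    (hs : ∀ c ∈ s, awayMap M T a c = 0) :
    ∃ t : M, ∀ c ∈ s, trans (a : R) (t : R) c = 0 := by
  classical
  induction s using Finset.induction_on with
  | empty => exact ⟨1, by simp⟩
  | insert c s hc ih =>
    obtain ⟨t₁, ht₁⟩ := ih (fun c hc => hs c (Finset.mem_insert_of_mem hc))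
    obtain ⟨j', u, -, hu⟩ := inj M T a c (hs c (Finset.mem_insert_self c s))
    -- `j'` is some element of `M`; combine
    refine ⟨t₁ * j', ?_⟩
    intro d hd
    have key : ∀ (t t' : R) (x : Localization.Away (a : R)),
        trans (a : R) t x = 0 → trans (a : R) (t * t') x = 0 := by
      intro t t' x hx
      have hunit : IsUnit (Algebra.ofId R (Localization.Away ((a : R) * (t * t')))
          ((a : R) * t)) :=
        isUnit_of_dvd_unit (map_dvd _ ⟨t', by ring⟩)
          (IsLocalization.Away.algebraMap_isUnit ((a : R) * (t * t')))
      let v : Localization.Away ((a : R) * t) →ₐ[R] Localization.Away ((a : R) * (t * t')) :=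
        IsLocalization.Away.liftAlgHom (A := R) ((a : R) * t)
          (f := Algebra.ofId R (Localization.Away ((a : R) * (t * t')))) hunit
      have : trans (a : R) (t * t') = v.comp (trans (a : R) t) := Subsingleton.elim _ _
      rw [this, AlgHom.comp_apply, hx, map_zero]
    rcases Finset.mem_insert.mp hd with rfl | hd
    · -- use `u`
      have hj : trans (a : R) ((j' : R)) d = 0 ∨ True := Or.inr trivial
      have hu' : ∀ (w : Localization.Away (a : R) →ₐ[R] Localization.Away ((j' : M) : R)),
          w d = 0 := fun w => by rw [Subsingleton.elim w u]; exact hu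
      -- `R_{j'} → R_{a (t₁ j')}`
      have hunit : IsUnit (Algebra.ofId R (Localization.Away ((a : R) * ((t₁ : R) * (j' : R))))
          ((j' : M) : R)) :=
        isUnit_of_dvd_unit (map_dvd _ ⟨(a : R) * (t₁ : R), by ring⟩)
          (IsLocalization.Away.algebraMap_isUnit ((a : R) * ((t₁ : R) * (j' : R))))
      let v : Localization.Away ((j' : M) : R) →ₐ[R]
          Localization.Away ((a : R) * ((t₁ : R) * (j' : R))) :=
        IsLocalization.Away.liftAlgHom (A := R) ((j' : M) : R)
          (f := Algebra.ofId R (Localization.Away ((a : R) * ((t₁ : R) * (j' : R))))) hunit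
      have : trans (a : R) ((t₁ : R) * (j' : R)) = v.comp u := Subsingleton.elim _ _
      change trans (a : R) ((t₁ : R) * (j' : R)) d = 0
      rw [this, AlgHom.comp_apply, hu, map_zero]
    · exact key (t₁ : R) (j' : R) d (ht₁ d hd)

end Groth.Agent.H27.AwayCover
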