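import Mathlib

/-!
# Spectral spaces: connected components, clopen refinements, w-local spaces
-/

namespace Groth.Agent.H27.WLocal

open Topology Set

universe u

variable {X : Type u} [TopologicalSpace X]

/-- In a quasi-compact quasi-separated prespectral space, the intersection of all clopen
neighbourhoods of a point is preconnected. -/
theorem isPreconnected_iInter_isClopen [CompactSpace X] [QuasiSeparatedSpace X]
    [PrespectralSpace X] (x : X) :
    IsPreconnected (⋂ s : { s : Set X // IsClopen s ∧ x ∈ s }, (s : Set X)) := by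
  set S : Set X := ⋂ s : { s : Set X // IsClopen s ∧ x ∈ s }, (s : Set X) with hS
  have hSc : IsClosed S := isClosed_iInter fun s => s.2.1.1
  have hxS : x ∈ S := mem_iInter.2 fun s => s.2.2
  rw [isPreconnected_iff_subset_of_fully_disjoint_closed hSc]
  intro a b ha hb hab ab_disj
  obtain ⟨u, huc, huo, hau, hub⟩ := PrespectralSpace.exists_isCompact_and_isOpen_between
    ha.isCompact hb.isOpen_compl ab_disj.subset_compl_right
  obtain ⟨v, hvc, hvo, hbv, hva⟩ := PrespectralSpace.exists_isCompact_and_isOpen_between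
    hb.isCompact ha.isOpen_compl ab_disj.subset_compl_left
  have huv : IsCompact (u ∩ v) := QuasiSeparatedSpace.inter_isCompact u v huo huc hvo hvc
  have hdis : (u ∩ v) ∩ S = ∅ := by
    rw [Set.eq_empty_iff_forall_notMem]
    rintro z ⟨⟨hzu, hzv⟩, hzS⟩
    rcases hab hzS with hza | hzb
    · exact hva hzv hza
    · exact hub hzu hzb
  -- a clopen nbhd of x disjoint from u ∩ v
  obtain ⟨s1, hs1c, hxs1, hs1⟩ : ∃ s : Set X, IsClopen s ∧ x ∈ s ∧ (u ∩ v) ∩ s = ∅ := by
    obtain ⟨fin, hfin⟩ := huv.elim_finite_subfamily_closed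
      (fun s : { s : Set X // IsClopen s ∧ x ∈ s } => (s : Set X)) (fun s => s.2.1.1) hdis
    exact ⟨⋂ U ∈ fin, Subtype.val U, isClopen_biInter_finset fun s _ => s.2.1,
      mem_iInter₂.2 fun s _ => s.2.2, hfin⟩
  -- a clopen nbhd of x inside u ∪ v
  obtain ⟨s2, hs2c, hxs2, hs2⟩ : ∃ s : Set X, IsClopen s ∧ x ∈ s ∧ s ⊆ u ∪ v := by
    have hcomp : IsCompact (u ∪ v)ᶜ := (huo.union hvo).isClosed_compl.isCompact
    have hd : (u ∪ v)ᶜ ∩ S = ∅ := by
      rw [Set.eq_empty_iff_forall_notMem]
      rintro z ⟨hz, hzS⟩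
      exact hz ((union_subset_union hau hbv) (hab hzS))
    obtain ⟨fin, hfin⟩ := hcomp.elim_finite_subfamily_closed
      (fun s : { s : Set X // IsClopen s ∧ x ∈ s } => (s : Set X)) (fun s => s.2.1.1) hd
    refine ⟨⋂ U ∈ fin, Subtype.val U, isClopen_biInter_finset fun s _ => s.2.1,
      mem_iInter₂.2 fun s _ => s.2.2, ?_⟩
    intro z hz
    by_contra hzn
    have : z ∈ (u ∪ v)ᶜ ∩ ⋂ U ∈ fin, Subtype.val U := ⟨hzn, hz⟩
    rw [hfin] at this
    exact this
  set s : Set X := s1 ∩ s2 with hs
  have hsc : IsClopen s := hs1c.inter hs2c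
  have hxs : x ∈ s := ⟨hxs1, hxs2⟩
  have hcover : s ⊆ (u ∩ s) ∪ (v ∩ s) := by
    intro z hz
    rcases hs2 hz.2 with h | h
    · exact Or.inl ⟨h, hz⟩
    · exact Or.inr ⟨h, hz⟩
  have hdisj : Disjoint (u ∩ s) (v ∩ s) := by
    rw [Set.disjoint_iff]
    rintro z ⟨⟨hzu, hzs⟩, ⟨hzv, _⟩⟩
    have : z ∈ (u ∩ v) ∩ s1 := ⟨⟨hzu, hzv⟩, hzs.1⟩
    rw [hs1] at this
    exact this
  have H1 : IsClopen (s ∩ (u ∩ s)) :=
    isClopen_inter_of_disjoint_cover_clopen hsc hcover (huo.inter hsc.2) (hvo.inter hsc.2) hdisj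
  have H2 : IsClopen (s ∩ (v ∩ s)) := by
    rw [union_comm] at hcover
    exact isClopen_inter_of_disjoint_cover_clopen hsc hcover (hvo.inter hsc.2) (huo.inter hsc.2)
      hdisj.symm
  rcases hcover hxs with hxu | hxv
  · left
    have hSu : S ⊆ s ∩ (u ∩ s) :=
      iInter_subset (fun s : { s : Set X // IsClopen s ∧ x ∈ s } => s.1)
        ⟨s ∩ (u ∩ s), H1, ⟨hxs, hxu⟩⟩
    intro z hz
    rcases hab hz with h | h
    · exact h
    · exact absurd h (hub (hSu hz).2.1)
  · right
    have hSv : S ⊆ s ∩ (v ∩ s) :=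
      iInter_subset (fun s : { s : Set X // IsClopen s ∧ x ∈ s } => s.1)
        ⟨s ∩ (v ∩ s), H2, ⟨hxs, hxv⟩⟩
    intro z hz
    rcases hab hz with h | h
    · exact absurd h (hva (hSv hz).2.1)
    · exact h

/-- In a spectral space, the connected component of a point is the intersection of its clopen
neighbourhoods. -/
theorem connectedComponent_eq_iInter_isClopen [CompactSpace X] [QuasiSeparatedSpace X]
    [PrespectralSpace X] (x : X) :
    connectedComponent x = ⋂ s : { s : Set X // IsClopen s ∧ x ∈ s }, (s : Set X) :=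
  Subset.antisymm connectedComponent_subset_iInter_isClopen
    ((isPreconnected_iInter_isClopen x).subset_connectedComponent (mem_iInter.2 fun s => s.2.2))

/-- If the connected component of `y` is inside an open `U`, there is a clopen between. -/
theorem exists_isClopen_between [CompactSpace X] [QuasiSeparatedSpace X]
    [PrespectralSpace X] (y : X) {U : Set X} (hU : IsOpen U) (h : connectedComponent y ⊆ U) :
    ∃ Z : Set X, IsClopen Z ∧ y ∈ Z ∧ Z ⊆ U := by
  rw [connectedComponent_eq_iInter_isClopen] at h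
  have hd : Uᶜ ∩ ⋂ s : { s : Set X // IsClopen s ∧ y ∈ s }, (s : Set X) = ∅ := by
    rw [Set.eq_empty_iff_forall_notMem]
    rintro z ⟨hz, hzS⟩
    exact hz (h hzS)
  obtain ⟨fin, hfin⟩ := hU.isClosed_compl.isCompact.elim_finite_subfamily_closed
    (fun s : { s : Set X // IsClopen s ∧ y ∈ s } => (s : Set X)) (fun s => s.2.1.1) hd
  refine ⟨⋂ U ∈ fin, Subtype.val U, isClopen_biInter_finset fun s _ => s.2.1,
    mem_iInter₂.2 fun s _ => s.2.2, ?_⟩
  intro z hz
  by_contra hzn
  have : z ∈ Uᶜ ∩ ⋂ U ∈ fin, Subtype.val U := ⟨hzn, hz⟩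
  rw [hfin] at this
  exact this

/-- every point specializes to a closed point in its connected component -/
theorem exists_closed_specialization [T0Space X] [CompactSpace X] (z : X) :
    ∃ z0 : X, IsClosed ({z0} : Set X) ∧ z ⤳ z0 ∧ connectedComponent z0 = connectedComponent z := by
  obtain ⟨z0, hz0, hcl⟩ := (isClosed_closure (s := ({z} : Set X))).exists_closed_singleton
    ⟨z, subset_closure rfl⟩
  refine ⟨z0, hcl, specializes_iff_mem_closure.2 hz0, ?_⟩
  have : closure ({z} : Set X) ⊆ connectedComponent z :=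
    (isPreconnected_singleton.closure).subset_connectedComponent (subset_closure rfl)
  exact (connectedComponent_eq (this hz0)).symm

/-- Finite clopen covers can be made disjoint. -/
theorem exists_disjoint_clopen_refinement {n : ℕ} (W : Fin n → Set X) (hW : ∀ k, IsClopen (W k))
    (hcov : (⋃ k, W k) = Set.univ) :
    ∃ V : Fin n → Set X, (∀ k, IsClopen (V k)) ∧
      Pairwise (fun k l => Disjoint (V k) (V l)) ∧ (⋃ k, V k) = Set.univ ∧ ∀ k, V k ⊆ W k := by
  refine ⟨disjointed W, fun k => ?_, disjoint_disjointed W, ?_, fun k => disjointed_subset W k⟩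
  · exact disjointedRec (p := fun s : Set X => IsClopen s) (fun t i ht => ht.diff (hW i)) (hW k)
  · rw [iUnion_disjointed, hcov]

/-- surjectivity of closed points onto components -/
theorem surjective_closedPoints [T0Space X] [CompactSpace X] :
    Function.Surjective
      (fun x : {x : X // IsClosed ({x} : Set X)} => ConnectedComponents.mk x.1) := by
  intro c
  obtain ⟨z, rfl⟩ := ConnectedComponents.surjective_coe c
  obtain ⟨z0, hcl, -, hz0⟩ := exists_closed_specialization z
  exact ⟨⟨z0, hcl⟩, ConnectedComponents.coe_eq_coe.2 hz0⟩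

/-- a clopen set separating two points shows they lie in different components -/
theorem mk_ne_of_isClopen {x y : X} {Z : Set X} (hZ : IsClopen Z) (hx : x ∈ Z) (hy : y ∉ Z) :
    ConnectedComponents.mk x ≠ ConnectedComponents.mk y := by
  intro h
  have : y ∈ connectedComponent x := (ConnectedComponents.coe_eq_coe'.1 h.symm)
  exact hy (hZ.connectedComponent_subset hx this)

theorem refinement_iff (X : Type u) [TopologicalSpace X] [SpectralSpace X] :
    (∀ (ι : Type u) (U : ι → Set X), (∀ i, IsOpen (U i)) → (⋃ i, U i) = Set.univ →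
      ∃ (n : ℕ) (V : Fin n → Set X), (∀ k, IsClopen (V k)) ∧
        Pairwise (fun k l => Disjoint (V k) (V l)) ∧ (⋃ k, V k) = Set.univ ∧
          ∀ k, ∃ i, V k ⊆ U i) ↔
    Function.Bijective
      (fun x : {x : X // IsClosed ({x} : Set X)} => ConnectedComponents.mk x.1) := by
  constructor
  · intro H
    refine ⟨?_, surjective_closedPoints⟩
    intro x y hxy
    by_contra hne
    have hne' : x.1 ≠ y.1 := fun h => hne (Subtype.ext h)
    let U : ULift.{u} Bool → Set X := fun b => if b.down then {x.1}ᶜ else {y.1}ᶜ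
    have hUo : ∀ i, IsOpen (U i) := by
      rintro ⟨b⟩
      cases b
      · exact y.2.isOpen_compl
      · exact x.2.isOpen_compl
    have hUc : (⋃ i, U i) = Set.univ := by
      rw [Set.eq_univ_iff_forall]
      intro z
      by_cases hz : z = x.1
      · refine mem_iUnion.2 ⟨⟨false⟩, ?_⟩
        show z ∈ ({y.1}ᶜ : Set X)
        rw [hz]
        exact hne'
      · exact mem_iUnion.2 ⟨⟨true⟩, hz⟩
    obtain ⟨n, V, hVc, -, hVu, hVU⟩ := H _ U hUo hUc
    have hx : x.1 ∈ ⋃ k, V k := by rw [hVu]; trivial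
    obtain ⟨k, hk⟩ := mem_iUnion.1 hx
    obtain ⟨⟨b⟩, hb⟩ := hVU k
    cases b
    · have hy : y.1 ∉ V k := fun h => hb h rfl
      exact mk_ne_of_isClopen (hVc k) hk hy hxy
    · exact hb hk rfl
  · intro hbij ι U hUo hUc
    -- each point has a clopen nbhd inside some `U i`
    have key : ∀ y : X, ∃ Z : Set X, IsClopen Z ∧ y ∈ Z ∧ ∃ i, Z ⊆ U i := by
      intro y
      obtain ⟨x0, hx0cl, -, hx0⟩ := exists_closed_specialization y
      have hx0' : x0 ∈ ⋃ i, U i := by rw [hUc]; trivial
      obtain ⟨i, hi⟩ := mem_iUnion.1 hx0'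
      have hsub : connectedComponent y ⊆ U i := by
        intro z hz
        obtain ⟨z0, hz0cl, hzz0, hz0⟩ := exists_closed_specialization z
        have h1 : connectedComponent z0 = connectedComponent x0 := by
          rw [hz0, hx0, connectedComponent_eq hz]
        have h2 : (⟨z0, hz0cl⟩ : {x : X // IsClosed ({x} : Set X)}) = ⟨x0, hx0cl⟩ :=
          hbij.1 (ConnectedComponents.coe_eq_coe.2 h1)
        have h3 : z0 = x0 := congrArg Subtype.val h2
        rw [h3] at hzz0
        exact hzz0.mem_open (hUo i) hi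
      obtain ⟨Z, hZ, hyZ, hZU⟩ := exists_isClopen_between y (hUo i) hsub
      exact ⟨Z, hZ, hyZ, i, hZU⟩
    choose Z hZc hyZ hZU using key
    obtain ⟨t, ht⟩ := isCompact_univ.elim_finite_subcover Z (fun y => (hZc y).2)
      (fun y _ => mem_iUnion.2 ⟨y, hyZ y⟩)
    let e : Fin t.card ≃ t := t.equivFin.symm
    have hcov : (⋃ k, Z (e k)) = Set.univ := by
      rw [Set.eq_univ_iff_forall]
      intro z
      obtain ⟨y, hy⟩ := mem_iUnion.1 (ht (mem_univ z))
      obtain ⟨hyt, hzy⟩ := mem_iUnion.1 hy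
      refine mem_iUnion.2 ⟨e.symm ⟨y, hyt⟩, ?_⟩
      simpa using hzy
    obtain ⟨V, hVc, hVd, hVu, hVW⟩ :=
      exists_disjoint_clopen_refinement (fun k => Z (e k)) (fun k => hZc _) hcov
    refine ⟨t.card, V, hVc, hVd, hVu, fun k => ?_⟩
    obtain ⟨i, hi⟩ := hZU (e k)
    exact ⟨i, (hVW k).trans hi⟩

/-! ### The constructible topology and specializations -/

theorem isClosed_constructible_of_isCompact_isOpen {N : Set X} (ho : IsOpen N)
    (hc : IsCompact N) : IsClosed[constructibleTopology X] N := by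
  rw [← @isOpen_compl_iff X N (constructibleTopology X)]
  exact IsCompact.isOpen_constructibleTopology_of_isClosed (by rwa [compl_compl])
    ho.isClosed_compl

theorem isClosed_constructible_of_isClosed [PrespectralSpace X] {s : Set X} (hs : IsClosed s) :
    IsClosed[constructibleTopology X] s := by
  rw [← @isOpen_compl_iff X s (constructibleTopology X)]
  obtain ⟨S, hS, hSeq⟩ := PrespectralSpace.isTopologicalBasis.open_eq_sUnion hs.isOpen_compl
  rw [hSeq]
  exact @isOpen_sUnion X (constructibleTopology X) S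
    (fun t ht => (hS ht).2.isOpen_constructibleTopology_of_isOpen (hS ht).1)

theorem compactSpace_constructible [CompactSpace X] [QuasiSober X] [PrespectralSpace X]
    [QuasiSeparatedSpace X] : @CompactSpace X (constructibleTopology X) :=
  @Function.Surjective.compactSpace (WithConstructibleTopology X) X _ (constructibleTopology X)
    WithTopology.ofTopology (WithTopology.continuous_ofTopology _) inferInstance
    (WithTopology.ofTopology_surjective _)

/-- Stacks 0903: for `E` an intersection of sets closed in the constructible topology, every point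
of the closure of `E` is a specialization of a point of `E`. -/
theorem exists_generization_of_mem_closure [CompactSpace X] [QuasiSober X] [PrespectralSpace X]
    [QuasiSeparatedSpace X] {ι : Type*} (F : ι → Set X)
    (hF : ∀ i, IsClosed[constructibleTopology X] (F i)) {z : X} (hz : z ∈ closure (⋂ i, F i)) :
    ∃ e ∈ ⋂ i, F i, e ⤳ z := by
  classical
  let J := ι ⊕ {N : Set X // IsOpen N ∧ IsCompact N ∧ z ∈ N}
  let G : J → Set X := Sum.elim F (fun N => (N : Set X))
  have hG : ∀ j, IsClosed[constructibleTopology X] (G j) := by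
    rintro (i | N)
    · exact hF i
    · exact isClosed_constructible_of_isCompact_isOpen N.2.1 N.2.2.1
  have hne : (⋂ j, G j).Nonempty := by
    by_contra hem
    rw [Set.not_nonempty_iff_eq_empty] at hem
    haveI := compactSpace_constructible (X := X)
    have hcu : @IsCompact X (constructibleTopology X) Set.univ :=
      @isCompact_univ X (constructibleTopology X) _
    obtain ⟨fin, hfin⟩ := @IsCompact.elim_finite_subfamily_closed X (constructibleTopology X)
      Set.univ J hcu G hG (by rw [Set.univ_inter]; exact hem)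
    rw [Set.univ_inter] at hfin
    -- the open nbhd of `z` given by the `N`'s in `fin`
    let O : Set X := ⋂ j ∈ fin, (Sum.elim (fun _ : ι => (Set.univ : Set X))
      (fun N : {N : Set X // IsOpen N ∧ IsCompact N ∧ z ∈ N} => (N : Set X)) j)
    have hOo : IsOpen O := by
      refine isOpen_biInter_finset fun j _ => ?_
      rcases j with i | N
      · exact isOpen_univ
      · exact N.2.1
    have hzO : z ∈ O := by
      refine mem_iInter₂.2 fun j _ => ?_
      rcases j with i | N
      · trivial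
      · exact N.2.2.2
    obtain ⟨w, hwO, hwF⟩ := mem_closure_iff.1 hz O hOo hzO
    have : w ∈ ⋂ j ∈ fin, G j := by
      refine mem_iInter₂.2 fun j hj => ?_
      rcases j with i | N
      · exact mem_iInter.1 hwF i
      · exact mem_iInter₂.1 hwO (Sum.inr N) hj
    rw [hfin] at this
    exact this
  obtain ⟨e, he⟩ := hne
  refine ⟨e, mem_iInter.2 fun i => mem_iInter.1 he (Sum.inl i), ?_⟩
  rw [specializes_iff_forall_open]
  intro s hs hzs
  obtain ⟨N, hN, hzN, hNs⟩ :=
    PrespectralSpace.isTopologicalBasis.exists_subset_of_mem_open hzs hs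
  exact hNs (mem_iInter.1 he (Sum.inr ⟨N, hN.1, hN.2, hzN⟩))

/-- the set of generizations of a compact set is the intersection of the compact opens
containing it -/
theorem generizations_eq_iInter [PrespectralSpace X] {K : Set X} (hK : IsCompact K) :
    {z | ∃ k ∈ K, z ⤳ k} =
      ⋂ W : {W : Set X // IsOpen W ∧ IsCompact W ∧ K ⊆ W}, (W : Set X) := by
  apply Subset.antisymm
  · rintro z ⟨k, hk, hzk⟩
    exact mem_iInter.2 fun W => hzk.mem_open W.2.1 (W.2.2.2 hk)
  · intro z hz
    by_contra hcon
    have hKO : K ⊆ (closure ({z} : Set X))ᶜ := by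
      intro k hk hkz
      exact hcon ⟨k, hk, specializes_iff_mem_closure.2 hkz⟩
    obtain ⟨W, hWc, hWo, hKW, hWO⟩ := PrespectralSpace.exists_isCompact_and_isOpen_between hK
      isClosed_closure.isOpen_compl hKO
    exact hWO (mem_iInter.1 hz ⟨W, hWo, hWc, hKW⟩) (subset_closure rfl)

/-- If every point has a unique closed specialization, then the set of generizations of a
compact set of closed points is closed. -/
theorem isClosed_generizations [SpectralSpace X]
    (huniq : ∀ x : X, ∃! z : X, IsClosed ({z} : Set X) ∧ x ⤳ z) {A : Set X}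
    (hA : IsCompact A) (hA0 : ∀ a ∈ A, IsClosed ({a} : Set X)) :
    IsClosed {z | ∃ k ∈ A, z ⤳ k} := by
  rw [← closure_subset_iff_isClosed]
  intro z hz
  rw [generizations_eq_iInter hA] at hz
  obtain ⟨e, he, hez⟩ := exists_generization_of_mem_closure _
    (fun W : {W : Set X // IsOpen W ∧ IsCompact W ∧ A ⊆ W} =>
      isClosed_constructible_of_isCompact_isOpen W.2.1 W.2.2.1) hz
  rw [← generizations_eq_iInter hA] at he
  obtain ⟨k, hkA, hek⟩ := he
  obtain ⟨z0, ⟨hz0cl, hzz0⟩, -⟩ := huniq z
  have : k = z0 := (huniq e).unique ⟨hA0 k hkA, hek⟩ ⟨hz0cl, hez.trans hzz0⟩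
  exact ⟨k, hkA, this ▸ hzz0⟩

theorem bijective_of_unique_specialization (X : Type u) [TopologicalSpace X]
    [SpectralSpace X] (h0 : IsClosed {x : X | IsClosed ({x} : Set X)})
    (huniq : ∀ x : X, ∃! z : X, IsClosed ({z} : Set X) ∧ x ⤳ z) :
    Function.Bijective
      (fun x : {x : X // IsClosed ({x} : Set X)} => ConnectedComponents.mk x.1) := by
  refine ⟨?_, surjective_closedPoints⟩
  intro x y hxy
  by_contra hne
  have hne' : x.1 ≠ y.1 := fun h => hne (Subtype.ext h)
  obtain ⟨W, ⟨hWo, hWc⟩, hxW, hWy⟩ :=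
    PrespectralSpace.isTopologicalBasis.exists_subset_of_mem_open
      (show x.1 ∈ ({y.1}ᶜ : Set X) from hne') y.2.isOpen_compl
  have hyW : y.1 ∉ W := fun h => hWy h rfl
  set X0 : Set X := {x : X | IsClosed ({x} : Set X)} with hX0
  have hA : IsCompact (W ∩ X0) := hWc.inter_right h0
  have hB : IsCompact (X0 \ W) := (h0.sdiff hWo).isCompact
  have hUcl := isClosed_generizations huniq hA (fun a ha => ha.2)
  have hVcl := isClosed_generizations huniq hB (fun a ha => ha.1)
  set U : Set X := {z | ∃ k ∈ W ∩ X0, z ⤳ k} with hU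
  set V : Set X := {z | ∃ k ∈ X0 \ W, z ⤳ k} with hV
  have hUV : U = Vᶜ := by
    ext z
    constructor
    · rintro ⟨k1, hk1, hzk1⟩ ⟨k2, hk2, hzk2⟩
      have : k1 = k2 := (huniq z).unique ⟨hk1.2, hzk1⟩ ⟨hk2.1, hzk2⟩
      exact hk2.2 (this ▸ hk1.1)
    · intro hz
      obtain ⟨z0, ⟨hz0cl, hzz0⟩, -⟩ := huniq z
      by_cases hW : z0 ∈ W
      · exact ⟨z0, ⟨hW, hz0cl⟩, hzz0⟩
      · exact absurd ⟨z0, ⟨hz0cl, hW⟩, hzz0⟩ hz
  have hUclopen : IsClopen U := ⟨hUcl, by rw [hUV]; exact hVcl.isOpen_compl⟩
  have hxU : x.1 ∈ U := ⟨x.1, ⟨hxW, x.2⟩, specializes_rfl⟩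
  have hyU : y.1 ∉ U := by
    rw [hUV]
    exact fun h => h ⟨y.1, ⟨y.2, hyW⟩, specializes_rfl⟩
  exact mk_ne_of_isClopen hUclopen hxU hyU hxy

end Groth.Agent.H27.WLocal
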