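import Groth.Agent.H27.IndZarK
import Groth.Agent.H27.AwayCover
import Groth.Agent.H27.WLocal
import Groth.Prelude.Def_ProEtW

/-!
# Maps into w-local rings identifying local rings are ind-Zariski
-/

set_option autoImplicit false
universe u

open scoped TensorProduct

namespace Groth.Agent.H27.IndZarWLocal

open Groth.Agent.H27.IndZarK PrimeSpectrum

variable {A B : Type u} [CommRing A] [CommRing B] [Algebra A B]
variable {P : Type u} [CommRing P] [Algebra A P]

/-- `ψ` factors through a principal localization of `A` on the clopen `D(ε)` -/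
def Good (ψ : P →ₐ[A] B) (ε : B) : Prop :=
  ∃ (a : A) (g : P →ₐ[A] Localization.Away a)
    (lam : Localization.Away a →ₐ[A] B ⧸ Ideal.span {1 - ε}),
    lam.comp g = (Ideal.Quotient.mkₐ A (Ideal.span {1 - ε})).comp ψ

theorem Good.mono {ψ : P →ₐ[A] B} {ε ε' : B} (h : Good ψ ε)
    (hle : Ideal.span {1 - ε} ≤ Ideal.span {1 - ε'}) : Good ψ ε' := by
  obtain ⟨a, g, lam, hlam⟩ := h
  refine ⟨a, g, (Ideal.Quotient.factorₐ A hle).comp lam, ?_⟩
  rw [AlgHom.comp_assoc, hlam, ← AlgHom.comp_assoc]
  congr 1

/-- the component of a closed point of a w-local space lies in every open neighbourhood -/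
theorem connectedComponent_subset_of_closed {X : Type u} [TopologicalSpace X] [SpectralSpace X]
    (h0 : IsClosed {x : X | IsClosed ({x} : Set X)})
    (huniq : ∀ x : X, ∃! z : X, IsClosed ({z} : Set X) ∧ x ⤳ z) {y : X}
    (hy : IsClosed ({y} : Set X)) {U : Set X} (hU : IsOpen U) (hyU : y ∈ U) :
    connectedComponent y ⊆ U := by
  intro z hz
  obtain ⟨z0, hz0, hzz0, hcc⟩ := Groth.Agent.H27.WLocal.exists_closed_specialization z
  have hcc' : connectedComponent z = connectedComponent y := connectedComponent_eq hz |>.symm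
  have hinj := (Groth.Agent.H27.WLocal.bijective_of_unique_specialization X h0 huniq).1
  have : (⟨z0, hz0⟩ : {x : X // IsClosed ({x} : Set X)}) = ⟨y, hy⟩ := by
    apply hinj
    change ConnectedComponents.mk z0 = ConnectedComponents.mk y
    rw [ConnectedComponents.coe_eq_coe, hcc, hcc']
  have hz0y : z0 = y := congrArg Subtype.val this
  rw [hz0y] at hzz0
  exact hzz0.mem_open hU hyU


set_option maxHeartbeats 1600000 in
/-- local factorization around a closed point -/
theorem exists_good [Algebra.FinitePresentation A P] (ψ : P →ₐ[A] B)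
    (h1 : EtPBC.IdentifiesLocalRings A B)
    (h0 : IsClosed {x : PrimeSpectrum B | IsClosed ({x} : Set (PrimeSpectrum B))})
    (huniq : ∀ x : PrimeSpectrum B, ∃! z : PrimeSpectrum B,
      IsClosed ({z} : Set (PrimeSpectrum B)) ∧ x ⤳ z)
    (y : PrimeSpectrum B) (hy : IsClosed ({y} : Set (PrimeSpectrum B))) :
    ∃ ε : B, IsIdempotentElem ε ∧ ε ∉ y.asIdeal ∧ Good ψ ε := by
  classical
  set q : Ideal B := y.asIdeal with hq
  set p : Ideal A := q.comap (algebraMap A B) with hp
  let loc : Localization.AtPrime p →+* Localization.AtPrime q :=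
    Localization.localRingHom p q (algebraMap A B) rfl
  have hloc : Function.Bijective loc := h1 y
  let e : Localization.AtPrime p ≃+* Localization.AtPrime q := RingEquiv.ofBijective loc hloc
  have hloc_alg : ∀ r : A, loc (algebraMap A (Localization.AtPrime p) r) =
      algebraMap B (Localization.AtPrime q) (algebraMap A B r) := fun r =>
    Localization.localRingHom_to_map p q (algebraMap A B) rfl r
  -- the induced map `P → A_p`
  let ψq : P →ₐ[A] Localization.AtPrime p :=
    { (e.symm.toRingHom.comp (algebraMap B (Localization.AtPrime q))).comp ψ.toRingHom with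
      commutes' := by
        intro r
        change e.symm (algebraMap B (Localization.AtPrime q) (ψ (algebraMap A P r))) = _
        rw [AlgHom.commutes, ← hloc_alg]
        exact e.symm_apply_apply _ }
  have hψq : ∀ x, loc (ψq x) = algebraMap B (Localization.AtPrime q) (ψ x) := fun x =>
    e.apply_symm_apply _
  obtain ⟨a, g, hg⟩ := AwayCover.exists_factor p.primeCompl (Localization.AtPrime p) P ψq
  have hg' : ∀ x, AwayCover.awayMap p.primeCompl (Localization.AtPrime p) a (g x) = ψq x :=
    fun x => congrArg (fun w : P →ₐ[A] Localization.AtPrime p => w x) hg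
  -- pass to `B`
  set b₀ : B := algebraMap A B (a : A) with hb₀
  have hb₀q : b₀ ∈ q.primeCompl := a.2
  let κ : Localization.Away (a : A) →ₐ[A] Localization.Away b₀ :=
    Localization.awayMapₐ (Algebra.ofId A B) (a : A)
  let θ1 : P →ₐ[A] Localization.Away b₀ :=
    (IsScalarTower.toAlgHom A B (Localization.Away b₀)).comp ψ
  let θ2 : P →ₐ[A] Localization.Away b₀ := κ.comp g
  let αB : Localization.Away b₀ →ₐ[B] Localization.AtPrime q :=
    AwayCover.awayMap q.primeCompl (Localization.AtPrime q) ⟨b₀, hb₀q⟩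
  have hα1 : ∀ x, αB (θ1 x) = algebraMap B (Localization.AtPrime q) (ψ x) := by
    intro x
    change αB (algebraMap B (Localization.Away b₀) (ψ x)) = _
    rw [AlgHom.commutes]
  have hcomp : (αB.toRingHom.comp κ.toRingHom) =
      loc.comp (AwayCover.awayMap p.primeCompl (Localization.AtPrime p) a).toRingHom := by
    apply IsLocalization.ringHom_ext (Submonoid.powers (a : A))
    ext r
    change αB (κ (algebraMap A (Localization.Away (a : A)) r)) =
      loc (AwayCover.awayMap p.primeCompl (Localization.AtPrime p) a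
        (algebraMap A (Localization.Away (a : A)) r))
    rw [AlgHom.commutes, AlgHom.commutes, hloc_alg,
      IsScalarTower.algebraMap_apply A B (Localization.Away b₀), AlgHom.commutes]
  have hα2 : ∀ x, αB (θ2 x) = algebraMap B (Localization.AtPrime q) (ψ x) := by
    intro x
    have := congrArg (fun w : Localization.Away (a : A) →+* Localization.AtPrime q => w (g x)) hcomp
    change αB (κ (g x)) = loc (AwayCover.awayMap p.primeCompl (Localization.AtPrime p) a (g x))
      at this
    change αB (κ (g x)) = _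
    rw [this, hg', hψq]
  -- generators of `P`
  obtain ⟨s, hs⟩ := (Algebra.FiniteType.out : (⊤ : Subalgebra A P).FG)
  obtain ⟨t, ht⟩ := AwayCover.exists_kill q.primeCompl (Localization.AtPrime q) ⟨b₀, hb₀q⟩
    (s.image fun x => θ1 x - θ2 x) (by
      intro c hc
      obtain ⟨x, -, rfl⟩ := Finset.mem_image.mp hc
      change αB (θ1 x - θ2 x) = 0
      rw [map_sub, hα1, hα2, sub_self])
  set h : B := b₀ * (t : B) with hh
  have hhq : h ∉ q := q.primeCompl.mul_mem hb₀q t.2
  let τ : Localization.Away b₀ →ₐ[A] Localization.Away h :=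
    (AwayCover.trans b₀ (t : B)).restrictScalars A
  have hτ : τ.comp θ1 = τ.comp θ2 := by
    apply AlgHom.ext_of_adjoin_eq_top hs
    intro x hx
    have := ht (θ1 x - θ2 x) (Finset.mem_image_of_mem _ hx)
    change AwayCover.trans b₀ (t : B) (θ1 x - θ2 x) = 0 at this
    rw [map_sub, sub_eq_zero] at this
    exact this
  have hτ1 : τ.comp θ1 = (IsScalarTower.toAlgHom A B (Localization.Away h)).comp ψ := by
    ext x
    change AwayCover.trans b₀ (t : B) (algebraMap B (Localization.Away b₀) (ψ x)) = _
    rw [AlgHom.commutes]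
    rfl
  -- the clopen neighbourhood
  have hyh : y ∈ (basicOpen h : Set (PrimeSpectrum B)) := hhq
  obtain ⟨W, hW, hyW, hWh⟩ := Groth.Agent.H27.WLocal.exists_isClopen_between y
    (basicOpen h).2 (connectedComponent_subset_of_closed h0 huniq hy (basicOpen h).2 hyh)
  obtain ⟨ε, hε, rfl⟩ := PrimeSpectrum.isClopen_iff.mp hW
  refine ⟨ε, hε, hyW, ?_⟩
  haveI : IsLocalization.Away ε (B ⧸ Ideal.span {1 - ε}) := by
    apply IsLocalization.away_of_isIdempotentElem hε
    · rw [Ideal.Quotient.algebraMap_eq, Ideal.mk_ker]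
    · exact Ideal.Quotient.mk_surjective
  have hunit : IsUnit (Algebra.ofId B (B ⧸ Ideal.span {1 - ε}) h) :=
    (PrimeSpectrum.basicOpen_le_basicOpen_iff_algebraMap_isUnit
      (S := B ⧸ Ideal.span {1 - ε})).mp hWh
  let ν : Localization.Away h →ₐ[B] B ⧸ Ideal.span {1 - ε} :=
    IsLocalization.Away.liftAlgHom (A := B) h (f := Algebra.ofId B (B ⧸ Ideal.span {1 - ε})) hunit
  refine ⟨(a : A), g, (ν.restrictScalars A).comp (τ.comp κ), ?_⟩
  have : (τ.comp κ).comp g = τ.comp θ2 := rfl
  rw [AlgHom.comp_assoc, this, ← hτ, hτ1]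
  ext x
  change ν (algebraMap B (Localization.Away h) (ψ x)) = _
  rw [AlgHom.commutes]
  rfl


/-- idempotents with disjoint basic opens are orthogonal -/
theorem mul_eq_zero_of_disjoint {e f : B} (he : IsIdempotentElem e) (hf : IsIdempotentElem f)
    (h : Disjoint (basicOpen e : Set (PrimeSpectrum B)) (basicOpen f)) : e * f = 0 := by
  have hid : IsIdempotentElem (e * f) := he.mul hf
  apply hid.eq_zero_of_isNilpotent
  rw [← mem_nilradical, nilradical_eq_sInf, Ideal.mem_sInf]
  intro J hJ
  have hJ' : J.IsPrime := hJ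
  by_contra hmem
  have h1 : e ∉ J := fun h => hmem (J.mul_mem_right _ h)
  have h2 : f ∉ J := fun h => hmem (J.mul_mem_left _ h)
  exact Set.disjoint_left.mp h (show (⟨J, hJ'⟩ : PrimeSpectrum B) ∈ (basicOpen e : Set _) from h1)
    (show (⟨J, hJ'⟩ : PrimeSpectrum B) ∈ (basicOpen f : Set _) from h2)

/-- smaller clopens give larger ideals -/
theorem span_le_of_basicOpen_le {e e' : B} (he : IsIdempotentElem e) (he' : IsIdempotentElem e')
    (h : basicOpen e' ≤ basicOpen e) : Ideal.span {1 - e} ≤ Ideal.span {1 - e'} := by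
  rw [basicOpen_le_basicOpen_iff, Ideal.mem_radical_iff] at h
  obtain ⟨m, hm⟩ := h
  have h1 : e' ∈ Ideal.span {e} := by
    have : e' ^ (m + 1) ∈ Ideal.span {e} := by
      rw [pow_succ]
      exact Ideal.mul_mem_right _ _ hm
    rwa [he'.pow_succ_eq] at this
  obtain ⟨c, hc⟩ := Ideal.mem_span_singleton'.mp h1
  rw [Ideal.span_singleton_le_iff_mem, Ideal.mem_span_singleton']
  refine ⟨1 - e, ?_⟩
  have he2 : e * e = e := he
  have h0 : e' * (1 - e) = 0 := by
    rw [← hc]
    calc c * e * (1 - e) = c * (e - e * e) := by ring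
      _ = 0 := by rw [he2, sub_self, mul_zero]
  calc (1 - e) * (1 - e') = (1 - e) - e' * (1 - e) := by ring
    _ = 1 - e := by rw [h0, sub_zero]

set_option maxHeartbeats 1600000 in
/-- gluing local factorizations along a partition into clopens -/
theorem exists_factor_of_good [Algebra.FinitePresentation A P] (ψ : P →ₐ[A] B) {n : ℕ}
    (ε : Fin n → B) (hε : ∀ k, IsIdempotentElem (ε k))
    (horth : ∀ k l, k ≠ l → ε k * ε l = 0) (hspan : Ideal.span (Set.range ε) = ⊤)
    (hgood : ∀ k, Good ψ (ε k)) :
    ∃ (E : Type u) (_ : CommRing E) (_ : Algebra A E) (_ : Algebra.IsLocalIso A E)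
      (g : P →ₐ[A] E) (φ : E →ₐ[A] B), φ.comp g = ψ := by
  classical
  let I : Fin n → Ideal B := fun k => Ideal.span {1 - ε k}
  have hcop : Pairwise (Function.onFun IsCoprime I) := by
    intro k l hkl
    change IsCoprime (I k) (I l)
    rw [Ideal.isCoprime_iff_exists]
    refine ⟨1 - ε k, Ideal.subset_span rfl, ε k * (1 - ε l),
      Ideal.mul_mem_left _ _ (Ideal.subset_span rfl), ?_⟩
    have := horth k l hkl
    calc 1 - ε k + ε k * (1 - ε l) = 1 - ε k * ε l := by ring
      _ = 1 := by rw [this, sub_zero]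
  have hmul : ∀ k, ∀ x ∈ I k, x * ε k = 0 := by
    intro k x hx
    obtain ⟨c, rfl⟩ := Ideal.mem_span_singleton'.mp hx
    have he2 : ε k * ε k = ε k := hε k
    calc c * (1 - ε k) * ε k = c * (ε k - ε k * ε k) := by ring
      _ = 0 := by rw [he2, sub_self, mul_zero]
  have hinf : ∀ x : B, (∀ k, x ∈ I k) → x = 0 := by
    intro x hx
    have h1 : (1 : B) ∈ Ideal.span (Set.range ε) := by rw [hspan]; trivial
    obtain ⟨c, hc⟩ := Ideal.mem_span_range_iff_exists_fun.mp h1
    calc x = x * 1 := (mul_one x).symm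
      _ = x * ∑ k, c k * ε k := by rw [hc]
      _ = ∑ k, c k * (x * ε k) := by
        rw [Finset.mul_sum]
        exact Finset.sum_congr rfl fun k _ => by ring
      _ = 0 := by
        apply Finset.sum_eq_zero
        intro k _
        rw [hmul k x (hx k), mul_zero]
  let χ : B →+* Π k, B ⧸ I k := RingHom.pi fun k => Ideal.Quotient.mk (I k)
  have hχ : Function.Bijective χ := by
    constructor
    · rw [injective_iff_map_eq_zero]
      intro x hx
      apply hinf
      intro k
      have := congrFun hx k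
      exact Ideal.Quotient.eq_zero_iff_mem.mp this
    · intro z
      obtain ⟨w, hw⟩ := Ideal.quotientInfToPiQuotient_surj hcop z
      obtain ⟨b, rfl⟩ := Ideal.Quotient.mk_surjective w
      refine ⟨b, ?_⟩
      rw [← hw, Ideal.quotientInfToPiQuotient_mk]
      rfl
  let eχ : B ≃+* Π k, B ⧸ I k := RingEquiv.ofBijective χ hχ
  choose a g lam hlam using hgood
  let Λ : (Π k, Localization.Away (a k)) →+* Π k, B ⧸ I k :=
    RingHom.pi fun k => (lam k).toRingHom.comp (Pi.evalRingHom _ k)
  let Φ : (Π k, Localization.Away (a k)) →ₐ[A] B :=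
    { eχ.symm.toRingHom.comp Λ with
      commutes' := by
        intro r
        change eχ.symm (Λ (algebraMap A (Π k, Localization.Away (a k)) r)) = algebraMap A B r
        rw [RingEquiv.symm_apply_eq]
        funext k
        change lam k (algebraMap A (Localization.Away (a k)) r) =
          Ideal.Quotient.mk (I k) (algebraMap A B r)
        rw [AlgHom.commutes]
        rfl }
  refine ⟨Π k, Localization.Away (a k), inferInstance, inferInstance,
    Algebra.IsLocalIso.pi_of_finite A _, AlgHom.pi g, Φ, ?_⟩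
  ext x
  change eχ.symm (Λ (AlgHom.pi g x)) = ψ x
  rw [RingEquiv.symm_apply_eq]
  funext k
  change lam k (g k x) = Ideal.Quotient.mk (I k) (ψ x)
  exact congrArg (fun w : P →ₐ[A] B ⧸ I k => w x) (hlam k)

/-- **the factorization property** for maps into w-local rings identifying local rings -/
theorem hasFactorZ (h1 : EtPBC.IdentifiesLocalRings A B)
    (h0 : IsClosed {x : PrimeSpectrum B | IsClosed ({x} : Set (PrimeSpectrum B))})
    (huniq : ∀ x : PrimeSpectrum B, ∃! z : PrimeSpectrum B,
      IsClosed ({z} : Set (PrimeSpectrum B)) ∧ x ⤳ z) : HasFactorZ A B := by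
  classical
  apply hasFactorZ_of_exists
  intro P _ _ _ ψ
  let S : Set B := {ε | IsIdempotentElem ε ∧ Good ψ ε}
  have hS : Ideal.span S = ⊤ := by
    by_contra hne
    obtain ⟨m, hm, hSm⟩ := Ideal.exists_le_maximal _ hne
    let y : PrimeSpectrum B := ⟨m, hm.isPrime⟩
    have hy : IsClosed ({y} : Set (PrimeSpectrum B)) :=
      (PrimeSpectrum.isClosed_singleton_iff_isMaximal y).mpr hm
    obtain ⟨ε, hε, hεy, hgood⟩ := exists_good ψ h1 h0 huniq y hy
    exact hεy (hSm (Ideal.subset_span ⟨hε, hgood⟩))
  obtain ⟨t, htS, ht⟩ := (Ideal.span_eq_top_iff_finite S).mp hS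
  let en : Fin t.card ≃ t := t.equivFin.symm
  let ε : Fin t.card → B := fun k => (en k : B)
  have hεS : ∀ k, ε k ∈ S := fun k => htS (en k).2
  let W : Fin t.card → Set (PrimeSpectrum B) := fun k => basicOpen (ε k)
  have hWcl : ∀ k, IsClopen (W k) := fun k =>
    PrimeSpectrum.isClopen_iff.mpr ⟨ε k, (hεS k).1, rfl⟩
  have hWcov : (⋃ k, W k) = Set.univ := by
    rw [Set.eq_univ_iff_forall]
    intro z
    by_contra hz
    rw [Set.mem_iUnion] at hz
    push Not at hz
    have hle : Ideal.span (t : Set B) ≤ z.asIdeal := by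
      rw [Ideal.span_le]
      intro x hx
      have := hz (en.symm ⟨x, hx⟩)
      change ¬ (ε (en.symm ⟨x, hx⟩) ∉ z.asIdeal) at this
      rw [not_not] at this
      simpa [ε] using this
    rw [ht] at hle
    exact z.isPrime.ne_top (top_le_iff.mp hle)
  obtain ⟨V, hVcl, hVdisj, hVcov, hVW⟩ :=
    Groth.Agent.H27.WLocal.exists_disjoint_clopen_refinement W hWcl hWcov
  choose ε' hε' hVε' using fun k => PrimeSpectrum.isClopen_iff.mp (hVcl k)
  have hgood' : ∀ k, Good ψ (ε' k) := fun k =>
    (hεS k).2.mono (span_le_of_basicOpen_le (hεS k).1 (hε' k) (by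
      have := hVW k
      rw [hVε' k] at this
      exact this))
  have horth : ∀ k l, k ≠ l → ε' k * ε' l = 0 := by
    intro k l hkl
    apply mul_eq_zero_of_disjoint (hε' k) (hε' l)
    rw [← hVε' k, ← hVε' l]
    exact hVdisj hkl
  have hspan : Ideal.span (Set.range ε') = ⊤ := by
    by_contra hne
    obtain ⟨m, hm, hle⟩ := Ideal.exists_le_maximal _ hne
    have hz : (⟨m, hm.isPrime⟩ : PrimeSpectrum B) ∈ ⋃ k, V k := by rw [hVcov]; trivial
    obtain ⟨k, hk⟩ := Set.mem_iUnion.mp hz
    rw [hVε' k] at hk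
    exact hk (hle (Ideal.subset_span ⟨k, rfl⟩))
  exact exists_factor_of_good ψ ε' hε' horth hspan hgood'

theorem main (A B : Type u) [CommRing A] [CommRing B] [Algebra A B]
    (h1 : EtPBC.IdentifiesLocalRings A B) (h3 : ProEtW.IsWLocal (PrimeSpectrum B)) :
    EtPBC.IsIndZariski A B :=
  (hasFactorZ h1 h3.2.1 h3.2.2).isIndZariski

end Groth.Agent.H27.IndZarWLocal
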