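import Groth.Agent.H27.AdmPrimes
import Groth.Agent.H27.IndZarWLocal

/-!
# The ring of admissible sections identifies local rings, hence is ind-Zariski
-/

set_option autoImplicit false
universe u

namespace Groth.Agent.H27.Adm

/-- a criterion for `A_{P ∩ A} → R_P` to be bijective -/
theorem bijective_localRingHom_of {A R : Type*} [CommRing A] [CommRing R] [Algebra A R]
    (P : Ideal R) [P.IsPrime]
    (ha : ∀ x : R, ∃ (a d : A) (u : R), d ∉ P.comap (algebraMap A R) ∧ u ∉ P ∧
        u * (algebraMap A R d * x) = u * algebraMap A R a)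
    (hb : ∀ (a : A) (u : R), u ∉ P → u * algebraMap A R a = 0 →
        ∃ s : A, s ∉ P.comap (algebraMap A R) ∧ s * a = 0) :
    Function.Bijective
      (Localization.localRingHom (P.comap (algebraMap A R)) P (algebraMap A R) rfl) := by
  constructor
  · rw [injective_iff_map_eq_zero]
    intro z hz
    obtain ⟨⟨a, s⟩, rfl⟩ := IsLocalization.mk'_surjective (P.comap (algebraMap A R)).primeCompl z
    rw [Localization.localRingHom_mk', IsLocalization.mk'_eq_zero_iff] at hz
    obtain ⟨m, hm⟩ := hz
    obtain ⟨s', hs', hs'a⟩ := hb a m.1 m.2 hm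
    rw [IsLocalization.mk'_eq_zero_iff]
    exact ⟨⟨s', hs'⟩, hs'a⟩
  · intro z
    obtain ⟨⟨x, y⟩, rfl⟩ := IsLocalization.mk'_surjective P.primeCompl z
    obtain ⟨a, d, u, hd, hu, hx⟩ := ha x
    obtain ⟨a', d', u', hd', hu', hy⟩ := ha y.1
    have ha' : a' ∉ P.comap (algebraMap A R) := by
      intro h
      have h1 : u' * (algebraMap A R d' * y.1) ∈ P := by
        rw [hy]
        exact P.mul_mem_left _ h
      rcases (inferInstance : P.IsPrime).mem_or_mem h1 with h2 | h2
      · exact hu' h2
      · rcases (inferInstance : P.IsPrime).mem_or_mem h2 with h3 | h3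
        · exact hd' h3
        · exact y.2 h3
    have hda' : d * a' ∈ (P.comap (algebraMap A R)).primeCompl := by
      intro h
      rcases (Ideal.comap_isPrime (algebraMap A R) P).mem_or_mem h with h | h
      · exact hd h
      · exact ha' h
    refine ⟨IsLocalization.mk' _ (a * d') ⟨d * a', hda'⟩, ?_⟩
    rw [Localization.localRingHom_mk', IsLocalization.mk'_eq_iff_eq]
    apply (IsLocalization.eq_iff_exists P.primeCompl _).mpr
    have huu' : u * u' ∈ P.primeCompl := by
      intro h
      rcases (inferInstance : P.IsPrime).mem_or_mem h with h | h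
      · exact hu h
      · exact hu' h
    refine ⟨⟨u * u', huu'⟩, ?_⟩
    simp only [map_mul]
    linear_combination (u * algebraMap A R a) * hy - (u' * algebraMap A R a') * hx

variable {A : Type u} [CommRing A] (K : Ideal A)

theorem identifiesLocalRings : EtPBC.IdentifiesLocalRings A (R K) := by
  intro q
  apply bijective_localRingHom_of
  · intro x
    obtain ⟨s, g, a, hmem, htr⟩ := exists_triple K x (cPt K q.asIdeal)
    refine ⟨a, g, ind K s g, fun h => hmem.2 (comap_le_cIdeal K q.asIdeal h),
      ind_notMem_of_mem_Zs K q.asIdeal hmem, ?_⟩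
    rw [← htr, Algebra.smul_def]
  · intro a u hu hua
    set c := cPt K q.asIdeal with hc
    obtain ⟨⟨b, g⟩, hbg⟩ := IsLocalization.mk'_surjective c.1.asIdeal.primeCompl (ev K c u)
    have hb : b ∉ q.asIdeal.comap (algebraMap A (R K)) := by
      intro h
      apply hu
      rw [mem_iff K q.asIdeal u, ← hbg]
      change IsLocalization.mk' _ b g ∈ _
      rw [IsLocalization.mk'_mem_map_algebraMap_iff]
      exact ⟨1, Submonoid.one_mem _, by rwa [one_mul]⟩
    have h0 : ev K c u * algebraMap A (Localization.AtPrime c.1.asIdeal) a = 0 := by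
      have := congrArg (ev K c) hua
      rwa [map_mul, AlgHom.commutes, map_zero] at this
    rw [← hbg] at h0
    change IsLocalization.mk' _ b g * _ = 0 at h0
    rw [← IsLocalization.mk'_one (M := c.1.asIdeal.primeCompl) (Localization.AtPrime c.1.asIdeal) a,
      ← IsLocalization.mk'_mul, IsLocalization.mk'_eq_zero_iff] at h0
    obtain ⟨m, hm⟩ := h0
    refine ⟨m.1 * b, ?_, ?_⟩
    · intro h
      rcases (Ideal.comap_isPrime (algebraMap A (R K)) q.asIdeal).mem_or_mem h with h | h
      · exact m.2 (comap_le_cIdeal K q.asIdeal h)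
      · exact hb h
    · rw [mul_assoc]
      exact hm

theorem isIndZariski : EtPBC.IsIndZariski A (R K) :=
  Groth.Agent.H27.IndZarWLocal.main A (R K) (identifiesLocalRings K) (isWLocal K)

end Groth.Agent.H27.Adm
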