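import Groth.Agent.H27.AdmLocal
import Groth.Agent.H4.IndCover
import Mathlib.RingTheory.Flat.FaithfullyFlat.Algebra
import Mathlib.RingTheory.Smooth.Flat

/-!
# The w-localization of a ring
-/

set_option autoImplicit false
universe u
open CategoryTheory CategoryTheory.Limits

namespace Groth.Agent.H27.Adm

/-- ind-Zariski algebras are flat -/
theorem flat_of_isIndZariski {A B : Type u} [CommRing A] [CommRing B] [Algebra A B]
    (h : EtPBC.IsIndZariski A B) : Module.Flat A B := by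
  obtain ⟨J, _, _, D, c, hc, hD, ⟨e⟩⟩ := h
  letI := fun j => Groth.Agent.H4.IndCover.algStage D j
  refine Groth.Agent.H4.DirFlat.flat_of_cover (Groth.Agent.H4.IndCover.dir D c e)
    (Groth.Agent.H4.IndCover.surj D c hc e) (Groth.Agent.H4.IndCover.inj D c hc e) (fun j => ?_)
  haveI : Algebra.IsLocalIso A (D.obj j).right := hD j
  haveI : Algebra.Etale A (D.obj j).right :=
    Groth.Agent.H27.IndZarK.etale_of_isLocalIso A (D.obj j).right
  infer_instance

variable {A : Type u} [CommRing A] (K : Ideal A)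

instance flat : Module.Flat A (R K) := flat_of_isIndZariski (isIndZariski K)

theorem comap_maxAt' (q : Y K) :
    PrimeSpectrum.comap (algebraMap A (R K)) ⟨maxAt K q, inferInstance⟩ = q.1 :=
  PrimeSpectrum.ext (comap_maxAt K q)

theorem faithfullyFlat : Module.FaithfullyFlat A (R (⊥ : Ideal A)) := by
  apply Module.FaithfullyFlat.of_comap_surjective
  intro p
  exact ⟨⟨maxAt ⊥ ⟨p, bot_le⟩, inferInstance⟩, comap_maxAt' ⊥ ⟨p, bot_le⟩⟩

theorem injOn_comap : Set.InjOn (PrimeSpectrum.comap (algebraMap A (R K)))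
    (ProEtW.closedPoints (PrimeSpectrum (R K))) := by
  intro x hx y hy hxy
  rw [closedPoints_eq] at hx hy
  obtain ⟨q, rfl⟩ := hx
  obtain ⟨q', rfl⟩ := hy
  simp only [comap_maxAt'] at hxy
  rw [Subtype.ext hxy]

theorem bijOn_comap : Set.BijOn (PrimeSpectrum.comap (algebraMap A (R (⊥ : Ideal A))))
    (ProEtW.closedPoints (PrimeSpectrum (R (⊥ : Ideal A)))) Set.univ := by
  refine ⟨fun _ _ => Set.mem_univ _, injOn_comap ⊥, ?_⟩
  intro p _
  refine ⟨⟨maxAt ⊥ ⟨p, bot_le⟩, inferInstance⟩, ?_, comap_maxAt' ⊥ ⟨p, bot_le⟩⟩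
  rw [closedPoints_eq]
  exact ⟨_, rfl⟩

end Groth.Agent.H27.Adm
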