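import Groth.Agent.H27.Adm
import Groth.Prelude.Def_ProEtW

/-!
# Primes of the ring of admissible sections; it is w-local
-/

set_option autoImplicit false
universe u

namespace Groth.Agent.H27.Adm

variable {A : Type u} [CommRing A] (K : Ideal A)

theorem mem_Zs_empty {g : A} {p : PrimeSpectrum A} : p ∈ Zs ∅ g ↔ g ∉ p.asIdeal := by
  rw [mem_Zs]
  exact ⟨fun h => h.2, fun h => ⟨fun f hf => absurd hf (Finset.notMem_empty f), h⟩⟩

open Classical in
theorem ev_ind_empty (g : A) (p : Y K) :
    ev K p (ind K ∅ g) = if g ∈ p.1.asIdeal then 0 else 1 := by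
  rw [ev_ind]
  simp only [mem_Zs_empty]
  split_ifs <;> rfl

theorem ind_empty_zero : ind K ∅ (0 : A) = 0 := by
  apply ext_ev
  intro p
  rw [ev_ind_empty, if_pos (Ideal.zero_mem _), map_zero]

theorem ind_empty_one : ind K ∅ (1 : A) = 1 := by
  apply ext_ev
  intro p
  rw [ev_ind_empty, if_neg (fun h => p.1.isPrime.ne_top ((Ideal.eq_top_iff_one _).mpr h)), map_one]

theorem ind_empty_mul (f g : A) : ind K ∅ (f * g) = ind K ∅ f * ind K ∅ g := by
  classical
  apply ext_ev
  intro p
  rw [map_mul, ev_ind_empty, ev_ind_empty, ev_ind_empty]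
  by_cases hf : f ∈ p.1.asIdeal
  · rw [if_pos hf, if_pos (Ideal.mul_mem_right _ _ hf), zero_mul]
  · by_cases hg : g ∈ p.1.asIdeal
    · rw [if_pos hg, if_pos (Ideal.mul_mem_left _ _ hg), mul_zero]
    · rw [if_neg hf, if_neg hg, if_neg, one_mul]
      intro h
      rcases p.1.isPrime.mem_or_mem h with h | h
      · exact hf h
      · exact hg h

theorem ind_empty_add (f g : A) : ind K ∅ (f + g) =
    ind K ∅ (f + g) * (ind K ∅ f + ind K ∅ g - ind K ∅ f * ind K ∅ g) := by
  classical
  apply ext_ev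
  intro p
  rw [map_mul, map_sub, map_add, map_mul, ev_ind_empty, ev_ind_empty, ev_ind_empty]
  by_cases hf : f ∈ p.1.asIdeal
  · by_cases hg : g ∈ p.1.asIdeal
    · rw [if_pos (Ideal.add_mem _ hf hg), zero_mul]
    · rw [if_pos hf, if_neg hg]; ring
  · by_cases hg : g ∈ p.1.asIdeal
    · rw [if_neg hf, if_pos hg]; ring
    · rw [if_neg hf, if_neg hg]; ring

theorem ind_insert (f : A) (s : Finset A) (g : A) [DecidableEq A] :
    ind K (insert f s) g = ind K s g * (1 - ind K ∅ f) := by
  classical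
  apply ext_ev
  intro p
  rw [map_mul, map_sub, map_one, ev_ind_empty]
  by_cases hf : f ∈ p.1.asIdeal
  · rw [if_pos hf, sub_zero, mul_one]
    by_cases hs : p.1 ∈ Zs s g
    · rw [ev_ind_of_mem K _ _ p hs, ev_ind_of_mem K _ _ p]
      refine ⟨fun f' hf' => ?_, hs.2⟩
      rcases Finset.mem_insert.mp hf' with h | h
      · rw [h]; exact hf
      · exact hs.1 f' h
    · rw [ev_ind_of_notMem K _ _ p hs, ev_ind_of_notMem K _ _ p]
      exact fun h => hs ⟨fun f' hf' => h.1 f' (Finset.mem_insert_of_mem hf'), h.2⟩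
  · rw [if_neg hf, sub_self, mul_zero, ev_ind_of_notMem K _ _ p]
    exact fun h => hf (h.1 f (Finset.mem_insert_self f s))

theorem ind_empty_of_mem {f : A} (hf : f ∈ K) : ind K ∅ f = 0 := by
  classical
  apply ext_ev
  intro p
  rw [ev_ind_empty, if_pos (p.2 hf), map_zero]

theorem ind_empty_idem (f : A) : ind K ∅ f * ind K ∅ f = ind K ∅ f := by
  classical
  apply ext_ev
  intro p
  rw [map_mul, ev_ind_empty]
  split_ifs <;> simp

theorem algebraMap_mul_eltR (f : A) : algebraMap A (R K) f * eltR K ∅ f 1 = ind K ∅ f := by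
  classical
  apply ext_ev
  intro p
  rw [map_mul, AlgHom.commutes]
  by_cases hf : p.1 ∈ Zs ∅ f
  · rw [ev_ind_of_mem K _ _ p hf, ev_eltR_of_mem K _ _ _ p hf]
    have := IsLocalization.mk'_spec' (Localization.AtPrime p.1.asIdeal) (1 : A)
      (⟨f, hf.2⟩ : p.1.asIdeal.primeCompl)
    rw [map_one] at this
    exact this
  · rw [ev_ind_of_notMem K _ _ p hf, ev_eltR_of_notMem K _ _ _ p hf, mul_zero]

section Prime

variable (P : Ideal (R K)) [hP : P.IsPrime]

/-- the point of `V(K)` attached to a prime of `R K` -/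
def cIdeal : Ideal A where
  carrier := {f | ind K ∅ f ∈ P}
  zero_mem' := by
    rw [Set.mem_ofPred_eq, ind_empty_zero]
    exact P.zero_mem
  add_mem' := by
    intro f g hf hg
    rw [Set.mem_ofPred_eq] at hf hg ⊢
    rw [ind_empty_add]
    apply P.mul_mem_left
    exact P.sub_mem (P.add_mem hf hg) (P.mul_mem_left _ hg)
  smul_mem' := by
    intro a f hf
    rw [Set.mem_ofPred_eq] at hf ⊢
    rw [smul_eq_mul, ind_empty_mul]
    exact P.mul_mem_left _ hf

omit hP in
theorem mem_cIdeal {f : A} : f ∈ cIdeal K P ↔ ind K ∅ f ∈ P := Iff.rfl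

instance cIdeal_isPrime : (cIdeal K P).IsPrime := by
  refine ⟨?_, ?_⟩
  · rw [Ne, Ideal.eq_top_iff_one, mem_cIdeal, ind_empty_one]
    exact fun h => hP.ne_top ((Ideal.eq_top_iff_one _).mpr h)
  · intro f g hfg
    rw [mem_cIdeal, ind_empty_mul] at hfg
    exact hP.mem_or_mem hfg

theorem le_cIdeal : K ≤ cIdeal K P := by
  intro f hf
  rw [mem_cIdeal, ind_empty_of_mem K hf]
  exact P.zero_mem

/-- the point of `V(K)` attached to a prime of `R K` -/
def cPt : Y K := ⟨⟨cIdeal K P, inferInstance⟩, le_cIdeal K P⟩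

theorem one_sub_ind_notMem {f : A} (hf : f ∈ cIdeal K P) : 1 - ind K ∅ f ∉ P := by
  intro h
  apply hP.ne_top
  rw [Ideal.eq_top_iff_one]
  have := P.add_mem h ((mem_cIdeal K P).mp hf)
  rwa [sub_add_cancel] at this

theorem one_sub_ind_mem {f : A} (hf : f ∉ cIdeal K P) : 1 - ind K ∅ f ∈ P := by
  have h0 : ind K ∅ f * (1 - ind K ∅ f) ∈ P := by
    rw [mul_sub, mul_one, ind_empty_idem, sub_self]
    exact P.zero_mem
  rcases hP.mem_or_mem h0 with h | h
  · exact absurd h hf
  · exact h

theorem ind_notMem_of_mem_Zs {s : Finset A} {g : A} (h : (cPt K P).1 ∈ Zs s g) :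
    ind K s g ∉ P := by
  classical
  obtain ⟨h1, h2⟩ := h
  induction s using Finset.induction_on with
  | empty => exact h2
  | insert f s _ ih =>
    rw [ind_insert]
    intro hmem
    rcases hP.mem_or_mem hmem with hm | hm
    · exact ih (fun f' hf' => h1 f' (Finset.mem_insert_of_mem hf')) hm
    · exact one_sub_ind_notMem K P (h1 f (Finset.mem_insert_self f s)) hm

theorem comap_le_cIdeal : P.comap (algebraMap A (R K)) ≤ cIdeal K P := by
  intro f hf
  rw [Ideal.mem_comap] at hf
  rw [mem_cIdeal, ← algebraMap_mul_eltR]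
  exact P.mul_mem_right _ hf

/-- the description of a prime of `R K` through its point and its contraction -/
theorem mem_iff (x : R K) : x ∈ P ↔ ev K (cPt K P) x ∈
    Ideal.map (algebraMap A (Localization.AtPrime (cPt K P).1.asIdeal))
      (P.comap (algebraMap A (R K))) := by
  obtain ⟨s, g, a, hmem, htr⟩ := exists_triple K x (cPt K P)
  have hind : ind K s g ∉ P := ind_notMem_of_mem_Zs K P hmem
  have hg : g ∉ cIdeal K P := hmem.2
  have hev : algebraMap A (Localization.AtPrime (cPt K P).1.asIdeal) g * ev K (cPt K P) x =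
      algebraMap A (Localization.AtPrime (cPt K P).1.asIdeal) a := by
    have := congrArg (ev K (cPt K P)) htr
    rw [map_mul, map_mul, ev_ind_of_mem K _ _ _ hmem, one_mul, one_mul, map_smul,
      Algebra.smul_def, AlgHom.commutes] at this
    exact this
  have hgP : algebraMap A (R K) g ∉ P := fun h => hg (comap_le_cIdeal K P h)
  constructor
  · intro hx
    have h1 : ind K s g * algebraMap A (R K) a ∈ P := by
      rw [← htr, Algebra.smul_def]
      exact P.mul_mem_left _ (P.mul_mem_left _ hx)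
    have ha : a ∈ P.comap (algebraMap A (R K)) := by
      rcases hP.mem_or_mem h1 with h | h
      · exact absurd h hind
      · exact h
    have hu : IsUnit (algebraMap A (Localization.AtPrime (cPt K P).1.asIdeal) g) :=
      IsLocalization.map_units _ (⟨g, hg⟩ : (cPt K P).1.asIdeal.primeCompl)
    obtain ⟨u, hu⟩ := hu
    have : ev K (cPt K P) x = ↑u⁻¹ * algebraMap A (Localization.AtPrime (cPt K P).1.asIdeal) a := by
      rw [← hev, ← hu, ← mul_assoc, Units.inv_mul, one_mul]
    rw [this]
    exact Ideal.mul_mem_left _ _ (Ideal.mem_map_of_mem _ ha)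
  · intro hx
    have h1 : algebraMap A (Localization.AtPrime (cPt K P).1.asIdeal) a ∈
        Ideal.map (algebraMap A (Localization.AtPrime (cPt K P).1.asIdeal))
          (P.comap (algebraMap A (R K))) := by
      rw [← hev]
      exact Ideal.mul_mem_left _ _ hx
    have hdisj : Disjoint ((cPt K P).1.asIdeal.primeCompl : Set A)
        (P.comap (algebraMap A (R K)) : Set A) := by
      rw [Set.disjoint_left]
      intro y hy hy'
      exact hy (comap_le_cIdeal K P hy')
    have hcomap := IsLocalization.under_map_of_isPrime_disjoint (cPt K P).1.asIdeal.primeCompl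
      (Localization.AtPrime (cPt K P).1.asIdeal) (Ideal.comap_isPrime _ P) hdisj
    have ha : a ∈ P.comap (algebraMap A (R K)) := by
      rw [← hcomap]
      exact h1
    have h2 : ind K s g * (g • x) ∈ P := by
      rw [htr]
      exact P.mul_mem_left _ ha
    rcases hP.mem_or_mem h2 with h | h
    · exact absurd h hind
    · rw [Algebra.smul_def] at h
      rcases hP.mem_or_mem h with h | h
      · exact absurd h hgP
      · exact h

end Prime

/-- the maximal ideal of `R K` at a point of `V(K)` -/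
noncomputable def maxAt (q : Y K) : Ideal (R K) :=
  (IsLocalRing.maximalIdeal (Localization.AtPrime q.1.asIdeal)).comap (ev K q)

instance maxAt_isPrime (q : Y K) : (maxAt K q).IsPrime :=
  Ideal.comap_isPrime _ _

theorem mem_maxAt {q : Y K} {x : R K} :
    x ∈ maxAt K q ↔ ev K q x ∈ IsLocalRing.maximalIdeal (Localization.AtPrime q.1.asIdeal) :=
  Iff.rfl

theorem eq_cPt_of_le (P : Ideal (R K)) [hP : P.IsPrime] (q : Y K) (h : P ≤ maxAt K q) :
    q = cPt K P := by
  apply Subtype.ext
  apply PrimeSpectrum.ext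
  ext f
  change f ∈ q.1.asIdeal ↔ ind K ∅ f ∈ P
  constructor
  · intro hf
    by_contra hn
    have h1 := h (one_sub_ind_mem K P hn)
    rw [mem_maxAt, map_sub, map_one, ev_ind_of_notMem K _ _ q (fun h => h.2 hf), sub_zero] at h1
    exact (Ideal.ne_top_iff_one _).mp (IsLocalRing.maximalIdeal.isMaximal _).ne_top h1
  · intro hf
    by_contra hn
    have h1 := h hf
    rw [mem_maxAt, ev_ind_of_mem K _ _ q (mem_Zs_empty.mpr hn)] at h1
    exact (Ideal.ne_top_iff_one _).mp (IsLocalRing.maximalIdeal.isMaximal _).ne_top h1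

theorem cPt_maxAt (q : Y K) : cPt K (maxAt K q) = q :=
  (eq_cPt_of_le K (maxAt K q) q le_rfl).symm

theorem le_maxAt_cPt (P : Ideal (R K)) [hP : P.IsPrime] : P ≤ maxAt K (cPt K P) := by
  intro x hx
  rw [mem_maxAt, ← Localization.AtPrime.map_eq_maximalIdeal]
  exact Ideal.map_mono (comap_le_cIdeal K P) ((mem_iff K P x).mp hx)

theorem comap_maxAt (q : Y K) : (maxAt K q).comap (algebraMap A (R K)) = q.1.asIdeal := by
  ext f
  rw [Ideal.mem_comap, mem_maxAt, AlgHom.commutes]
  exact IsLocalization.AtPrime.to_map_mem_maximal_iff _ q.1.asIdeal f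

theorem maxAt_isMaximal (q : Y K) : (maxAt K q).IsMaximal := by
  obtain ⟨M, hM, hle⟩ := Ideal.exists_le_maximal (maxAt K q) (maxAt_isPrime K q).ne_top
  haveI := hM.isPrime
  have h1 : maxAt K q ≤ maxAt K (cPt K M) := hle.trans (le_maxAt_cPt K M)
  have h2 : cPt K M = q := by
    rw [eq_cPt_of_le K (maxAt K q) (cPt K M) h1, cPt_maxAt]
  have h3 : M ≤ maxAt K q := by
    have := le_maxAt_cPt K M
    rwa [h2] at this
  rw [le_antisymm hle h3]
  exact hM

theorem eq_maxAt_of_isMaximal (P : Ideal (R K)) [hP : P.IsMaximal] :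
    P = maxAt K (cPt K P) := by
  haveI := hP.isPrime
  exact hP.eq_of_le (maxAt_isPrime K _).ne_top (le_maxAt_cPt K P)

/-- the ideal cutting out the closed points -/
noncomputable def J : Ideal (R K) := ⨅ q : Y K, maxAt K q

theorem smul_one_sub_ind_mem_J (f : A) : algebraMap A (R K) f * (1 - ind K ∅ f) ∈ J K := by
  classical
  rw [J, Ideal.mem_iInf]
  intro q
  rw [mem_maxAt, map_mul, map_sub, map_one, AlgHom.commutes, ev_ind_empty]
  by_cases hf : f ∈ q.1.asIdeal
  · rw [if_pos hf, sub_zero, mul_one]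
    exact (IsLocalization.AtPrime.to_map_mem_maximal_iff _ q.1.asIdeal f).mpr hf
  · rw [if_neg hf, sub_self, mul_zero]
    exact Ideal.zero_mem _

theorem eq_maxAt_of_J_le (P : Ideal (R K)) [hP : P.IsPrime] (h : J K ≤ P) :
    P = maxAt K (cPt K P) := by
  have hc : P.comap (algebraMap A (R K)) = cIdeal K P := by
    apply le_antisymm (comap_le_cIdeal K P)
    intro f hf
    rw [Ideal.mem_comap]
    have h1 := h (smul_one_sub_ind_mem_J K f)
    rcases hP.mem_or_mem h1 with h2 | h2
    · exact h2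
    · exact absurd h2 (one_sub_ind_notMem K P hf)
  ext x
  rw [mem_iff K P x, hc, mem_maxAt, ← Localization.AtPrime.map_eq_maximalIdeal]
  rfl

theorem isClosed_singleton_iff (x : PrimeSpectrum (R K)) :
    IsClosed ({x} : Set (PrimeSpectrum (R K))) ↔ J K ≤ x.asIdeal := by
  rw [PrimeSpectrum.isClosed_singleton_iff_isMaximal]
  constructor
  · intro h
    rw [eq_maxAt_of_isMaximal K x.asIdeal]
    exact iInf_le _ _
  · intro h
    rw [eq_maxAt_of_J_le K x.asIdeal h]
    exact maxAt_isMaximal K _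

/-- the spectrum of the ring of admissible sections is w-local -/
theorem isWLocal : ProEtW.IsWLocal (PrimeSpectrum (R K)) := by
  refine ⟨inferInstance, ?_, ?_⟩
  · have : {x : PrimeSpectrum (R K) | IsClosed ({x} : Set (PrimeSpectrum (R K)))} =
        PrimeSpectrum.zeroLocus (J K : Set (R K)) := by
      ext x
      rw [Set.mem_ofPred_eq, isClosed_singleton_iff, PrimeSpectrum.mem_zeroLocus]
      rfl
    rw [this]
    exact PrimeSpectrum.isClosed_zeroLocus _
  · intro x
    refine ⟨⟨maxAt K (cPt K x.asIdeal), inferInstance⟩, ⟨?_, ?_⟩, ?_⟩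
    · rw [PrimeSpectrum.isClosed_singleton_iff_isMaximal]
      exact maxAt_isMaximal K _
    · rw [← PrimeSpectrum.le_iff_specializes]
      exact le_maxAt_cPt K x.asIdeal
    · rintro y ⟨hy1, hy2⟩
      rw [PrimeSpectrum.isClosed_singleton_iff_isMaximal] at hy1
      rw [← PrimeSpectrum.le_iff_specializes] at hy2
      have h1 : y.asIdeal = maxAt K (cPt K y.asIdeal) := eq_maxAt_of_isMaximal K y.asIdeal
      have h2 : x.asIdeal ≤ maxAt K (cPt K y.asIdeal) := by
        rw [← h1]; exact hy2
      have h3 := eq_cPt_of_le K x.asIdeal _ h2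
      apply PrimeSpectrum.ext
      rw [h1, h3]

theorem closedPoints_eq :
    ProEtW.closedPoints (PrimeSpectrum (R K)) =
      Set.range (fun q : Y K => (⟨maxAt K q, inferInstance⟩ : PrimeSpectrum (R K))) := by
  ext x
  change IsClosed ({x} : Set (PrimeSpectrum (R K))) ↔ _
  rw [PrimeSpectrum.isClosed_singleton_iff_isMaximal]
  constructor
  · intro h
    exact ⟨cPt K x.asIdeal, PrimeSpectrum.ext (eq_maxAt_of_isMaximal K x.asIdeal).symm⟩
  · rintro ⟨q, rfl⟩
    exact maxAt_isMaximal K q

end Groth.Agent.H27.Adm
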