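import Groth.Agent.H27.AdmGen
import Groth.Agent.H27.AdmLocal

/-!
# The ring of admissible sections along a closed subset all of whose points are closed
-/

set_option autoImplicit false
universe u

namespace Groth.Agent.H27.Adm

/-- in a ring all of whose primes are maximal, every element is strongly π-regular -/
theorem exists_pow_eq {S : Type*} [CommRing S] (h : ∀ P : Ideal S, P.IsPrime → P.IsMaximal)
    (f : S) : ∃ (n : ℕ) (c : S), f ^ n * (1 - f * c) = 0 := by
  let M : Submonoid S :=
    { carrier := {x | ∃ (n : ℕ) (c : S), x = f ^ n * (1 - f * c)}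
      one_mem' := ⟨0, 0, by simp⟩
      mul_mem' := by
        rintro x y ⟨n, c, rfl⟩ ⟨m, d, rfl⟩
        exact ⟨n + m, c + d - f * c * d, by ring⟩ }
  by_cases h0 : (0 : S) ∈ M
  · obtain ⟨n, c, hnc⟩ := h0
    exact ⟨n, c, hnc.symm⟩
  · exfalso
    have hdisj : Disjoint ((⊥ : Ideal S) : Set S) (M : Set S) := by
      rw [Set.disjoint_left]
      intro x hx hxM
      rw [SetLike.mem_coe, Ideal.mem_bot] at hx
      rw [hx] at hxM
      exact h0 hxM
    obtain ⟨P, hP, -, hPM⟩ := Ideal.exists_le_prime_disjoint ⊥ M hdisj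
    rw [Set.disjoint_left] at hPM
    by_cases hf : f ∈ P
    · exact hPM hf ⟨1, 0, by simp⟩
    · obtain ⟨c, i, hi, hci⟩ := (h P hP).exists_inv hf
      have : 1 - f * c ∈ P := by
        have : 1 - f * c = i := by rw [← hci]; ring
        rw [this]; exact hi
      exact hPM this ⟨0, c, by simp⟩

variable {A : Type u} [CommRing A] (I : Ideal A)

theorem exists_pow_mul_mem (hmax : ∀ p : PrimeSpectrum A, I ≤ p.asIdeal → p.asIdeal.IsMaximal)
    (f : A) : ∃ (n : ℕ) (c : A), f ^ n * (1 - f * c) ∈ I := by
  have h : ∀ P : Ideal (A ⧸ I), P.IsPrime → P.IsMaximal := by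
    intro P hP
    have h1 : (P.comap (Ideal.Quotient.mk I)).IsMaximal := by
      apply hmax ⟨P.comap (Ideal.Quotient.mk I), Ideal.comap_isPrime _ _⟩
      intro x hx
      rw [Ideal.mem_comap, Ideal.Quotient.eq_zero_iff_mem.mpr hx]
      exact P.zero_mem
    have h2 := Ideal.map_eq_top_or_isMaximal_of_surjective (Ideal.Quotient.mk I)
      Ideal.Quotient.mk_surjective h1
    rw [Ideal.map_comap_of_surjective _ Ideal.Quotient.mk_surjective] at h2
    rcases h2 with h2 | h2
    · exact absurd h2 hP.ne_top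
    · exact h2
  obtain ⟨n, c, hnc⟩ := exists_pow_eq h (Ideal.Quotient.mk I f)
  obtain ⟨c, rfl⟩ := Ideal.Quotient.mk_surjective c
  refine ⟨n, c, ?_⟩
  rw [← Ideal.Quotient.eq_zero_iff_mem]
  simpa using hnc

theorem isMaximal_of_t1 (hI : T1Space (PrimeSpectrum.zeroLocus (R := A) I))
    (p : PrimeSpectrum A) (hp : I ≤ p.asIdeal) : p.asIdeal.IsMaximal := by
  obtain ⟨m, hm, hle⟩ := Ideal.exists_le_maximal p.asIdeal p.isPrime.ne_top
  let x : PrimeSpectrum.zeroLocus (R := A) I := ⟨p, hp⟩
  let y : PrimeSpectrum.zeroLocus (R := A) I := ⟨⟨m, hm.isPrime⟩, hp.trans hle⟩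
  have hxy : x ⤳ y := by
    rw [subtype_specializes_iff, ← PrimeSpectrum.le_iff_specializes]
    exact hle
  have := hxy.eq
  have h2 : p.asIdeal = m := congrArg (fun z : PrimeSpectrum.zeroLocus (R := A) I => z.1.asIdeal) this
  rw [h2]
  exact hm

variable (hmax : ∀ p : PrimeSpectrum A, I ≤ p.asIdeal → p.asIdeal.IsMaximal)

include hmax in
theorem closedPoints_eq_zeroLocus :
    ProEtW.closedPoints (PrimeSpectrum (R I)) =
      PrimeSpectrum.zeroLocus (I.map (algebraMap A (R I))) := by
  ext x
  change IsClosed ({x} : Set (PrimeSpectrum (R I))) ↔ _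
  rw [PrimeSpectrum.isClosed_singleton_iff_isMaximal, PrimeSpectrum.mem_zeroLocus,
    SetLike.coe_subset_coe]
  constructor
  · intro h
    rw [eq_maxAt_of_isMaximal I x.asIdeal, Ideal.map_le_iff_le_comap, comap_maxAt]
    exact (cPt I x.asIdeal).2
  · intro h
    rw [Ideal.map_le_iff_le_comap] at h
    have hm := hmax ⟨x.asIdeal.comap (algebraMap A (R I)), Ideal.comap_isPrime _ _⟩ h
    have hc : x.asIdeal.comap (algebraMap A (R I)) = cIdeal I x.asIdeal :=
      hm.eq_of_le (cIdeal_isPrime I x.asIdeal).ne_top (comap_le_cIdeal I x.asIdeal)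
    have : x.asIdeal = maxAt I (cPt I x.asIdeal) := by
      ext z
      rw [mem_iff I x.asIdeal z, hc, mem_maxAt, ← Localization.AtPrime.map_eq_maximalIdeal]
      rfl
    rw [this]
    exact maxAt_isMaximal I _

theorem comap_map_le : (I.map (algebraMap A (R I))).comap (algebraMap A (R I)) ≤ I := by
  intro a ha
  rw [Ideal.mem_comap] at ha
  by_contra hna
  -- the ideal `(I : a)` is proper, hence inside a maximal ideal containing `I`
  let 𝔟 : Ideal A := I.colon ({a} : Set A)
  have hcolon : ∀ w : A, w ∈ 𝔟 ↔ w * a ∈ I := fun w => Submodule.mem_colon_singleton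
  have h𝔟 : 𝔟 ≠ ⊤ := by
    intro h
    have h1 : (1 : A) ∈ 𝔟 := by rw [h]; trivial
    rw [hcolon] at h1
    exact hna (by simpa using h1)
  obtain ⟨m, hm, hle⟩ := Ideal.exists_le_maximal 𝔟 h𝔟
  have hIm : I ≤ m := by
    refine le_trans ?_ hle
    intro i hi
    rw [hcolon]
    exact I.mul_mem_right _ hi
  let q : Y I := ⟨⟨m, hm.isPrime⟩, hIm⟩
  have h1 := ev_mem_map_of_mem I I ha q
  rw [AlgHom.commutes, IsLocalization.algebraMap_mem_map_algebraMap_iff q.1.asIdeal.primeCompl] at h1
  obtain ⟨w, hw, hwa⟩ := h1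
  apply hw
  apply hle
  rw [hcolon]
  exact hwa

include hmax in
theorem exists_sub_mem (x : R I) : ∃ a : A, x - algebraMap A (R I) a ∈ I.map (algebraMap A (R I)) := by
  let S : Subalgebra A (R I) :=
    { carrier := {x | ∃ a : A, x - algebraMap A (R I) a ∈ I.map (algebraMap A (R I))}
      mul_mem' := by
        rintro x y ⟨a, ha⟩ ⟨b, hb⟩
        refine ⟨a * b, ?_⟩
        have : x * y - algebraMap A (R I) (a * b) =
            (x - algebraMap A (R I) a) * y + algebraMap A (R I) a * (y - algebraMap A (R I) b) := by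
          rw [map_mul]; ring
        rw [this]
        exact Ideal.add_mem _ (Ideal.mul_mem_right _ _ ha) (Ideal.mul_mem_left _ _ hb)
      add_mem' := by
        rintro x y ⟨a, ha⟩ ⟨b, hb⟩
        refine ⟨a + b, ?_⟩
        have : x + y - algebraMap A (R I) (a + b) =
            (x - algebraMap A (R I) a) + (y - algebraMap A (R I) b) := by
          rw [map_add]; ring
        rw [this]
        exact Ideal.add_mem _ ha hb
      algebraMap_mem' := fun r => ⟨r, by rw [sub_self]; exact Ideal.zero_mem _⟩ }
  have hS : S = ⊤ := by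
    apply subalgebra_eq_top
    · intro f
      obtain ⟨n, c, hnc⟩ := exists_pow_mul_mem I hmax f
      refine ⟨(f * c) ^ n, ?_⟩
      apply mem_map_of_forall_ev
      intro q
      rw [map_sub, AlgHom.commutes]
      obtain ⟨k, hk⟩ := sub_dvd_pow_sub_pow (1 : A) (f * c) n
      rw [one_pow] at hk
      by_cases hf : f ∈ q.1.asIdeal
      · rw [ev_ind_of_notMem I _ _ q (fun h => h.2 hf), zero_sub]
        apply Ideal.neg_mem_iff _ |>.mpr
        rw [IsLocalization.algebraMap_mem_map_algebraMap_iff q.1.asIdeal.primeCompl]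
        refine ⟨1 - f * c, ?_, ?_⟩
        · intro h1
          apply q.1.isPrime.ne_top
          rw [Ideal.eq_top_iff_one]
          have := Ideal.add_mem _ h1 (Ideal.mul_mem_right c _ hf)
          rwa [sub_add_cancel] at this
        · have : (1 - f * c) * (f * c) ^ n = c ^ n * (f ^ n * (1 - f * c)) := by ring
          rw [this]
          exact I.mul_mem_left _ hnc
      · rw [ev_ind_of_mem I _ _ q (mem_Zs_empty.mpr hf), ← map_one (algebraMap A _), ← map_sub,
          hk, IsLocalization.algebraMap_mem_map_algebraMap_iff q.1.asIdeal.primeCompl]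
        refine ⟨f ^ n, ?_, ?_⟩
        · exact fun h => hf (q.1.isPrime.mem_of_pow_mem _ h)
        · rw [← mul_assoc]
          exact I.mul_mem_right _ hnc
    · intro g
      obtain ⟨n, c, hnc⟩ := exists_pow_mul_mem I hmax g
      refine ⟨c ^ (n + 1) * g ^ n, ?_⟩
      apply mem_map_of_forall_ev
      intro q
      rw [map_sub, AlgHom.commutes]
      obtain ⟨k, hk⟩ := sub_dvd_pow_sub_pow (1 : A) (g * c) (n + 1)
      rw [one_pow] at hk
      by_cases hg : g ∈ q.1.asIdeal
      · rw [ev_eltR_of_notMem I _ _ _ q (fun h => h.2 hg), zero_sub]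
        apply Ideal.neg_mem_iff _ |>.mpr
        rw [IsLocalization.algebraMap_mem_map_algebraMap_iff q.1.asIdeal.primeCompl]
        refine ⟨1 - g * c, ?_, ?_⟩
        · intro h1
          apply q.1.isPrime.ne_top
          rw [Ideal.eq_top_iff_one]
          have := Ideal.add_mem _ h1 (Ideal.mul_mem_right c _ hg)
          rwa [sub_add_cancel] at this
        · have : (1 - g * c) * (c ^ (n + 1) * g ^ n) = c ^ (n + 1) * (g ^ n * (1 - g * c)) := by
            ring
          rw [this]
          exact I.mul_mem_left _ hnc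
      · have hgq : q.1 ∈ Zs ∅ g := mem_Zs_empty.mpr hg
        have hu : IsUnit (algebraMap A (Localization.AtPrime q.1.asIdeal) g) :=
          IsLocalization.map_units _ (⟨g, hg⟩ : q.1.asIdeal.primeCompl)
        obtain ⟨u, hu⟩ := hu
        have h1 : ev I q (eltR I ∅ g 1) - algebraMap A (Localization.AtPrime q.1.asIdeal)
            (c ^ (n + 1) * g ^ n) = ↑u⁻¹ * algebraMap A (Localization.AtPrime q.1.asIdeal)
              (1 - (g * c) ^ (n + 1)) := by
          have e1 : algebraMap A (Localization.AtPrime q.1.asIdeal) g * ev I q (eltR I ∅ g 1) =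
              algebraMap A (Localization.AtPrime q.1.asIdeal) 1 := smul_elt_of_mem I ∅ g 1 q hgq
          rw [Units.eq_inv_mul_iff_mul_eq, hu, mul_sub, e1, ← map_mul, ← map_sub]
          congr 1
          ring
        rw [h1]
        apply Ideal.mul_mem_left
        rw [hk, IsLocalization.algebraMap_mem_map_algebraMap_iff q.1.asIdeal.primeCompl]
        refine ⟨g ^ n, ?_, ?_⟩
        · exact fun h => hg (q.1.isPrime.mem_of_pow_mem _ h)
        · rw [← mul_assoc]
          exact I.mul_mem_right _ hnc
  have : x ∈ S := by rw [hS]; trivial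
  exact this

include hmax in
theorem quotientMap_bijective :
    Function.Bijective (Ideal.quotientMap (I.map (algebraMap A (R I))) (algebraMap A (R I))
      Ideal.le_comap_map) := by
  constructor
  · exact Ideal.quotientMap_injective' (comap_map_le I)
  · intro z
    obtain ⟨x, rfl⟩ := Ideal.Quotient.mk_surjective z
    obtain ⟨a, ha⟩ := exists_sub_mem I hmax x
    refine ⟨Ideal.Quotient.mk I a, ?_⟩
    rw [Ideal.quotientMap_mk]
    exact ((Ideal.Quotient.eq).mpr ha).symm

end Groth.Agent.H27.Adm
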