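import Groth.Agent.H27.AdmIdem
import Groth.Agent.H27.AdmGen
import Groth.Agent.H27.AdmAlgRes
import Mathlib.RingTheory.Spectrum.Maximal.Localization

/-!
# The universal property of the w-localization
-/

set_option autoImplicit false
universe u

namespace Groth.Agent.H27.Adm

variable {A : Type u} [CommRing A] (B : Type u) [CommRing B] [Algebra A B]

/-- the point of `Spec A` under a maximal ideal of `B` -/
def ptOf (m : MaximalSpectrum B) : Y (⊥ : Ideal A) :=
  ⟨⟨m.asIdeal.comap (algebraMap A B), inferInstance⟩, bot_le⟩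

/-- the map on local rings -/
noncomputable def lam (m : MaximalSpectrum B) :
    Localization.AtPrime (ptOf (A := A) B m).1.asIdeal →+* Localization.AtPrime m.asIdeal :=
  Localization.localRingHom (ptOf (A := A) B m).1.asIdeal m.asIdeal (algebraMap A B) rfl

instance (m : MaximalSpectrum B) : IsLocalHom (lam (A := A) B m) :=
  Localization.isLocalHom_localRingHom _ _ _ _

/-- the map to the product of the local rings of `B` at its maximal ideals -/
noncomputable def Psi : R (⊥ : Ideal A) →+* MaximalSpectrum.PiLocalization B :=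
  RingHom.pi (fun m => (lam (A := A) B m).comp (ev ⊥ (ptOf (A := A) B m)).toRingHom)

theorem Psi_apply (x : R (⊥ : Ideal A)) (m : MaximalSpectrum B) :
    Psi B x m = lam (A := A) B m (ev ⊥ (ptOf (A := A) B m) x) := rfl

theorem Psi_algebraMap (a : A) (m : MaximalSpectrum B) :
    Psi B (algebraMap A (R (⊥ : Ideal A)) a) m =
      algebraMap B (Localization.AtPrime m.asIdeal) (algebraMap A B a) := by
  rw [Psi_apply, AlgHom.commutes]
  exact Localization.localRingHom_to_map _ _ _ _ a

theorem mem_ptOf {m : MaximalSpectrum B} {f : A} :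
    f ∈ (ptOf (A := A) B m).1.asIdeal ↔ algebraMap A B f ∈ m.asIdeal := Iff.rfl

variable {B}

theorem Psi_mem_range (hB : ProEtW.IsWLocal (PrimeSpectrum B)) (x : R (⊥ : Ideal A)) :
    Psi B x ∈ (MaximalSpectrum.toPiLocalization B).toRingHom.range := by
  let S : Subalgebra A (R (⊥ : Ideal A)) :=
    { carrier := {x | Psi B x ∈ (MaximalSpectrum.toPiLocalization B).toRingHom.range}
      mul_mem' := by
        intro x y hx hy
        change Psi B (x * y) ∈ (MaximalSpectrum.toPiLocalization B).toRingHom.range
        rw [map_mul]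
        exact Subring.mul_mem _ hx hy
      add_mem' := by
        intro x y hx hy
        change Psi B (x + y) ∈ (MaximalSpectrum.toPiLocalization B).toRingHom.range
        rw [map_add]
        exact Subring.add_mem _ hx hy
      algebraMap_mem' := by
        intro a
        refine ⟨algebraMap A B a, ?_⟩
        funext m
        rw [Psi_algebraMap]
        rfl }
  have hS : S = ⊤ := by
    apply subalgebra_eq_top
    · intro f
      obtain ⟨e, he, hem, -⟩ := exists_idem hB (algebraMap A B f)
      refine ⟨e, ?_⟩
      funext m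
      change algebraMap B (Localization.AtPrime m.asIdeal) e = _
      rw [Psi_apply]
      by_cases hf : algebraMap A B f ∈ m.asIdeal
      · rw [ev_ind_of_notMem ⊥ _ _ _ (fun h => h.2 ((mem_ptOf B).mpr hf)), map_zero]
        exact algebraMap_idem_eq_zero he m.asIdeal ((hem m.asIdeal m.isMaximal).mpr hf)
      · rw [ev_ind_of_mem ⊥ _ _ _ (mem_Zs_empty.mpr (fun h => hf ((mem_ptOf B).mp h))), map_one]
        exact algebraMap_idem_eq_one he m.asIdeal (fun h => hf ((hem m.asIdeal m.isMaximal).mp h))
    · intro g
      obtain ⟨e, he, hem, b', hb', hb'e⟩ := exists_idem hB (algebraMap A B g)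
      refine ⟨b', ?_⟩
      funext m
      change algebraMap B (Localization.AtPrime m.asIdeal) b' = _
      rw [Psi_apply]
      by_cases hg : algebraMap A B g ∈ m.asIdeal
      · rw [ev_eltR_of_notMem ⊥ _ _ _ _ (fun h => h.2 ((mem_ptOf B).mpr hg)), map_zero, ← hb'e,
          map_mul, algebraMap_idem_eq_zero he m.asIdeal ((hem m.asIdeal m.isMaximal).mpr hg),
          mul_zero]
      · have hgp : (ptOf (A := A) B m).1 ∈ Zs ∅ g :=
          mem_Zs_empty.mpr (fun h => hg ((mem_ptOf B).mp h))
        have h1 : algebraMap A (Localization.AtPrime (ptOf (A := A) B m).1.asIdeal) g *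
            ev ⊥ (ptOf (A := A) B m) (eltR ⊥ ∅ g 1) =
              algebraMap A (Localization.AtPrime (ptOf (A := A) B m).1.asIdeal) 1 :=
          smul_elt_of_mem ⊥ ∅ g 1 _ hgp
        have h2 := congrArg (lam (A := A) B m) h1
        rw [map_mul, map_one, map_one] at h2
        have h3 : lam (A := A) B m
            (algebraMap A (Localization.AtPrime (ptOf (A := A) B m).1.asIdeal) g) =
              algebraMap B (Localization.AtPrime m.asIdeal) (algebraMap A B g) :=
          Localization.localRingHom_to_map _ _ _ _ g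
        rw [h3] at h2
        have h4 : algebraMap B (Localization.AtPrime m.asIdeal) (algebraMap A B g) *
            algebraMap B (Localization.AtPrime m.asIdeal) b' = 1 := by
          rw [← map_mul, hb',
            algebraMap_idem_eq_one he m.asIdeal (fun h => hg ((hem m.asIdeal m.isMaximal).mp h))]
        have hu : IsUnit (algebraMap B (Localization.AtPrime m.asIdeal) (algebraMap A B g)) :=
          IsLocalization.map_units _ (⟨algebraMap A B g, hg⟩ : m.asIdeal.primeCompl)
        exact hu.mul_left_cancel (h4.trans h2.symm)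
  have : x ∈ S := by rw [hS]; trivial
  exact this

/-- the ring isomorphism of `B` with its image in the product of its local rings -/
noncomputable def rangeEquiv (B : Type u) [CommRing B] :
    B ≃+* (MaximalSpectrum.toPiLocalization B).toRingHom.range :=
  RingEquiv.ofBijective (MaximalSpectrum.toPiLocalization B).toRingHom.rangeRestrict
    ⟨fun _ _ h => MaximalSpectrum.toPiLocalization_injective B (congrArg Subtype.val h),
      RingHom.rangeRestrict_surjective _⟩

/-- the canonical map from the w-localization to a ring with w-local spectrum -/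
noncomputable def phiRing (hB : ProEtW.IsWLocal (PrimeSpectrum B)) : R (⊥ : Ideal A) →+* B :=
  (rangeEquiv B).symm.toRingHom.comp ((Psi B).codRestrict _ (Psi_mem_range hB))

theorem toPi_phiRing (hB : ProEtW.IsWLocal (PrimeSpectrum B)) (x : R (⊥ : Ideal A)) :
    MaximalSpectrum.toPiLocalization B (phiRing hB x) = Psi B x := by
  have h1 : rangeEquiv B (phiRing hB x) = (Psi B).codRestrict _ (Psi_mem_range hB) x :=
    (rangeEquiv B).apply_symm_apply _
  exact congrArg Subtype.val h1

theorem algebraMap_phiRing (hB : ProEtW.IsWLocal (PrimeSpectrum B)) (x : R (⊥ : Ideal A))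
    (m : MaximalSpectrum B) :
    algebraMap B (Localization.AtPrime m.asIdeal) (phiRing hB x) =
      lam (A := A) B m (ev ⊥ (ptOf (A := A) B m) x) :=
  congrFun (toPi_phiRing hB x) m

/-- the canonical map as an algebra hom -/
noncomputable def phi (hB : ProEtW.IsWLocal (PrimeSpectrum B)) : R (⊥ : Ideal A) →ₐ[A] B where
  __ := phiRing hB
  commutes' := by
    intro a
    apply MaximalSpectrum.toPiLocalization_injective B
    change MaximalSpectrum.toPiLocalization B (phiRing hB _) = _
    rw [toPi_phiRing]
    funext m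
    rw [Psi_algebraMap]
    rfl

theorem phi_apply (hB : ProEtW.IsWLocal (PrimeSpectrum B)) (x : R (⊥ : Ideal A)) :
    phi hB x = phiRing hB x := rfl

theorem comap_phi (hB : ProEtW.IsWLocal (PrimeSpectrum B)) (m : MaximalSpectrum B) :
    m.asIdeal.comap (phi (A := A) hB).toRingHom = maxAt ⊥ (ptOf (A := A) B m) := by
  ext x
  rw [Ideal.mem_comap, mem_maxAt]
  change phiRing hB x ∈ m.asIdeal ↔ _
  rw [← IsLocalization.AtPrime.to_map_mem_maximal_iff (Localization.AtPrime m.asIdeal) m.asIdeal,
    algebraMap_phiRing]
  have hloc : IsLocalHom (lam (A := A) B m) := inferInstance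
  have := ((IsLocalRing.local_hom_TFAE (lam (A := A) B m)).out 0 4).mp hloc
  rw [← this, Ideal.mem_comap]

theorem isWLocalMap_phi (hB : ProEtW.IsWLocal (PrimeSpectrum B)) :
    ProEtW.IsWLocalMap (PrimeSpectrum.comap (phi (A := A) hB).toRingHom) := by
  refine ⟨isSpectralMap_comap' _, ?_⟩
  intro x hx
  rw [PrimeSpectrum.isClosed_singleton_iff_isMaximal] at hx ⊢
  change (x.asIdeal.comap (phi (A := A) hB).toRingHom).IsMaximal
  rw [comap_phi hB ⟨x.asIdeal, hx⟩]
  exact maxAt_isMaximal ⊥ _

/-- uniqueness of w-local algebra maps out of the w-localization -/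
theorem eq_phi (hB : ProEtW.IsWLocal (PrimeSpectrum B)) (φ' : R (⊥ : Ideal A) →ₐ[A] B)
    (hφ' : ProEtW.IsWLocalMap (PrimeSpectrum.comap φ'.toRingHom)) : φ' = phi hB := by
  ext x
  apply MaximalSpectrum.toPiLocalization_injective B
  funext m
  change algebraMap B (Localization.AtPrime m.asIdeal) (φ' x) =
    algebraMap B (Localization.AtPrime m.asIdeal) (phiRing hB x)
  rw [algebraMap_phiRing]
  -- the preimage of `m` under `φ'`
  let xm : PrimeSpectrum B := ⟨m.asIdeal, m.isMaximal.isPrime⟩
  have hxm : IsClosed ({xm} : Set (PrimeSpectrum B)) :=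
    (PrimeSpectrum.isClosed_singleton_iff_isMaximal xm).mpr m.isMaximal
  have hcl := hφ'.2 xm hxm
  rw [PrimeSpectrum.isClosed_singleton_iff_isMaximal] at hcl
  change (m.asIdeal.comap φ'.toRingHom).IsMaximal at hcl
  set P := m.asIdeal.comap φ'.toRingHom with hP
  have hPeq : P = maxAt ⊥ (cPt ⊥ P) := by
    haveI := hcl
    exact eq_maxAt_of_isMaximal ⊥ P
  have hq : cPt ⊥ P = ptOf (A := A) B m := by
    apply Subtype.ext
    apply PrimeSpectrum.ext
    have h1 := comap_maxAt ⊥ (cPt ⊥ P)
    rw [← hPeq] at h1
    rw [← h1, hP, Ideal.comap_comap]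
    have : φ'.toRingHom.comp (algebraMap A (R (⊥ : Ideal A))) = algebraMap A B := by
      ext a
      exact φ'.commutes a
    rw [this]
    rfl
  obtain ⟨s, g, a, hmem, htr⟩ := exists_triple ⊥ x (ptOf (A := A) B m)
  have hind : ind ⊥ s g ∉ P := by
    rw [hPeq, hq, mem_maxAt, ev_ind_of_mem ⊥ _ _ _ hmem]
    exact fun h => (Ideal.ne_top_iff_one _).mp (IsLocalRing.maximalIdeal.isMaximal _).ne_top h
  have hg : algebraMap A B g ∉ m.asIdeal := fun h => hmem.2 ((mem_ptOf B).mpr h)
  -- both sides are `a / g`
  have hu : IsUnit (algebraMap B (Localization.AtPrime m.asIdeal) (algebraMap A B g)) :=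
    IsLocalization.map_units _ (⟨algebraMap A B g, hg⟩ : m.asIdeal.primeCompl)
  apply hu.mul_left_cancel
  have e1 : algebraMap B (Localization.AtPrime m.asIdeal) (algebraMap A B g) *
      algebraMap B (Localization.AtPrime m.asIdeal) (φ' x) =
        algebraMap B (Localization.AtPrime m.asIdeal) (algebraMap A B a) := by
    have h1 := congrArg φ' htr
    rw [map_mul, map_mul, map_smul, AlgHom.commutes, Algebra.smul_def] at h1
    have h2 := congrArg (algebraMap B (Localization.AtPrime m.asIdeal)) h1
    rw [map_mul, map_mul, map_mul] at h2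
    have hu' : IsUnit (algebraMap B (Localization.AtPrime m.asIdeal) (φ' (ind ⊥ s g))) :=
      IsLocalization.map_units _ (⟨φ' (ind ⊥ s g), hind⟩ : m.asIdeal.primeCompl)
    exact hu'.mul_left_cancel h2
  have e2 : algebraMap B (Localization.AtPrime m.asIdeal) (algebraMap A B g) *
      lam (A := A) B m (ev ⊥ (ptOf (A := A) B m) x) =
        algebraMap B (Localization.AtPrime m.asIdeal) (algebraMap A B a) := by
    have h1 := congrArg (ev ⊥ (ptOf (A := A) B m)) htr
    rw [map_mul, map_mul, ev_ind_of_mem ⊥ _ _ _ hmem, one_mul, one_mul, map_smul,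
      Algebra.smul_def, AlgHom.commutes] at h1
    have h2 := congrArg (lam (A := A) B m) h1
    rw [map_mul] at h2
    have h3 : ∀ r : A, lam (A := A) B m
        (algebraMap A (Localization.AtPrime (ptOf (A := A) B m).1.asIdeal) r) =
          algebraMap B (Localization.AtPrime m.asIdeal) (algebraMap A B r) :=
      fun r => Localization.localRingHom_to_map _ _ _ _ r
    rw [h3, h3] at h2
    exact h2
  rw [e1, e2]

end Groth.Agent.H27.Adm
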