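import Groth.Prelude.Def_ProEtW
import Mathlib.RingTheory.Algebraic.Integral
import Mathlib.RingTheory.Ideal.Quotient.Operations

/-!
# Algebraic residue field extensions are stable under "base change"
-/

set_option autoImplicit false
universe u

open Polynomial

namespace Groth.Agent.H27.AlgResBC

variable {A B C B' : Type u} [CommRing A] [CommRing B] [CommRing C] [CommRing B']
  [Algebra A B] [Algebra A C] [Algebra B B'] [Algebra C B'] [Algebra A B']
  [IsScalarTower A B B'] [IsScalarTower A C B']

theorem isAlgebraic_gen (h : ProEtW.AlgebraicResidueExtensions A B) (Q : Ideal B') [Q.IsPrime]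
    (b : B) :
    IsAlgebraic (C ⧸ Q.comap (algebraMap C B')) (Ideal.Quotient.mk Q (algebraMap B B' b)) := by
  have hcomm : ∀ a : A, algebraMap C B' (algebraMap A C a) = algebraMap B B' (algebraMap A B a) := by
    intro a
    rw [← IsScalarTower.algebraMap_apply, ← IsScalarTower.algebraMap_apply]
  have hle : (Q.comap (algebraMap B B')).comap (algebraMap A B) ≤
      (Q.comap (algebraMap C B')).comap (algebraMap A C) := by
    intro a ha
    rw [Ideal.mem_comap, Ideal.mem_comap] at ha ⊢
    rwa [hcomm]
  have hge : (Q.comap (algebraMap C B')).comap (algebraMap A C) ≤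
      (Q.comap (algebraMap B B')).comap (algebraMap A B) := by
    intro a ha
    rw [Ideal.mem_comap, Ideal.mem_comap] at ha ⊢
    rwa [← hcomm]
  let φ : A ⧸ (Q.comap (algebraMap B B')).comap (algebraMap A B) →+*
      C ⧸ Q.comap (algebraMap C B') :=
    Ideal.quotientMap _ (algebraMap A C) hle
  have hφ : Function.Injective φ := Ideal.quotientMap_injective' hge
  let ψ : B ⧸ Q.comap (algebraMap B B') →+* B' ⧸ Q :=
    Ideal.quotientMap Q (algebraMap B B') le_rfl
  have hsq : (algebraMap (C ⧸ Q.comap (algebraMap C B')) (B' ⧸ Q)).comp φ =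
      ψ.comp (algebraMap (A ⧸ (Q.comap (algebraMap B B')).comap (algebraMap A B))
        (B ⧸ Q.comap (algebraMap B B'))) := by
    apply Ideal.Quotient.ringHom_ext
    ext a
    change Ideal.Quotient.mk Q (algebraMap C B' (algebraMap A C a)) =
      Ideal.Quotient.mk Q (algebraMap B B' (algebraMap A B a))
    rw [hcomm]
  haveI := h (Q.comap (algebraMap B B'))
  obtain ⟨f, hf0, hf⟩ := Algebra.IsAlgebraic.isAlgebraic
    (R := A ⧸ (Q.comap (algebraMap B B')).comap (algebraMap A B))
    (Ideal.Quotient.mk (Q.comap (algebraMap B B')) b)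
  refine ⟨f.map φ, (Polynomial.map_ne_zero_iff hφ).mpr hf0, ?_⟩
  rw [Polynomial.aeval_def, Polynomial.eval₂_map, hsq]
  have h1 : Ideal.Quotient.mk Q (algebraMap B B' b) =
      ψ (Ideal.Quotient.mk (Q.comap (algebraMap B B')) b) := rfl
  rw [h1, ← Polynomial.hom_eval₂, ← Polynomial.aeval_def, hf, map_zero]

theorem algebraicResidueExtensions_of_adjoin (h : ProEtW.AlgebraicResidueExtensions A B)
    (hgen : Algebra.adjoin C (Set.range (algebraMap B B')) = ⊤) :
    ProEtW.AlgebraicResidueExtensions C B' := by
  intro Q _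
  constructor
  intro x
  obtain ⟨y, rfl⟩ := Ideal.Quotient.mk_surjective x
  have hy : y ∈ Algebra.adjoin C (Set.range (algebraMap B B')) := by rw [hgen]; trivial
  induction hy using Algebra.adjoin_induction with
  | mem x hx =>
    obtain ⟨b, rfl⟩ := hx
    exact isAlgebraic_gen h Q b
  | algebraMap r =>
    exact isAlgebraic_algebraMap (Ideal.Quotient.mk (Q.comap (algebraMap C B')) r)
  | add x y _ _ hx hy =>
    rw [map_add]
    exact hx.add hy
  | mul x y _ _ hx hy =>
    rw [map_mul]
    exact hx.mul hy

end Groth.Agent.H27.AlgResBC
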