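import Groth.Agent.H27.Form

set_option autoImplicit false

namespace Groth.Agent.H27

open RootD Finsupp RootPairing

variable {ι M N : Type*} [AddCommGroup M] [AddCommGroup N] (P : RootPairing ι ℤ M N)

lemma hom_toLinearMap {ι₂ M₂ N₂ : Type*} [AddCommGroup M₂] [AddCommGroup N₂]
    {P : RootPairing ι ℤ M N} {Q : RootPairing ι₂ ℤ M₂ N₂} (f : RootPairing.Hom P Q) (m : M) (x : N₂) :
    Q.toLinearMap (f.weightMap m) x = P.toLinearMap m (f.coweightMap x) := by
  have h := RootPairing.Hom.weight_coweight_transpose_apply P Q x f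
  have h2 := congrArg (fun φ => φ m) h
  simpa using h2

lemma smul_def (g : P.Aut) (m : M) : g • m = g.weightMap m := rfl

lemma smul_idx_def (g : P.Aut) (i : ι) : g • i = g.indexEquiv i := rfl

lemma smul_root (g : P.Aut) (i : ι) : P.root (g • i) = g • P.root i :=
  RootPairing.Equiv.root_indexEquiv_eq_smul P i g

lemma coweightMap_coroot (g : P.Aut) (i : ι) : g.coweightMap (P.coroot (g • i)) = P.coroot i := by
  have := RootPairing.Hom.coroot_coweightMap_apply P P (g • i) g.toHom
  rw [this, smul_idx_def, Equiv.symm_apply_apply]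

lemma toLinearMap_smul (g : P.Aut) (m : M) (x : N) :
    P.toLinearMap (g • m) x = P.toLinearMap m (g.coweightMap x) :=
  hom_toLinearMap g.toHom m x

lemma toLinearMap_smul_coroot_smul (g : P.Aut) (m : M) (i : ι) :
    P.toLinearMap (g • m) (P.coroot (g • i)) = P.toLinearMap m (P.coroot i) := by
  rw [toLinearMap_smul, coweightMap_coroot]

lemma pairing_smul_smul (g : P.Aut) (i j : ι) : P.pairing (g • i) (g • j) = P.pairing i j := by
  unfold RootPairing.pairing RootPairing.root'
  rw [smul_root, toLinearMap_smul_coroot_smul]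

lemma smul_ng (g : P.Aut) (i : ι) : g • ng P i = ng P (g • i) := by
  apply P.root.injective
  rw [smul_root, root_ng, root_ng, smul_root, smul_neg]

lemma smul_reflectionPerm (g : P.Aut) (i j : ι) :
    g • P.reflectionPerm i j = P.reflectionPerm (g • i) (g • j) := by
  apply P.root.injective
  rw [smul_root, P.root_reflectionPerm, P.root_reflectionPerm, P.reflection_apply_root,
    P.reflection_apply_root, smul_sub, smul_root, smul_root, pairing_smul_smul, smul_comm]

lemma reflection_smul_idx (i k : ι) : RootPairing.Equiv.reflection P i • k = P.reflectionPerm i k := rfl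

lemma reflection_smul_eq (g : P.Aut) (i : ι) :
    RootPairing.Equiv.reflection P (g • i) = g * RootPairing.Equiv.reflection P i * g⁻¹ := by
  apply RootPairing.Equiv.weightHom_injective P
  ext x
  have h1 : ∀ y : M, (RootPairing.Equiv.weightHom P (g * RootPairing.Equiv.reflection P i * g⁻¹)) y =
      g • (RootPairing.Equiv.reflection P i • (g⁻¹ • y)) := fun y => by
    rw [← mul_smul, ← mul_smul]; rfl
  rw [h1]
  change RootPairing.Equiv.reflection P (g • i) • x = _
  rw [RootPairing.Equiv.reflection_smul, RootPairing.Equiv.reflection_smul,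
    P.reflection_apply, P.reflection_apply, smul_sub, smul_smul, mul_inv_cancel, one_smul]
  congr 1
  rw [smul_comm, smul_root]
  congr 1
  change P.toLinearMap x (P.coroot (g • i)) = P.toLinearMap (g⁻¹ • x) (P.coroot i)
  conv_lhs => rw [show x = g • (g⁻¹ • x) by rw [smul_smul, mul_inv_cancel, one_smul]]
  rw [toLinearMap_smul_coroot_smul]

/-- the linear map underlying the action of `g` -/
lemma smul_linearCombination (g : P.Aut) (c : ι →₀ ℤ) :
    g • linearCombination ℤ P.root c =
      linearCombination ℤ P.root (c.mapDomain (fun i => g • i)) := by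
  rw [smul_def, Finsupp.linearCombination_mapDomain, Finsupp.linearCombination_apply,
    Finsupp.linearCombination_apply, map_finsuppSum]
  refine Finsupp.sum_congr fun i _ => ?_
  rw [map_smul, Function.comp, smul_root, smul_def]

lemma smul_idx_injective (g : P.Aut) : Function.Injective (fun i : ι => g • i) :=
  MulAction.injective g

lemma smul_mem_natSpan {g : P.Aut} {S : Set ι} {x : M} (hx : x ∈ natSpan P S) :
    g • x ∈ natSpan P ((fun i => g • i) '' S) := by
  unfold natSpan at hx ⊢
  induction hx using AddSubmonoid.closure_induction with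
  | mem x hx =>
    obtain ⟨i, hi, rfl⟩ := hx
    rw [← smul_root]
    exact AddSubmonoid.subset_closure ⟨g • i, ⟨i, hi, rfl⟩, rfl⟩
  | zero => rw [smul_zero]; exact zero_mem _
  | add x y _ _ hx hy => rw [smul_add]; exact add_mem hx hy

lemma image_inv_image (g : P.Aut) (S : Set ι) :
    (fun i => g⁻¹ • i) '' ((fun i => g • i) '' S) = S := by
  rw [Set.image_image]
  simp

lemma image_image_inv (g : P.Aut) (S : Set ι) :
    (fun i => g • i) '' ((fun i => g⁻¹ • i) '' S) = S := by
  rw [Set.image_image]
  simp

lemma smul_mem_natSpan_iff {g : P.Aut} {S : Set ι} {x : M} :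
    g • x ∈ natSpan P ((fun i => g • i) '' S) ↔ x ∈ natSpan P S := by
  refine ⟨fun h => ?_, smul_mem_natSpan P⟩
  have := smul_mem_natSpan P (g := g⁻¹) h
  rwa [image_inv_image, smul_smul, inv_mul_cancel, one_smul] at this

lemma mem_smul_image_iff {g : P.Aut} {S : Set ι} {i : ι} :
    g • i ∈ (fun i => g • i) '' S ↔ i ∈ S :=
  (smul_idx_injective P g).mem_set_image

lemma mem_image_smul_iff {g : P.Aut} {S : Set ι} {i : ι} :
    i ∈ (fun i => g • i) '' S ↔ g⁻¹ • i ∈ S := by
  conv_lhs => rw [show i = g • (g⁻¹ • i) by rw [smul_smul, mul_inv_cancel, one_smul]]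
  exact mem_smul_image_iff P

lemma posOf_smul (g : P.Aut) (Δ : Set ι) :
    posOf P ((fun i => g • i) '' Δ) = (fun i => g • i) '' posOf P Δ := by
  ext k
  rw [mem_image_smul_iff]
  unfold posOf
  simp only [Set.mem_ofPred_eq]
  rw [← smul_mem_natSpan_iff P (g := g⁻¹), image_inv_image, smul_root]

lemma isPosSys_smul (g : P.Aut) {S : Set ι} (hS : IsPosSys P S) :
    IsPosSys P ((fun i => g • i) '' S) := by
  refine ⟨?_, ?_, ?_⟩
  · intro i hi hi'
    rw [mem_image_smul_iff] at hi hi'
    change g⁻¹ • ng P i ∈ S at hi'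
    rw [smul_ng] at hi'
    exact hS.disjoint hi hi'
  · intro i
    rw [mem_image_smul_iff, mem_image_smul_iff]
    change _ ∨ g⁻¹ • ng P i ∈ S
    rw [smul_ng]
    exact hS.cover _
  · intro k n hn hk
    rw [mem_image_smul_iff]
    refine hS.sat n hn ?_
    have := smul_mem_natSpan P (g := g⁻¹) hk
    rwa [image_inv_image, smul_def, map_nsmul, ← smul_def, ← smul_root] at this

lemma isSimpleSys_smul (g : P.Aut) {Δ : Set ι} (hΔ : IsSimpleSys P Δ) :
    IsSimpleSys P ((fun i => g • i) '' Δ) := by
  refine ⟨?_, ?_⟩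
  · apply LinearIndepOn.image_of_comp
    have h1 : (⇑P.root ∘ fun i => g • i) = (g.weightMap : M →ₗ[ℤ] M) ∘ ⇑P.root := by
      funext i
      simp only [Function.comp]
      rw [smul_root, smul_def]
    rw [h1]
    exact hΔ.linInd.map_injOn _ g.bijective_weightMap.injective.injOn
  · intro i
    rcases hΔ.mem_or_neg_mem (g⁻¹ • i) with h | h
    · left
      have := smul_mem_natSpan P (g := g) h
      rwa [← smul_root, smul_smul, mul_inv_cancel, one_smul] at this
    · right
      have := smul_mem_natSpan P (g := g) h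
      rwa [smul_neg, ← smul_root, smul_smul, mul_inv_cancel, one_smul] at this

end Groth.Agent.H27
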