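import Mathlib.LinearAlgebra.RootSystem.WeylGroup
import Mathlib.LinearAlgebra.RootSystem.Finite.Nondegenerate
import Mathlib.LinearAlgebra.RootSystem.Finite.Lemmas
import Groth.Prelude.Def_W4sga3xxiRoot

set_option autoImplicit false

namespace Groth.Agent.H27

open RootD Finsupp

variable {ι M N : Type*} [AddCommGroup M] [AddCommGroup N] (P : RootPairing ι ℤ M N)

/-- index of the opposite root -/
def ng (i : ι) : ι := P.reflectionPerm i i

lemma root_ng (i : ι) : P.root (ng P i) = - P.root i := by
  unfold ng
  rw [P.root_reflectionPerm, P.reflection_apply_self]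

lemma coroot_ng (i : ι) : P.coroot (ng P i) = - P.coroot i := by
  unfold ng
  rw [P.coroot_reflectionPerm, P.coreflection_apply_self]

lemma ng_ng (i : ι) : ng P (ng P i) = i := by
  apply P.root.injective
  simp [root_ng]

lemma ng_injective : Function.Injective (ng P) := fun i j h => by
  have := congrArg (ng P) h
  simpa [ng_ng] using this

lemma pairing_ng_left (i j : ι) : P.pairing (ng P i) j = - P.pairing i j := by simp [ng]

lemma pairing_ng_right (i j : ι) : P.pairing i (ng P j) = - P.pairing i j := by simp [ng]

include P in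
lemma torsionFree : IsAddTorsionFree M := by
  have : Module.IsReflexive ℤ M := .of_isPerfPair P.toLinearMap
  exact .of_isTorsionFree ℤ M

include P in
lemma torsionFree' : IsAddTorsionFree N := torsionFree P.flip

lemma root_ne_zero (i : ι) : P.root i ≠ 0 := P.ne_zero i

lemma nsmul_root_ne_zero (i : ι) {n : ℕ} (hn : 0 < n) : n • P.root i ≠ 0 := by
  have := torsionFree P
  intro h
  have h2 : n • P.root i = n • (0 : M) := by simpa using h
  exact root_ne_zero P i (nsmul_right_injective (by omega) h2)

lemma pairingIn_int (i j : ι) : P.pairingIn ℤ i j = P.pairing i j := by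
  simpa using P.algebraMap_pairingIn ℤ i j

lemma ng_ne (i : ι) : ng P i ≠ i := by
  intro h
  have h1 : P.root i = - P.root i := by
    conv_lhs => rw [← h]
    exact root_ng P i
  have h2 : (2 : ℕ) • P.root i = 0 := by
    rw [two_nsmul]
    nth_rewrite 1 [h1]
    simp
  exact nsmul_root_ne_zero P i (by norm_num) h2

section natSpan

lemma mem_natSpan_iff {S : Set ι} {x : M} :
    x ∈ natSpan P S ↔ ∃ c : ι →₀ ℤ, (↑c.support ⊆ S) ∧ (∀ i, 0 ≤ c i) ∧
      linearCombination ℤ P.root c = x := by
  classical
  constructor
  · intro hx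
    unfold natSpan at hx
    induction hx using AddSubmonoid.closure_induction with
    | mem x hx =>
      obtain ⟨i, hi, rfl⟩ := hx
      refine ⟨Finsupp.single i 1, ?_, ?_, by simp⟩
      · intro j hj
        have hji : j = i := by simpa using hj
        exact hji ▸ hi
      · intro j
        rw [Finsupp.single_apply]
        split_ifs <;> norm_num
    | zero => exact ⟨0, by simp, by simp, by simp⟩
    | add x y _ _ hx hy =>
      obtain ⟨c, hc1, hc2, rfl⟩ := hx
      obtain ⟨d, hd1, hd2, rfl⟩ := hy
      refine ⟨c + d, ?_, ?_, by simp⟩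
      · intro j hj
        have hj' : (c + d) j ≠ 0 := by simpa using hj
        by_cases hcj : c j = 0
        · have : d j ≠ 0 := by simpa [hcj] using hj'
          exact hd1 (by simpa using this)
        · exact hc1 (by simpa using hcj)
      · intro j
        have := hc2 j
        have := hd2 j
        simp only [Finsupp.add_apply]
        omega
  · rintro ⟨c, hc1, hc2, rfl⟩
    rw [Finsupp.linearCombination_apply, Finsupp.sum]
    refine AddSubmonoid.sum_mem _ fun i hi => ?_
    have h0 := hc2 i
    obtain ⟨n, hn⟩ := Int.eq_ofNat_of_zero_le h0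
    rw [hn, natCast_zsmul]
    exact AddSubmonoid.nsmul_mem _
      (AddSubmonoid.subset_closure (Set.mem_image_of_mem _ (hc1 (Finset.mem_coe.2 hi)))) n

lemma natSpan_mono {S T : Set ι} (h : S ⊆ T) : natSpan P S ≤ natSpan P T :=
  AddSubmonoid.closure_mono (Set.image_mono h)

lemma root_mem_natSpan {S : Set ι} {i : ι} (hi : i ∈ S) : P.root i ∈ natSpan P S :=
  AddSubmonoid.subset_closure ⟨i, hi, rfl⟩

lemma natSpan_le_span (S : Set ι) {x : M} (hx : x ∈ natSpan P S) :
    x ∈ Submodule.span ℤ (P.root '' S) := by
  obtain ⟨c, hc1, _, rfl⟩ := (mem_natSpan_iff P).1 hx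
  exact (Finsupp.mem_span_image_iff_linearCombination ℤ).2
    ⟨c, (Finsupp.mem_supported ℤ c).2 hc1, rfl⟩

end natSpan

end Groth.Agent.H27
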