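import Groth.Agent.H27.Exists

set_option autoImplicit false

namespace Groth.Agent.H27

open RootD Finsupp RootPairing

variable {ι M N : Type*} [AddCommGroup M] [AddCommGroup N] {P : RootPairing ι ℤ M N}

section Finite
variable [Finite ι]

lemma exists_pos_pairing_of_sum {n : ℕ} (a : Fin n → ι) (m : Fin n → ℕ) (x : M)
    (hx : x = ∑ i, m i • P.root (a i)) (hx0 : x ≠ 0) :
    ∃ i, 0 < m i ∧ 0 < P.toLinearMap x (P.coroot (a i)) := by
  have := Fintype.ofFinite ι
  have hmem : x ∈ P.rootSpan ℤ := by
    rw [hx]
    exact Submodule.sum_mem _ fun i _ =>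
      Submodule.smul_of_tower_mem _ _ (Submodule.subset_span (Set.mem_range_self (a i)))
  have hpos : 0 < P.RootForm x x := P.rootForm_pos_of_ne_zero hmem hx0
  have hsum : P.RootForm x x = ∑ i, (m i : ℤ) * P.RootForm (P.root (a i)) x := by
    have e1 : P.RootForm x x = P.RootForm (∑ i, m i • P.root (a i)) x := by rw [← hx]
    rw [e1, map_sum, LinearMap.sum_apply]
    refine Finset.sum_congr rfl fun i _ => ?_
    rw [← natCast_zsmul, map_smul, LinearMap.smul_apply, smul_eq_mul]
  by_contra hcon
  push Not at hcon
  have : P.RootForm x x ≤ 0 := by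
    rw [hsum]
    refine Finset.sum_nonpos fun i _ => ?_
    rcases Nat.eq_zero_or_pos (m i) with h | h
    · rw [h]; simp
    · have h2 := (rootForm_root_nonpos_iff P (a i) x).2 (hcon i h)
      exact mul_nonpos_of_nonneg_of_nonpos (by positivity) h2
  linarith

/-- S5451 core -/
lemma exists_chain {n : ℕ} (a : Fin n → ι) :
    ∀ (N : ℕ) (m : Fin n → ℕ) (k : ι), ∑ i, m i = N → P.root k = ∑ i, m i • P.root (a i) →
    ∃ (l : ℕ) (b : Fin l → Fin n), 0 < l ∧
      (∀ p : Fin l, ∃ j : ι, P.root j = ∑ q ∈ Finset.Iic p, P.root (a (b q))) ∧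
      P.root k = ∑ q, P.root (a (b q)) := by
  classical
  intro N
  induction N with
  | zero =>
    intro m k hN hk
    exfalso
    have hm0 : ∀ i, m i = 0 := fun i => by
      have := (Finset.sum_eq_zero_iff (s := Finset.univ) (f := m)).1 hN i (Finset.mem_univ i)
      exact this
    rw [Finset.sum_eq_zero (fun i _ => by rw [hm0 i, zero_smul])] at hk
    exact P.ne_zero k hk
  | succ N ih =>
    intro m k hN hk
    obtain ⟨i, hi, hip⟩ := exists_pos_pairing_of_sum a m (P.root k) hk (P.ne_zero k)
    change 0 < P.pairing k (a i) at hip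
    by_cases hki : k = a i
    · refine ⟨1, fun _ => i, one_pos, fun p => ⟨k, ?_⟩, ?_⟩
      · have : Finset.Iic p = Finset.univ := by
          ext q
          simp only [Finset.mem_Iic, Finset.mem_univ, iff_true]
          exact le_of_eq (Subsingleton.elim q p)
        rw [this, hki]; simp
      · rw [hki]; simp
    · obtain ⟨k', hk'⟩ := P.root_sub_root_mem_of_pairingIn_pos (by rwa [pairingIn_int]) hki
      let m' : Fin n → ℕ := Function.update m i (m i - 1)
      have hm'N : ∑ j, m' j = N := by
        have h1 : ∑ j, m' j = (m i - 1) + ∑ j ∈ Finset.univ \ {i}, m j :=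
          Finset.sum_update_of_mem (Finset.mem_univ i) m (m i - 1)
        have h2 : ∑ j, m j = m i + ∑ j ∈ Finset.univ \ {i}, m j := by
          rw [← Finset.sum_erase_add _ _ (Finset.mem_univ i), add_comm, Finset.sdiff_singleton_eq_erase]
        omega
      have hk'm : P.root k' = ∑ j, m' j • P.root (a j) := by
        have h1 : ∑ j, m' j • P.root (a j) =
            (m i - 1) • P.root (a i) + ∑ j ∈ Finset.univ \ {i}, m j • P.root (a j) := by
          have := Finset.sum_update_of_mem (Finset.mem_univ i) (fun j => m j • P.root (a j))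
            ((m i - 1) • P.root (a i))
          rw [← this]
          refine Finset.sum_congr rfl fun j _ => ?_
          by_cases hji : j = i
          · subst hji; simp [m']
          · simp [m', Function.update_of_ne hji]
        have h2 : ∑ j, m j • P.root (a j) =
            m i • P.root (a i) + ∑ j ∈ Finset.univ \ {i}, m j • P.root (a j) := by
          rw [← Finset.sum_erase_add _ _ (Finset.mem_univ i), add_comm,
            Finset.sdiff_singleton_eq_erase]
        rw [h1, hk', hk, h2]
        obtain ⟨t, ht⟩ : ∃ t, m i = t + 1 := ⟨m i - 1, by omega⟩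
        rw [ht, Nat.add_sub_cancel, succ_nsmul]
        abel
      obtain ⟨l, b, _, hb1, hb2⟩ := ih m' k' hm'N hk'm
      refine ⟨l + 1, Fin.snoc b i, Nat.succ_pos _, fun p => ?_, ?_⟩
      · by_cases hp : p.val < l
        · have hpe : p = (⟨p.val, hp⟩ : Fin l).castSucc := rfl
          obtain ⟨j, hj⟩ := hb1 ⟨p.val, hp⟩
          refine ⟨j, ?_⟩
          rw [hpe, Fin.sum_Iic_castSucc]
          simp only [Fin.snoc_castSucc]
          exact hj
        · refine ⟨k, ?_⟩
          have hp' : p.val = l := by have := p.isLt; omega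
          have : Finset.Iic p = Finset.univ := by
            ext q; simp [Fin.le_def, hp']; have := q.isLt; omega
          rw [this, Fin.sum_univ_castSucc]
          simp only [Fin.snoc_castSucc, Fin.snoc_last]
          rw [← hb2, hk']; abel
      · rw [Fin.sum_univ_castSucc]
        simp only [Fin.snoc_castSucc, Fin.snoc_last]
        rw [← hb2, hk']; abel

end Finite

end Groth.Agent.H27
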