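import Groth.Agent.H27.ClosedLiftSch

/-!
# Local lifting of morphisms between base changes along a closed immersion
-/

set_option autoImplicit false
set_option linter.style.haveILetI false
universe u

open CategoryTheory CategoryTheory.Limits AlgebraicGeometry Opposite

namespace Groth.Agent.H27.ClosedFull

set_option backward.isDefEq.respectTransparency.types false in
theorem main {X Z U V : Scheme.{u}} (i : Z ⟶ X) [IsClosedImmersion i] (a : U ⟶ X) (b : V ⟶ X)
    [WeaklyEtale a] [WeaklyEtale b] (φ : pullback a i ⟶ pullback b i)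
    (hφ : φ ≫ pullback.snd b i = pullback.snd a i) :
    ∃ (ι : Type u) (T : ι → Scheme.{u}) (tX : ∀ j, T j ⟶ X) (t : ∀ j, T j ⟶ U)
      (l : ∀ j, T j ⟶ V) (m : ∀ j, pullback (tX j) i ⟶ pullback a i),
      (∀ j, WeaklyEtale (tX j)) ∧ (∀ j, t j ≫ a = tX j) ∧ (∀ j, l j ≫ b = tX j) ∧
      (∀ j, m j ≫ pullback.fst a i = pullback.fst (tX j) i ≫ t j) ∧
      (∀ j, m j ≫ pullback.snd a i = pullback.snd (tX j) i) ∧
      (∀ j, m j ≫ φ ≫ pullback.fst b i = pullback.fst (tX j) i ≫ l j) ∧
      Presieve.ofArrows (fun j => pullback (tX j) i) m ∈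
        Scheme.proetalePrecoverage (pullback a i) := by
  -- the product `P = U ×_X V` and its closed subscheme `P_Z`
  let p1 : pullback a b ⟶ U := pullback.fst a b
  let p2 : pullback a b ⟶ V := pullback.snd a b
  let pX : pullback a b ⟶ X := p1 ≫ a
  haveI : WeaklyEtale pX := inferInstanceAs (WeaklyEtale (pullback.fst a b ≫ a))
  let iP : pullback pX i ⟶ pullback a b := pullback.fst pX i
  haveI : IsClosedImmersion iP := inferInstanceAs (IsClosedImmersion (pullback.fst pX i))
  -- the graph of `φ`
  have hc1 : pullback.fst a i ≫ a = (φ ≫ pullback.fst b i) ≫ b := by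
    rw [pullback.condition, Category.assoc, pullback.condition, ← Category.assoc, hφ]
  let s0 : pullback a i ⟶ pullback a b := pullback.lift (pullback.fst a i) (φ ≫ pullback.fst b i) hc1
  have hs01 : s0 ≫ p1 = pullback.fst a i := pullback.lift_fst _ _ _
  have hs02 : s0 ≫ p2 = φ ≫ pullback.fst b i := pullback.lift_snd _ _ _
  have hc2 : s0 ≫ pX = pullback.snd a i ≫ i := by
    show s0 ≫ p1 ≫ a = _
    rw [← Category.assoc, hs01, pullback.condition]
  let s : pullback a i ⟶ pullback pX i := pullback.lift s0 (pullback.snd a i) hc2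
  have hs1 : s ≫ iP = s0 := pullback.lift_fst _ _ _
  have hs2 : s ≫ pullback.snd pX i = pullback.snd a i := pullback.lift_snd _ _ _
  -- the retraction
  have hc3 : (iP ≫ p1) ≫ a = pullback.snd pX i ≫ i := by
    rw [Category.assoc]
    exact pullback.condition
  let r : pullback pX i ⟶ pullback a i := pullback.lift (iP ≫ p1) (pullback.snd pX i) hc3
  have hr1 : r ≫ pullback.fst a i = iP ≫ p1 := pullback.lift_fst _ _ _
  have hr2 : r ≫ pullback.snd a i = pullback.snd pX i := pullback.lift_snd _ _ _
  have hsr : s ≫ r = 𝟙 _ := by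
    apply pullback.hom_ext
    · rw [Category.assoc, hr1, ← Category.assoc, hs1, hs01, Category.id_comp]
    · rw [Category.assoc, hr2, hs2, Category.id_comp]
  haveI : WeaklyEtale r := by
    haveI : WeaklyEtale (r ≫ pullback.snd a i) := by rw [hr2]; infer_instance
    exact WeaklyEtale.of_comp r (pullback.snd a i)
  haveI : WeaklyEtale s := by
    haveI : WeaklyEtale (s ≫ r) := by rw [hsr]; infer_instance
    exact WeaklyEtale.of_comp s r
  obtain ⟨T, t, k, hwt, hk, hcov⟩ := Groth.Agent.H27.ClosedLiftSch.main' iP s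
  let θ : ∀ j, pullback (t j) iP ≅ pullback (t j ≫ pX) i :=
    fun j => pullbackRightPullbackFstIso pX i (t j)
  have hk1 : ∀ j, k j ≫ pullback.fst a i = pullback.fst (t j) iP ≫ t j ≫ p1 := by
    intro j
    rw [← hs01, ← hs1, ← Category.assoc, ← Category.assoc, hk j, Category.assoc,
      pullback.condition_assoc]
  have hk2 : ∀ j, k j ≫ pullback.snd a i = pullback.snd (t j) iP ≫ pullback.snd pX i := by
    intro j
    rw [← hs2, ← Category.assoc, hk j]
  have hk3 : ∀ j, k j ≫ φ ≫ pullback.fst b i = pullback.fst (t j) iP ≫ t j ≫ p2 := by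
    intro j
    rw [← hs02, ← hs1, ← Category.assoc, ← Category.assoc, hk j, Category.assoc,
      pullback.condition_assoc]
  refine ⟨_, fun p : Σ _ : (Σ _ : ↥(pullback a i), PUnit.{1}), PUnit.{1} => T p.1,
    fun p => t p.1 ≫ pX, fun p => t p.1 ≫ p1, fun p => t p.1 ≫ p2,
    fun p => (θ p.1).inv ≫ k p.1, ?_, ?_, ?_, ?_, ?_, ?_, ?_⟩
  · intro p
    haveI := hwt p.1
    infer_instance
  · intro p
    rw [Category.assoc]
  · intro p
    rw [Category.assoc]
    congr 1
    exact pullback.condition.symm
  · intro p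
    rw [Category.assoc, hk1]
    exact pullbackRightPullbackFstIso_inv_fst_assoc pX i (t p.1) _
  · intro p
    rw [Category.assoc, hk2]
    exact pullbackRightPullbackFstIso_inv_snd_snd pX i (t p.1)
  · intro p
    rw [Category.assoc, hk3]
    exact pullbackRightPullbackFstIso_inv_fst_assoc pX i (t p.1) _
  · have h2 : ∀ j, Presieve.ofArrows (fun _ : PUnit.{1} => pullback (t j ≫ pX) i)
        (fun _ => (θ j).inv) ∈ Scheme.proetalePrecoverage (pullback (t j) iP) := by
      intro j
      rw [Presieve.ofArrows_pUnit]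
      exact Precoverage.HasIsos.mem_coverings_of_isIso _
    exact Precoverage.comp_mem_coverings k hcov (fun j _ => (θ j).inv) h2

end Groth.Agent.H27.ClosedFull
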