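import Groth.Agent.H27.ClosedLiftSch
import Groth.Agent.H27.ClosedFull
import Groth.Prelude.Def_ProEtS

/-!
# Base change along a closed immersion is cover-dense and locally full on pro-étale sites
-/

set_option autoImplicit false
set_option linter.style.haveILetI false
universe u

open CategoryTheory CategoryTheory.Limits AlgebraicGeometry Opposite

namespace Groth.Agent.H27.ClosedDense

variable {Z X : Scheme.{u}} (i : Z ⟶ X) [IsClosedImmersion i]

set_option backward.isDefEq.respectTransparency.types false in
theorem isCoverDense : (ProEtS.bcP i).IsCoverDense (Scheme.ProEt.topology Z) := by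
  constructor
  intro V
  obtain ⟨T, t, k, hwt, hk, hcov⟩ := Groth.Agent.H27.ClosedLiftSch.main' i V.hom
  let T' : ∀ a, X.ProEt := fun a => haveI := hwt a; Scheme.ProEt.mk (t a)
  let g : ∀ a, (ProEtS.bcP i).obj (T' a) ⟶ V :=
    fun a => MorphismProperty.Over.homMk (k a) (hk a)
  have hmem : Sieve.generate (Presieve.ofArrows _ g) ∈ Scheme.ProEt.topology Z V := by
    apply Precoverage.generate_mem_toGrothendieck
    show Presieve.map (Scheme.ProEt.forget Z ⋙ Over.forget Z) (Presieve.ofArrows _ g) ∈
      Scheme.proetalePrecoverage V.left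
    rw [Presieve.map_ofArrows]
    exact hcov
  refine (Scheme.ProEt.topology Z).superset_covering ?_ hmem
  rintro W f ⟨Y, h, g', ⟨a⟩, rfl⟩
  exact ⟨⟨T' a, h, g a, rfl⟩⟩

set_option backward.isDefEq.respectTransparency.types false in
theorem isLocallyFull : (ProEtS.bcP i).IsLocallyFull (Scheme.ProEt.topology Z) := by
  constructor
  intro U V f
  have hφ : f.left ≫ pullback.snd V.hom i = pullback.snd U.hom i := MorphismProperty.Over.w f
  obtain ⟨ι, T, tX, t, l, m, hw, ht, hl, hm1, hm2, hm3, hcov⟩ :=
    Groth.Agent.H27.ClosedFull.main i U.hom V.hom f.left hφ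
  let W : ι → X.ProEt := fun j => haveI := hw j; Scheme.ProEt.mk (tX j)
  let g : ∀ j, W j ⟶ U := fun j => MorphismProperty.Over.homMk (t j) (ht j)
  let l' : ∀ j, W j ⟶ V := fun j => MorphismProperty.Over.homMk (l j) (hl j)
  have hg : ∀ j, ((ProEtS.bcP i).map (g j)).left = m j := by
    intro j
    apply pullback.hom_ext
    · exact (pullback.lift_fst _ _ _).trans (hm1 j).symm
    · exact (pullback.lift_snd _ _ _).trans (hm2 j).symm
  have hmem : ∀ j, ((ProEtS.bcP i).imageSieve f).arrows (g j) := by
    intro j
    refine ⟨l' j, ?_⟩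
    apply MorphismProperty.Over.Hom.ext
    show ((ProEtS.bcP i).map (l' j)).left = ((ProEtS.bcP i).map (g j)).left ≫ f.left
    rw [hg j]
    apply pullback.hom_ext
    · refine (pullback.lift_fst _ _ _).trans ?_
      refine Eq.trans ?_ (Category.assoc _ _ _).symm
      exact (hm3 j).symm
    · refine (pullback.lift_snd _ _ _).trans ?_
      refine Eq.trans ?_ (Category.assoc _ _ _).symm
      refine Eq.trans ?_ (congrArg (m j ≫ ·) hφ.symm)
      exact (hm2 j).symm
  have hgen : Sieve.generate (Presieve.ofArrows _ (fun j => (ProEtS.bcP i).map (g j))) ∈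
      Scheme.ProEt.topology Z ((ProEtS.bcP i).obj U) := by
    apply Precoverage.generate_mem_toGrothendieck
    show Presieve.map (Scheme.ProEt.forget Z ⋙ Over.forget Z)
      (Presieve.ofArrows (fun j => (ProEtS.bcP i).obj (W j))
        (fun j => (ProEtS.bcP i).map (g j))) ∈
      Scheme.proetalePrecoverage ((ProEtS.bcP i).obj U).left
    rw [Presieve.map_ofArrows]
    have : (fun j => (Scheme.ProEt.forget Z ⋙ Over.forget Z).map ((ProEtS.bcP i).map (g j))) =
        m := funext hg
    rw [this]
    exact hcov
  refine (Scheme.ProEt.topology Z).superset_covering ?_ hgen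
  rintro Y h ⟨Y', h', g', ⟨j⟩, rfl⟩
  exact ⟨W j, g j, h', hmem j, rfl⟩

/-- pushforward along a closed immersion is fully faithful on sheaves with values in any
category -/
theorem full_faithful_push (A : Type*) [Category A] [ProEtS.PCont i] :
    ((ProEtS.bcP i).sheafPushforwardContinuous A (Scheme.ProEt.topology X)
      (Scheme.ProEt.topology Z)).Full ∧
    ((ProEtS.bcP i).sheafPushforwardContinuous A (Scheme.ProEt.topology X)
      (Scheme.ProEt.topology Z)).Faithful := by
  haveI := isCoverDense i
  haveI := isLocallyFull i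
  exact ⟨inferInstance, inferInstance⟩

/-- the counit `i⁻¹ i_* F ⟶ F` is an isomorphism for a closed immersion `i` -/
theorem isIso_counit [ProEtS.PCont i] (F : ProEtS.AbP Z) :
    IsIso ((ProEtS.pullPushAdjP i).counit.app F) := by
  obtain ⟨h1, h2⟩ := full_faithful_push i AddCommGrpCat.{u + 1}
  haveI : (ProEtS.pushP i).Full := h1
  haveI : (ProEtS.pushP i).Faithful := h2
  haveI : IsIso (ProEtS.pullPushAdjP i).counit :=
    Adjunction.counit_isIso_of_R_fully_faithful (ProEtS.pullPushAdjP i)
  infer_instance

end Groth.Agent.H27.ClosedDense
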