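import Groth.Agent.H27.ClosedLiftAlg
import Groth.Agent.H10.WeaklyEtaleScheme

/-!
# Lifting weakly étale schemes along a closed immersion of affine schemes (locally)
-/

set_option autoImplicit false
set_option linter.style.haveILetI false
universe u

open CategoryTheory CategoryTheory.Limits AlgebraicGeometry

namespace Groth.Agent.H27.ClosedLiftAff

theorem main {X' Z' V' : Scheme.{u}} [IsAffine X'] [IsAffine Z'] [IsAffine V'] (i' : Z' ⟶ X')
    [IsClosedImmersion i'] (q' : V' ⟶ Z') [WeaklyEtale q'] :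
    ∃ (T' W' : Scheme.{u}) (t' : T' ⟶ X') (w : W' ⟶ T') (c' : W' ⟶ V'),
      IsAffine T' ∧ IsAffine W' ∧ WeaklyEtale t' ∧ WeaklyEtale c' ∧ Surjective c' ∧
        IsPullback w (c' ≫ q') t' i' := by
  obtain ⟨-, hsurj⟩ := IsClosedImmersion.isAffine_surjective_of_isAffine i'
  letI algAB : Algebra Γ(Z', ⊤) Γ(V', ⊤) := q'.appTop.hom.toAlgebra
  haveI hwe1 : WeaklyEtale (Spec.map q'.appTop) :=
    (MorphismProperty.arrow_mk_iso_iff @WeaklyEtale (arrowIsoSpecΓOfIsAffine q')).mp inferInstance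
  haveI : Algebra.WeaklyEtale Γ(Z', ⊤) Γ(V', ⊤) :=
    (Groth.Agent.H10.weaklyEtale_SpecMap_iff q'.appTop.hom).mp hwe1
  obtain ⟨C, _, _, D, _, _, δ, hwC, hff, hwD, hpo⟩ :=
    Groth.Agent.H27.ClosedLiftAlg.main i'.appTop.hom hsurj (Bb := Γ(V', ⊤))
  have hpb := isPullback_SpecMap_of_isPushout _ _ _ _ hpo
  let γ : Γ(X', ⊤) ⟶ CommRingCat.of C := CommRingCat.ofHom (algebraMap Γ(X', ⊤) C)
  let β : Γ(V', ⊤) ⟶ CommRingCat.of D := CommRingCat.ofHom (algebraMap Γ(V', ⊤) D)
  haveI hweγ : WeaklyEtale (Spec.map γ) :=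
    (Groth.Agent.H10.weaklyEtale_SpecMap_algebraMap_iff _ _).mpr hwC
  haveI hweβ : WeaklyEtale (Spec.map β) :=
    (Groth.Agent.H10.weaklyEtale_SpecMap_algebraMap_iff _ _).mpr hwD
  haveI hsβ : Surjective (Spec.map β) := by
    refine ((flat_and_surjective_SpecMap_iff β).mpr ?_).2
    show (algebraMap Γ(V', ⊤) D).FaithfullyFlat
    rw [RingHom.faithfullyFlat_algebraMap_iff]
    exact hff
  refine ⟨Spec (CommRingCat.of C), Spec (CommRingCat.of D), Spec.map γ ≫ X'.isoSpec.inv,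
    Spec.map (CommRingCat.ofHom δ), Spec.map β ≫ V'.isoSpec.inv, inferInstance, inferInstance,
    inferInstance, inferInstance, inferInstance, ?_⟩
  refine hpb.of_iso (Iso.refl _) (Iso.refl _) Z'.isoSpec.symm X'.isoSpec.symm ?_ ?_ ?_ ?_
  · simp
  · simp only [Iso.refl_hom, Category.id_comp, Iso.symm_hom, Category.assoc]
    rw [← Scheme.isoSpec_inv_naturality q', ← Category.assoc, ← Spec.map_comp]
    rfl
  · simp only [Iso.refl_hom, Category.id_comp, Iso.symm_hom]
    rfl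
  · simp only [Iso.symm_hom]
    exact Scheme.isoSpec_inv_naturality i'

end Groth.Agent.H27.ClosedLiftAff
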