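import Groth.Agent.H27.IndEtK
import Mathlib.RingTheory.Extension.Presentation.Core

/-!
# Cancellation for ind-étale algebras

If `A → B` and `A → C` are ind-étale and `C` is a `B`-algebra compatibly, then `B → C` is ind-étale.
-/

set_option autoImplicit false
universe u

open CategoryTheory CategoryTheory.Limits
open scoped TensorProduct

namespace Groth.Agent.H27.IndEtCancel

open Groth.Agent.H3.IndEtCrit Groth.Agent.H27.IndEtK

/-- finitely many elements lie in the image of one étale algebra -/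
theorem exists_range {A B : Type u} [CommRing A] [CommRing B] [Algebra A B] (h : HasFactor A B)
    (s : Set B) (hs : s.Finite) : ∃ X : Obj A B, s ⊆ Set.range X.φ := by
  haveI : Finite ↥s := Set.finite_coe_iff.mpr hs
  obtain ⟨X, g, hg⟩ := h (MvPolynomial (↥s) A) (MvPolynomial.aeval fun x : ↥s => (x : B))
  refine ⟨X, fun b hb => ⟨g (MvPolynomial.X ⟨b, hb⟩), ?_⟩⟩
  have := congrArg (fun w : MvPolynomial (↥s) A →ₐ[A] B => w (MvPolynomial.X ⟨b, hb⟩)) hg
  simp only [AlgHom.comp_apply] at this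
  rw [MvPolynomial.aeval_X] at this
  exact this

set_option maxHeartbeats 800000 in
theorem cancel_aux (A E₁ B C P : Type u) [CommRing A] [CommRing E₁] [CommRing B] [CommRing C]
    [CommRing P] [Algebra A E₁] [Algebra A B] [Algebra A C] [Algebra E₁ B] [Algebra E₁ C]
    [Algebra B C] [Algebra B P] [Algebra E₁ P]
    [IsScalarTower A E₁ B] [IsScalarTower A B C] [IsScalarTower A E₁ C] [IsScalarTower E₁ B C]
    [IsScalarTower E₁ B P] [Algebra.Etale A E₁] (hC : HasFactor A C)
    {ι σ : Type} [Finite ι] [Finite σ] (Pres : Algebra.Presentation B P ι σ) [Pres.HasCoeffs E₁]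
    (ψ : P →ₐ[B] C) :
    ∃ (E' : Type u) (_ : CommRing E') (_ : Algebra B E') (_ : Algebra.Etale B E')
      (g : P →ₐ[B] E') (φ : E' →ₐ[B] C), φ.comp g = ψ := by
  let eP : B ⊗[E₁] Pres.ModelOfHasCoeffs E₁ ≃ₐ[B] P := Pres.tensorModelOfHasCoeffsEquiv E₁
  haveI : Algebra.FinitePresentation A (Pres.ModelOfHasCoeffs E₁) :=
    Algebra.FinitePresentation.trans A E₁ (Pres.ModelOfHasCoeffs E₁)
  let inc : Pres.ModelOfHasCoeffs E₁ →ₐ[E₁] B ⊗[E₁] Pres.ModelOfHasCoeffs E₁ :=
    Algebra.TensorProduct.includeRight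
  let ψ₁' : Pres.ModelOfHasCoeffs E₁ →ₐ[E₁] C :=
    ((ψ.restrictScalars E₁).comp (eP.toAlgHom.restrictScalars E₁)).comp inc
  obtain ⟨X, g, hg⟩ := hC (Pres.ModelOfHasCoeffs E₁) (ψ₁'.restrictScalars A)
  letI algE : Algebra E₁ X.ring :=
    (g.toRingHom.comp (algebraMap E₁ (Pres.ModelOfHasCoeffs E₁))).toAlgebra
  have halg : ∀ e : E₁, algebraMap E₁ X.ring e = g (algebraMap E₁ (Pres.ModelOfHasCoeffs E₁) e) :=
    fun _ => rfl
  haveI : IsScalarTower A E₁ X.ring := IsScalarTower.of_algebraMap_eq' (by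
    ext a
    change algebraMap A X.ring a = g (algebraMap E₁ (Pres.ModelOfHasCoeffs E₁) (algebraMap A E₁ a))
    rw [← IsScalarTower.algebraMap_apply A E₁ (Pres.ModelOfHasCoeffs E₁), AlgHom.commutes])
  haveI : Algebra.Etale E₁ X.ring := Algebra.Etale.of_restrictScalars (R := A) (A := E₁) (B := X.ring)
  let gE : Pres.ModelOfHasCoeffs E₁ →ₐ[E₁] X.ring :=
    { g.toRingHom with commutes' := fun e => rfl }
  have hgφ : ∀ p, X.φ (g p) = ψ₁' p := fun p =>
    congrArg (fun w : Pres.ModelOfHasCoeffs E₁ →ₐ[A] C => w p) hg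
  let φE : X.ring →ₐ[E₁] C :=
    { X.φ.toRingHom with
      commutes' := fun e => by
        change X.φ (algebraMap E₁ X.ring e) = algebraMap E₁ C e
        rw [halg, hgφ, AlgHom.commutes] }
  let G : P →ₐ[B] B ⊗[E₁] X.ring :=
    (Algebra.TensorProduct.map (AlgHom.id B B) gE).comp eP.symm.toAlgHom
  let Φ : B ⊗[E₁] X.ring →ₐ[B] C :=
    Algebra.TensorProduct.lift (Algebra.ofId B C) φE (fun _ _ => Commute.all _ _)
  refine ⟨B ⊗[E₁] X.ring, inferInstance, inferInstance, inferInstance, G, Φ, ?_⟩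
  have hsurj : Function.Surjective eP.toAlgHom := eP.surjective
  rw [← AlgHom.cancel_right hsurj]
  apply Algebra.TensorProduct.ext'
  intro b p
  change Φ (Algebra.TensorProduct.map (AlgHom.id B B) gE (eP.symm (eP (b ⊗ₜ p)))) = ψ (eP (b ⊗ₜ p))
  rw [AlgEquiv.symm_apply_apply, Algebra.TensorProduct.map_tmul, Algebra.TensorProduct.lift_tmul]
  change algebraMap B C b * X.φ (g p) = _
  rw [hgφ]
  change algebraMap B C b * ψ (eP ((1 : B) ⊗ₜ p)) = ψ (eP (b ⊗ₜ p))
  have : (b ⊗ₜ[E₁] p : B ⊗[E₁] Pres.ModelOfHasCoeffs E₁) = b • ((1 : B) ⊗ₜ[E₁] p) := by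
    rw [TensorProduct.smul_tmul', smul_eq_mul, mul_one]
  rw [this, map_smul, map_smul, Algebra.smul_def]

/-- cancellation for the factorization property -/
theorem hasFactor_cancel (A B C : Type u) [CommRing A] [CommRing B] [CommRing C] [Algebra A B]
    [Algebra B C] [Algebra A C] [IsScalarTower A B C] (hB : HasFactor A B) (hC : HasFactor A C) :
    HasFactor B C := by
  apply hasFactor_of_exists
  intro P _ _ _ ψ
  let Pres := Algebra.Presentation.ofFinitePresentation B P
  obtain ⟨X₁, hX₁⟩ := exists_range hB Pres.coeffs Pres.finite_coeffs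
  letI : Algebra X₁.ring B := X₁.φ.toRingHom.toAlgebra
  haveI : IsScalarTower A X₁.ring B := IsScalarTower.of_algebraMap_eq' X₁.φ.comp_algebraMap.symm
  letI : Algebra X₁.ring P := ((algebraMap B P).comp (algebraMap X₁.ring B)).toAlgebra
  haveI : IsScalarTower X₁.ring B P := IsScalarTower.of_algebraMap_eq' rfl
  letI : Algebra X₁.ring C := ((algebraMap B C).comp (algebraMap X₁.ring B)).toAlgebra
  haveI : IsScalarTower X₁.ring B C := IsScalarTower.of_algebraMap_eq' rfl
  haveI : IsScalarTower A X₁.ring C :=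
    IsScalarTower.of_algebraMap_eq (R := A) (S := X₁.ring) (A := C) (fun a => by
    change algebraMap A C a = algebraMap B C (algebraMap X₁.ring B (algebraMap A X₁.ring a))
    rw [← IsScalarTower.algebraMap_apply A X₁.ring B, ← IsScalarTower.algebraMap_apply A B C])
  haveI : Pres.HasCoeffs X₁.ring := ⟨hX₁⟩
  exact cancel_aux A X₁.ring B C P hC Pres ψ

theorem main (A B C : Type u) [CommRing A] [CommRing B] [CommRing C] [Algebra A B]
    [Algebra B C] [Algebra A C] [IsScalarTower A B C]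
    (hB : EtPBC.IsIndEtale A B) (hC : EtPBC.IsIndEtale A C) : EtPBC.IsIndEtale B C :=
  (hasFactor_cancel A B C (hasFactor_of_isIndEtale hB) (hasFactor_of_isIndEtale hC)).isIndEtale

end Groth.Agent.H27.IndEtCancel
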