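import Groth.Agent.H27.IndEtHull
import Groth.Agent.H27.IndEtCancel
import Groth.Agent.H47.EtaleLift

/-!
# Lifting ind-étale algebras from `A ⧸ I` to `A`
-/

set_option autoImplicit false
universe u

open scoped TensorProduct

namespace Groth.Agent.H27.IndEtLiftQuot

open Groth.Agent.H3.IndEtCrit Groth.Agent.H27.IndEtK Groth.Agent.H27.IndEtHull

/-- lifting an étale `R ⧸ J`-algebra to an étale `R`-algebra, with the reduction map -/
theorem exists_etale_lift_surj (R : Type u) [CommRing R] (J : Ideal R) (Sb : Type u) [CommRing Sb]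
    [Algebra (R ⧸ J) Sb] [Algebra.Etale (R ⧸ J) Sb] :
    ∃ (S : Type u) (_ : CommRing S) (_ : Algebra R S) (_ : Algebra.Etale R S) (q : S →+* Sb),
      Function.Surjective q ∧
      (∀ r : R, q (algebraMap R S r) = algebraMap (R ⧸ J) Sb (Ideal.Quotient.mk J r)) ∧
      (∀ s, q s = 0 → s ∈ J.map (algebraMap R S)) := by
  obtain ⟨S, _, _, hS, ⟨eS⟩⟩ := Groth.Agent.H47.exists_etale_lift_quotient R J Sb
  let inc : S →ₐ[R] (R ⧸ J) ⊗[R] S := Algebra.TensorProduct.includeRight
  have hinc : ∀ t : (R ⧸ J) ⊗[R] S, ∃ s : S, inc s = t := by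
    intro t
    obtain ⟨s, hs⟩ := Submodule.Quotient.mk_surjective _
      (TensorProduct.quotTensorEquivQuotSMul S J t)
    refine ⟨s, ?_⟩
    apply (TensorProduct.quotTensorEquivQuotSMul S J).injective
    rw [← hs]
    exact TensorProduct.quotTensorEquivQuotSMul_mk_one_tmul J s
  refine ⟨S, inferInstance, inferInstance, hS, eS.toRingEquiv.toRingHom.comp inc.toRingHom,
    ?_, ?_, ?_⟩
  · intro y
    obtain ⟨s, hs⟩ := hinc (eS.symm y)
    refine ⟨s, ?_⟩
    change eS (inc s) = y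
    rw [hs, AlgEquiv.apply_symm_apply]
  · intro r
    change eS ((1 : R ⧸ J) ⊗ₜ[R] (algebraMap R S r)) = _
    have : ((1 : R ⧸ J) ⊗ₜ[R] (algebraMap R S r) : (R ⧸ J) ⊗[R] S) =
        algebraMap (R ⧸ J) ((R ⧸ J) ⊗[R] S) (Ideal.Quotient.mk J r) := by
      rw [Algebra.algebraMap_eq_smul_one]
      have key := TensorProduct.smul_tmul (R := R) (R' := R) (M := R ⧸ J) (N := S) r
        (1 : R ⧸ J) (1 : S)
      rw [← key, Algebra.TensorProduct.algebraMap_apply]
      congr 1
      rw [Algebra.smul_def, mul_one]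
      rfl
    rw [this, AlgEquiv.commutes]
  · intro s hs
    have h1 : inc s = 0 := by
      apply eS.injective
      rw [map_zero]
      exact hs
    have h2 : (Submodule.Quotient.mk s : S ⧸ (J • (⊤ : Submodule R S))) = 0 := by
      rw [← TensorProduct.quotTensorEquivQuotSMul_mk_one_tmul J s]
      change TensorProduct.quotTensorEquivQuotSMul S J (inc s) = 0
      rw [h1, map_zero]
    have h3 : s ∈ J • (⊤ : Submodule R S) := (Submodule.Quotient.mk_eq_zero _).mp h2
    rw [Ideal.smul_top_eq_map] at h3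
    exact h3

set_option maxHeartbeats 1600000 in
/-- killing an element modulo `I` in a further étale algebra -/
theorem kill_step (A : Type u) [CommRing A] (I : Ideal A) (Cb : Type u)
    [CommRing Cb] [Algebra (A ⧸ I) Cb] [Algebra A Cb] [IsScalarTower A (A ⧸ I) Cb]
    (hF : HasFactor (A ⧸ I) Cb)
    (R : Type u) [CommRing R] [Algebra A R] [Algebra.Etale A R] (φ : R →ₐ[A] Cb) (x₀ : R)
    (hx : φ x₀ = 0) :
    ∃ (S : Type u) (_ : CommRing S) (_ : Algebra A S) (_ : Algebra.Etale A S) (f : R →ₐ[A] S)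
      (φS : S →ₐ[A] Cb), φS.comp f = φ ∧ f x₀ ∈ I.map (algebraMap A S) := by
  have halgI : ∀ a ∈ I, algebraMap A Cb a = 0 := by
    intro a ha
    rw [IsScalarTower.algebraMap_apply A (A ⧸ I) Cb]
    change algebraMap (A ⧸ I) Cb (Ideal.Quotient.mk I a) = 0
    rw [Ideal.Quotient.eq_zero_iff_mem.mpr ha, map_zero]
  set J : Ideal R := I.map (algebraMap A R) with hJ
  haveI : Algebra.Etale (A ⧸ I) (R ⧸ J) := Groth.Agent.H3.UnionEtale.etale_quotient I R
  have hφJ : ∀ r ∈ J, φ.toRingHom r = 0 := by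
    have : J ≤ RingHom.ker φ.toRingHom := by
      rw [hJ, Ideal.map_le_iff_le_comap]
      intro a ha
      change φ (algebraMap A R a) = 0
      rw [AlgHom.commutes]
      exact halgI a ha
    exact fun r hr => this hr
  let φbar : (R ⧸ J) →ₐ[A ⧸ I] Cb :=
    { Ideal.Quotient.lift J φ.toRingHom hφJ with
      commutes' := by
        intro abar
        obtain ⟨a, rfl⟩ := Ideal.Quotient.mk_surjective abar
        change φ (algebraMap A R a) = algebraMap (A ⧸ I) Cb (Ideal.Quotient.mk I a)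
        rw [AlgHom.commutes, IsScalarTower.algebraMap_apply A (A ⧸ I) Cb]
        rfl }
  have hφbar : ∀ r : R, φbar (Ideal.Quotient.mk J r) = φ r := fun _ => rfl
  set K : Ideal (R ⧸ J) := Ideal.span {Ideal.Quotient.mk J x₀} with hK
  haveI : Algebra.FinitePresentation (A ⧸ I) ((R ⧸ J) ⧸ K) :=
    Algebra.FinitePresentation.quotient ⟨{Ideal.Quotient.mk J x₀}, by rw [Finset.coe_singleton]⟩
  have hφK : ∀ r ∈ K, φbar r = 0 := by
    have : K ≤ RingHom.ker φbar.toRingHom := by
      rw [hK, Ideal.span_le]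
      intro y hy
      rw [Set.mem_singleton_iff.mp hy]
      exact hx
    exact fun r hr => this hr
  obtain ⟨Y₀, g₀, hg₀⟩ := hF ((R ⧸ J) ⧸ K) (Ideal.Quotient.liftₐ K φbar hφK)
  have hg₀' : ∀ r : R ⧸ J, Y₀.φ (g₀ (Ideal.Quotient.mk K r)) = φbar r := fun r =>
    congrArg (fun w : ((R ⧸ J) ⧸ K) →ₐ[A ⧸ I] Cb => w (Ideal.Quotient.mk K r)) hg₀
  letI algRb : Algebra (R ⧸ J) Y₀.ring :=
    (g₀.toRingHom.comp (Ideal.Quotient.mk K)).toAlgebra
  haveI : IsScalarTower (A ⧸ I) (R ⧸ J) Y₀.ring :=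
    IsScalarTower.of_algebraMap_eq (R := A ⧸ I) (S := R ⧸ J) (A := Y₀.ring) (fun abar => by
      change algebraMap (A ⧸ I) Y₀.ring abar =
        g₀ (Ideal.Quotient.mk K (algebraMap (A ⧸ I) (R ⧸ J) abar))
      have : Ideal.Quotient.mk K (algebraMap (A ⧸ I) (R ⧸ J) abar) =
          algebraMap (A ⧸ I) ((R ⧸ J) ⧸ K) abar := rfl
      rw [this, AlgHom.commutes])
  haveI : Algebra.Etale (R ⧸ J) Y₀.ring :=
    Algebra.Etale.of_restrictScalars (R := A ⧸ I) (A := R ⧸ J) (B := Y₀.ring)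
  obtain ⟨S, _, _, hS, q, hqs, hqa, hqk⟩ := exists_etale_lift_surj R J Y₀.ring
  letI algAS : Algebra A S := ((algebraMap R S).comp (algebraMap A R)).toAlgebra
  haveI : IsScalarTower A R S :=
    IsScalarTower.of_algebraMap_eq (R := A) (S := R) (A := S) (fun _ => rfl)
  haveI : Algebra.Etale A S := Algebra.Etale.comp A R S
  have hφS : ∀ r : R, Y₀.φ (q (algebraMap R S r)) = φ r := by
    intro r
    rw [hqa]
    change Y₀.φ (g₀ (Ideal.Quotient.mk K (Ideal.Quotient.mk J r))) = _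
    rw [hg₀', hφbar]
  let φS : S →ₐ[A] Cb :=
    { Y₀.φ.toRingHom.comp q with
      commutes' := by
        intro a
        change Y₀.φ (q (algebraMap R S (algebraMap A R a))) = algebraMap A Cb a
        rw [hφS, AlgHom.commutes] }
  refine ⟨S, inferInstance, inferInstance, inferInstance, IsScalarTower.toAlgHom A R S, φS,
    AlgHom.ext hφS, ?_⟩
  have h0 : q (algebraMap R S x₀) = 0 := by
    rw [hqa]
    change g₀ (Ideal.Quotient.mk K (Ideal.Quotient.mk J x₀)) = 0
    rw [Ideal.Quotient.eq_zero_iff_mem.mpr (Ideal.subset_span (Set.mem_singleton _)), map_zero]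
  have := hqk _ h0
  rw [hJ, Ideal.map_map] at this
  exact this

set_option maxHeartbeats 800000 in
theorem main (A : Type u) [CommRing A] (I : Ideal A) (Cb : Type u)
    [CommRing Cb] [Algebra (A ⧸ I) Cb] (h : EtPBC.IsIndEtale (A ⧸ I) Cb) :
    ∃ (C : Type u) (_ : CommRing C) (_ : Algebra A C),
      EtPBC.IsIndEtale A C ∧ Nonempty ((C ⧸ I.map (algebraMap A C)) ≃ₐ[A ⧸ I] Cb) := by
  letI algA : Algebra A Cb := ((algebraMap (A ⧸ I) Cb).comp (Ideal.Quotient.mk I)).toAlgebra
  haveI : IsScalarTower A (A ⧸ I) Cb := IsScalarTower.of_algebraMap_eq (fun _ => rfl)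
  have hF : HasFactor (A ⧸ I) Cb := hasFactor_of_isIndEtale h
  have halgI : ∀ a ∈ I, algebraMap A Cb a = 0 := by
    intro a ha
    change algebraMap (A ⧸ I) Cb (Ideal.Quotient.mk I a) = 0
    rw [Ideal.Quotient.eq_zero_iff_mem.mpr ha, map_zero]
  refine ⟨Hull A Cb, inferInstance, inferInstance, isIndEtale A Cb, ?_⟩
  have hπI : ∀ x ∈ I.map (algebraMap A (Hull A Cb)), (π A Cb).toRingHom x = 0 := by
    have : I.map (algebraMap A (Hull A Cb)) ≤ RingHom.ker (π A Cb).toRingHom := by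
      rw [Ideal.map_le_iff_le_comap]
      intro a ha
      change π A Cb (algebraMap A (Hull A Cb) a) = 0
      rw [AlgHom.commutes]
      exact halgI a ha
    exact fun x hx => this hx
  let πbar : Hull A Cb ⧸ I.map (algebraMap A (Hull A Cb)) →+* Cb :=
    Ideal.Quotient.lift _ (π A Cb).toRingHom hπI
  let πalg : (Hull A Cb ⧸ I.map (algebraMap A (Hull A Cb))) →ₐ[A ⧸ I] Cb :=
    { πbar with
      commutes' := by
        intro abar
        obtain ⟨a, rfl⟩ := Ideal.Quotient.mk_surjective abar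
        change π A Cb (algebraMap A (Hull A Cb) a) = algebraMap (A ⧸ I) Cb (Ideal.Quotient.mk I a)
        rw [AlgHom.commutes]
        rfl }
  refine ⟨AlgEquiv.ofBijective πalg ⟨?_, ?_⟩⟩
  · -- injectivity
    rw [injective_iff_map_eq_zero]
    intro xbar hx
    obtain ⟨x, rfl⟩ := Ideal.Quotient.mk_surjective xbar
    have hx' : π A Cb x = 0 := hx
    obtain ⟨X, x₀, rfl⟩ := ι_surj x
    rw [π_ι] at hx'
    rw [Ideal.Quotient.eq_zero_iff_mem]
    obtain ⟨S, _, _, _, f, φS, hfφ, hfx⟩ := kill_step A I Cb hF X.ring X.φ x₀ hx'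
    obtain ⟨Z, e, he⟩ := exists_obj S φS
    let m : X ⟶ Z := ⟨e.symm.toAlgHom.comp f, by
      rw [← AlgHom.comp_assoc, ← hfφ, ← he]
      ext r
      change φS (e (e.symm (f r))) = φS (f r)
      rw [AlgEquiv.apply_symm_apply]⟩
    rw [← ι_comp m]
    exact Groth.Agent.H3.UnionEtale.algHom_mem_map ((ι A Cb Z).comp e.symm.toAlgHom) I hfx
  · -- surjectivity
    intro cb
    obtain ⟨Y₀, hY₀⟩ := IndEtCancel.exists_range hF {cb} (Set.finite_singleton cb)
    obtain ⟨y, hy⟩ := hY₀ (Set.mem_singleton cb)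
    obtain ⟨S, _, _, hS, q, hqs, hqa, -⟩ := exists_etale_lift_surj A I Y₀.ring
    let φS : S →ₐ[A] Cb :=
      { Y₀.φ.toRingHom.comp q with
        commutes' := by
          intro a
          change Y₀.φ (q (algebraMap A S a)) = algebraMap A Cb a
          rw [hqa, AlgHom.commutes]
          rfl }
    obtain ⟨θ, hθ⟩ := exists_lift S φS
    obtain ⟨s, hs⟩ := hqs y
    refine ⟨Ideal.Quotient.mk _ (θ s), ?_⟩
    change π A Cb (θ s) = cb
    have := congrArg (fun w : S →ₐ[A] Cb => w s) hθ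
    simp only [AlgHom.comp_apply] at this
    rw [this]
    change Y₀.φ (q s) = cb
    rw [hs, hy]

end Groth.Agent.H27.IndEtLiftQuot
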