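import Groth.Agent.H27.WEtIndEt
import Groth.Agent.H27.IndEtLiftQuot

/-!
# Lifting weakly étale algebras along a surjection, after a faithfully flat weakly étale cover
-/

set_option autoImplicit false
set_option linter.style.haveILetI false
universe u

open CategoryTheory CategoryTheory.Limits

namespace Groth.Agent.H27.ClosedLiftAlg

theorem exists_lift {C D R : Type u} [CommRing C] [CommRing D] [CommRing R] (δ : C →+* D)
    (hδ : Function.Surjective δ) (f : C →+* R) (hf : RingHom.ker δ ≤ RingHom.ker f) :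
    ∃ h : D →+* R, ∀ c, h (δ c) = f c :=
  ⟨RingHom.liftOfSurjective δ hδ ⟨f, hf⟩,
    fun c => RingHom.liftOfRightInverse_comp_apply δ _ (Function.rightInverse_surjInv hδ) ⟨f, hf⟩ c⟩

/-- a commutative square of rings with surjective parallel sides `φ`, `δ` whose kernels match
is a pushout -/
theorem isPushout_of_surjective {A C Ab D : Type u} [CommRing A] [CommRing C] [CommRing Ab]
    [CommRing D] (γ : A →+* C) (φ : A →+* Ab) (δ : C →+* D) (ρ : Ab →+* D)
    (hφ : Function.Surjective φ) (hδ : Function.Surjective δ) (hcomm : δ.comp γ = ρ.comp φ)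
    (hker : RingHom.ker δ ≤ (RingHom.ker φ).map γ) :
    IsPushout (CommRingCat.ofHom γ) (CommRingCat.ofHom φ) (CommRingCat.ofHom δ)
      (CommRingCat.ofHom ρ) := by
  have hcomm' : ∀ a, δ (γ a) = ρ (φ a) := fun a => congrArg (fun f : A →+* D => f a) hcomm
  have hL : ∀ s : PushoutCocone (CommRingCat.ofHom γ) (CommRingCat.ofHom φ),
      ∃ h : D →+* s.pt, ∀ c, h (δ c) = s.inl.hom c := by
    intro s
    refine exists_lift δ hδ s.inl.hom ?_
    refine hker.trans ?_
    rw [Ideal.map_le_iff_le_comap]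
    intro a ha
    rw [Ideal.mem_comap, RingHom.mem_ker]
    have h := congrArg (fun f : CommRingCat.of A ⟶ s.pt => f.hom a) s.condition
    have h' : s.inl.hom (γ a) = s.inr.hom (φ a) := h
    rw [h', (RingHom.mem_ker).mp ha, map_zero]
  choose L hLp using hL
  refine ⟨⟨?_⟩, ⟨?_⟩⟩
  · ext a
    exact hcomm' a
  · refine PushoutCocone.IsColimit.mk _ (fun s => CommRingCat.ofHom (L s))
      (fun s => ?_) (fun s => ?_) (fun s m h1 h2 => ?_)
    · ext c
      exact hLp s c
    · ext b
      obtain ⟨a, rfl⟩ := hφ b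
      have h := congrArg (fun f : CommRingCat.of A ⟶ s.pt => f.hom a) s.condition
      have h' : s.inl.hom (γ a) = s.inr.hom (φ a) := h
      show L s (ρ (φ a)) = s.inr.hom (φ a)
      rw [← hcomm' a, ← h']
      exact hLp s (γ a)
    · ext d
      obtain ⟨c, rfl⟩ := hδ d
      have h := congrArg (fun f : CommRingCat.of C ⟶ s.pt => f.hom c) h1
      have h' : m.hom (δ c) = s.inl.hom c := h
      show m.hom (δ c) = L s (δ c)
      rw [h', hLp s c]

/-- **Lifting along a surjection.** Given a surjection `φ : A → Ab` and a weakly étale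
`Ab`-algebra `Bb`, there are a weakly étale `A`-algebra `C` and a faithfully flat weakly étale
`Bb`-algebra `D` with `D = C ⊗_A Ab`. -/
theorem main {A Ab Bb : Type u} [CommRing A] [CommRing Ab] [CommRing Bb] (φ : A →+* Ab)
    (hφ : Function.Surjective φ) [Algebra Ab Bb] [Algebra.WeaklyEtale Ab Bb] :
    ∃ (C : Type u) (_ : CommRing C) (_ : Algebra A C) (D : Type u) (_ : CommRing D)
      (_ : Algebra Bb D) (δ : C →+* D),
      Algebra.WeaklyEtale A C ∧ Module.FaithfullyFlat Bb D ∧ Algebra.WeaklyEtale Bb D ∧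
      IsPushout (CommRingCat.ofHom (algebraMap A C)) (CommRingCat.ofHom φ) (CommRingCat.ofHom δ)
        (CommRingCat.ofHom ((algebraMap Bb D).comp (algebraMap Ab Bb))) := by
  let I : Ideal A := RingHom.ker φ
  let κ : A ⧸ I →+* Ab := RingHom.kerLift φ
  have hκ : Function.Bijective κ :=
    ⟨RingHom.kerLift_injective φ, fun b => by
      obtain ⟨a, rfl⟩ := hφ b
      exact ⟨Ideal.Quotient.mk I a, RingHom.kerLift_mk φ a⟩⟩
  letI alg1 : Algebra (A ⧸ I) Ab := κ.toAlgebra
  letI alg2 : Algebra (A ⧸ I) Bb := ((algebraMap Ab Bb).comp κ).toAlgebra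
  haveI : IsScalarTower (A ⧸ I) Ab Bb := IsScalarTower.of_algebraMap_eq (fun _ => rfl)
  let e0 : (A ⧸ I) ≃ₐ[A ⧸ I] Ab := AlgEquiv.ofBijective (Algebra.ofId (A ⧸ I) Ab) hκ
  haveI : Algebra.Etale (A ⧸ I) Ab := Algebra.Etale.of_equiv e0
  haveI : Algebra.WeaklyEtale (A ⧸ I) Bb := Algebra.WeaklyEtale.trans (A ⧸ I) Ab Bb
  obtain ⟨B', _, algBB', algQB', tower, hff, hind1, hind2⟩ :=
    Groth.Agent.H27.WEtIndEt.main (A ⧸ I) Bb
  obtain ⟨C, _, algAC, hindC, ⟨e⟩⟩ := Groth.Agent.H27.IndEtLiftQuot.main A I B' hind2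
  let δ : C →+* B' := e.toRingEquiv.toRingHom.comp (Ideal.Quotient.mk (I.map (algebraMap A C)))
  refine ⟨C, inferInstance, algAC, B', inferInstance, algBB', δ,
    Groth.Agent.S0736.result A C hindC, hff, Groth.Agent.S0736.result Bb B' hind1, ?_⟩
  refine isPushout_of_surjective (algebraMap A C) φ δ _ hφ ?_ ?_ ?_
  · exact e.surjective.comp Ideal.Quotient.mk_surjective
  · ext a
    show e (Ideal.Quotient.mk _ (algebraMap A C a)) =
      algebraMap Bb B' (algebraMap Ab Bb (φ a))
    have h1 : Ideal.Quotient.mk (I.map (algebraMap A C)) (algebraMap A C a) =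
        algebraMap (A ⧸ I) (C ⧸ I.map (algebraMap A C)) (Ideal.Quotient.mk I a) := rfl
    rw [h1, e.commutes, IsScalarTower.algebraMap_apply (A ⧸ I) Bb B']
    rfl
  · intro x hx
    have h1 : e (Ideal.Quotient.mk _ x) = 0 := hx
    have h2 : Ideal.Quotient.mk (I.map (algebraMap A C)) x = 0 :=
      (map_eq_zero_iff e e.injective).mp h1
    exact Ideal.Quotient.eq_zero_iff_mem.mp h2

end Groth.Agent.H27.ClosedLiftAlg
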