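import Groth.Prelude.Def_ProEtS
import Groth.Agent.H10.WeaklyEtaleScheme
import Groth.Agent.H10.WeaklyEtaleResidue

/-!
# Basic structure of coverings in the small pro-étale site
-/

set_option autoImplicit false
set_option linter.style.haveILetI false
open CategoryTheory CategoryTheory.Limits AlgebraicGeometry Opposite
universe u

namespace Groth.Agent.H27.ProEtCov

set_option backward.isDefEq.respectTransparency.types false in
/-- a sieve is covering iff it contains a covering family of the precoverage -/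
theorem mem_topology_iff {X : Scheme.{u}} (U : X.ProEt) (R : Sieve U) :
    R ∈ Scheme.ProEt.topology X U ↔ ∃ P ∈ Scheme.ProEt.precoverage X U, P ≤ R.arrows := by
  haveI : (Scheme.ProEt.precoverage X).IsStableUnderComposition := by
    unfold Scheme.ProEt.precoverage; infer_instance
  haveI : (Scheme.ProEt.precoverage X).IsStableUnderBaseChange := by
    unfold Scheme.ProEt.precoverage; infer_instance
  haveI : (Scheme.ProEt.precoverage X).HasIsos := by
    unfold Scheme.ProEt.precoverage; infer_instance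
  exact Precoverage.mem_toGrothendieck_iff_of_isStableUnderComposition

set_option backward.isDefEq.respectTransparency.types false in
/-- members of a covering family are weakly étale and jointly surjective -/
theorem exists_of_mem_precoverage {X : Scheme.{u}} {U : X.ProEt} {P : Presieve U}
    (hP : P ∈ Scheme.ProEt.precoverage X U) (x : U.left) :
    ∃ (V : X.ProEt) (g : V ⟶ U), P g ∧ WeaklyEtale g.left ∧ x ∈ Set.range g.left.base := by
  have h2 := hP.2
  obtain ⟨Y, f, hf, hx⟩ :=
    (Presieve.mem_comap_jointlySurjectivePrecoverage_iff Scheme.forget).mp h2.1 x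
  obtain ⟨hg⟩ := hf
  exact ⟨_, _, hg, h2.2 (Presieve.map.of hg), hx⟩

/-- a nonempty scheme weakly étale over a separably closed field has a rational point -/
theorem exists_section_of_weaklyEtale {k : Type u} [Field k] [IsSepClosed k] {Z : Scheme.{u}}
    [Nonempty Z] (h : Z ⟶ Spec (CommRingCat.of k)) [WeaklyEtale h] :
    ∃ σ : Spec (CommRingCat.of k) ⟶ Z, σ ≫ h = 𝟙 _ := by
  obtain ⟨z⟩ := (inferInstance : Nonempty Z)
  obtain ⟨_, ⟨W, hW0, rfl⟩, hzW, -⟩ :=
    Z.isBasis_affineOpens.exists_subset_of_mem_open (Set.mem_univ z) isOpen_univ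
  have hW : IsAffineOpen W := hW0
  let ψ : CommRingCat.of k ⟶ Γ(Z, W) := Spec.preimage (hW.fromSpec ≫ h)
  have hψ : Spec.map ψ = hW.fromSpec ≫ h := Spec.map_preimage _
  haveI : WeaklyEtale (Spec.map ψ) := by rw [hψ]; infer_instance
  letI : Algebra k Γ(Z, W) := ψ.hom.toAlgebra
  haveI : Algebra.WeaklyEtale k Γ(Z, W) :=
    (Groth.Agent.H10.weaklyEtale_SpecMap_iff ψ.hom).mp ‹WeaklyEtale (Spec.map ψ)›
  haveI : Nonempty W := ⟨⟨z, hzW⟩⟩
  haveI : Nontrivial Γ(Z, W) := Scheme.component_nontrivial Z W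
  obtain ⟨n, hn⟩ := Ideal.exists_maximal Γ(Z, W)
  letI := Ideal.Quotient.field n
  haveI : Algebra.WeaklyEtale k (Γ(Z, W) ⧸ n) := Groth.Agent.H10.weaklyEtale_quotient k _ n
  haveI : Algebra.IsSeparable k (Γ(Z, W) ⧸ n) :=
    Groth.Agent.H10.isSeparable_of_weaklyEtale_field k _
  have hsurj : Function.Surjective (algebraMap k (Γ(Z, W) ⧸ n)) :=
    IsSepClosed.algebraMap_surjective k _
  let e : k ≃ₐ[k] (Γ(Z, W) ⧸ n) :=
    AlgEquiv.ofBijective (Algebra.ofId k _) ⟨(algebraMap k _).injective, hsurj⟩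
  let ρ : Γ(Z, W) →ₐ[k] k := e.symm.toAlgHom.comp (Ideal.Quotient.mkₐ k n)
  refine ⟨Spec.map (CommRingCat.ofHom ρ.toRingHom) ≫ hW.fromSpec, ?_⟩
  rw [Category.assoc, ← hψ, ← Spec.map_comp]
  have : ψ ≫ CommRingCat.ofHom ρ.toRingHom = 𝟙 _ := by
    ext c
    exact ρ.commutes c
  rw [this, Spec.map_id]

/-- geometric points lift along coverings -/
theorem geometric_lift {X : Scheme.{u}} (U : X.ProEt) (R : Sieve U)
    (hR : R ∈ Scheme.ProEt.topology X U) {k : Type u} [Field k] [IsSepClosed k]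
    (ξ : Spec (CommRingCat.of k) ⟶ U.left) :
    ∃ (V : X.ProEt) (g : V ⟶ U) (ξ' : Spec (CommRingCat.of k) ⟶ V.left),
      R g ∧ ξ' ≫ g.left = ξ := by
  obtain ⟨P, hP, hle⟩ := (mem_topology_iff U R).mp hR
  obtain ⟨pt⟩ : Nonempty (Spec (CommRingCat.of k)) := inferInstance
  obtain ⟨V, g, hPg, hwe, ⟨v, hv⟩⟩ := exists_of_mem_precoverage hP (ξ.base pt)
  haveI := hwe
  obtain ⟨z, -, -⟩ := Scheme.Pullback.exists_preimage_pullback (f := g.left) (g := ξ) v pt hv
  haveI : Nonempty ↥(pullback g.left ξ) := ⟨z⟩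
  obtain ⟨σ, hσ⟩ := exists_section_of_weaklyEtale (pullback.snd g.left ξ)
  refine ⟨V, g, σ ≫ pullback.fst g.left ξ, hle _ _ hPg, ?_⟩
  rw [Category.assoc, pullback.condition, ← Category.assoc, hσ, Category.id_comp]

end Groth.Agent.H27.ProEtCov
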