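import Groth.Agent.H27.ClosedLiftAff
import Groth.Agent.H27.ProEtCov

/-!
# Lifting weakly étale schemes along a closed immersion, locally in the pro-étale topology
-/

set_option autoImplicit false
set_option linter.style.haveILetI false
universe u

open CategoryTheory CategoryTheory.Limits AlgebraicGeometry

namespace Groth.Agent.H27.ClosedLiftSch

/-- local version around a point -/
theorem local_lift {X Z V : Scheme.{u}} (i : Z ⟶ X) [IsClosedImmersion i] (q : V ⟶ Z)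
    [WeaklyEtale q] (v : V) :
    ∃ (UV : V.Opens) (T W : Scheme.{u}) (t : T ⟶ X) (w : W ⟶ T) (c' : W ⟶ UV.toScheme),
      v ∈ UV ∧ IsAffineOpen UV ∧ WeaklyEtale t ∧ WeaklyEtale c' ∧ Surjective c' ∧ IsAffine W ∧
        IsPullback w ((c' ≫ UV.ι) ≫ q) t i := by
  obtain ⟨_, ⟨(U : X.Opens), hU0, rfl⟩, hxU, -⟩ :=
    X.isBasis_affineOpens.exists_subset_of_mem_open (Set.mem_univ ((q ≫ i).base v)) isOpen_univ
  have hU : IsAffineOpen U := hU0
  have hUZ : IsAffineOpen (i ⁻¹ᵁ U) := hU.preimage i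
  have hv : v ∈ q ⁻¹ᵁ (i ⁻¹ᵁ U) := hxU
  obtain ⟨_, ⟨(UV : V.Opens), hUV0, rfl⟩, hvUV, hle⟩ :=
    V.isBasis_affineOpens.exists_subset_of_mem_open hv (q ⁻¹ᵁ (i ⁻¹ᵁ U)).isOpen
  have hUV : IsAffineOpen UV := hUV0
  have hle' : UV ≤ q ⁻¹ᵁ (i ⁻¹ᵁ U) := hle
  haveI : IsAffine U.toScheme := hU
  haveI : IsAffine (i ⁻¹ᵁ U).toScheme := hUZ
  haveI : IsAffine UV.toScheme := hUV
  obtain ⟨T', W', t', w, c', hT', hW', hwt, hwc, hsc, hpb⟩ :=
    Groth.Agent.H27.ClosedLiftAff.main (i ∣_ U) (q.resLE (i ⁻¹ᵁ U) UV hle')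
  haveI := hwt
  refine ⟨UV, T', W', t' ≫ U.ι, w, c', hvUV, hUV, inferInstance, hwc, hsc, hW', ?_⟩
  have h2 := (isPullback_morphismRestrict i U).flip
  have h3 := (hpb.flip.paste_horiz h2).flip
  have e : (c' ≫ q.resLE (i ⁻¹ᵁ U) UV hle') ≫ (i ⁻¹ᵁ U).ι = (c' ≫ UV.ι) ≫ q := by
    rw [Category.assoc, Scheme.Hom.resLE_comp_ι, Category.assoc]
  rw [e] at h3
  exact h3

set_option backward.isDefEq.respectTransparency.types false in
/-- **Local lifting along a closed immersion.** A scheme `V` weakly étale over a closed subscheme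
`Z ⊆ X` is covered, in the pro-étale topology, by base changes to `Z` of schemes weakly étale
over `X`. -/
theorem main {X Z V : Scheme.{u}} (i : Z ⟶ X) [IsClosedImmersion i] (q : V ⟶ Z)
    [WeaklyEtale q] :
    ∃ (T W : (Σ _ : V, PUnit.{1}) → Scheme.{u}) (t : ∀ a, T a ⟶ X) (w : ∀ a, W a ⟶ T a)
      (c : ∀ a, W a ⟶ V),
      (∀ a, WeaklyEtale (t a)) ∧ (∀ a, IsPullback (w a) (c a ≫ q) (t a) i) ∧
        Presieve.ofArrows W c ∈ Scheme.proetalePrecoverage V := by
  choose UV T W t w c' hv hUV hwt hwc hsc hW hpb using local_lift i q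
  have hcov : TopologicalSpace.IsOpenCover UV := by
    refine eq_top_iff.mpr fun x _ => ?_
    exact TopologicalSpace.Opens.mem_iSup.mpr ⟨x, hv x⟩
  let 𝒰 : V.OpenCover := V.openCoverOfIsOpenCover UV hcov
  refine ⟨fun a => T a.1, fun a => W a.1, fun a => t a.1, fun a => w a.1,
    fun a => c' a.1 ≫ (UV a.1).ι, fun a => hwt a.1, fun a => hpb a.1, ?_⟩
  have h1 : Presieve.ofArrows 𝒰.X 𝒰.f ∈ Scheme.proetalePrecoverage V :=
    Scheme.zariskiPrecoverage_le_propQCPrecoverage _ 𝒰.mem₀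
  have h2 : ∀ a, Presieve.ofArrows (fun _ : PUnit.{1} => W a) (fun _ => c' a) ∈
      Scheme.proetalePrecoverage (𝒰.X a) := by
    intro a
    rw [Presieve.ofArrows_pUnit]
    haveI : IsAffine (W a) := hW a
    haveI : IsAffine (UV a).toScheme := hUV a
    have hq : QuasiCompact (c' a) := inferInstance
    exact ⟨@Scheme.Hom.singleton_mem_qcPrecoverage _ _ (c' a) (hsc a) hq,
      (Scheme.singleton_mem_precoverage_iff _ _).mpr ⟨(hsc a).surj, hwc a⟩⟩
  exact Precoverage.comp_mem_coverings 𝒰.f h1 (fun a _ => c' a) h2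

/-- local version around a point, in terms of the chosen pullback -/
theorem local_lift' {X Z V : Scheme.{u}} (i : Z ⟶ X) [IsClosedImmersion i] (q : V ⟶ Z)
    [WeaklyEtale q] (v : V) :
    ∃ (UV : V.Opens) (T : Scheme.{u}) (t : T ⟶ X) (k' : pullback t i ⟶ UV.toScheme),
      v ∈ UV ∧ IsAffineOpen UV ∧ WeaklyEtale t ∧ WeaklyEtale k' ∧ Surjective k' ∧
        IsAffine (pullback t i) ∧ (k' ≫ UV.ι) ≫ q = pullback.snd t i := by
  obtain ⟨UV, T, W, t, w, c', hv, hUV, hwt, hwc, hsc, hW, hpb⟩ := local_lift i q v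
  haveI := hwc
  haveI := hsc
  refine ⟨UV, T, t, hpb.isoPullback.inv ≫ c', hv, hUV, hwt, inferInstance, inferInstance,
    IsAffine.of_isIso hpb.isoPullback.inv, ?_⟩
  rw [Category.assoc, Category.assoc, ← Category.assoc c', Iso.inv_comp_eq, hpb.isoPullback_hom_snd]

set_option backward.isDefEq.respectTransparency.types false in
/-- **Local lifting along a closed immersion**, in terms of the chosen pullbacks. -/
theorem main' {X Z V : Scheme.{u}} (i : Z ⟶ X) [IsClosedImmersion i] (q : V ⟶ Z)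
    [WeaklyEtale q] :
    ∃ (T : (Σ _ : V, PUnit.{1}) → Scheme.{u}) (t : ∀ a, T a ⟶ X)
      (k : ∀ a, pullback (t a) i ⟶ V),
      (∀ a, WeaklyEtale (t a)) ∧ (∀ a, k a ≫ q = pullback.snd (t a) i) ∧
        Presieve.ofArrows (fun a => pullback (t a) i) k ∈ Scheme.proetalePrecoverage V := by
  choose UV T t k' hv hUV hwt hwk hsk hW hk using local_lift' i q
  have hcov : TopologicalSpace.IsOpenCover UV := by
    refine eq_top_iff.mpr fun x _ => ?_
    exact TopologicalSpace.Opens.mem_iSup.mpr ⟨x, hv x⟩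
  let 𝒰 : V.OpenCover := V.openCoverOfIsOpenCover UV hcov
  refine ⟨fun a => T a.1, fun a => t a.1, fun a => k' a.1 ≫ (UV a.1).ι, fun a => hwt a.1,
    fun a => hk a.1, ?_⟩
  have h1 : Presieve.ofArrows 𝒰.X 𝒰.f ∈ Scheme.proetalePrecoverage V :=
    Scheme.zariskiPrecoverage_le_propQCPrecoverage _ 𝒰.mem₀
  have h2 : ∀ a, Presieve.ofArrows (fun _ : PUnit.{1} => pullback (t a) i) (fun _ => k' a) ∈
      Scheme.proetalePrecoverage (𝒰.X a) := by
    intro a
    rw [Presieve.ofArrows_pUnit]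
    haveI : IsAffine (pullback (t a) i) := hW a
    haveI : IsAffine (UV a).toScheme := hUV a
    have hq : QuasiCompact (k' a) := inferInstance
    exact ⟨@Scheme.Hom.singleton_mem_qcPrecoverage _ _ (k' a) (hsk a) hq,
      (Scheme.singleton_mem_precoverage_iff _ _).mpr ⟨(hsk a).surj, hwk a⟩⟩
  exact Precoverage.comp_mem_coverings 𝒰.f h1 (fun a _ => k' a) h2

end Groth.Agent.H27.ClosedLiftSch
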