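import Groth.Agent.H27.Basic

set_option autoImplicit false

namespace Groth.Agent.H27

open RootD Finsupp RootPairing

variable {ι M N : Type*} [AddCommGroup M] [AddCommGroup N] {P : RootPairing ι ℤ M N}

section Finite
variable [Finite ι]

lemma reflection_eq_of_root_eq_smul {i j : ι} {t : ℤ} (h : P.root j = t • P.root i) :
    P.reflection i = P.reflection j := by
  have := torsionFree' P
  have hc : t • P.coroot j = P.coroot i := RootPairing.smul_coroot_eq_of_root_eq_smul i j t h
  ext x
  rw [P.reflection_apply, P.reflection_apply, h]
  congr 1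
  change P.toLinearMap x (P.coroot i) • P.root i = P.toLinearMap x (P.coroot j) • t • P.root i
  rw [← hc, map_smul, smul_smul, smul_eq_mul, mul_comm]

/-- S5468 core -/
lemma isOrthogonal_of_commute {i j : ι} (hne : P.reflection i ≠ P.reflection j)
    (hc : Commute (P.reflection i) (P.reflection j)) : P.IsOrthogonal i j := by
  have htf := torsionFree P
  set a := P.pairing j i with ha
  set b := P.pairing i j with hb
  have h1 : P.reflection i (P.reflection j (P.root j)) = P.reflection j (P.reflection i (P.root j)) := by
    have := congrArg (fun f : M ≃ₗ[ℤ] M => f (P.root j)) hc.eq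
    simpa [LinearEquiv.mul_apply] using this
  rw [P.reflection_apply_self, map_neg, P.reflection_apply_root, map_sub, map_smul,
    P.reflection_apply_self, P.reflection_apply_root] at h1
  have h2 : a • ((2 : ℤ) • P.root i - b • P.root j) = 0 := by
    have e : a • ((2 : ℤ) • P.root i - b • P.root j) =
        (-(P.root j - a • P.root i)) - (-P.root j - a • (P.root i - b • P.root j)) := by
      module
    rw [e]
    exact sub_eq_zero.2 h1
  rcases smul_eq_zero.1 h2 with h0 | h0
  · exact ⟨P.pairing_eq_zero_iff'.1 h0, h0⟩
  · exfalso
    apply hne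
    have h3 : (2 : ℤ) • P.root i = b • P.root j := sub_eq_zero.1 h0
    have hab : b * a = 4 := by
      have := congrArg (fun x => P.toLinearMap x (P.coroot i)) h3
      simp only [map_smul, LinearMap.smul_apply, smul_eq_mul] at this
      change 2 * P.pairing i i = b * P.pairing j i at this
      rw [P.pairing_same] at this
      rw [← ha] at this
      omega
    have hbdvd : b ∣ 4 := ⟨a, hab.symm⟩
    have hb1 : b ≤ 4 := Int.le_of_dvd (by norm_num) hbdvd
    have hb2 : -b ≤ 4 := Int.le_of_dvd (by norm_num) ((neg_dvd).2 hbdvd)
    have hb0 : b ≠ 0 := by rintro h; rw [h] at hab; simp at hab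
    have hb3 : b ≠ 3 := by rintro h; rw [h] at hab; omega
    have hb4 : b ≠ -3 := by rintro h; rw [h] at hab; omega
    have hcases : b = 1 ∨ b = -1 ∨ b = 2 ∨ b = -2 ∨ b = 4 ∨ b = -4 := by omega
    rcases hcases with h | h | h | h | h | h
    · -- root j = 2 • root i
      refine reflection_eq_of_root_eq_smul (t := 2) ?_
      rw [h3, h, one_smul]
    · refine reflection_eq_of_root_eq_smul (t := -2) ?_
      rw [neg_smul, h3, h]; simp
    · refine (reflection_eq_of_root_eq_smul (i := j) (j := i) (t := 1) ?_).symm
      rw [h] at h3
      rw [one_smul]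
      exact smul_right_injective M (by norm_num : (2 : ℤ) ≠ 0) h3
    · refine (reflection_eq_of_root_eq_smul (i := j) (j := i) (t := -1) ?_).symm
      rw [h] at h3
      have : (2 : ℤ) • P.root i = (2 : ℤ) • ((-1 : ℤ) • P.root j) := by
        rw [h3]; module
      exact smul_right_injective M (by norm_num : (2 : ℤ) ≠ 0) this
    · refine (reflection_eq_of_root_eq_smul (i := j) (j := i) (t := 2) ?_).symm
      rw [h] at h3
      have : (2 : ℤ) • P.root i = (2 : ℤ) • ((2 : ℤ) • P.root j) := by
        rw [h3]; module
      exact smul_right_injective M (by norm_num : (2 : ℤ) ≠ 0) this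
    · refine (reflection_eq_of_root_eq_smul (i := j) (j := i) (t := -2) ?_).symm
      rw [h] at h3
      have : (2 : ℤ) • P.root i = (2 : ℤ) • ((-2 : ℤ) • P.root j) := by
        rw [h3]; module
      exact smul_right_injective M (by norm_num : (2 : ℤ) ≠ 0) this

end Finite

end Groth.Agent.H27
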