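import Mathlib

set_option autoImplicit false
universe u

namespace Groth.Agent.H27.CompLoc

open Function

variable {R : Type u} [CommRing R] (m : Ideal R) [m.IsMaximal]

/-- Localized map, as a map of modules over the localization. -/
noncomputable def locMap {N N' : Type u} [AddCommGroup N] [Module R N] [AddCommGroup N']
    [Module R N'] (f : N →ₗ[R] N') :
    LocalizedModule m.primeCompl N →ₗ[Localization.AtPrime m] LocalizedModule m.primeCompl N' :=
  (IsLocalizedModule.map m.primeCompl (LocalizedModule.mkLinearMap m.primeCompl N)
    (LocalizedModule.mkLinearMap m.primeCompl N') f).extendScalarsOfIsLocalization m.primeCompl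
      (Localization.AtPrime m)

theorem length_add_of_exact {N N' N'' : Type u} [AddCommGroup N] [Module R N] [AddCommGroup N']
    [Module R N'] [AddCommGroup N''] [Module R N''] (f : N →ₗ[R] N') (g : N' →ₗ[R] N'')
    (hf : Injective f) (hg : Surjective g) (hfg : Exact f g) :
    Module.length (Localization.AtPrime m) (LocalizedModule m.primeCompl N') =
      Module.length (Localization.AtPrime m) (LocalizedModule m.primeCompl N) +
        Module.length (Localization.AtPrime m) (LocalizedModule m.primeCompl N'') := by
  refine Module.length_eq_add_of_exact (locMap m f) (locMap m g) ?_ ?_ ?_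
  · exact IsLocalizedModule.map_injective m.primeCompl _ _ f hf
  · exact IsLocalizedModule.map_surjective m.primeCompl _ _ g hg
  · exact IsLocalizedModule.map_exact m.primeCompl _ _ _ f g hfg

theorem length_eq_of_bijective {N N' : Type u} [AddCommGroup N] [Module R N] [AddCommGroup N']
    [Module R N'] (f : N →ₗ[R] N') (hf : Bijective f) :
    Module.length (Localization.AtPrime m) (LocalizedModule m.primeCompl N) =
      Module.length (Localization.AtPrime m) (LocalizedModule m.primeCompl N') := by
  have h1 : Injective (locMap m f) := IsLocalizedModule.map_injective m.primeCompl _ _ f hf.1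
  have h2 : Surjective (locMap m f) := IsLocalizedModule.map_surjective m.primeCompl _ _ f hf.2
  exact (LinearEquiv.ofBijective (locMap m f) ⟨h1, h2⟩).length_eq

/-- The localization at `m` of a simple module has length `1` or `0`. -/
theorem length_localized_simple (Q : Type u) [AddCommGroup Q] [Module R Q] [IsSimpleModule R Q] :
    Module.length (Localization.AtPrime m) (LocalizedModule m.primeCompl Q) =
      if Module.annihilator R Q = m then 1 else 0 := by
  have hmax : (Module.annihilator R Q).IsMaximal := IsSimpleModule.annihilator_isMaximal
  split_ifs with h
  · -- simple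
    rw [Module.length_eq_one_iff, isSimpleModule_iff_toSpanSingleton_surjective]
    have hkill : ∀ (x : Q) (s : R), s ∉ m → s • x = 0 → x = 0 := by
      intro x s hs hsx
      by_contra hx
      have hker : Ideal.IsMaximal (LinearMap.ker (LinearMap.toSpanSingleton R Q x)) :=
        IsSimpleModule.ker_toSpanSingleton_isMaximal R hx
      have hle : m ≤ LinearMap.ker (LinearMap.toSpanSingleton R Q x) := by
        intro r hr
        rw [← h] at hr
        rw [LinearMap.mem_ker, LinearMap.toSpanSingleton_apply]
        exact Module.mem_annihilator.mp hr x
      have heq := (inferInstance : m.IsMaximal).eq_of_le hker.ne_top hle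
      apply hs
      rw [heq, LinearMap.mem_ker, LinearMap.toSpanSingleton_apply]
      exact hsx
    constructor
    · have := IsSimpleModule.nontrivial R Q
      obtain ⟨x, hx⟩ := exists_ne (0 : Q)
      refine ⟨⟨LocalizedModule.mk x 1, 0, ?_⟩⟩
      intro h0
      rw [← LocalizedModule.zero_mk (1 : m.primeCompl), LocalizedModule.mk_eq] at h0
      obtain ⟨u, hu⟩ := h0
      simp only [one_smul, smul_zero] at hu
      exact hx (hkill x u u.2 hu)
    · intro y hy z
      induction y with
      | h x s =>
      induction z with
      | h x' s' =>
      have hx : x ≠ 0 := by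
        rintro rfl
        exact hy (LocalizedModule.zero_mk s)
      obtain ⟨r, hr⟩ := IsSimpleModule.toSpanSingleton_surjective R hx x'
      rw [LinearMap.toSpanSingleton_apply] at hr
      refine ⟨Localization.mk (r * s) s', ?_⟩
      rw [LinearMap.toSpanSingleton_apply, LocalizedModule.mk_smul_mk, mul_smul, ← hr]
      rw [smul_comm, ← Submonoid.smul_def, LocalizedModule.mk_cancel_common_right]
  · -- zero
    rw [Module.length_eq_zero_iff, LocalizedModule.subsingleton_iff]
    have hnle : ¬ Module.annihilator R Q ≤ m := fun hle =>
      h (hmax.eq_of_le (inferInstance : m.IsMaximal).ne_top hle)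
    obtain ⟨t, ht, htm⟩ := SetLike.not_le_iff_exists.mp hnle
    exact fun x => ⟨t, htm, Module.mem_annihilator.mp ht x⟩

variable {M : Type u} [AddCommGroup M] [Module R M]

theorem step {N N' : Submodule R M} (h : N ⋖ N') :
    Module.length (Localization.AtPrime m) (LocalizedModule m.primeCompl N') =
      Module.length (Localization.AtPrime m) (LocalizedModule m.primeCompl N) +
        if N.colon (N' : Set M) = m then 1 else 0 := by
  let f : N →ₗ[R] N' := Submodule.inclusion h.le
  have key : IsSimpleModule R (N' ⧸ LinearMap.range f) := by
    rwa [Submodule.range_inclusion, ← covBy_iff_quot_is_simple h.le]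
  have hann : Module.annihilator R (N' ⧸ LinearMap.range f) = N.colon (N' : Set M) := by
    ext r
    rw [Module.mem_annihilator, Submodule.mem_colon]
    constructor
    · intro hr x hx
      have := hr (Submodule.Quotient.mk ⟨x, hx⟩)
      rw [← Submodule.Quotient.mk_smul, Submodule.Quotient.mk_eq_zero,
        Submodule.range_inclusion] at this
      exact this
    · intro hr q
      obtain ⟨⟨x, hx⟩, rfl⟩ := Submodule.Quotient.mk_surjective _ q
      rw [← Submodule.Quotient.mk_smul, Submodule.Quotient.mk_eq_zero, Submodule.range_inclusion]
      exact hr x hx
  rw [length_add_of_exact m f (LinearMap.range f).mkQ (Submodule.inclusion_injective h.le)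
    (Submodule.mkQ_surjective _) (LinearMap.exact_map_mkQ_range f),
    length_localized_simple m (N' ⧸ LinearMap.range f), hann]

theorem card_eq_length (s : CompositionSeries (Submodule R M)) (h0 : s.head = ⊥)
    (h1 : s.last = ⊤) :
    ((Finset.univ.filter fun i : Fin s.length =>
      (s i.castSucc).colon (s i.succ : Set M) = m).card : ℕ∞) =
      Module.length (Localization.AtPrime m) (LocalizedModule m.primeCompl M) := by
  classical
  have key : ∀ k : Fin (s.length + 1),
      Module.length (Localization.AtPrime m) (LocalizedModule m.primeCompl (s k)) =
        ((Finset.univ.filter fun i : Fin s.length =>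
          i.castSucc < k ∧ (s i.castSucc).colon (s i.succ : Set M) = m).card : ℕ∞) := by
    intro k
    induction k using Fin.induction with
    | zero =>
      have : s 0 = ⊥ := h0
      rw [this]
      have h2 : Module.length (Localization.AtPrime m)
          (LocalizedModule m.primeCompl (⊥ : Submodule R M)) = 0 := by
        rw [Module.length_eq_zero_iff]
        infer_instance
      rw [h2]
      simp
    | succ i hi =>
      rw [step m (s.step i), hi]
      have hset : (Finset.univ.filter fun j : Fin s.length =>
          j.castSucc < i.succ ∧ (s j.castSucc).colon (s j.succ : Set M) = m) =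
          (Finset.univ.filter fun j : Fin s.length =>
            j.castSucc < i.castSucc ∧ (s j.castSucc).colon (s j.succ : Set M) = m) ∪
          (if (s i.castSucc).colon (s i.succ : Set M) = m then {i} else ∅) := by
        ext j
        simp only [Finset.mem_filter, Finset.mem_univ, true_and, Finset.mem_union]
        have hlt : j.castSucc < i.succ ↔ j.castSucc < i.castSucc ∨ j = i := by
          rw [Fin.lt_def, Fin.lt_def, Fin.ext_iff]
          simp only [Fin.val_castSucc, Fin.val_succ]
          omega
        constructor
        · rintro ⟨hj, hc⟩
          rcases hlt.mp hj with h | rfl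
          · exact Or.inl ⟨h, hc⟩
          · right; rw [if_pos hc]; exact Finset.mem_singleton_self _
        · rintro (⟨hj, hc⟩ | hj)
          · exact ⟨hlt.mpr (Or.inl hj), hc⟩
          · split_ifs at hj with hc
            · rw [Finset.mem_singleton] at hj
              subst hj
              exact ⟨hlt.mpr (Or.inr rfl), hc⟩
            · exact absurd hj (Finset.notMem_empty _)
      rw [hset, Finset.card_union_of_disjoint]
      · split_ifs <;> simp
      · rw [Finset.disjoint_left]
        intro j hj hj'
        split_ifs at hj' with hc
        · rw [Finset.mem_singleton] at hj'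
          subst hj'
          exact lt_irrefl _ (Finset.mem_filter.mp hj).2.1
        · exact absurd hj' (Finset.notMem_empty _)
  have hlast := key (Fin.last s.length)
  have h3 : s (Fin.last s.length) = ⊤ := h1
  rw [h3] at hlast
  rw [← length_eq_of_bijective m (⊤ : Submodule R M).subtype
    ⟨Submodule.injective_subtype _, fun x => ⟨⟨x, trivial⟩, rfl⟩⟩, hlast]
  congr 2
  ext j
  simp only [Finset.mem_filter, Finset.mem_univ, true_and, iff_and_self]
  intro _
  exact Fin.castSucc_lt_last j

end Groth.Agent.H27.CompLoc
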