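import Mathlib.CategoryTheory.Sites.DenseSubsite.Basic

/-!
# Simultaneous local lifting of two morphisms into images of a cover-dense locally full functor
-/

set_option autoImplicit false
universe v₁ v₂ u₁ u₂

open CategoryTheory

namespace Groth.Agent.H27.CoverDensePair

variable {C : Type u₁} [Category.{v₁} C] {D : Type u₂} [Category.{v₂} D] (G : C ⥤ D)
  (K : GrothendieckTopology D)

/-- the sieve of morphisms factoring through some `G.obj T ⟶ V'` over which both `h` and `a`
come from morphisms of `C` -/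
def pairSieve {V' : D} {W U : C} (h : V' ⟶ G.obj W) (a : V' ⟶ G.obj U) : Sieve V' where
  arrows Y k := ∃ (T : C) (l : Y ⟶ G.obj T) (k' : G.obj T ⟶ V') (g : T ⟶ W) (u : T ⟶ U),
    l ≫ k' = k ∧ G.map g = k' ≫ h ∧ G.map u = k' ≫ a
  downward_closed := by
    rintro Y Y' k ⟨T, l, k', g, u, rfl, hg, hu⟩ m
    exact ⟨T, m ≫ l, k', g, u, Category.assoc _ _ _, hg, hu⟩

variable [G.IsCoverDense K] [G.IsLocallyFull K]

theorem pairSieve_mem {V' : D} {W U : C} (h : V' ⟶ G.obj W) (a : V' ⟶ G.obj U) :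
    pairSieve G h a ∈ K V' := by
  apply K.transitive (G.is_cover_of_isCoverDense K V')
  rintro Y c ⟨⟨T1, lift, map, fac⟩⟩
  rw [← fac, Sieve.pullback_comp]
  apply K.pullback_stable
  apply K.transitive (G.functorPushforward_imageSieve_mem K (map ≫ h))
  rintro Y2 k2 ⟨T2, e, lift2, ⟨g, hg⟩, rfl⟩
  rw [Sieve.pullback_comp]
  apply K.pullback_stable
  apply K.transitive (G.functorPushforward_imageSieve_mem K (G.map e ≫ map ≫ a))
  rintro Y3 k3 ⟨T3, e', lift3, ⟨u, hu⟩, rfl⟩
  rw [Sieve.pullback_comp]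
  apply K.pullback_stable
  apply K.covering_of_eq_top
  rw [← Sieve.id_mem_iff_eq_top]
  refine ⟨T3, 𝟙 _, G.map e' ≫ G.map e ≫ map, e' ≫ g, u, ?_, ?_, ?_⟩
  · simp
  · rw [Functor.map_comp, hg]
    simp
  · rw [hu]
    simp

end Groth.Agent.H27.CoverDensePair
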