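import Groth.Agent.H4.DirFlat
import Mathlib.RingTheory.FinitePresentation

/-!
# Maps from finitely presented algebras into a directed cover factor through a stage
-/

set_option autoImplicit false
universe u v w

namespace Groth.Agent.H27.CoverFactor

open Groth.Agent.H4.DirFlat

/-- descend an algebra map along a surjection -/
theorem exists_algHom_of_surjective {A : Type*} {P' P C : Type*} [CommRing A] [CommRing P']
    [CommRing P] [CommRing C] [Algebra A P'] [Algebra A P] [Algebra A C]
    (f : P' →ₐ[A] P) (hf : Function.Surjective f) (θ : P' →ₐ[A] C)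
    (h : ∀ x, f x = 0 → θ x = 0) : ∃ g : P →ₐ[A] C, g.comp f = θ := by
  let e := Ideal.quotientKerAlgEquivOfSurjective hf
  let g0 : (P' ⧸ RingHom.ker f.toRingHom) →ₐ[A] C :=
    Ideal.Quotient.liftₐ (RingHom.ker f.toRingHom) θ (fun x hx => h x hx)
  refine ⟨g0.comp e.symm.toAlgHom, ?_⟩
  ext x
  change g0 (e.symm (f x)) = θ x
  have : e.symm (f x) = Ideal.Quotient.mk _ x := by
    apply e.injective
    rw [AlgEquiv.apply_symm_apply]
    rfl
  rw [this]
  rfl

section general

variable {A : Type u} {B : Type v} [CommRing A] [CommRing B] [Algebra A B]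
variable {J : Type w} {C : J → Type v} [∀ j, CommRing (C j)] [∀ j, Algebra A (C j)]
variable {ι : ∀ j, C j →ₐ[A] B}

/-- finitely many elements dying in `B` are killed at a common later stage -/
theorem exists_kill_fin (hi : Inj ι) (j : J) (t : Finset (C j)) (ht : ∀ c ∈ t, ι j c = 0) :
    ∃ (j' : J) (u : C j →ₐ[A] C j'), (ι j').comp u = ι j ∧ ∀ c ∈ t, u c = 0 := by
  classical
  induction t using Finset.induction_on with
  | empty => exact ⟨j, AlgHom.id A _, AlgHom.comp_id _, by simp⟩
  | insert a s ha ih =>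
    obtain ⟨j1, u1, h1, h1'⟩ := ih (fun c hc => ht c (Finset.mem_insert_of_mem hc))
    have h0 : ι j1 (u1 a) = 0 := by
      have := ht a (Finset.mem_insert_self a s)
      rw [← h1] at this
      exact this
    obtain ⟨j2, u2, h2, h2'⟩ := hi j1 (u1 a) h0
    refine ⟨j2, u2.comp u1, by rw [← AlgHom.comp_assoc, h2, h1], ?_⟩
    intro c hc
    rcases Finset.mem_insert.mp hc with rfl | hc
    · exact h2'
    · change u2 (u1 c) = 0
      rw [h1' c hc, map_zero]

/-- a map from a finitely presented algebra into `B` factors through a stage of a directed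
cover -/
theorem exists_factor (hd : Dir ι) (hs : Surj ι) (hi : Inj ι)
    (P : Type*) [CommRing P] [Algebra A P] [Algebra.FinitePresentation A P] (ψ : P →ₐ[A] B) :
    ∃ (j : J) (g : P →ₐ[A] C j), (ι j).comp g = ψ := by
  classical
  obtain ⟨n, f, hf, t, ht⟩ := Algebra.FinitePresentation.out (R := A) (A := P)
  obtain ⟨j, x', hx'⟩ := exists_lift_fin hd hs (fun i => ψ (f (MvPolynomial.X i)))
  let θ : MvPolynomial (Fin n) A →ₐ[A] C j := MvPolynomial.aeval x'
  have hθ : (ι j).comp θ = ψ.comp f := by
    apply MvPolynomial.algHom_ext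
    intro i
    change ι j (MvPolynomial.aeval x' (MvPolynomial.X i)) = ψ (f (MvPolynomial.X i))
    rw [MvPolynomial.aeval_X, hx']
  have h0 : ∀ c ∈ t.image θ, ι j c = 0 := by
    intro c hc
    obtain ⟨r, hr, rfl⟩ := Finset.mem_image.mp hc
    have hr' : r ∈ RingHom.ker f.toRingHom := by
      rw [← ht]; exact Ideal.subset_span hr
    have : f r = 0 := hr'
    change ((ι j).comp θ) r = 0
    rw [hθ]
    change ψ (f r) = 0
    rw [this, map_zero]
  obtain ⟨j', u, hu, hu0⟩ := exists_kill_fin hi j (t.image θ) h0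
  have hker : ∀ x, f x = 0 → (u.comp θ) x = 0 := by
    have : RingHom.ker f.toRingHom ≤ RingHom.ker (u.comp θ).toRingHom := by
      rw [← ht, Ideal.span_le]
      intro r hr
      exact hu0 _ (Finset.mem_image_of_mem θ hr)
    exact fun x hx => this hx
  obtain ⟨g, hg⟩ := exists_algHom_of_surjective f hf (u.comp θ) hker
  refine ⟨j', g, ?_⟩
  rw [← AlgHom.cancel_right hf, AlgHom.comp_assoc, hg, ← AlgHom.comp_assoc, hu, hθ]

end general

end Groth.Agent.H27.CoverFactor
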