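import Groth.Agent.H27.Faithful
import Groth.Agent.H27.Commute

set_option autoImplicit false

namespace Groth.Agent.H27

open RootD Finsupp RootPairing

variable {ι M N : Type*} [AddCommGroup M] [AddCommGroup N] {P : RootPairing ι ℤ M N}

/-- product of the reflections along a list of indices -/
noncomputable def lprod (P : RootPairing ι ℤ M N) (L : List ι) : P.Aut := (L.map (refl P)).prod

@[simp] lemma lprod_nil : lprod P [] = 1 := rfl

@[simp] lemma lprod_cons (i : ι) (L : List ι) : lprod P (i :: L) = refl P i * lprod P L := by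
  simp [lprod]

@[simp] lemma lprod_append (L₁ L₂ : List ι) : lprod P (L₁ ++ L₂) = lprod P L₁ * lprod P L₂ := by
  simp [lprod]

lemma refl_mul_self (i : ι) : refl P i * refl P i = 1 := by
  have := RootPairing.Equiv.reflection_inv P i
  exact mul_eq_one_iff_inv_eq.2 this

lemma refl_smul_eq (g : P.Aut) (i : ι) : refl P (g • i) = g * refl P i * g⁻¹ :=
  reflection_smul_eq P g i

lemma lprod_reverse (L : List ι) : lprod P L.reverse = (lprod P L)⁻¹ := by
  induction L with
  | nil => simp
  | cons i L ih =>
    rw [List.reverse_cons, lprod_append, ih, lprod_cons, lprod_cons, lprod_nil, mul_one,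
      mul_inv_rev, RootPairing.Equiv.reflection_inv]

lemma isIndiv_smul (g : P.Aut) {i : ι} (hi : IsIndiv P i) : IsIndiv P (g • i) := by
  intro j hj
  apply hi (g⁻¹ • j)
  have h1 : P.root i = g⁻¹ • P.root (g • i) := by
    rw [smul_root, smul_smul, inv_mul_cancel, one_smul]
  rw [smul_root, h1, ← hj, smul_comm]

lemma mem_closure_iff_exists_list {Δ' : Set ι} {g : P.Aut} :
    g ∈ Subgroup.closure ((fun i : ι => RootPairing.Equiv.reflection P i) '' Δ') ↔
      ∃ L : List ι, (∀ i ∈ L, i ∈ Δ') ∧ lprod P L = g := by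
  constructor
  · intro hg
    induction hg using Subgroup.closure_induction with
    | mem x hx =>
      obtain ⟨i, hi, rfl⟩ := hx
      exact ⟨[i], by simpa using hi, by simp [refl]⟩
    | one => exact ⟨[], by simp, rfl⟩
    | mul x y _ _ hx hy =>
      obtain ⟨L₁, h1, rfl⟩ := hx
      obtain ⟨L₂, h2, rfl⟩ := hy
      refine ⟨L₁ ++ L₂, ?_, lprod_append _ _⟩
      intro i hi
      rcases List.mem_append.1 hi with h | h
      · exact h1 i h
      · exact h2 i h
    | inv x _ hx =>
      obtain ⟨L, h1, rfl⟩ := hx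
      exact ⟨L.reverse, fun i hi => h1 i (List.mem_reverse.1 hi), lprod_reverse L⟩
  · rintro ⟨L, hL, rfl⟩
    induction L with
    | nil => exact one_mem _
    | cons i L ih =>
      rw [lprod_cons]
      refine mul_mem (Subgroup.subset_closure ⟨i, hL i (by simp), rfl⟩) (ih fun j hj => hL j ?_)
      exact List.mem_cons_of_mem _ hj

section Finite
variable [Finite ι]

/-- descent lemma -/
lemma exists_split_of_not_mem_posOf {Δ : Set ι} (hΔ : IsSimpleSys P Δ) {a : ι} (ha : a ∈ Δ) :
    ∀ L : List ι, (∀ i ∈ L, i ∈ Δ) → lprod P L • a ∉ posOf P Δ →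
      ∃ (L₁ : List ι) (b : ι) (L₂ : List ι), L = L₁ ++ b :: L₂ ∧ lprod P L₂ • a = b := by
  intro L
  induction L with
  | nil =>
    intro _ h
    exact absurd (subset_posOf Δ ha) (by simpa using h)
  | cons b L ih =>
    intro hL h
    by_cases hγ : lprod P L • a ∈ posOf P Δ
    · refine ⟨[], b, L, rfl, ?_⟩
      have hb : b ∈ Δ := hL b (by simp)
      rcases reflectionPerm_mem_posOf hΔ hb hγ with h1 | h1 | h1
      · exfalso
        apply h
        rw [lprod_cons, mul_smul]
        exact h1
      · exact h1
      · exfalso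
        exact isIndiv_smul (lprod P L) (isIndiv_of_mem hΔ ha) b h1.symm
    · obtain ⟨L₁, b', L₂, h1, h2⟩ := ih (fun i hi => hL i (List.mem_cons_of_mem _ hi)) hγ
      exact ⟨b :: L₁, b', L₂, by rw [h1]; rfl, h2⟩

/-- a product of simple reflections mapping all simple roots to positive roots is trivial -/
lemma lprod_eq_one_of_maps_pos {Δ : Set ι} (hΔ : IsSimpleSys P Δ) :
    ∀ (n : ℕ) (L : List ι), L.length = n → (∀ i ∈ L, i ∈ Δ) →
      (∀ a ∈ Δ, lprod P L • a ∈ posOf P Δ) → lprod P L = 1 := by
  intro n
  induction n using Nat.strong_induction_on with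
  | _ n ih =>
    intro L hn hL hpos
    rcases List.eq_nil_or_concat L with rfl | ⟨L₀, a, rfl⟩
    · rfl
    · rw [List.concat_eq_append] at hn hL hpos ⊢
      have ha : a ∈ Δ := hL a (by simp)
      have hL₀ : ∀ i ∈ L₀, i ∈ Δ := fun i hi => hL i (by simp [hi])
      have h1 : lprod P L₀ • a ∉ posOf P Δ := by
        have h2 := hpos a ha
        rw [lprod_append, lprod_cons, lprod_nil, mul_one, mul_smul, refl_smul_self, smul_ng] at h2
        intro h3
        exact (ng_mem_posOf_iff hΔ _).1 h2 h3
      obtain ⟨L₁, b, L₂, hsplit, hb⟩ := exists_split_of_not_mem_posOf hΔ ha L₀ hL₀ h1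
      have hkey : lprod P (L₀ ++ [a]) = lprod P (L₁ ++ L₂) := by
        rw [hsplit]
        simp only [lprod_append, lprod_cons, lprod_nil, mul_one]
        rw [← hb, refl_smul_eq]
        simp only [mul_assoc, inv_mul_cancel_left]
        rw [refl_mul_self, mul_one]
      rw [hkey]
      have hlen : (L₁ ++ L₂).length < n := by
        rw [← hn, hsplit]
        simp only [List.length_append, List.length_cons, List.length_nil]
        omega
      refine ih _ hlen (L₁ ++ L₂) rfl ?_ ?_
      · intro i hi
        apply hL₀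
        rw [hsplit]
        rcases List.mem_append.1 hi with h | h
        · exact List.mem_append_left _ h
        · exact List.mem_append_right _ (List.mem_cons_of_mem _ h)
      · intro c hc
        rw [← hkey]
        exact hpos c hc

lemma eq_one_of_mem_closure_of_maps_pos {Δ : Set ι} (hΔ : IsSimpleSys P Δ) {g : P.Aut}
    (hg : g ∈ Subgroup.closure ((fun i : ι => RootPairing.Equiv.reflection P i) '' Δ))
    (hpos : ∀ a ∈ Δ, g • a ∈ posOf P Δ) : g = 1 := by
  obtain ⟨L, hL, rfl⟩ := mem_closure_iff_exists_list.1 hg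
  exact lprod_eq_one_of_maps_pos hΔ _ L rfl hL hpos

end Finite

end Groth.Agent.H27
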