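import Groth.Agent.H27.Exists

set_option autoImplicit false

namespace Groth.Agent.H27

open RootD Finsupp RootPairing

variable {ι M N : Type*} [AddCommGroup M] [AddCommGroup N] {P : RootPairing ι ℤ M N}

section Finite
variable [Finite ι]

/-- S5447 core -/
lemma isSimpleSys_of_existsUnique {Δ : Set ι}
    (h : ∀ k : ι, ∃! c : ι →₀ ℤ, (↑c.support ⊆ Δ ∧ ((∀ j, 0 ≤ c j) ∨ (∀ j, c j ≤ 0)) ∧
      Finsupp.linearCombination ℤ P.root c = P.root k)) :
    IsSimpleSys P Δ ∧ ∀ i ∈ Δ, IsIndiv P i := by
  classical
  have huniq : ∀ (k : ι) (c d : ι →₀ ℤ), (↑c.support ⊆ Δ) → ((∀ j, 0 ≤ c j) ∨ (∀ j, c j ≤ 0)) →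
      linearCombination ℤ P.root c = P.root k → (↑d.support ⊆ Δ) →
      ((∀ j, 0 ≤ d j) ∨ (∀ j, d j ≤ 0)) → linearCombination ℤ P.root d = P.root k → c = d := by
    intro k c d hc1 hc2 hc3 hd1 hd2 hd3
    obtain ⟨c₀, _, hu⟩ := h k
    rw [hu c ⟨hc1, hc2, hc3⟩, hu d ⟨hd1, hd2, hd3⟩]
  have hpt : Pointed P Δ := by
    intro e he1 he2 he3
    by_contra hne
    obtain ⟨δ, hδ⟩ : ∃ s, e s ≠ 0 := by
      by_contra hcon
      push Not at hcon
      exact hne (Finsupp.ext hcon)
    have hδpos : 0 < e δ := lt_of_le_of_ne (he2 δ) (Ne.symm hδ)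
    have hδΔ : δ ∈ Δ := pos_mem_of_support_subset he1 hδ
    have h1 := huniq (ng P δ) (-Finsupp.single δ 1) (e - Finsupp.single δ 1)
      (support_neg_subset (support_single_subset hδΔ 1))
      (Or.inr fun j => by
        rw [Finsupp.neg_apply, Finsupp.single_apply]; split_ifs <;> norm_num)
      (by rw [map_neg, Finsupp.linearCombination_single, one_smul, root_ng])
      (support_sub_subset he1 (support_single_subset hδΔ 1))
      (Or.inl (nonneg_sub_single he2 hδpos))
      (by rw [map_sub, he3, Finsupp.linearCombination_single, one_smul, root_ng, zero_sub])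
    have h2 := DFunLike.congr_fun h1 δ
    simp only [Finsupp.neg_apply, Finsupp.sub_apply, Finsupp.single_eq_same] at h2
    omega
  have hob : ∀ i ∈ Δ, ∀ j ∈ Δ, i ≠ j → P.pairing i j ≤ 0 := by
    intro i hi j hj hij
    by_contra hcon
    push Not at hcon
    obtain ⟨k, hk⟩ := P.root_sub_root_mem_of_pairingIn_pos (by rwa [pairingIn_int]) hij
    obtain ⟨c, ⟨hc1, hc2, hc3⟩, _⟩ := h k
    rcases hc2 with hc2 | hc2
    · have h1 := huniq i (c + Finsupp.single j 1) (Finsupp.single i 1)
        (support_add_subset hc1 (support_single_subset hj 1))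
        (Or.inl fun l => by
          have := hc2 l
          rw [Finsupp.add_apply, Finsupp.single_apply]; split_ifs <;> omega)
        (by rw [map_add, hc3, Finsupp.linearCombination_single, one_smul, hk]; abel)
        (support_single_subset hi 1)
        (Or.inl fun l => by rw [Finsupp.single_apply]; split_ifs <;> norm_num)
        (by rw [Finsupp.linearCombination_single, one_smul])
      have h2 := DFunLike.congr_fun h1 j
      rw [Finsupp.add_apply, Finsupp.single_eq_same, Finsupp.single_apply, if_neg hij] at h2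
      have := hc2 j
      omega
    · have h1 := huniq j (Finsupp.single i 1 - c) (Finsupp.single j 1)
        (support_sub_subset (support_single_subset hi 1) hc1)
        (Or.inl fun l => by
          have := hc2 l
          rw [Finsupp.sub_apply, Finsupp.single_apply]; split_ifs <;> omega)
        (by rw [map_sub, hc3, Finsupp.linearCombination_single, one_smul, hk]; abel)
        (support_single_subset hj 1)
        (Or.inl fun l => by rw [Finsupp.single_apply]; split_ifs <;> norm_num)
        (by rw [Finsupp.linearCombination_single, one_smul])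
      have h2 := DFunLike.congr_fun h1 i
      rw [Finsupp.sub_apply, Finsupp.single_eq_same, Finsupp.single_apply,
        if_neg (Ne.symm hij)] at h2
      have := hc2 i
      omega
  have hΔ : IsSimpleSys P Δ := by
    refine ⟨linearIndepOn_of_obtuse hpt hob, fun k => ?_⟩
    obtain ⟨c, ⟨hc1, hc2, hc3⟩, _⟩ := h k
    rcases hc2 with hc2 | hc2
    · exact Or.inl ((mem_natSpan_iff P).2 ⟨c, hc1, hc2, hc3⟩)
    · refine Or.inr ((mem_natSpan_iff P).2 ⟨-c, support_neg_subset hc1, fun l => ?_, ?_⟩)
      · have := hc2 l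
        rw [Finsupp.neg_apply]; omega
      · rw [map_neg, hc3]
  exact ⟨hΔ, fun i hi => isIndiv_of_mem hΔ hi⟩


omit [Finite ι] in
/-- a root which is a positive rational multiple of an indivisible root -/
lemma eq_or_eq_two_smul_of_nsmul_eq {i δ : ι} (hδ : IsIndiv P δ) {n : ℕ} (hn : 0 < n) {t : ℤ}
    (ht : 0 ≤ t) (h : n • P.root i = t • P.root δ) :
    P.root i = P.root δ ∨ P.root i = (2 : ℤ) • P.root δ := by
  have htf := torsionFree P
  have h' : (n : ℤ) • P.root i = t • P.root δ := by rw [natCast_zsmul]; exact h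
  have ht0 : t ≠ 0 := by
    rintro rfl
    rw [zero_smul] at h
    exact nsmul_root_ne_zero P i hn h
  have htpos : 0 < t := lt_of_le_of_ne ht (Ne.symm ht0)
  have hnpos : (0 : ℤ) < n := by exact_mod_cast hn
  set p := P.pairing δ i with hp
  set q := P.pairing i δ with hq
  have e1 : (n : ℤ) * 2 = t * p := by
    have := congrArg (fun x => P.toLinearMap x (P.coroot i)) h'
    simp only [map_smul, LinearMap.smul_apply, smul_eq_mul] at this
    change (n : ℤ) * P.pairing i i = t * P.pairing δ i at this
    rwa [P.pairing_same] at this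
  have e2 : (n : ℤ) * q = t * 2 := by
    have := congrArg (fun x => P.toLinearMap x (P.coroot δ)) h'
    simp only [map_smul, LinearMap.smul_apply, smul_eq_mul] at this
    change (n : ℤ) * P.pairing i δ = t * P.pairing δ δ at this
    rwa [P.pairing_same] at this
  have hpq : p * q = 4 := by
    have h3 : ((n : ℤ) * t) * (p * q) = ((n : ℤ) * t) * 4 := by
      calc ((n : ℤ) * t) * (p * q) = (t * p) * ((n : ℤ) * q) := by ring
        _ = ((n : ℤ) * 2) * (t * 2) := by rw [e1, e2]
        _ = ((n : ℤ) * t) * 4 := by ring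
    exact mul_left_cancel₀ (mul_pos hnpos htpos).ne' h3
  have hppos : 0 < p := by
    by_contra hcon
    push Not at hcon
    have : t * p ≤ 0 := mul_nonpos_of_nonneg_of_nonpos ht hcon
    omega
  have hpdvd : p ∣ 4 := ⟨q, hpq.symm⟩
  have hp4 : p ≤ 4 := Int.le_of_dvd (by norm_num) hpdvd
  have hp3 : p ≠ 3 := by rintro h3; rw [h3] at hpq; omega
  rcases (by omega : p = 1 ∨ p = 2 ∨ p = 4) with h1 | h1 | h1
  · right
    rw [h1] at e1
    have : (n : ℤ) • P.root i = (n : ℤ) • ((2 : ℤ) • P.root δ) := by
      rw [h', smul_smul]; congr 1; omega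
    exact smul_right_injective M hnpos.ne' this
  · left
    rw [h1] at e1
    have : (n : ℤ) • P.root i = (n : ℤ) • P.root δ := by
      rw [h']; congr 1; omega
    exact smul_right_injective M hnpos.ne' this
  · exfalso
    rw [h1] at e1
    have : t • ((2 : ℤ) • P.root i) = t • P.root δ := by
      rw [smul_smul, ← h']; congr 1; omega
    exact hδ i (smul_right_injective M ht0 this)

/-- S5446 core -/
lemma isSimpleSys_of_indiv_linIndep_cone {Δ : Set ι}
    (hind : ∀ i ∈ Δ, IsIndiv P i) (hli : LinearIndepOn ℤ P.root Δ)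
    (hcone : ∀ k : ι, ∃ n : ℕ, 0 < n ∧
      (n • P.root k ∈ natSpan P Δ ∨ n • (-P.root k) ∈ natSpan P Δ)) :
    IsSimpleSys P Δ := by
  classical
  have htf := torsionFree P
  set S : Set ι := {k | ∃ n : ℕ, 0 < n ∧ n • P.root k ∈ natSpan P Δ} with hSdef
  have hΔS : Δ ⊆ S := fun i hi => ⟨1, one_pos, by rw [one_smul]; exact root_mem_natSpan P hi⟩
  have hmul : ∀ x ∈ natSpan P S, ∃ n : ℕ, 0 < n ∧ n • x ∈ natSpan P Δ := by
    intro x hx
    unfold natSpan at hx
    induction hx using AddSubmonoid.closure_induction with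
    | mem x hx =>
      obtain ⟨i, hi, rfl⟩ := hx
      exact hi
    | zero => exact ⟨1, one_pos, by rw [smul_zero]; exact zero_mem _⟩
    | add x y _ _ hx hy =>
      obtain ⟨n, hn, hx⟩ := hx
      obtain ⟨n', hn', hy⟩ := hy
      refine ⟨n * n', Nat.mul_pos hn hn', ?_⟩
      rw [smul_add]
      refine add_mem ?_ ?_
      · rw [mul_comm, mul_smul]; exact AddSubmonoid.nsmul_mem _ hx _
      · rw [mul_smul]; exact AddSubmonoid.nsmul_mem _ hy _
  have hS : IsPosSys P S := by
    refine ⟨?_, ?_, ?_⟩
    · rintro k ⟨n, hn, h1⟩ ⟨n', hn', h2⟩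
      change n' • P.root (ng P k) ∈ _ at h2
      rw [root_ng] at h2
      obtain ⟨c, hc1, hc2, hc3⟩ := (mem_natSpan_iff P).1 h1
      obtain ⟨d, hd1, hd2, hd3⟩ := (mem_natSpan_iff P).1 h2
      have h0 : linearCombination ℤ P.root ((n' : ℤ) • c + (n : ℤ) • d) = 0 := by
        rw [map_add, map_smul, map_smul, hc3, hd3, natCast_zsmul, natCast_zsmul]
        rw [smul_neg, smul_comm n' n]; simp
      have hz := pointed_of_linearIndepOn hli _
        (support_add_subset (support_smul_subset hc1 _) (support_smul_subset hd1 _))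
        (fun l => by
          have := hc2 l; have := hd2 l
          simp only [Finsupp.add_apply, Finsupp.smul_apply, smul_eq_mul]; positivity) h0
      have hc0 : c = 0 := by
        ext l
        have h3 := DFunLike.congr_fun hz l
        simp only [Finsupp.add_apply, Finsupp.smul_apply, smul_eq_mul, Finsupp.zero_apply] at h3
        have h4 := hc2 l; have h5 := hd2 l
        have h6 : 0 ≤ (n : ℤ) * d l := by positivity
        have h7 : (n' : ℤ) * c l = 0 := by
          have : 0 ≤ (n' : ℤ) * c l := by positivity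
          omega
        have h8 : (n' : ℤ) ≠ 0 := by exact_mod_cast hn'.ne'
        rcases mul_eq_zero.1 h7 with h | h
        · exact absurd h h8
        · simpa using h
      rw [hc0, map_zero] at hc3
      exact nsmul_root_ne_zero P k hn hc3.symm
    · intro k
      obtain ⟨n, hn, h | h⟩ := hcone k
      · exact Or.inl ⟨n, hn, h⟩
      · right
        refine ⟨n, hn, ?_⟩
        change n • P.root (ng P k) ∈ _
        rwa [root_ng]
    · intro k n hn hk
      obtain ⟨n', hn', h⟩ := hmul _ hk
      exact ⟨n' * n, Nat.mul_pos hn' hn, by rwa [mul_smul]⟩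
  have hΔ₀ := isSimpleSys_indec hS
  have hSeq := isPosSys_eq_posOf hS
  -- elements of Δ are indecomposable in S
  have hA : Δ ⊆ indec P S := by
    intro δ hδ
    refine ⟨hΔS hδ, ?_⟩
    rintro ⟨i, j, ⟨n, hn, hi⟩, ⟨n', hn', hj⟩, hij⟩
    obtain ⟨c, hc1, hc2, hc3⟩ := (mem_natSpan_iff P).1 hi
    obtain ⟨d, hd1, hd2, hd3⟩ := (mem_natSpan_iff P).1 hj
    have heq : ((n : ℤ) * n') • Finsupp.single δ (1 : ℤ) = (n' : ℤ) • c + (n : ℤ) • d := by
      apply coef_unique hli (support_smul_subset (support_single_subset hδ 1) _)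
        (support_add_subset (support_smul_subset hc1 _) (support_smul_subset hd1 _))
      rw [map_smul, Finsupp.linearCombination_single, one_smul, map_add, map_smul, map_smul,
        hc3, hd3, hij, ← natCast_zsmul (P.root i), ← natCast_zsmul (P.root j)]
      module
    have hzero : ∀ l, l ≠ δ → c l = 0 ∧ d l = 0 := by
      intro l hl
      have h3 := DFunLike.congr_fun heq l
      simp only [Finsupp.add_apply, Finsupp.smul_apply, smul_eq_mul,
        Finsupp.single_apply, if_neg (Ne.symm hl), mul_zero] at h3
      have h4 := hc2 l; have h5 := hd2 l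
      have hn0 : (0 : ℤ) < n := by exact_mod_cast hn
      have hn'0 : (0 : ℤ) < n' := by exact_mod_cast hn'
      have h6 : 0 ≤ (n' : ℤ) * c l := by positivity
      have h7 : 0 ≤ (n : ℤ) * d l := by positivity
      constructor
      · have : (n' : ℤ) * c l = 0 := by omega
        rcases mul_eq_zero.1 this with h | h
        · omega
        · exact h
      · have : (n : ℤ) * d l = 0 := by omega
        rcases mul_eq_zero.1 this with h | h
        · omega
        · exact h
    have hc : c = Finsupp.single δ (c δ) := by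
      ext l
      by_cases hl : l = δ
      · subst hl; simp
      · rw [Finsupp.single_apply, if_neg (Ne.symm hl)]; exact (hzero l hl).1
    have hd : d = Finsupp.single δ (d δ) := by
      ext l
      by_cases hl : l = δ
      · subst hl; simp
      · rw [Finsupp.single_apply, if_neg (Ne.symm hl)]; exact (hzero l hl).2
    have hi' : n • P.root i = c δ • P.root δ := by
      rw [← hc3]; conv_lhs => rw [hc]
      rw [Finsupp.linearCombination_single]
    have hj' : n' • P.root j = d δ • P.root δ := by
      rw [← hd3]; conv_lhs => rw [hd]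
      rw [Finsupp.linearCombination_single]
    have hne := P.ne_zero δ
    rcases eq_or_eq_two_smul_of_nsmul_eq (hind δ hδ) hn (hc2 δ) hi' with h1 | h1 <;>
    rcases eq_or_eq_two_smul_of_nsmul_eq (hind δ hδ) hn' (hd2 δ) hj' with h2 | h2
    · rw [h1, h2] at hij
      have : (1 : ℤ) • P.root δ = 0 := by
        have e : (1 : ℤ) • P.root δ = (P.root δ + P.root δ) - P.root δ := by module
        rw [e, ← hij, sub_self]
      exact hne (by simpa using this)
    · rw [h1, h2] at hij
      have : (2 : ℤ) • P.root δ = 0 := by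
        have e : (2 : ℤ) • P.root δ = (P.root δ + (2 : ℤ) • P.root δ) - P.root δ := by module
        rw [e, ← hij, sub_self]
      exact hne ((smul_eq_zero.1 this).resolve_left (by norm_num))
    · rw [h1, h2] at hij
      have : (2 : ℤ) • P.root δ = 0 := by
        have e : (2 : ℤ) • P.root δ = ((2 : ℤ) • P.root δ + P.root δ) - P.root δ := by module
        rw [e, ← hij, sub_self]
      exact hne ((smul_eq_zero.1 this).resolve_left (by norm_num))
    · rw [h1, h2] at hij
      have : (3 : ℤ) • P.root δ = 0 := by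
        have e : (3 : ℤ) • P.root δ = ((2 : ℤ) • P.root δ + (2 : ℤ) • P.root δ) - P.root δ := by
          module
        rw [e, ← hij, sub_self]
      exact hne ((smul_eq_zero.1 this).resolve_left (by norm_num))
  have hB : indec P S ⊆ Δ := by
    intro γ hγ
    obtain ⟨n, hn, h⟩ := hγ.1
    obtain ⟨c, hc1, hc2, hc3⟩ := (mem_natSpan_iff P).1 h
    have heq : (n : ℤ) • Finsupp.single γ (1 : ℤ) = c := by
      apply coef_unique hΔ₀.linInd (support_smul_subset (support_single_subset hγ 1) _)
        (hc1.trans hA)
      rw [map_smul, Finsupp.linearCombination_single, one_smul, hc3, natCast_zsmul]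
    have h3 := DFunLike.congr_fun heq γ
    simp only [Finsupp.smul_apply, Finsupp.single_eq_same, smul_eq_mul, mul_one] at h3
    refine pos_mem_of_support_subset hc1 (j := γ) ?_
    rw [← h3]
    exact_mod_cast hn.ne'
  rw [Set.Subset.antisymm hA hB]
  exact hΔ₀

end Finite

end Groth.Agent.H27
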