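import Mathlib

universe u

namespace Groth.Agent.H27.DVRModule

open TensorProduct

section general
variable {R : Type u} [CommRing R]

/-- kernel and cokernel of an endomorphism of a finite length module have the same length -/
theorem length_ker_eq_length_coker {T : Type u} [AddCommGroup T] [Module R T]
    (h : IsFiniteLength R T) (φ : T →ₗ[R] T) :
    Module.length R (LinearMap.ker φ) = Module.length R (T ⧸ LinearMap.range φ) := by
  have h1 : Module.length R T =
      Module.length R (LinearMap.ker φ) + Module.length R (LinearMap.range φ) :=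
    Module.length_eq_add_of_exact (LinearMap.ker φ).subtype φ.rangeRestrict
      (Submodule.subtype_injective _) (LinearMap.surjective_rangeRestrict φ) (by
        rw [LinearMap.exact_iff]; simp)
  have h2 : Module.length R T =
      Module.length R (LinearMap.range φ) + Module.length R (T ⧸ LinearMap.range φ) :=
    Module.length_eq_add_of_exact (LinearMap.range φ).subtype (LinearMap.range φ).mkQ
      (Submodule.subtype_injective _) (Submodule.mkQ_surjective _) (by
        rw [LinearMap.exact_iff]; simp)
  have hT : Module.length R T ≠ ⊤ := Module.length_ne_top_iff.mpr h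
  have hr : Module.length R (LinearMap.range φ) ≠ ⊤ := by
    intro h'; rw [h', add_top] at h1; exact hT h1
  rw [h1, add_comm] at h2
  exact ENat.add_right_injective_of_ne_top hr h2

variable [IsLocalRing R]

/-- `dim_k (k ⊗ N)` as a length over `R`. -/
theorem finrank_residue_tensor_eq_length (N : Type u) [AddCommGroup N] [Module R N]
    [Module.Finite R N] :
    (Module.finrank (IsLocalRing.ResidueField R) (IsLocalRing.ResidueField R ⊗[R] N) : ℕ∞) =
      Module.length R (N ⧸ (IsLocalRing.maximalIdeal R • (⊤ : Submodule R N))) := by
  rw [← Module.length_eq_finrank, ← Module.length_eq_of_surjective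
    (S := R) (R := IsLocalRing.ResidueField R) (M := IsLocalRing.ResidueField R ⊗[R] N)
    IsLocalRing.residue_surjective]
  exact (quotTensorEquivQuotSMul N (IsLocalRing.maximalIdeal R)).length_eq

end general

section dvr
variable {R : Type u} [CommRing R] [IsDomain R] [IsDiscreteValuationRing R]

theorem isFiniteLength_of_isTorsion {T : Type u} [AddCommGroup T] [Module R T] [Module.Finite R T]
    (hT : Module.IsTorsion R T) : IsFiniteLength R T := by
  obtain ⟨ι, _, p, hp, e, ⟨h⟩⟩ := Module.equiv_directSum_of_isTorsion hT
  refine (h.trans (DirectSum.linearEquivFunOnFintype R ι _)).symm.isFiniteLength ?_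
  rw [isFiniteLength_iff_isNoetherian_isArtinian]
  have : ∀ i, IsArtinian R (R ⧸ Submodule.span R {p i ^ e i}) := fun i =>
    (isFiniteLength_iff_isNoetherian_isArtinian.mp
      (isFiniteLength_quotient_span_singleton R (x := p i ^ e i)
        (mem_nonZeroDivisors_of_ne_zero (pow_ne_zero _ (hp i).ne_zero)))).2
  exact ⟨inferInstance, inferInstance⟩

/-- for a finitely generated torsion module, `T/ϖT` and `T[ϖ]` have the same dimension -/
theorem finrank_tensor_torsion (ϖ : R) (hϖ : Irreducible ϖ) {T : Type u} [AddCommGroup T]
    [Module R T] [Module.Finite R T] (hT : Module.IsTorsion R T) :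
    Module.finrank (IsLocalRing.ResidueField R) (IsLocalRing.ResidueField R ⊗[R] T) =
      Module.finrank (IsLocalRing.ResidueField R)
        (IsLocalRing.ResidueField R ⊗[R] ↥(Submodule.torsionBy R T ϖ)) := by
  haveI : IsNoetherian R T := isNoetherian_of_isNoetherianRing_of_finite R T
  have h1 := finrank_residue_tensor_eq_length (R := R) T
  have h2 := finrank_residue_tensor_eq_length (R := R) (Submodule.torsionBy R T ϖ)
  have hm : IsLocalRing.maximalIdeal R • (⊤ : Submodule R T) =
      LinearMap.range (DistribSMul.toLinearMap R T ϖ) := by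
    rw [hϖ.maximalIdeal_eq, Submodule.ideal_span_singleton_smul, ← Submodule.map_top]
    rfl
  have hm' : IsLocalRing.maximalIdeal R • (⊤ : Submodule R ↥(Submodule.torsionBy R T ϖ)) = ⊥ := by
    rw [hϖ.maximalIdeal_eq, Submodule.ideal_span_singleton_smul, eq_bot_iff]
    rintro x ⟨y, -, rfl⟩
    simp
  have e1 := (Submodule.quotEquivOfEq _ _ hm).length_eq
  have e2 := (Submodule.quotEquivOfEqBot _ hm').length_eq
  have e3 := length_ker_eq_length_coker (isFiniteLength_of_isTorsion hT)
    (DistribSMul.toLinearMap R T ϖ)
  have e4 : Module.length R ↥(Submodule.torsionBy R T ϖ) =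
      Module.length R ↥(LinearMap.ker (DistribSMul.toLinearMap R T ϖ)) := rfl
  have : (Module.finrank (IsLocalRing.ResidueField R) (IsLocalRing.ResidueField R ⊗[R] T) : ℕ∞) =
      Module.finrank (IsLocalRing.ResidueField R)
        (IsLocalRing.ResidueField R ⊗[R] ↥(Submodule.torsionBy R T ϖ)) := by
    rw [h1, h2, e1, e2, e4, e3]
  exact_mod_cast this

theorem subsingleton_fraction_tensor {T : Type u} [AddCommGroup T]
    [Module R T] (hT : Module.IsTorsion R T) : Subsingleton (FractionRing R ⊗[R] T) := by
  refine ⟨fun a b => ?_⟩
  suffices ∀ z : FractionRing R ⊗[R] T, z = 0 by rw [this a, this b]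
  intro z
  induction z using TensorProduct.induction_on with
  | zero => rfl
  | tmul a t =>
    obtain ⟨x, hx⟩ := hT (x := t)
    have hx0 : algebraMap R (FractionRing R) x ≠ 0 :=
      (map_ne_zero_iff _ (IsFractionRing.injective R (FractionRing R))).mpr
        (nonZeroDivisors.ne_zero x.2)
    calc a ⊗ₜ[R] t = (((x : R)) • (a * (algebraMap R (FractionRing R) x)⁻¹)) ⊗ₜ[R] t := by
          rw [Algebra.smul_def]; field_simp
      _ = (a * (algebraMap R (FractionRing R) x)⁻¹) ⊗ₜ[R] ((x : R) • t) :=
          TensorProduct.smul_tmul _ _ _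
      _ = 0 := by
          have : (x : R) • t = 0 := hx
          rw [this, TensorProduct.tmul_zero]
  | add a b ha hb => rw [ha, hb, add_zero]

theorem main (ϖ : R) (hϖ : Irreducible ϖ) (M : Type u) [AddCommGroup M]
    [Module R M] [Module.Finite R M] :
    Module.finrank (IsLocalRing.ResidueField R) (IsLocalRing.ResidueField R ⊗[R] M) =
      Module.finrank (IsLocalRing.ResidueField R)
          (IsLocalRing.ResidueField R ⊗[R] ↥(Submodule.torsionBy R M ϖ)) +
        Module.finrank (FractionRing R) (FractionRing R ⊗[R] M) := by
  haveI : IsNoetherian R M := isNoetherian_of_isNoetherianRing_of_finite R M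
  obtain ⟨f, hf⟩ := Module.projective_lifting_property (Submodule.torsion R M).mkQ LinearMap.id
    (Submodule.torsion R M).mkQ_surjective
  let e : M ≃ₗ[R] ↥(Submodule.torsion R M) × (M ⧸ Submodule.torsion R M) :=
    (lequivProdOfRightSplitExact (Submodule.torsion R M).injective_subtype
      (by rw [Submodule.range_subtype, Submodule.ker_mkQ]) hf).symm
  have hT : Module.IsTorsion R ↥(Submodule.torsion R M) := Submodule.torsion_isTorsion
  -- the `k`-part
  have ha : Module.finrank (IsLocalRing.ResidueField R) (IsLocalRing.ResidueField R ⊗[R] M) =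
      Module.finrank (IsLocalRing.ResidueField R)
        (IsLocalRing.ResidueField R ⊗[R] ↥(Submodule.torsion R M)) +
      Module.finrank R (M ⧸ Submodule.torsion R M) := by
    rw [((LinearEquiv.baseChange R (IsLocalRing.ResidueField R) _ _ e).trans
      (TensorProduct.prodRight R (IsLocalRing.ResidueField R) (IsLocalRing.ResidueField R)
        ↥(Submodule.torsion R M) (M ⧸ Submodule.torsion R M))).finrank_eq,
      Module.finrank_prod, Module.finrank_baseChange (R := IsLocalRing.ResidueField R) (S := R)
        (M' := M ⧸ Submodule.torsion R M)]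
  -- the `K`-part
  have hc : Module.finrank (FractionRing R) (FractionRing R ⊗[R] M) =
      Module.finrank R (M ⧸ Submodule.torsion R M) := by
    haveI := subsingleton_fraction_tensor hT
    rw [((LinearEquiv.baseChange R (FractionRing R) _ _ e).trans
      (TensorProduct.prodRight R (FractionRing R) (FractionRing R)
        ↥(Submodule.torsion R M) (M ⧸ Submodule.torsion R M))).finrank_eq,
      Module.finrank_prod, Module.finrank_baseChange (R := FractionRing R) (S := R)
        (M' := M ⧸ Submodule.torsion R M), Module.finrank_zero_of_subsingleton,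
      zero_add]
  -- the torsion part
  have hsub : ∀ x : M, x ∈ Submodule.torsionBy R M ϖ → x ∈ Submodule.torsion R M := by
    intro x hx
    exact ⟨⟨ϖ, mem_nonZeroDivisors_of_ne_zero hϖ.ne_zero⟩, by simpa using hx⟩
  let g : ↥(Submodule.torsionBy R ↥(Submodule.torsion R M) ϖ) →ₗ[R]
      ↥(Submodule.torsionBy R M ϖ) :=
    LinearMap.codRestrict _ ((Submodule.torsion R M).subtype ∘ₗ
      (Submodule.torsionBy R ↥(Submodule.torsion R M) ϖ).subtype) (by
        intro x
        have h0 : ϖ • (x : ↥(Submodule.torsion R M)) = 0 :=
          (Submodule.mem_torsionBy_iff _ _).mp x.2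
        rw [Submodule.mem_torsionBy_iff]
        have h1 := congrArg Subtype.val h0
        rwa [Submodule.coe_smul, ZeroMemClass.coe_zero] at h1)
  have hg : Function.Bijective g := by
    constructor
    · intro x y hxy
      have := congrArg Subtype.val hxy
      exact Subtype.ext (Subtype.ext this)
    · intro y
      refine ⟨⟨⟨y.1, hsub _ y.2⟩, ?_⟩, Subtype.ext rfl⟩
      rw [Submodule.mem_torsionBy_iff]
      exact Subtype.ext (by simp)
  have hb := (LinearEquiv.baseChange R (IsLocalRing.ResidueField R) _ _
    (LinearEquiv.ofBijective g hg)).finrank_eq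
  rw [ha, hc, finrank_tensor_torsion ϖ hϖ hT, hb]

end dvr

end Groth.Agent.H27.DVRModule
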