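import Mathlib

universe u

namespace Groth.Agent.H27.DegOneGen

open TensorProduct

section surj
variable {A : Type u} [CommRing A]

/-- a nonzero finite module surjects onto `A ⧸ 𝔪` for some maximal ideal `𝔪` -/
theorem exists_surjective_quotient (Q : Type u) [AddCommGroup Q] [Module A Q] [Module.Finite A Q]
    [Nontrivial Q] : ∃ (𝔪 : Ideal A) (_ : 𝔪.IsMaximal) (ℓ : Q →ₗ[A] A ⧸ 𝔪),
      Function.Surjective ℓ := by
  obtain ⟨Q', hQ'⟩ := IsCoatomic.exists_coatom (α := Submodule A Q)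
  haveI : IsSimpleModule A (Q ⧸ Q') := isSimpleModule_iff_isCoatom.mpr hQ'
  obtain ⟨𝔪, h𝔪, ⟨e⟩⟩ := isSimpleModule_iff_quot_maximal.mp ‹IsSimpleModule A (Q ⧸ Q')›
  exact ⟨𝔪, h𝔪, e.toLinearMap ∘ₗ Q'.mkQ, e.surjective.comp Q'.mkQ_surjective⟩

end surj

section graded
variable {A : Type u} [CommRing A] {B : Type u} [CommRing B] [Algebra A B]
  (𝒜 : ℕ → Submodule A B) [GradedAlgebra 𝒜]

theorem pow_le_graded (j : ℕ) : (𝒜 1) ^ j ≤ 𝒜 j := by
  induction j with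
  | zero =>
    rw [pow_zero, Submodule.one_le]
    exact SetLike.GradedOne.one_mem
  | succ j ih =>
    rw [pow_succ, Submodule.mul_le]
    intro x hx y hy
    exact SetLike.GradedMul.mul_mem (ih hx) hy

/-- the submodule generated by `(𝒜 1)^m` and the other graded pieces -/
def N (m : ℕ) : Submodule A B := (𝒜 1) ^ m ⊔ ⨆ j : {j : ℕ // j ≠ m}, 𝒜 j.1

theorem pow_le_N (m j : ℕ) : (𝒜 1) ^ j ≤ N 𝒜 m := by
  by_cases h : j = m
  · subst h
    exact le_sup_left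
  · exact (pow_le_graded 𝒜 j).trans
      ((le_iSup (fun j : {j : ℕ // j ≠ m} => 𝒜 j.1) ⟨j, h⟩).trans le_sup_right)

theorem graded_le_of_N_eq_top (m : ℕ) (h : N 𝒜 m = ⊤) : 𝒜 m ≤ (𝒜 1) ^ m := by
  classical
  intro b hb
  have hbN : b ∈ N 𝒜 m := h ▸ Submodule.mem_top
  obtain ⟨c, hc, d, hd, rfl⟩ := Submodule.mem_sup.mp hbN
  have hcm : c ∈ 𝒜 m := pow_le_graded 𝒜 m hc
  have hdm : d ∈ 𝒜 m := by
    have := (𝒜 m).sub_mem hb hcm
    simpa using this
  have hind := (DirectSum.Decomposition.isInternal 𝒜).submodule_iSupIndep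
  have hd' : d ∈ ⨆ j, ⨆ (_ : j ≠ m), 𝒜 j := by
    refine (iSup_le fun j : {j : ℕ // j ≠ m} => ?_ : (⨆ j : {j : ℕ // j ≠ m}, 𝒜 j.1) ≤ _) hd
    exact le_iSup₂_of_le j.1 j.2 le_rfl
  have hd0 : d = 0 := by
    have := (hind m).le_bot ⟨hdm, hd'⟩
    simpa using this
  rw [hd0, add_zero]
  exact hc

theorem mkQ_surjective_on_graded (m : ℕ) :
    Function.Surjective ((N 𝒜 m).mkQ ∘ₗ (𝒜 m).subtype) := by
  classical
  intro x
  obtain ⟨b, rfl⟩ := (N 𝒜 m).mkQ_surjective x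
  refine ⟨⟨DirectSum.decompose 𝒜 b m, SetLike.coe_mem _⟩, ?_⟩
  rw [LinearMap.comp_apply, Submodule.subtype_apply, Submodule.mkQ_apply, Submodule.mkQ_apply,
    Submodule.Quotient.eq]
  have hsum := DirectSum.sum_support_decompose 𝒜 b
  have : (DirectSum.decompose 𝒜 b m : B) - b =
      - ∑ i ∈ (DirectSum.decompose 𝒜 b).support.erase m, (DirectSum.decompose 𝒜 b i : B) := by
    by_cases hm : m ∈ (DirectSum.decompose 𝒜 b).support
    · have h2 := Finset.add_sum_erase _ (fun i => (DirectSum.decompose 𝒜 b i : B)) hm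
      rw [hsum] at h2
      linear_combination h2
    · rw [Finset.erase_eq_of_notMem hm, hsum]
      have : (DirectSum.decompose 𝒜 b m : B) = 0 := by
        simpa [DFinsupp.mem_support_iff] using hm
      rw [this, zero_sub]
  rw [this]
  refine (N 𝒜 m).neg_mem ((N 𝒜 m).sum_mem fun i hi => ?_)
  have him : i ≠ m := (Finset.mem_erase.mp hi).1
  exact le_sup_right (a := (𝒜 1) ^ m)
    (le_iSup (fun j : {j : ℕ // j ≠ m} => 𝒜 j.1) ⟨i, him⟩ (SetLike.coe_mem _))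

end graded

theorem main (A : Type u) [CommRing A] (B : Type u) [CommRing B] [Algebra A B]
    (𝒜 : ℕ → Submodule A B) [GradedAlgebra 𝒜]
    (hfin : ∀ m : ℕ, Module.Finite A (𝒜 m))
    (hgen : ∀ (k : Type u) [Field k] [IsAlgClosed k] [Algebra A k],
      Algebra.adjoin k ((Algebra.TensorProduct.includeRight : B →ₐ[A] k ⊗[A] B) ''
        (𝒜 1 : Set B)) = ⊤) :
    Algebra.adjoin A (𝒜 1 : Set B) = ⊤ := by
  classical
  have hN : ∀ m, N 𝒜 m = ⊤ := by
    intro m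
    by_contra hne
    haveI : Nontrivial (B ⧸ N 𝒜 m) := Submodule.Quotient.nontrivial_iff.mpr hne
    haveI := hfin m
    haveI : Module.Finite A (B ⧸ N 𝒜 m) :=
      Module.Finite.of_surjective _ (mkQ_surjective_on_graded 𝒜 m)
    obtain ⟨𝔪, h𝔪, ℓ, hℓ⟩ := exists_surjective_quotient (A := A) (B ⧸ N 𝒜 m)
    haveI := h𝔪
    letI : Field (A ⧸ 𝔪) := Ideal.Quotient.field 𝔪
    let φ : B →ₗ[A] AlgebraicClosure (A ⧸ 𝔪) :=
      (Algebra.linearMap (A ⧸ 𝔪) (AlgebraicClosure (A ⧸ 𝔪))).restrictScalars A ∘ₗ ℓ ∘ₗ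
        (N 𝒜 m).mkQ
    let Ψ : AlgebraicClosure (A ⧸ 𝔪) ⊗[A] B →ₗ[AlgebraicClosure (A ⧸ 𝔪)]
        AlgebraicClosure (A ⧸ 𝔪) :=
      TensorProduct.AlgebraTensorModule.lift
        (LinearMap.toSpanSingleton (AlgebraicClosure (A ⧸ 𝔪))
          (B →ₗ[A] AlgebraicClosure (A ⧸ 𝔪)) φ)
    have hΨ : ∀ b : B, Ψ (1 ⊗ₜ[A] b) = φ b := by
      intro b
      simp [Ψ]
    have hΨ0 : ∀ z ∈ Algebra.adjoin (AlgebraicClosure (A ⧸ 𝔪))
        ((Algebra.TensorProduct.includeRight :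
          B →ₐ[A] AlgebraicClosure (A ⧸ 𝔪) ⊗[A] B) '' (𝒜 1 : Set B)), Ψ z = 0 := by
      intro z hz
      rw [← Subalgebra.mem_toSubmodule, Algebra.adjoin_eq_span] at hz
      refine Submodule.span_induction ?_ (map_zero _)
        (fun x y _ _ hx hy => by rw [map_add, hx, hy, add_zero])
        (fun c x _ hx => by rw [map_smul, hx, smul_zero]) hz
      intro x hx
      have : ∃ (j : ℕ) (b : B), b ∈ (𝒜 1) ^ j ∧ x = 1 ⊗ₜ[A] b := by
        induction hx using Submonoid.closure_induction with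
        | mem y hy =>
          obtain ⟨b, hb, rfl⟩ := hy
          exact ⟨1, b, by simpa using hb, rfl⟩
        | one => exact ⟨0, 1, by rw [pow_zero]; exact Submodule.one_le.mp le_rfl, rfl⟩
        | mul y z _ _ hy hz =>
          obtain ⟨j, b, hb, rfl⟩ := hy
          obtain ⟨j', b', hb', rfl⟩ := hz
          exact ⟨j + j', b * b', by rw [pow_add]; exact Submodule.mul_mem_mul hb hb',
            by rw [Algebra.TensorProduct.tmul_mul_tmul, one_mul]⟩
      obtain ⟨j, b, hb, rfl⟩ := this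
      have hbN : b ∈ N 𝒜 m := pow_le_N 𝒜 m j hb
      rw [hΨ]
      simp [φ, (Submodule.Quotient.mk_eq_zero _).mpr hbN]
    obtain ⟨x₀, hx₀⟩ := hℓ 1
    obtain ⟨b₀, rfl⟩ := (N 𝒜 m).mkQ_surjective x₀
    have h1 : Ψ (1 ⊗ₜ[A] b₀) = 1 := by
      rw [hΨ]
      rw [Submodule.mkQ_apply] at hx₀
      simp [φ, hx₀]
    have h0 : Ψ (1 ⊗ₜ[A] b₀) = 0 :=
      hΨ0 _ (by rw [hgen (AlgebraicClosure (A ⧸ 𝔪))]; trivial)
    exact one_ne_zero (h1.symm.trans h0)
  rw [eq_top_iff]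
  intro b _
  rw [← DirectSum.sum_support_decompose 𝒜 b]
  refine Subalgebra.sum_mem _ fun i _ => ?_
  have h1 : (DirectSum.decompose 𝒜 b i : B) ∈ (𝒜 1) ^ i :=
    graded_le_of_N_eq_top 𝒜 i (hN i) (SetLike.coe_mem _)
  have h2 : ∀ i : ℕ, (𝒜 1) ^ i ≤ Subalgebra.toSubmodule (Algebra.adjoin A (𝒜 1 : Set B)) := by
    intro i
    induction i with
    | zero =>
      rw [pow_zero, Submodule.one_le]
      exact Subalgebra.one_mem _
    | succ i ih =>
      rw [pow_succ, Submodule.mul_le]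
      intro x hx y hy
      exact Subalgebra.mul_mem _ (ih hx) (Algebra.subset_adjoin hy)
  exact h2 i h1

end Groth.Agent.H27.DegOneGen
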