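import Mathlib.CategoryTheory.Sites.DenseSubsite.Basic
import Mathlib.CategoryTheory.Sites.Subcanonical
import Mathlib.CategoryTheory.Elements

/-!
# Every sheaf of sets is a colimit of representables from a cover-dense full subcategory
-/

set_option autoImplicit false
universe v v' u₂

open CategoryTheory CategoryTheory.Limits Opposite

namespace Groth.Agent.H27.DenseColimit

variable {D : Type u₂} [Category.{v} D] (K : GrothendieckTopology D) [K.Subcanonical]
  (Pr : ObjectProperty D) [Pr.ι.IsCoverDense K] (A : Sheaf K (Type (max v v')))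

/-- the restriction of `A` to the full subcategory -/
abbrev restr : Pr.FullSubcategoryᵒᵖ ⥤ Type (max v v') := Pr.ι.op ⋙ A.obj

/-- the diagram of representables indexed by the elements of the restriction of `A` -/
noncomputable def diag : (restr K Pr A).Elementsᵒᵖ ⥤ Sheaf K (Type (max v v')) :=
  (CategoryOfElements.π (restr K Pr A)).leftOp ⋙ Pr.ι ⋙ GrothendieckTopology.uliftYoneda.{v'} K

/-- the tautological cocone -/
noncomputable def cocone : Cocone (diag K Pr A) where
  pt := A
  ι :=
    { app := fun j => (GrothendieckTopology.uliftYonedaEquiv.{v'} K).symm j.unop.2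
      naturality := by
        intro j j' f
        have h1 := GrothendieckTopology.uliftYonedaEquiv_symm_naturality_left.{v'} K
          (Pr.ι.map f.unop.1.unop) A j'.unop.2
        have h2 : A.obj.map (Pr.ι.map f.unop.1.unop).op j'.unop.2 = j.unop.2 := f.unop.2
        rw [h2] at h1
        simp only [Functor.const_obj_obj, Functor.const_obj_map]
        exact h1 }

/-- the natural transformation on the subcategory attached to a cocone -/
noncomputable def descNat (t : Cocone (diag K Pr A)) :
    Pr.ι.op ⋙ A.obj ⟶ Pr.ι.op ⋙ t.pt.obj where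
  app V := ↾fun s => GrothendieckTopology.uliftYonedaEquiv.{v'} K (t.ι.app (op ⟨V, s⟩))
  naturality := by
    intro V V' g
    ext s
    let j : (restr K Pr A).Elementsᵒᵖ := op ⟨V, s⟩
    let j' : (restr K Pr A).Elementsᵒᵖ := op ⟨V', (restr K Pr A).map g s⟩
    let f : j' ⟶ j := Quiver.Hom.op (⟨g, rfl⟩ : j.unop ⟶ j'.unop)
    have h1 := t.w f
    have h2 := GrothendieckTopology.uliftYonedaEquiv_naturality.{v'} K (t.ι.app j)
      (Pr.ι.map g.unop)
    show GrothendieckTopology.uliftYonedaEquiv.{v'} K (t.ι.app j') =
      t.pt.obj.map (Pr.ι.map g.unop).op (GrothendieckTopology.uliftYonedaEquiv.{v'} K (t.ι.app j))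
    refine Eq.trans ?_ h2.symm
    exact (congrArg (GrothendieckTopology.uliftYonedaEquiv.{v'} K) h1).symm

/-- every sheaf is the colimit of the representables of the cover-dense subcategory over it -/
noncomputable def isColimit : IsColimit (cocone K Pr A) where
  desc t := ⟨Functor.IsCoverDense.sheafHom (G := Pr.ι) (descNat K Pr A t)⟩
  fac t j := by
    apply (GrothendieckTopology.uliftYonedaEquiv.{v'} K).injective
    have h := Functor.IsCoverDense.sheafHom_restrict_eq (G := Pr.ι) (descNat K Pr A t)
    have h2 := ConcreteCategory.congr_hom (congrArg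
      (fun φ : Pr.ι.op ⋙ A.obj ⟶ Pr.ι.op ⋙ t.pt.obj => φ.app j.unop.1) h) j.unop.2
    have e : GrothendieckTopology.uliftYonedaEquiv.{v'} K ((cocone K Pr A).ι.app j ≫
        (⟨Functor.IsCoverDense.sheafHom (G := Pr.ι) (descNat K Pr A t)⟩ : A ⟶ t.pt)) =
        (Functor.IsCoverDense.sheafHom (G := Pr.ι) (descNat K Pr A t)).app _
          (GrothendieckTopology.uliftYonedaEquiv.{v'} K ((cocone K Pr A).ι.app j)) := rfl
    refine e.trans ?_
    have h3 : (GrothendieckTopology.uliftYonedaEquiv.{v'} K)
        ((cocone K Pr A).ι.app j) = j.unop.2 := Equiv.apply_symm_apply _ _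
    exact (congrArg _ h3).trans h2
  uniq t m hm := by
    apply Sheaf.hom_ext
    have h : Functor.whiskerLeft Pr.ι.op m.hom = descNat K Pr A t := by
      ext V s
      have h1 := hm (op ⟨V, s⟩)
      have h2 := congrArg (GrothendieckTopology.uliftYonedaEquiv.{v'} K) h1
      have e : GrothendieckTopology.uliftYonedaEquiv.{v'} K
          ((cocone K Pr A).ι.app (op ⟨V, s⟩) ≫ m) =
          m.hom.app _ (GrothendieckTopology.uliftYonedaEquiv.{v'} K
            ((cocone K Pr A).ι.app (op ⟨V, s⟩))) := rfl
      have h3 : (GrothendieckTopology.uliftYonedaEquiv.{v'} K)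
          ((cocone K Pr A).ι.app (op ⟨V, s⟩)) = s := Equiv.apply_symm_apply _ _
      exact (congrArg _ h3).symm.trans (e.symm.trans h2)
    have h4 := Functor.IsCoverDense.sheafHom_eq (G := Pr.ι) (ℱ' := t.pt) m.hom
    rw [h] at h4
    exact h4.symm

end Groth.Agent.H27.DenseColimit
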