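import Groth.Agent.H27.DerivedNak

/-!
# Elementary closure properties of derived `f`-complete modules

`T0 f M ∧ T1 f M` (no nonzero `f`-divisible sequences, and every sequence is of the form
`x n - f • x (n+1)`) says that `M` is derived `f`-complete.  We prove the closure properties
(kernels, cokernels, extensions, bounded `f`-torsion) in terms of linear maps.
-/

set_option autoImplicit false
universe v w

namespace Groth.Agent.H27.DerivedNak

variable {Λ : Type w} [CommRing Λ] {f : Λ}

section

variable {M : Type*} [AddCommGroup M] [Module Λ M]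

/-- all terms of a divisible sequence vanish -/
theorem T0.eq_zero (h : T0 f M) (x : ℕ → M) (hx : ∀ n, f • x (n + 1) = x n) (n : ℕ) :
    x n = 0 :=
  h (fun k => x (n + k)) (fun k => hx (n + k))

/-- uniqueness of solutions of `x n - f • x (n+1) = y n` -/
theorem T0.unique (h : T0 f M) (x x' : ℕ → M)
    (hx : ∀ n, x n - f • x (n + 1) = x' n - f • x' (n + 1)) : x = x' := by
  funext n
  have := h.eq_zero (fun k => x k - x' k) (fun k => by
    have := hx k
    rw [smul_sub]
    rw [sub_eq_sub_iff_add_eq_add] at this ⊢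
    rw [add_comm, this, add_comm]) n
  exact sub_eq_zero.mp this

theorem T0_of_pow_smul (N : ℕ) (h : ∀ m : M, f ^ N • m = 0) : T0 f M := by
  intro x hx
  have key : ∀ k, f ^ k • x k = x 0 := by
    intro k
    induction k with
    | zero => simp
    | succ k ih => rw [pow_succ, mul_smul, hx k, ih]
  rw [← key N, h]

theorem T1_of_pow_smul (N : ℕ) (h : ∀ m : M, f ^ N • m = 0) : T1 f M := by
  intro y
  refine ⟨fun k => ∑ j ∈ Finset.range N, f ^ j • y (k + j), fun k => ?_⟩
  have h1 : f • ∑ j ∈ Finset.range N, f ^ j • y (k + 1 + j) =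
      ∑ j ∈ Finset.range N, f ^ (j + 1) • y (k + (j + 1)) := by
    rw [Finset.smul_sum]
    refine Finset.sum_congr rfl (fun j _ => ?_)
    rw [smul_smul, pow_succ', add_assoc, add_comm 1 j]
  rw [h1]
  have h3 : ∑ j ∈ Finset.range (N + 1), f ^ j • y (k + j) =
      ∑ j ∈ Finset.range N, f ^ (j + 1) • y (k + (j + 1)) + f ^ 0 • y (k + 0) :=
    Finset.sum_range_succ' _ N
  have h4 : ∑ j ∈ Finset.range (N + 1), f ^ j • y (k + j) =
      ∑ j ∈ Finset.range N, f ^ j • y (k + j) + f ^ N • y (k + N) :=
    Finset.sum_range_succ _ N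
  rw [h (y (k + N)), add_zero] at h4
  change ∑ j ∈ Finset.range N, f ^ j • y (k + j) -
    ∑ j ∈ Finset.range N, f ^ (j + 1) • y (k + (j + 1)) = y k
  rw [← h4, h3]
  simp

end

section Maps

variable {A B C : Type*} [AddCommGroup A] [Module Λ A] [AddCommGroup B] [Module Λ B]
  [AddCommGroup C] [Module Λ C]

theorem T0.of_injective (i : A →ₗ[Λ] B) (hi : Function.Injective i) (h : T0 f B) : T0 f A := by
  intro x hx
  apply hi
  rw [map_zero]
  exact h (fun n => i (x n)) (fun n => by rw [← map_smul, hx n])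

theorem T1.of_surjective (p : B →ₗ[Λ] C) (hp : Function.Surjective p) (h : T1 f B) :
    T1 f C := by
  intro y
  choose y' hy' using fun n => hp (y n)
  obtain ⟨x, hx⟩ := h y'
  refine ⟨fun n => p (x n), fun n => ?_⟩
  rw [← hy' n, ← hx n, map_sub, map_smul]

/-- kernels: if `0 → A → B → C` is exact, `B` satisfies `T1` and `C` satisfies `T0`, then `A`
satisfies `T1` -/
theorem T1.of_exact_left (i : A →ₗ[Λ] B) (φ : B →ₗ[Λ] C) (hi : Function.Injective i)
    (hex : Function.Exact i φ) (hB : T1 f B) (hC : T0 f C) : T1 f A := by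
  intro y
  obtain ⟨x, hx⟩ := hB (fun n => i (y n))
  have h1 : ∀ n, φ (x n) = 0 := by
    apply hC.eq_zero
    intro n
    have := congrArg φ (hx n)
    rw [map_sub, map_smul, (hex (i (y n))).mpr ⟨_, rfl⟩, sub_eq_zero] at this
    exact this.symm
  choose a ha using fun n => (hex (x n)).mp (h1 n)
  refine ⟨a, fun n => ?_⟩
  apply hi
  rw [map_sub, map_smul, ha, ha, hx]

/-- cokernels: if `A → B → C → 0` is exact, `A` satisfies `T1` and `B` satisfies `T0`, then `C`
satisfies `T0` -/
theorem T0.of_exact_right (i : A →ₗ[Λ] B) (p : B →ₗ[Λ] C) (hex : Function.Exact i p)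
    (hp : Function.Surjective p) (hA : T1 f A) (hB : T0 f B) : T0 f C := by
  intro xb hxb
  choose x hx using fun n => hp (xb n)
  have h1 : ∀ n, p (f • x (n + 1) - x n) = 0 := by
    intro n
    rw [map_sub, map_smul, hx, hx, hxb n, sub_self]
  choose b hb using fun n => (hex _).mp (h1 n)
  obtain ⟨w, hw⟩ := hA b
  have hdiv : ∀ n, f • (x (n + 1) + i (w (n + 1))) = x n + i (w n) := by
    intro n
    have e1 : f • x (n + 1) = x n + i (b n) := by rw [hb n]; abel
    have e2 : b n = w n - f • w (n + 1) := (hw n).symm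
    rw [smul_add, e1, e2, map_sub, map_smul]
    abel
  have h00 : x 0 + i (w 0) = 0 := hB (fun n => x n + i (w n)) hdiv
  rw [← hx 0, eq_neg_of_add_eq_zero_left h00, map_neg, (hex _).mpr ⟨_, rfl⟩, neg_zero]

/-- extensions -/
theorem T0.of_exact (i : A →ₗ[Λ] B) (p : B →ₗ[Λ] C) (hi : Function.Injective i)
    (hex : Function.Exact i p) (hA : T0 f A) (hC : T0 f C) : T0 f B := by
  intro x hx
  have h1 : ∀ n, p (x n) = 0 := by
    apply hC.eq_zero
    intro n
    rw [← map_smul, hx n]
  choose a ha using fun n => (hex _).mp (h1 n)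
  have h2 : a 0 = 0 := by
    apply hA
    intro n
    apply hi
    rw [map_smul, ha, ha, hx]
  rw [← ha 0, h2, map_zero]

theorem T1.of_exact (i : A →ₗ[Λ] B) (p : B →ₗ[Λ] C) (hex : Function.Exact i p)
    (hp : Function.Surjective p) (hA : T1 f A) (hC : T1 f C) : T1 f B := by
  intro y
  obtain ⟨c, hc⟩ := hC (fun n => p (y n))
  choose b hb using fun n => hp (c n)
  have h1 : ∀ n, p (y n - (b n - f • b (n + 1))) = 0 := by
    intro n
    rw [map_sub, map_sub, map_smul, hb, hb, hc n, sub_self]
  choose a ha using fun n => (hex _).mp (h1 n)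
  obtain ⟨a', ha'⟩ := hA a
  refine ⟨fun n => b n + i (a' n), fun n => ?_⟩
  have := congrArg i (ha' n)
  rw [ha n, map_sub, map_smul] at this
  rw [smul_add]
  have e : b n + i (a' n) - (f • b (n + 1) + f • i (a' (n + 1))) =
      (b n - f • b (n + 1)) + (i (a' n) - f • i (a' (n + 1))) := by abel
  rw [e, this]
  abel

end Maps

end Groth.Agent.H27.DerivedNak
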