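import Mathlib

/-!
# Derived Nakayama for modules, elementary form

A module `M` is "derived `f`-complete" when it has no nonzero `f`-divisible sequences (`T0`) and
every sequence `y` can be written as `x n - f • x (n+1)` (`T1`).  If `M` is derived complete with
respect to finitely many elements generating an ideal `I` and `M = I M`, then `M = 0`.
-/

set_option autoImplicit false
universe v w

namespace Groth.Agent.H27.DerivedNak

variable {Λ : Type w} [CommRing Λ]

/-- no nonzero `f`-divisible sequences -/
def T0 (f : Λ) (M : Type v) [AddCommGroup M] [Module Λ M] : Prop :=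
  ∀ x : ℕ → M, (∀ n, f • x (n + 1) = x n) → x 0 = 0

/-- every sequence is of the form `x n - f • x (n + 1)` -/
def T1 (f : Λ) (M : Type v) [AddCommGroup M] [Module Λ M] : Prop :=
  ∀ y : ℕ → M, ∃ x : ℕ → M, ∀ n, x n - f • x (n + 1) = y n

variable {M : Type v} [AddCommGroup M] [Module Λ M]

theorem T1_quot (f : Λ) (N : Submodule Λ M) (h : T1 f M) : T1 f (M ⧸ N) := by
  intro y
  choose y' hy' using fun n => Submodule.Quotient.mk_surjective N (y n)
  obtain ⟨x, hx⟩ := h y'
  refine ⟨fun n => Submodule.Quotient.mk (x n), fun n => ?_⟩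
  rw [← hy' n, ← hx n]
  rfl

theorem T0_quot (f b : Λ) (h0 : T0 f M) (h1 : T1 f M) :
    T0 f (M ⧸ (Ideal.span {b} • (⊤ : Submodule Λ M))) := by
  intro xb hxb
  choose x hx using fun n => Submodule.Quotient.mk_surjective
    (Ideal.span {b} • (⊤ : Submodule Λ M)) (xb n)
  have hmem : ∀ n, f • x (n + 1) - x n ∈ Ideal.span {b} • (⊤ : Submodule Λ M) := by
    intro n
    rw [← Submodule.Quotient.mk_eq_zero, Submodule.Quotient.mk_sub, Submodule.Quotient.mk_smul,
      hx, hx, hxb n, sub_self]
  have hz : ∀ n, ∃ z : M, b • z = f • x (n + 1) - x n := by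
    intro n
    have := hmem n
    rw [Submodule.ideal_span_singleton_smul, Submodule.mem_smul_pointwise_iff_exists] at this
    obtain ⟨z, -, hz⟩ := this
    exact ⟨z, hz⟩
  choose z hz using hz
  obtain ⟨w, hw⟩ := h1 z
  have hdiv : ∀ n, f • (x (n + 1) + b • w (n + 1)) = x n + b • w n := by
    intro n
    have e1 : f • x (n + 1) = x n + b • z n := by rw [hz n]; abel
    have e2 : z n = w n - f • w (n + 1) := (hw n).symm
    rw [smul_add, e1, e2, smul_sub, smul_comm f b]
    abel
  have h00 := h0 (fun n => x n + b • w n) hdiv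
  have hx0 : x 0 = b • (-w 0) := by
    have : x 0 + b • w 0 = 0 := h00
    rw [smul_neg]
    exact eq_neg_of_add_eq_zero_left this
  rw [← hx 0, Submodule.Quotient.mk_eq_zero, hx0, Submodule.ideal_span_singleton_smul]
  exact Submodule.smul_mem_pointwise_smul _ _ _ trivial

theorem subsingleton_of_list (l : List Λ) :
    ∀ (M : Type v) [AddCommGroup M] [Module Λ M], (∀ f ∈ l, T0 f M ∧ T1 f M) →
      (∀ m : M, m ∈ Ideal.span {x | x ∈ l} • (⊤ : Submodule Λ M)) → Subsingleton M := by
  induction l with
  | nil =>
    intro M _ _ _ hM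
    refine ⟨fun a b => ?_⟩
    have h : ∀ m : M, m = 0 := by
      intro m
      have := hM m
      simpa using this
    rw [h a, h b]
  | cons b l ih =>
    intro M _ _ hT hM
    haveI hsub : Subsingleton (M ⧸ (Ideal.span {b} • (⊤ : Submodule Λ M))) := by
      apply ih
      · intro f hf
        obtain ⟨h0, h1⟩ := hT f (List.mem_cons_of_mem _ hf)
        exact ⟨T0_quot f b h0 h1, T1_quot f _ h1⟩
      · intro m'
        obtain ⟨m, rfl⟩ := Submodule.Quotient.mk_surjective _ m'
        have hm := hM m
        have hset : {x | x ∈ b :: l} = {b} ∪ {x | x ∈ l} := by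
          ext x; simp
        rw [hset, Ideal.span_union, Submodule.sup_smul] at hm
        obtain ⟨n, hn, k, hk, rfl⟩ := Submodule.mem_sup.mp hm
        have h1 : (Submodule.Quotient.mk (n + k) : M ⧸ (Ideal.span {b} • (⊤ : Submodule Λ M))) =
            Submodule.Quotient.mk k := by
          rw [Submodule.Quotient.mk_add, (Submodule.Quotient.mk_eq_zero _).mpr hn, zero_add]
        rw [h1]
        have h2 : Submodule.Quotient.mk k ∈ Submodule.map
            (Ideal.span {b} • (⊤ : Submodule Λ M)).mkQ
            (Ideal.span {x | x ∈ l} • (⊤ : Submodule Λ M)) := Submodule.mem_map_of_mem hk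
        rw [Submodule.map_smul''] at h2
        exact Submodule.smul_mono le_rfl le_top h2
    obtain ⟨h0, -⟩ := hT b List.mem_cons_self
    have hdivis : ∀ m : M, ∃ m' : M, b • m' = m := by
      intro m
      have h1 : (Submodule.Quotient.mk m : M ⧸ (Ideal.span {b} • (⊤ : Submodule Λ M))) = 0 :=
        Subsingleton.elim _ _
      rw [Submodule.Quotient.mk_eq_zero, Submodule.ideal_span_singleton_smul,
        Submodule.mem_smul_pointwise_iff_exists] at h1
      obtain ⟨m', -, hm'⟩ := h1
      exact ⟨m', hm'⟩
    choose d hd using hdivis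
    refine ⟨fun x y => ?_⟩
    have h : ∀ m : M, m = 0 := by
      intro m
      exact h0 (fun n => d^[n] m) (fun n => by
        show b • d^[n + 1] m = d^[n] m
        rw [Function.iterate_succ_apply']
        exact hd _)
    rw [h x, h y]

/-- **Derived Nakayama.** -/
theorem subsingleton_of_fin {r : ℕ} (a : Fin r → Λ) (M : Type v) [AddCommGroup M] [Module Λ M]
    (hT : ∀ k, T0 (a k) M ∧ T1 (a k) M)
    (hM : ∀ m : M, m ∈ Ideal.span (Set.range a) • (⊤ : Submodule Λ M)) : Subsingleton M := by
  apply subsingleton_of_list (List.ofFn a) M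
  · intro f hf
    obtain ⟨k, rfl⟩ := (List.mem_ofFn' a f).mp hf
    exact hT k
  · intro m
    have : {x | x ∈ List.ofFn a} = Set.range a := by
      ext x
      exact List.mem_ofFn' a x
    rw [this]
    exact hM m

end Groth.Agent.H27.DerivedNak
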