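import Mathlib
import Groth.Prelude.Def_W4stktopologysheavesDim

/-!
# Differences of dimension functions are locally constant
-/

namespace Groth.Agent.H27.DimFun

open TopologicalSpace PtTop Set Topology

universe u

variable {X : Type u} [TopologicalSpace X]

/-- the difference of two dimension functions is constant along specializations -/
theorem sub_eq_of_specializes (δ δ' : X → ℤ) (hδ : IsDimensionFunction δ)
    (hδ' : IsDimensionFunction δ') : ∀ (n : ℕ) (x y : X), x ⤳ y → δ x - δ y ≤ n →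
    δ x - δ' x = δ y - δ' y := by
  intro n
  induction n using Nat.strong_induction_on with
  | _ n ih =>
    intro x y hxy hn
    by_cases hxy' : x = y
    · rw [hxy']
    by_cases himm : IsImmediateSpecialization x y
    · rw [hδ.2 x y himm, hδ'.2 x y himm]; ring
    · have : ∃ z, x ⤳ z ∧ z ⤳ y ∧ z ≠ x ∧ z ≠ y := by
        by_contra hcon
        apply himm
        refine ⟨hxy, hxy', fun z hxz hzy => ?_⟩
        by_contra hz
        push Not at hz
        exact hcon ⟨z, hxz, hzy, hz.1, hz.2⟩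
      obtain ⟨z, hxz, hzy, hzx, hzy'⟩ := this
      have h1 : δ z < δ x := hδ.1 x z hxz (Ne.symm hzx)
      have h2 : δ y < δ z := hδ.1 z y hzy hzy'
      have e1 := ih (δ x - δ z).toNat (by omega) x z hxz (by omega)
      have e2 := ih (δ z - δ y).toNat (by omega) z y hzy (by omega)
      rw [e1, e2]

theorem sub_eq_of_specializes' (δ δ' : X → ℤ) (hδ : IsDimensionFunction δ)
    (hδ' : IsDimensionFunction δ') {x y : X} (h : x ⤳ y) : δ x - δ' x = δ y - δ' y := by
  by_cases hxy : x = y
  · rw [hxy]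
  · have : δ y < δ x := hδ.1 x y h hxy
    exact sub_eq_of_specializes δ δ' hδ hδ' (δ x - δ y).toNat x y h (by omega)

/-- an open Noetherian subset of a quasi-sober space is covered by the closures of finitely many
of its points -/
theorem exists_finite_generic [QuasiSober X] {U : Set X} (hU : IsOpen U) [NoetherianSpace U] :
    ∃ F : Set X, F.Finite ∧ ∀ y ∈ U, ∃ ξ ∈ F, ξ ⤳ y := by
  haveI : QuasiSober U := hU.isOpenEmbedding_subtypeVal.quasiSober
  have hfin : (irreducibleComponents U).Finite := NoetherianSpace.finite_irreducibleComponents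
  have hgen : ∀ Z ∈ irreducibleComponents U, ∃ ξ : U, IsGenericPoint ξ Z := fun Z hZ =>
    QuasiSober.sober hZ.1 (isClosed_of_mem_irreducibleComponents Z hZ)
  choose g hg using fun Z : irreducibleComponents U => hgen Z.1 Z.2
  haveI : Finite (irreducibleComponents U) := hfin.to_subtype
  refine ⟨Set.range fun Z : irreducibleComponents U => (g Z : X), Set.finite_range _,
    fun y hy => ?_⟩
  have hy' : (⟨y, hy⟩ : U) ∈ ⋃₀ irreducibleComponents U := by
    rw [sUnion_irreducibleComponents]; trivial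
  obtain ⟨Z, hZ, hyZ⟩ := hy'
  refine ⟨(g ⟨Z, hZ⟩ : X), ⟨⟨Z, hZ⟩, rfl⟩, ?_⟩
  have h1 : g ⟨Z, hZ⟩ ⤳ (⟨y, hy⟩ : U) := by
    rw [specializes_iff_mem_closure, (hg ⟨Z, hZ⟩).def]
    exact hyZ
  exact (IsInducing.subtypeVal.specializes_iff (x := g ⟨Z, hZ⟩) (y := ⟨y, hy⟩)).mpr h1

theorem main [QuasiSober X]
    (hX : ∀ x : X, ∃ E ∈ nhds x, NoetherianSpace E)
    (δ δ' : X → ℤ) (hδ : IsDimensionFunction δ) (hδ' : IsDimensionFunction δ') :
    IsLocallyConstant (fun x => δ x - δ' x) := by
  rw [IsLocallyConstant.iff_exists_open]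
  intro x
  obtain ⟨E, hE, hEN⟩ := hX x
  set U := interior E with hUdef
  have hUo : IsOpen U := isOpen_interior
  have hxU : x ∈ U := mem_interior_iff_mem_nhds.mpr hE
  haveI : NoetherianSpace U := by
    rw [noetherianSpace_set_iff] at hEN ⊢
    exact fun t ht => hEN t (ht.trans interior_subset)
  obtain ⟨F, hFfin, hF⟩ := exists_finite_generic hUo
  set f : X → ℤ := fun x => δ x - δ' x with hf
  have hspec : ∀ {a b : X}, a ⤳ b → f a = f b := fun h => sub_eq_of_specializes' δ δ' hδ hδ' h
  set C : Set X := ⋃ ξ ∈ {ξ ∈ F | f ξ ≠ f x}, closure {ξ} with hC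
  have hCcl : IsClosed C :=
    (hFfin.subset (fun ξ hξ => hξ.1)).isClosed_biUnion fun ξ _ => isClosed_closure
  refine ⟨U \ C, hUo.sdiff hCcl, ⟨hxU, fun hxC => ?_⟩, fun y hy => ?_⟩
  · simp only [hC, mem_iUnion] at hxC
    obtain ⟨ξ, hξ, hxξ⟩ := hxC
    exact hξ.2 (hspec (specializes_iff_mem_closure.mpr hxξ))
  · obtain ⟨ξ, hξF, hξy⟩ := hF y hy.1
    show f y = f x
    rw [← hspec hξy]
    by_contra hne
    apply hy.2
    simp only [hC, mem_iUnion]
    exact ⟨ξ, ⟨hξF, hne⟩, specializes_iff_mem_closure.mp hξy⟩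

end Groth.Agent.H27.DimFun
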