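import Groth.Agent.H27.Coxeter

set_option autoImplicit false

namespace Groth.Agent.H27

open RootD Finsupp RootPairing

variable {ι M N : Type*} [AddCommGroup M] [AddCommGroup N] {P : RootPairing ι ℤ M N}

lemma natSpan_add_eq_zero {Δ : Set ι} (hli : LinearIndepOn ℤ P.root Δ) {x y : M}
    (hx : x ∈ natSpan P Δ) (hy : y ∈ natSpan P Δ) (h : x + y = 0) : x = 0 := by
  obtain ⟨c, hc1, hc2, rfl⟩ := (mem_natSpan_iff P).1 hx
  obtain ⟨d, hd1, hd2, rfl⟩ := (mem_natSpan_iff P).1 hy
  have h0 : c + d = 0 := pointed_of_linearIndepOn hli (c + d) (support_add_subset hc1 hd1)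
    (fun i => by
      have := hc2 i; have := hd2 i
      simp only [Finsupp.add_apply]; omega) (by rw [map_add, h])
  have hc0 : c = 0 := by
    ext i
    have h1 := DFunLike.congr_fun h0 i
    simp only [Finsupp.add_apply, Finsupp.zero_apply] at h1 ⊢
    have := hc2 i; have := hd2 i
    omega
  rw [hc0, map_zero]

lemma nsmul_mem_natSpan {S : Set ι} {x : M} (hx : x ∈ natSpan P S) {a : ℤ} (ha : 0 ≤ a) :
    a • x ∈ natSpan P S := by
  obtain ⟨n, rfl⟩ := Int.eq_ofNat_of_zero_le ha
  rw [natCast_zsmul]
  exact AddSubmonoid.nsmul_mem _ hx n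

section Finite
variable [Finite ι]

/-- Let `λ` be dominant for the simple roots `i, j ∈ Δ`, with strictly positive pairing against
`i`. Then for every product `g` of the reflections `s_i, s_j`, `λ - gλ` is a non-negative combination
of simple roots, and `gλ = λ` only if `g ∈ {1, s_j}`. -/
lemma dominant_list {Δ : Set ι} (hΔ : IsSimpleSys P Δ) {i j : ι} (hi : i ∈ Δ) (hj : j ∈ Δ)
    (x : M) (hα : 0 < P.toLinearMap x (P.coroot i)) (hβ : 0 ≤ P.toLinearMap x (P.coroot j)) :
    ∀ (n : ℕ) (L : List ι), L.length = n → (∀ a ∈ L, a = i ∨ a = j) →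
      (x - lprod P L • x ∈ natSpan P Δ) ∧
        (lprod P L • x = x → lprod P L = 1 ∨ lprod P L = refl P j) := by
  intro n
  induction n using Nat.strong_induction_on with
  | _ n ih =>
    intro L hn hL
    rcases List.eq_nil_or_concat L with rfl | ⟨L₀, a, rfl⟩
    · simp
    · rw [List.concat_eq_append] at hn hL ⊢
      have ha : a = i ∨ a = j := hL a (by simp)
      have haΔ : a ∈ Δ := by rcases ha with rfl | rfl <;> assumption
      have hL₀ : ∀ b ∈ L₀, b = i ∨ b = j := fun b hb => hL b (by simp [hb])
      have hL₀Δ : ∀ b ∈ L₀, b ∈ Δ := fun b hb => by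
        rcases hL₀ b hb with rfl | rfl <;> assumption
      have hlen₀ : L₀.length < n := by
        rw [← hn]; simp
      by_cases hpos : lprod P L₀ • a ∈ posOf P Δ
      · -- good case
        obtain ⟨ih1, ih2⟩ := ih _ hlen₀ L₀ rfl hL₀
        have hpa : 0 ≤ P.toLinearMap x (P.coroot a) := by
          rcases ha with rfl | rfl
          · exact hα.le
          · exact hβ
        have hdecomp : x - lprod P (L₀ ++ [a]) • x =
            (x - lprod P L₀ • x) + (P.toLinearMap x (P.coroot a)) • P.root (lprod P L₀ • a) := by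
          rw [lprod_append, lprod_cons, lprod_nil, mul_one, mul_smul,
            RootPairing.Equiv.reflection_smul, P.reflection_apply, smul_sub, smul_root, smul_comm]
          simp only [RootPairing.coroot', LinearMap.flip_apply]
          abel
        have hmem2 : (P.toLinearMap x (P.coroot a)) • P.root (lprod P L₀ • a) ∈ natSpan P Δ :=
          nsmul_mem_natSpan hpos hpa
        refine ⟨by rw [hdecomp]; exact add_mem ih1 hmem2, fun hfix => ?_⟩
        have h0 : x - lprod P (L₀ ++ [a]) • x = 0 := by rw [hfix, sub_self]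
        rw [hdecomp] at h0
        have h1 : x - lprod P L₀ • x = 0 := natSpan_add_eq_zero hΔ.linInd ih1 hmem2 h0
        have h2 : (P.toLinearMap x (P.coroot a)) • P.root (lprod P L₀ • a) = 0 := by
          rw [h1, zero_add] at h0; exact h0
        have h3 : P.toLinearMap x (P.coroot a) = 0 := by
          have := torsionFree P
          rcases smul_eq_zero.1 h2 with h | h
          · exact h
          · exact absurd h (root_ne_zero P _)
        have haj : a = j := by
          rcases ha with rfl | rfl
          · exact absurd h3 hα.ne'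
          · rfl
        subst haj
        rw [lprod_append, lprod_cons, lprod_nil, mul_one]
        rcases ih2 (sub_eq_zero.1 h1).symm with h | h
        · right; rw [h, one_mul]
        · left; rw [h]; exact refl_mul_self a
      · -- descent case
        obtain ⟨L₁, b, L₂, hsplit, hb⟩ := exists_split_of_not_mem_posOf hΔ haΔ L₀ hL₀Δ hpos
        have hkey : lprod P (L₀ ++ [a]) = lprod P (L₁ ++ L₂) := by
          rw [hsplit]
          simp only [lprod_append, lprod_cons, lprod_nil, mul_one]
          rw [← hb, refl_smul_eq]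
          simp only [mul_assoc, inv_mul_cancel_left]
          rw [refl_mul_self, mul_one]
        have hlen : (L₁ ++ L₂).length < n := by
          rw [← hn, hsplit]
          simp only [List.length_append, List.length_cons, List.length_nil]
          omega
        rw [hkey]
        refine ih _ hlen (L₁ ++ L₂) rfl ?_
        intro c hc
        apply hL₀
        rw [hsplit]
        rcases List.mem_append.1 hc with h | h
        · exact List.mem_append_left _ h
        · exact List.mem_append_right _ (List.mem_cons_of_mem _ h)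

/-- S5472 core -/
theorem dominant_orbit (Δ : Set ι) (hΔ : IsSimpleSys P Δ)
    (k i j : ι) (hi : i ∈ Δ) (hj : j ∈ Δ)
    (hα : 0 < P.pairing k i) (hβ : 0 ≤ P.pairing k j)
    (g : P.Aut) (hg : g ∈ Subgroup.closure {Equiv.reflection P i, Equiv.reflection P j})
    (c : ι →₀ ℤ) (hc : ↑c.support ⊆ Δ)
    (hck : Finsupp.linearCombination ℤ P.root c = P.root k - P.root (g • k)) :
    0 ≤ c.sum (fun _ a => a) ∧ (g ≠ 1 → g ≠ Equiv.reflection P j → 0 < c.sum (fun _ a => a)) := by
  have hg' : g ∈ Subgroup.closure ((fun i : ι => RootPairing.Equiv.reflection P i) '' {i, j}) := by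
    rwa [Set.image_pair]
  obtain ⟨L, hL, rfl⟩ := mem_closure_iff_exists_list.1 hg'
  have hL' : ∀ a ∈ L, a = i ∨ a = j := fun a ha => by simpa using hL a ha
  obtain ⟨h1, h2⟩ := dominant_list hΔ hi hj (P.root k) hα hβ _ L rfl hL'
  obtain ⟨c', hc'1, hc'2, hc'3⟩ := (mem_natSpan_iff P).1 h1
  have hcc : c = c' := coef_unique hΔ.linInd hc hc'1 (by rw [hck, hc'3, smul_root])
  subst hcc
  rw [← csum_apply]
  refine ⟨csum_nonneg hc'2, fun hne1 hne2 => ?_⟩
  rcases (csum_nonneg hc'2).lt_or_eq with h | h
  · exact h
  · exfalso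
    have hc0 : c = 0 := (csum_eq_zero_iff hc'2).1 h.symm
    rw [hc0, map_zero] at hc'3
    rcases h2 (sub_eq_zero.1 hc'3.symm).symm with h | h
    · exact hne1 h
    · exact hne2 h

end Finite

end Groth.Agent.H27
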