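import Groth.Agent.H27.Levi3
import Groth.Agent.H27.Dominant

set_option autoImplicit false

namespace Groth.Agent.H27

open RootD Finsupp RootPairing

variable {ι M N : Type*} [AddCommGroup M] [AddCommGroup N] {P : RootPairing ι ℤ M N}
variable {Γ : Type*} [AddCommGroup Γ] [LinearOrder Γ] [IsOrderedAddMonoid Γ]

section Finite
variable [Finite ι]

/-- every additive map to an ordered group is Weyl-conjugate to a dominant one -/
lemma exists_weyl_dominant {S : Set ι} (hS : IsPosSys P S) (f : M →+ Γ) :
    ∃ g : P.Aut, g ∈ P.weylGroup ∧ ∀ i ∈ S, 0 ≤ f (g • P.root i) := by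
  classical
  obtain ⟨φ₂, hφ₂⟩ := exists_orderedHom_ne_zero (P := P)
  let φ : M →+ Γ ×ₗ (Lex (Fin (Nat.card ι) → ℤ)) :=
    { toFun := fun m => toLex (f m, φ₂ m)
      map_zero' := by
        apply toLex.injective |>.eq_iff.2
        simp
      map_add' := fun x y => by
        rw [map_add, map_add, ← Prod.mk_add_mk, toLex_add] }
  have hφ : ∀ m, φ m = toLex (f m, φ₂ m) := fun m => rfl
  have hne : ∀ i : ι, φ (P.root i) ≠ 0 := by
    intro i h
    have h1 : (f (P.root i), φ₂ (P.root i)) = 0 := by
      have := congrArg ofLex h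
      simpa [hφ] using this
    rw [Prod.mk_eq_zero] at h1
    exact hφ₂ i h1.2
  have hS' : IsPosSys P {i : ι | 0 < φ (P.root i)} :=
    isPosSys_of_orderedAddHom φ fun i => by
      rcases lt_or_gt_of_ne (hne i) with h | h
      · exact Or.inr h
      · exact Or.inl h
  obtain ⟨g, hgW, hg⟩ := weyl_transitive_posSys hS hS'
  refine ⟨g, hgW, fun i hi => ?_⟩
  have h1 : g • i ∈ {i : ι | 0 < φ (P.root i)} := by
    rw [← hg]; exact ⟨i, hi, rfl⟩
  have h2 : 0 < φ (P.root (g • i)) := h1
  rw [hφ, Prod.Lex.lt_iff] at h2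
  simp only [ofLex_toLex, ofLex_zero, Prod.fst_zero, Prod.snd_zero] at h2
  rw [← smul_root]
  rcases h2 with h | ⟨h, _⟩
  · exact h.le
  · exact h.le

/-- list form of uniqueness of the dominant conjugate -/
lemma dominant_unique_list {Δ : Set ι} (hΔ : IsSimpleSys P Δ) (f : M →+ Γ)
    (hf : ∀ i ∈ posOf P Δ, 0 ≤ f (P.root i)) :
    ∀ (n : ℕ) (L : List ι), L.length = n → (∀ a ∈ L, a ∈ Δ) →
      (∀ i ∈ posOf P Δ, 0 ≤ f (lprod P L • P.root i)) → ∀ m : M, f (lprod P L • m) = f m := by
  intro n
  induction n using Nat.strong_induction_on with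
  | _ n ih =>
    intro L hn hL hdom m
    by_cases hpos : ∀ a ∈ Δ, lprod P L • a ∈ posOf P Δ
    · rw [lprod_eq_one_of_maps_pos hΔ _ L rfl hL hpos, one_smul]
    · push Not at hpos
      obtain ⟨a, ha, hna⟩ := hpos
      obtain ⟨L₁, b, L₂, hsplit, hb⟩ := exists_split_of_not_mem_posOf hΔ ha L hL hna
      have hkey : lprod P L * refl P a = lprod P (L₁ ++ L₂) := by
        rw [hsplit]
        simp only [lprod_append, lprod_cons]
        rw [← hb, refl_smul_eq]
        simp only [mul_assoc, inv_mul_cancel_left]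
        rw [refl_mul_self, mul_one]
      have h0 : f (lprod P L • P.root a) = 0 := by
        apply le_antisymm
        · have h1 := (ng_mem_posOf_iff hΔ _).2 hna
          have h2 := hf _ h1
          rw [root_ng, smul_root, map_neg] at h2
          exact neg_nonneg.1 h2
        · exact hdom a (subset_posOf Δ ha)
      have hsame : ∀ x : M, f (lprod P (L₁ ++ L₂) • x) = f (lprod P L • x) := by
        intro x
        rw [← hkey, mul_smul, RootPairing.Equiv.reflection_smul, P.reflection_apply, smul_sub,
          map_sub, smul_comm, map_zsmul, h0, smul_zero, sub_zero]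
      have hlen : (L₁ ++ L₂).length < n := by
        rw [← hn, hsplit]
        simp only [List.length_append, List.length_cons]
        omega
      rw [← hsame]
      refine ih _ hlen (L₁ ++ L₂) rfl ?_ ?_ m
      · intro c hc
        apply hL
        rw [hsplit]
        rcases List.mem_append.1 hc with h | h
        · exact List.mem_append_left _ h
        · exact List.mem_append_right _ (List.mem_cons_of_mem _ h)
      · intro i hi
        rw [hsame]
        exact hdom i hi

/-- two dominant Weyl-conjugate maps are equal -/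
lemma dominant_unique {S : Set ι} (hS : IsPosSys P S) (f : M →+ Γ) {g : P.Aut}
    (hg : g ∈ P.weylGroup) (hf : ∀ i ∈ S, 0 ≤ f (P.root i))
    (hfg : ∀ i ∈ S, 0 ≤ f (g • P.root i)) (m : M) : f (g • m) = f m := by
  have hΔ := isSimpleSys_indec hS
  have hSeq := isPosSys_eq_posOf hS
  rw [weylGroup_eq_wsub hΔ] at hg
  obtain ⟨L, hL, rfl⟩ := mem_closure_iff_exists_list.1 hg
  rw [hSeq] at hf hfg
  exact dominant_unique_list hΔ f hf _ L rfl hL hfg m

end Finite

end Groth.Agent.H27
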