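import Groth.Agent.H27.Weyl

set_option autoImplicit false

namespace Groth.Agent.H27

open RootD Finsupp RootPairing

variable {ι M N : Type*} [AddCommGroup M] [AddCommGroup N] {P : RootPairing ι ℤ M N}

section Finite
variable [Finite ι]

/-- the sum of the positive coroots pairs positively with every simple root -/
lemma sum_pairing_pos {Δ : Set ι} (hΔ : IsSimpleSys P Δ) [Fintype ι] [DecidablePred (· ∈ posOf P Δ)]
    {α : ι} (hα : α ∈ Δ) :
    0 < ∑ k ∈ Finset.univ.filter (· ∈ posOf P Δ), P.pairing α k := by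
  classical
  set pos := Finset.univ.filter (· ∈ posOf P Δ) with hpos
  have hmem : ∀ k, k ∈ pos ↔ k ∈ posOf P Δ := fun k => by simp [hpos]
  rw [← Finset.sum_filter_add_sum_filter_not pos (fun k => P.reflectionPerm α k ∈ posOf P Δ)]
  have hA : ∑ k ∈ pos.filter (fun k => P.reflectionPerm α k ∈ posOf P Δ), P.pairing α k = 0 := by
    refine Finset.sum_involution (fun k _ => P.reflectionPerm α k) ?_ ?_ ?_ ?_
    · intro k _
      rw [P.pairing_reflectionPerm, P.pairing_reflectionPerm_self_left]; ring
    · intro k _ hne heq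
      apply hne
      have := P.pairing_reflectionPerm α α k
      rw [heq, P.pairing_reflectionPerm_self_left] at this
      omega
    · intro k hk
      rw [Finset.mem_filter, hmem] at hk ⊢
      refine ⟨hk.2, ?_⟩
      rw [P.reflectionPerm_self]; exact hk.1
    · intro k _
      exact P.reflectionPerm_self α k
  rw [hA, zero_add]
  have hαpos : α ∈ posOf P Δ := subset_posOf Δ hα
  have hαB : α ∈ pos.filter (fun k => ¬ P.reflectionPerm α k ∈ posOf P Δ) := by
    rw [Finset.mem_filter, hmem]
    refine ⟨hαpos, ?_⟩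
    change ng P α ∉ posOf P Δ
    rw [ng_mem_posOf_iff hΔ]
    exact not_not.2 hαpos
  refine Finset.sum_pos' ?_ ⟨α, hαB, by rw [P.pairing_same]; norm_num⟩
  intro k hk
  rw [Finset.mem_filter, hmem] at hk
  rcases reflectionPerm_mem_posOf hΔ hα hk.1 with h | h | h
  · exact absurd h hk.2
  · rw [h, P.pairing_same]; norm_num
  · have h1 : P.pairing k k = 2 * P.pairing α k := by
      have : P.toLinearMap (P.root k) (P.coroot k) = P.toLinearMap ((2 : ℤ) • P.root α) (P.coroot k) := by
        rw [h]
      rw [map_smul, LinearMap.smul_apply, smul_eq_mul] at this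
      exact this
    rw [P.pairing_same] at h1
    omega

/-- a coweight pairing positively with all positive roots of a simple system -/
lemma exists_coweight_pos {Δ : Set ι} (hΔ : IsSimpleSys P Δ) :
    ∃ ρ : N, ∀ k ∈ posOf P Δ, 0 < P.toLinearMap (P.root k) ρ := by
  classical
  have := Fintype.ofFinite ι
  obtain ⟨ρ, hρ⟩ : ∃ ρ : N, ρ = ∑ k ∈ Finset.univ.filter (· ∈ posOf P Δ), P.coroot k := ⟨_, rfl⟩
  refine ⟨ρ, ?_⟩
  have hsimple : ∀ α ∈ Δ, 0 < P.toLinearMap (P.root α) ρ := by
    intro α hα
    rw [hρ, map_sum]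
    exact sum_pairing_pos hΔ hα
  intro k hk
  obtain ⟨c, hc1, hc2, hc3⟩ := mem_posOf_iff.1 hk
  rw [← hc3, Finsupp.linearCombination_apply, Finsupp.sum, map_sum, LinearMap.sum_apply]
  have hne : c ≠ 0 := by
    rintro rfl
    rw [map_zero] at hc3
    exact root_ne_zero P k hc3.symm
  obtain ⟨i, hi⟩ : ∃ i, c i ≠ 0 := by
    by_contra hcon
    push Not at hcon
    exact hne (Finsupp.ext hcon)
  have hisupp : i ∈ c.support := by simpa using hi
  refine Finset.sum_pos' ?_ ⟨i, hisupp, ?_⟩
  · intro j hj
    rw [map_smul, LinearMap.smul_apply, smul_eq_mul]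
    exact mul_nonneg (hc2 j) (hsimple j (hc1 hj)).le
  · rw [map_smul, LinearMap.smul_apply, smul_eq_mul]
    have := hc2 i
    exact mul_pos (by omega) (hsimple i (hc1 hisupp))

end Finite

end Groth.Agent.H27
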