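import Groth.Agent.H27.DomHom
import Groth.Agent.H27.RhoCheck

set_option autoImplicit false

namespace Groth.Agent.H27

open RootD Finsupp RootPairing

variable {ι M N : Type*} [AddCommGroup M] [AddCommGroup N] {P : RootPairing ι ℤ M N}
variable {Γ : Type*} [AddCommGroup Γ] [LinearOrder Γ] [IsOrderedAddMonoid Γ]

section Fintype
variable [Fintype ι]

/-- the sum of the positive roots pairs positively with every simple coroot -/
lemma sum_pairing_pos' {Δ : Set ι} (hΔ : IsSimpleSys P Δ) [DecidablePred (· ∈ posOf P Δ)]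
    {α : ι} (hα : α ∈ Δ) :
    0 < ∑ k ∈ Finset.univ.filter (· ∈ posOf P Δ), P.pairing k α := by
  classical
  set pos := Finset.univ.filter (· ∈ posOf P Δ) with hpos
  have hmem : ∀ k, k ∈ pos ↔ k ∈ posOf P Δ := fun k => by simp [hpos]
  rw [← Finset.sum_filter_add_sum_filter_not pos (fun k => P.reflectionPerm α k ∈ posOf P Δ)]
  have hneg : ∀ k, P.pairing (P.reflectionPerm α k) α = - P.pairing k α := by
    intro k
    rw [← P.pairing_reflectionPerm, P.pairing_reflectionPerm_self_right]
  have hA : ∑ k ∈ pos.filter (fun k => P.reflectionPerm α k ∈ posOf P Δ), P.pairing k α = 0 := by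
    refine Finset.sum_involution (fun k _ => P.reflectionPerm α k) ?_ ?_ ?_ ?_
    · intro k _
      rw [hneg]; ring
    · intro k _ hne heq
      apply hne
      have := hneg k
      rw [heq] at this
      omega
    · intro k hk
      rw [Finset.mem_filter, hmem] at hk ⊢
      refine ⟨hk.2, ?_⟩
      rw [P.reflectionPerm_self]; exact hk.1
    · intro k _
      exact P.reflectionPerm_self α k
  rw [hA, zero_add]
  have hαpos : α ∈ posOf P Δ := subset_posOf Δ hα
  have hαB : α ∈ pos.filter (fun k => ¬ P.reflectionPerm α k ∈ posOf P Δ) := by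
    rw [Finset.mem_filter, hmem]
    refine ⟨hαpos, ?_⟩
    change ng P α ∉ posOf P Δ
    rw [ng_mem_posOf_iff hΔ]
    exact not_not.2 hαpos
  refine Finset.sum_pos' ?_ ⟨α, hαB, by rw [P.pairing_same]; norm_num⟩
  intro k hk
  rw [Finset.mem_filter, hmem] at hk
  rcases reflectionPerm_mem_posOf hΔ hα hk.1 with h | h | h
  · exact absurd h hk.2
  · rw [h, P.pairing_same]; norm_num
  · have h1 : P.pairing k α = 2 * P.pairing α α := by
      have : P.toLinearMap (P.root k) (P.coroot α) =
          P.toLinearMap ((2 : ℤ) • P.root α) (P.coroot α) := by rw [h]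
      rw [map_smul, LinearMap.smul_apply, smul_eq_mul] at this
      exact this
    rw [h1, P.pairing_same]; norm_num

/-- a regular dominant element of the root lattice -/
lemma exists_regular_dominant {Δ : Set ι} (hΔ : IsSimpleSys P Δ) :
    ∃ m : M, (∀ a ∈ Δ, 0 < P.toLinearMap m (P.coroot a)) ∧
      ∀ i ∈ posOf P Δ, 0 ≤ P.toLinearMap m (P.coroot i) := by
  classical
  obtain ⟨m, hm⟩ : ∃ m : M, m = ∑ k ∈ Finset.univ.filter (· ∈ posOf P Δ), P.root k := ⟨_, rfl⟩
  have h1 : ∀ a ∈ Δ, 0 < P.toLinearMap m (P.coroot a) := by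
    intro a ha
    rw [hm, map_sum, LinearMap.sum_apply]
    exact sum_pairing_pos' hΔ ha
  refine ⟨m, h1, fun i hi => ?_⟩
  by_contra hcon
  push Not at hcon
  have h2 : P.RootForm (P.root i) m ≤ 0 := (rootForm_root_nonpos_iff P i m).2 hcon.le
  obtain ⟨c, hc1, hc2, hc3⟩ := mem_posOf_iff.1 hi
  rw [← hc3, rootForm_linearCombination_left, Finsupp.sum] at h2
  have h3 : ∀ j ∈ c.support, 0 ≤ c j * P.RootForm (P.root j) m := by
    intro j hj
    exact mul_nonneg (hc2 j) ((rootForm_root_pos_iff P j m).2 (h1 j (hc1 hj))).le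
  have h4 : ∑ j ∈ c.support, c j * P.RootForm (P.root j) m = 0 :=
    le_antisymm h2 (Finset.sum_nonneg h3)
  rw [Finset.sum_eq_zero_iff_of_nonneg h3] at h4
  have hc0 : c = 0 := by
    ext j
    by_contra hj
    have hjs : j ∈ c.support := by simpa using hj
    have h5 := h4 j hjs
    have h6 : 0 < P.RootForm (P.root j) m := (rootForm_root_pos_iff P j m).2 (h1 j (hc1 hjs))
    rcases mul_eq_zero.1 h5 with h | h
    · exact hj h
    · omega
  rw [hc0, map_zero] at hc3
  exact root_ne_zero P i hc3.symm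

/-- dominance gives the positive-coroot expression of `f - f ∘ w` (list form) -/
lemma dominant_coeffs_list {Δ : Set ι} (hΔ : IsSimpleSys P Δ) (f : M →+ Γ)
    (hf : ∀ i ∈ posOf P Δ, 0 ≤ f (P.root i)) :
    ∀ (n : ℕ) (L : List ι), L.length = n → (∀ a ∈ L, a ∈ Δ) →
      ∃ c : ι → Γ, (∀ i, 0 ≤ c i) ∧ (∀ i, i ∉ Δ → c i = 0) ∧
        ∀ m : M, f m - f (lprod P L • m) = ∑ i, (P.coroot' i m) • c i := by
  classical
  intro n
  induction n using Nat.strong_induction_on with
  | _ n ih =>
    intro L hn hL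
    rcases List.eq_nil_or_concat L with rfl | ⟨L₀, a, rfl⟩
    · exact ⟨0, fun _ => le_rfl, fun _ _ => rfl, fun m => by simp⟩
    · rw [List.concat_eq_append] at hn hL ⊢
      have ha : a ∈ Δ := hL a (by simp)
      have hL₀ : ∀ b ∈ L₀, b ∈ Δ := fun b hb => hL b (by simp [hb])
      have hlen₀ : L₀.length < n := by rw [← hn]; simp
      by_cases hpos : lprod P L₀ • a ∈ posOf P Δ
      · obtain ⟨c₀, hc1, hc2, hc3⟩ := ih _ hlen₀ L₀ rfl hL₀
        have hx : 0 ≤ f (lprod P L₀ • P.root a) := by
          rw [← smul_root]; exact hf _ hpos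
        refine ⟨c₀ + Pi.single a (f (lprod P L₀ • P.root a)), fun i => ?_, fun i hi => ?_,
          fun m => ?_⟩
        · rw [Pi.add_apply]
          refine add_nonneg (hc1 i) ?_
          by_cases hia : i = a
          · subst hia; rw [Pi.single_eq_same]; exact hx
          · rw [Pi.single_eq_of_ne hia]
        · rw [Pi.add_apply, hc2 i hi, zero_add]
          have hia : i ≠ a := fun h => hi (h ▸ ha)
          rw [Pi.single_eq_of_ne hia]
        · have e1 : f m - f (lprod P (L₀ ++ [a]) • m) =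
              (f m - f (lprod P L₀ • m)) + (P.coroot' a m) • f (lprod P L₀ • P.root a) := by
            rw [lprod_append, lprod_cons, lprod_nil, mul_one, mul_smul,
              RootPairing.Equiv.reflection_smul, P.reflection_apply, smul_sub, map_sub, smul_comm,
              map_zsmul]
            abel
          rw [e1, hc3 m]
          simp only [Pi.add_apply, smul_add, Finset.sum_add_distrib]
          congr 1
          rw [Finset.sum_eq_single a]
          · rw [Pi.single_eq_same]
          · intro b _ hba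
            rw [Pi.single_eq_of_ne hba, smul_zero]
          · intro h; exact absurd (Finset.mem_univ a) h
      · obtain ⟨L₁, b, L₂, hsplit, hb⟩ := exists_split_of_not_mem_posOf hΔ ha L₀ hL₀ hpos
        have hkey : lprod P (L₀ ++ [a]) = lprod P (L₁ ++ L₂) := by
          rw [hsplit]
          simp only [lprod_append, lprod_cons, lprod_nil, mul_one]
          rw [← hb, refl_smul_eq]
          simp only [mul_assoc, inv_mul_cancel_left]
          rw [refl_mul_self, mul_one]
        have hlen : (L₁ ++ L₂).length < n := by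
          rw [← hn, hsplit]
          simp only [List.length_append, List.length_cons, List.length_nil]
          omega
        rw [hkey]
        refine ih _ hlen (L₁ ++ L₂) rfl ?_
        intro c hc
        apply hL₀
        rw [hsplit]
        rcases List.mem_append.1 hc with h | h
        · exact List.mem_append_left _ h
        · exact List.mem_append_right _ (List.mem_cons_of_mem _ h)

/-- S19156 core -/
theorem dominant_iff {S : Set ι} (hS : IsPosSys P S) (f : M →+ Γ) :
    ((∀ i ∈ S, 0 ≤ f (P.root i)) ↔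
      ∀ g : P.Aut, g ∈ P.weylGroup → ∃ c : ι → Γ, (∀ i, 0 ≤ c i) ∧ (∀ i, i ∉ S → c i = 0) ∧
        ∀ m : M, f m - f (g • m) = ∑ i, (P.coroot' i m) • c i) ∧
    ((∀ i ∈ S, 0 ≤ f (P.root i)) ↔
      ∀ g : P.Aut, g ∈ P.weylGroup → ∀ m : M, (∀ i ∈ S, 0 ≤ P.coroot' i m) →
        f (g • m) ≤ f m) := by
  have hΔ := isSimpleSys_indec hS
  have hSeq := isPosSys_eq_posOf hS
  have h1 : (∀ i ∈ S, 0 ≤ f (P.root i)) →
      ∀ g : P.Aut, g ∈ P.weylGroup → ∃ c : ι → Γ, (∀ i, 0 ≤ c i) ∧ (∀ i, i ∉ S → c i = 0) ∧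
        ∀ m : M, f m - f (g • m) = ∑ i, (P.coroot' i m) • c i := by
    intro hf g hg
    rw [weylGroup_eq_wsub hΔ] at hg
    obtain ⟨L, hL, rfl⟩ := mem_closure_iff_exists_list.1 hg
    rw [hSeq] at hf
    obtain ⟨c, hc1, hc2, hc3⟩ := dominant_coeffs_list hΔ f hf _ L rfl hL
    exact ⟨c, hc1, fun i hi => hc2 i (fun h => hi (indec_subset S h)), hc3⟩
  have h2 : (∀ g : P.Aut, g ∈ P.weylGroup → ∃ c : ι → Γ, (∀ i, 0 ≤ c i) ∧
        (∀ i, i ∉ S → c i = 0) ∧
        ∀ m : M, f m - f (g • m) = ∑ i, (P.coroot' i m) • c i) →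
      ∀ g : P.Aut, g ∈ P.weylGroup → ∀ m : M, (∀ i ∈ S, 0 ≤ P.coroot' i m) →
        f (g • m) ≤ f m := by
    intro h g hg m hm
    obtain ⟨c, hc1, hc2, hc3⟩ := h g hg
    rw [← sub_nonneg, hc3 m]
    refine Finset.sum_nonneg fun i _ => ?_
    by_cases hi : i ∈ S
    · exact zsmul_nonneg (hc1 i) (hm i hi)
    · rw [hc2 i hi, smul_zero]
  have h3 : (∀ g : P.Aut, g ∈ P.weylGroup → ∀ m : M, (∀ i ∈ S, 0 ≤ P.coroot' i m) →
        f (g • m) ≤ f m) → ∀ i ∈ S, 0 ≤ f (P.root i) := by
    intro h
    obtain ⟨m₀, hm1, hm2⟩ := exists_regular_dominant hΔ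
    have hsimple : ∀ a ∈ indec P S, 0 ≤ f (P.root a) := by
      intro a ha
      have h4 := h (refl P a) (P.reflection_mem_weylGroup a) m₀ (fun i hi => by
        rw [hSeq] at hi; exact hm2 i hi)
      rw [RootPairing.Equiv.reflection_smul, P.reflection_apply, map_sub, map_zsmul,
        sub_le_self_iff] at h4
      have hn : 0 < P.coroot' a m₀ := hm1 a ha
      by_contra hcon
      push Not at hcon
      have h5 := zsmul_pos (neg_pos.2 hcon) hn
      rw [smul_neg, neg_pos] at h5
      exact absurd h4 (not_le.2 h5)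
    intro i hi
    rw [hSeq] at hi
    obtain ⟨c, hc1, hc2, hc3⟩ := mem_posOf_iff.1 hi
    rw [← hc3, Finsupp.linearCombination_apply, Finsupp.sum, map_sum]
    refine Finset.sum_nonneg fun j hj => ?_
    rw [map_zsmul]
    exact zsmul_nonneg (hsimple j (hc1 hj)) (hc2 j)
  exact ⟨⟨h1, fun h => h3 (h2 h)⟩, ⟨fun h => h2 (h1 h), h3⟩⟩

end Fintype

end Groth.Agent.H27
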