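import Groth.Agent.H27.Gen

set_option autoImplicit false

namespace Groth.Agent.H27

open RootD Finsupp RootPairing

variable {ι M N : Type*} [AddCommGroup M] [AddCommGroup N] {P : RootPairing ι ℤ M N}

section Fintype
variable [Finite ι] [Fintype ι]

omit [Finite ι] in
lemma pairing_eq_of_length_eq {i j : ι}
    (hl : P.RootForm (P.root i) (P.root i) = P.RootForm (P.root j) (P.root j)) :
    P.pairing i j = P.pairing j i := by
  have h1 := rootForm_mul_pairing P j (P.root i)
  have h2 := rootForm_mul_pairing P i (P.root j)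
  rw [rootForm_comm P (P.root i) (P.root j), ← h1, ← hl] at h2
  exact (mul_left_cancel₀ (rootForm_root_pos P i).ne' h2).symm

/-- S5469 core -/
lemma exists_weyl_smul_eq_of_length_eq {i j : ι} (hno : ¬ P.IsOrthogonal i j)
    (hl : P.RootForm (P.root i) (P.root i) = P.RootForm (P.root j) (P.root j)) :
    ∃ g : P.Aut, g ∈ P.weylGroup ∧ g • i = j := by
  have hrefl : Module.IsReflexive ℤ M := .of_isPerfPair P.toLinearMap
  have hab := pairing_eq_of_length_eq hl
  set a := P.pairing i j with ha
  have hcw : a * a ≤ 4 := by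
    have := P.coxeterWeightIn_le_four ℤ i j
    unfold RootPairing.coxeterWeightIn at this
    rwa [pairingIn_int, pairingIn_int, ← hab] at this
  have ha0 : a ≠ 0 := by
    intro h
    apply hno
    exact ⟨h, by rw [← hab]; exact h⟩
  have hcases : a = 1 ∨ a = -1 ∨ a = 2 ∨ a = -2 := by
    have h1 : a ≤ 2 := by nlinarith
    have h2 : -2 ≤ a := by nlinarith
    omega
  rcases hcases with h | h | h | h
  · -- g = s_j s_i s_j
    refine ⟨refl P j * refl P i * refl P j, mul_mem (mul_mem (P.reflection_mem_weylGroup j)
      (P.reflection_mem_weylGroup i)) (P.reflection_mem_weylGroup j), ?_⟩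
    apply P.root.injective
    rw [mul_smul, mul_smul, smul_root, smul_root, smul_root]
    simp only [RootPairing.Equiv.reflection_smul]
    have e1 : P.reflection j (P.root i) = P.root i - P.root j := by
      rw [P.reflection_apply_root, ← ha, h, one_smul]
    have e2 : P.reflection i (P.root j) = P.root j - P.root i := by
      rw [P.reflection_apply_root, ← hab, h, one_smul]
    rw [e1, map_sub, P.reflection_apply_self, e2, map_sub, map_neg, e1, map_sub,
      P.reflection_apply_self, e1]
    abel
  · refine ⟨refl P i * refl P j, mul_mem (P.reflection_mem_weylGroup i)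
      (P.reflection_mem_weylGroup j), ?_⟩
    apply P.root.injective
    rw [mul_smul, smul_root, smul_root]
    simp only [RootPairing.Equiv.reflection_smul]
    have e1 : P.reflection j (P.root i) = P.root i + P.root j := by
      rw [P.reflection_apply_root, ← ha, h]; module
    have e2 : P.reflection i (P.root j) = P.root j + P.root i := by
      rw [P.reflection_apply_root, ← hab, h]; module
    rw [e1, map_add, P.reflection_apply_self, e2]
    abel
  · refine ⟨1, one_mem _, ?_⟩
    rw [one_smul]
    exact (P.pairing_two_two_iff i j).1 ⟨h, by rw [← hab]; exact h⟩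
  · refine ⟨refl P i, P.reflection_mem_weylGroup i, ?_⟩
    have h1 : P.root i = -P.root j :=
      (P.pairing_neg_two_neg_two_iff i j).1 ⟨h, by rw [← hab]; exact h⟩
    apply P.root.injective
    rw [smul_root, RootPairing.Equiv.reflection_smul, P.reflection_apply_self, h1, neg_neg]

end Fintype

end Groth.Agent.H27

namespace Groth.Agent.H27

open RootD Finsupp RootPairing

variable {ι M N : Type*} [AddCommGroup M] [AddCommGroup N] {P : RootPairing ι ℤ M N}

section Fintype2
variable [Finite ι] [Fintype ι]

omit [Finite ι] in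
lemma rootForm_weyl_smul {g : P.Aut} (hg : g ∈ P.weylGroup) (x y : M) :
    P.RootForm (g • x) (g • y) = P.RootForm x y := by
  induction hg using RootPairing.weylGroup.induction generalizing x y with
  | mem i =>
    rw [RootPairing.Equiv.reflection_smul, RootPairing.Equiv.reflection_smul,
      P.rootForm_reflection_reflection_apply]
  | one => simp
  | mul a b _ _ ha hb => rw [mul_smul, mul_smul, ha, hb]

/-- the irreducibility hypothesis used in the statements -/
def Irred (P : RootPairing ι ℤ M N) : Prop :=
  ∀ R' : Set ι, IsClosedSub P R' → IsSymmSub P R' → IsClosedSub P R'ᶜ →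
      IsSymmSub P R'ᶜ → R' = ∅ ∨ R' = Set.univ

omit [Fintype ι] in
/-- in an irreducible root datum, any root is non-orthogonal to a Weyl conjugate of any other -/
lemma exists_weyl_pairing_ne_zero (hirr : Irred P) (i j : ι) :
    ∃ g : P.Aut, g ∈ P.weylGroup ∧ P.pairing j (g • i) ≠ 0 := by
  classical
  set O : Set ι := {k | ∃ g : P.Aut, g ∈ P.weylGroup ∧ g • i = k} with hO
  set R' : Set ι := {k | ∀ o ∈ O, P.pairing k o = 0} with hR'
  have hchar : ∀ k, k ∉ R' ↔ ∃ n : ℤ, n ≠ 0 ∧ n • P.root k ∈ Submodule.span ℤ (P.root '' O) := by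
    intro k
    constructor
    · intro hk
      simp only [hR', Set.mem_ofPred_eq, not_forall] at hk
      obtain ⟨o, ho, hko⟩ := hk
      have hok : P.pairing o k ≠ 0 := fun h => hko (P.pairing_eq_zero_iff'.1 h)
      refine ⟨P.pairing o k, hok, ?_⟩
      have h1 : P.pairing o k • P.root k = P.root o - P.root (P.reflectionPerm k o) := by
        rw [root_reflectionPerm_eq]; abel
      rw [h1]
      obtain ⟨g, hg, rfl⟩ := ho
      refine sub_mem (Submodule.subset_span ⟨_, ⟨g, hg, rfl⟩, rfl⟩)
        (Submodule.subset_span ⟨_, ⟨refl P k * g, mul_mem (P.reflection_mem_weylGroup k) hg, ?_⟩, rfl⟩)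
      rw [mul_smul]; rfl
    · rintro ⟨n, hn, hmem⟩ hk
      have hzero : ∀ x ∈ Submodule.span ℤ (P.root '' O), P.toLinearMap x (P.coroot k) = 0 := by
        intro x hx
        induction hx using Submodule.span_induction with
        | mem x hx =>
          obtain ⟨o, ho, rfl⟩ := hx
          exact P.pairing_eq_zero_iff'.1 (hk o ho)
        | zero => simp
        | add x y _ _ hx hy => rw [map_add, LinearMap.add_apply, hx, hy, add_zero]
        | smul a x _ hx => rw [map_smul, LinearMap.smul_apply, hx, smul_zero]
      have := hzero _ hmem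
      rw [map_smul, LinearMap.smul_apply] at this
      change n • P.pairing k k = 0 at this
      rw [P.pairing_same, smul_eq_mul] at this
      omega
  have h1 : IsSymmSub P R' := by
    intro k hk o ho
    change P.pairing (ng P k) o = 0
    rw [pairing_ng_left, hk o ho, neg_zero]
  have h2 : IsClosedSub P R' := by
    intro a b k ha hb hk o ho
    rw [RootPairing.pairing_eq_add_of_root_eq_add hk, ha o ho, hb o ho, add_zero]
  have h3 : IsSymmSub P R'ᶜ := by
    intro k hk hk'
    apply hk
    have := h1 hk'
    change ng P (ng P k) ∈ R' at this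
    rwa [ng_ng] at this
  have h4 : IsClosedSub P R'ᶜ := by
    intro a b k ha hb hk
    rw [Set.mem_compl_iff, hchar] at ha hb ⊢
    obtain ⟨n, hn, hna⟩ := ha
    obtain ⟨m, hm, hmb⟩ := hb
    refine ⟨n * m, mul_ne_zero hn hm, ?_⟩
    have : (n * m) • P.root k = m • (n • P.root a) + n • (m • P.root b) := by
      rw [hk]; module
    rw [this]
    exact add_mem (Submodule.smul_mem _ _ hna) (Submodule.smul_mem _ _ hmb)
  have hi : i ∉ R' := by
    intro h
    have := h i ⟨1, one_mem _, one_smul _ _⟩
    rw [P.pairing_same] at this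
    norm_num at this
  rcases hirr R' h2 h1 h4 h3 with h | h
  · have hj : j ∉ R' := by rw [h]; exact Set.notMem_empty j
    simp only [hR', Set.mem_ofPred_eq, not_forall] at hj
    obtain ⟨o, ⟨g, hg, rfl⟩, hjo⟩ := hj
    exact ⟨g, hg, hjo⟩
  · exact absurd (h ▸ Set.mem_univ i) hi

/-- S5470 core -/
lemma weyl_transitive_sameLength (hirr : Irred P) {i j : ι}
    (hl : P.RootForm (P.root i) (P.root i) = P.RootForm (P.root j) (P.root j)) :
    ∃ g : P.Aut, g ∈ P.weylGroup ∧ g • i = j := by
  obtain ⟨g, hg, hne⟩ := exists_weyl_pairing_ne_zero hirr i j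
  have hno : ¬ P.IsOrthogonal (g • i) j := fun h => hne h.2
  have hl' : P.RootForm (P.root (g • i)) (P.root (g • i)) = P.RootForm (P.root j) (P.root j) := by
    rw [smul_root, rootForm_weyl_smul hg, hl]
  obtain ⟨g', hg', h⟩ := exists_weyl_smul_eq_of_length_eq hno hl'
  exact ⟨g' * g, mul_mem hg' hg, by rw [mul_smul, h]⟩

end Fintype2

end Groth.Agent.H27

namespace Groth.Agent.H27

open RootD Finsupp RootPairing

variable {ι M N : Type*} [AddCommGroup M] [AddCommGroup N] {P : RootPairing ι ℤ M N}

section Fintype3
variable [Finite ι] [Fintype ι]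

lemma length_ratio [P.IsReduced] (hirr : Irred P) (i j : ι) :
    P.RootForm (P.root i) (P.root i) = P.RootForm (P.root j) (P.root j) ∨
    P.RootForm (P.root i) (P.root i) = 2 * P.RootForm (P.root j) (P.root j) ∨
    P.RootForm (P.root i) (P.root i) = 3 * P.RootForm (P.root j) (P.root j) ∨
    P.RootForm (P.root j) (P.root j) = 2 * P.RootForm (P.root i) (P.root i) ∨
    P.RootForm (P.root j) (P.root j) = 3 * P.RootForm (P.root i) (P.root i) := by
  obtain ⟨g, hg, hne⟩ := exists_weyl_pairing_ne_zero hirr i j
  have h1 := P.toInvariantForm.apply_eq_or_aux (g • i) j (by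
    rw [pairingIn_int]
    exact fun h => hne (P.pairing_eq_zero_iff'.1 h))
  simp only [RootPairing.toInvariantForm_form] at h1
  have hl : P.RootForm (P.root (g • i)) (P.root (g • i)) = P.RootForm (P.root i) (P.root i) := by
    rw [smul_root, rootForm_weyl_smul hg]
  rw [hl] at h1
  exact h1

/-- S5471 core -/
lemma rootForm_ratios [P.IsReduced] (hirr : Irred P) (i₀ : ι)
    (hmin : ∀ i : ι, P.RootForm (P.root i₀) (P.root i₀) ≤ P.RootForm (P.root i) (P.root i)) :
    (∀ i : ι, P.RootForm (P.root i) (P.root i) = P.RootForm (P.root i₀) (P.root i₀) ∨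
        P.RootForm (P.root i) (P.root i) = 2 * P.RootForm (P.root i₀) (P.root i₀) ∨
        P.RootForm (P.root i) (P.root i) = 3 * P.RootForm (P.root i₀) (P.root i₀)) ∧
      ¬ ((∃ i : ι, P.RootForm (P.root i) (P.root i) = 2 * P.RootForm (P.root i₀) (P.root i₀)) ∧
          ∃ j : ι, P.RootForm (P.root j) (P.root j) = 3 * P.RootForm (P.root i₀) (P.root i₀)) := by
  have h0 := rootForm_root_pos P i₀
  constructor
  · intro i
    have hi := rootForm_root_pos P i
    have := hmin i
    rcases length_ratio hirr i i₀ with h | h | h | h | h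
    · exact Or.inl h
    · exact Or.inr (Or.inl h)
    · exact Or.inr (Or.inr h)
    · exfalso; linarith
    · exfalso; linarith
  · rintro ⟨⟨i, hi⟩, ⟨j, hj⟩⟩
    rcases length_ratio hirr i j with h | h | h | h | h <;> rw [hi, hj] at h <;> linarith

end Fintype3

end Groth.Agent.H27
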