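import Groth.Agent.H27.DomHom2
import Groth.Agent.H27.Length

set_option autoImplicit false

namespace Groth.Agent.H27

open RootD Finsupp RootPairing

variable {ι M N : Type*} [AddCommGroup M] [AddCommGroup N] {P : RootPairing ι ℤ M N}
variable {Γ : Type*} [AddCommGroup Γ] [LinearOrder Γ] [IsOrderedAddMonoid Γ]

section Fintype
variable [Fintype ι]

/-- every weight is Weyl-conjugate to a dominant one -/
lemma exists_weyl_smul_dominant {S : Set ι} (hS : IsPosSys P S) (x : M) :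
    ∃ g : P.Aut, g ∈ P.weylGroup ∧ ∀ i ∈ S, 0 ≤ P.coroot' i (g • x) := by
  let f : M →+ ℤ := (P.RootForm x).toAddMonoidHom
  obtain ⟨g, hg, hdom⟩ := exists_weyl_dominant hS f
  refine ⟨g⁻¹, inv_mem hg, fun i hi => ?_⟩
  have h1 : 0 ≤ P.RootForm x (g • P.root i) := hdom i hi
  have h2 : P.RootForm x (g • P.root i) = P.RootForm (P.root i) (g⁻¹ • x) := by
    rw [← rootForm_weyl_smul (inv_mem hg) x (g • P.root i), smul_smul, inv_mul_cancel, one_smul,
      rootForm_comm]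
  rw [h2] at h1
  by_contra hcon
  push Not at hcon
  have h3 : P.toLinearMap (g⁻¹ • x) (P.coroot i) < 0 := hcon
  have h4 : ¬ (0 < P.toLinearMap (-(g⁻¹ • x)) (P.coroot i)) → False := by
    intro h; apply h
    rw [map_neg, LinearMap.neg_apply]; omega
  apply h4
  rw [← rootForm_root_pos_iff, map_neg]
  omega

/-- S19161 core -/
theorem weakLE_iff_sup {S : Set ι} (hS : IsPosSys P S) (f₁ f₂ : M →+ Γ)
    (hf₁ : ∀ i ∈ S, 0 ≤ f₁ (P.root i)) (hf₂ : ∀ i ∈ S, 0 ≤ f₂ (P.root i)) :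
    (∀ m : M, (∀ i ∈ S, 0 ≤ P.coroot' i m) → f₁ m ≤ f₂ m) ↔
    ∀ (X : Finset M) (hX : X.Nonempty),
      (∀ g : P.Aut, g ∈ P.weylGroup → ∀ m ∈ X, g • m ∈ X) →
      X.sup' hX f₁ ≤ X.sup' hX f₂ := by
  classical
  have hB₁ := ((dominant_iff hS f₁).2).1 hf₁
  have hB₂ := ((dominant_iff hS f₂).2).1 hf₂
  constructor
  · intro h X hX hstab
    obtain ⟨x₁, hx₁, hmax⟩ := Finset.exists_mem_eq_sup' hX f₁
    obtain ⟨g, hg, hdom⟩ := exists_weyl_smul_dominant hS x₁
    have hgx : g • x₁ ∈ X := hstab g hg x₁ hx₁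
    have h1 : f₁ x₁ ≤ f₁ (g • x₁) := by
      have := hB₁ g⁻¹ (inv_mem hg) (g • x₁) hdom
      rwa [smul_smul, inv_mul_cancel, one_smul] at this
    rw [hmax]
    calc f₁ x₁ ≤ f₁ (g • x₁) := h1
      _ ≤ f₂ (g • x₁) := h (g • x₁) hdom
      _ ≤ X.sup' hX f₂ := Finset.le_sup' f₂ hgx
  · intro h m hm
    have := Fintype.ofFinite ↥P.weylGroup
    let X : Finset M := Finset.univ.image (fun w : ↥P.weylGroup => (w : P.Aut) • m)
    have hmX : m ∈ X := Finset.mem_image.2 ⟨1, Finset.mem_univ _, by simp⟩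
    have hX : X.Nonempty := ⟨m, hmX⟩
    have hstab : ∀ g : P.Aut, g ∈ P.weylGroup → ∀ y ∈ X, g • y ∈ X := by
      intro g hg y hy
      obtain ⟨w, _, rfl⟩ := Finset.mem_image.1 hy
      exact Finset.mem_image.2 ⟨⟨g, hg⟩ * w, Finset.mem_univ _, by
        simp only [Subgroup.coe_mul, mul_smul]⟩
    have h1 : X.sup' hX f₁ = f₁ m := by
      apply le_antisymm
      · rw [Finset.sup'_le_iff]
        intro y hy
        obtain ⟨w, _, rfl⟩ := Finset.mem_image.1 hy
        exact hB₁ w w.2 m hm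
      · exact Finset.le_sup' f₁ hmX
    have h2 : X.sup' hX f₂ = f₂ m := by
      apply le_antisymm
      · rw [Finset.sup'_le_iff]
        intro y hy
        obtain ⟨w, _, rfl⟩ := Finset.mem_image.1 hy
        exact hB₂ w w.2 m hm
      · exact Finset.le_sup' f₂ hmX
    have := h X hX hstab
    rwa [h1, h2] at this

end Fintype

end Groth.Agent.H27
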