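import Mathlib.Topology.ExtremallyDisconnected
import Mathlib.Topology.Homeomorph.Lemmas

/-!
# Extremally disconnected spaces: transfer lemmas
-/

set_option autoImplicit false
universe u

namespace Groth.Agent.H27.EDLocal

open Topology

/-- an open subspace (via an open embedding) of an extremally disconnected space is extremally
disconnected -/
theorem of_isOpenEmbedding {X Y : Type*} [TopologicalSpace X] [TopologicalSpace Y] (f : X → Y)
    (hf : IsOpenEmbedding f) (hY : ExtremallyDisconnected Y) : ExtremallyDisconnected X := by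
  refine ⟨fun U hU => ?_⟩
  have h1 : closure U = f ⁻¹' closure (f '' U) := hf.isInducing.closure_eq_preimage_closure_image U
  rw [h1]
  exact (hY.open_closure _ (hf.isOpenMap U hU)).preimage hf.continuous

theorem of_homeomorph {X Y : Type*} [TopologicalSpace X] [TopologicalSpace Y] (e : X ≃ₜ Y)
    (hY : ExtremallyDisconnected Y) : ExtremallyDisconnected X :=
  of_isOpenEmbedding e e.isOpenEmbedding hY

/-- extremal disconnectedness is local: a space covered by open extremally disconnected
subspaces is extremally disconnected -/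
theorem of_open_cover {X : Type*} [TopologicalSpace X]
    (h : ∀ x : X, ∃ V : Set X, IsOpen V ∧ x ∈ V ∧ ExtremallyDisconnected V) :
    ExtremallyDisconnected X := by
  refine ⟨fun U hU => ?_⟩
  rw [isOpen_iff_forall_mem_open]
  intro x hx
  obtain ⟨V, hVo, hxV, hV⟩ := h x
  -- closure U ∩ V is open
  have h1 : IsOpen ((Subtype.val : V → X) ⁻¹' U) := hU.preimage continuous_subtype_val
  have h2 := hV.open_closure _ h1
  have hemb : IsOpenEmbedding (Subtype.val : V → X) := hVo.isOpenEmbedding_subtypeVal
  have h3 : IsOpen ((Subtype.val : V → X) '' closure ((Subtype.val : V → X) ⁻¹' U)) :=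
    hemb.isOpenMap _ h2
  refine ⟨_, ?_, h3, ⟨⟨x, hxV⟩, ?_, rfl⟩⟩
  · rintro _ ⟨y, hy, rfl⟩
    have := hemb.continuous.closure_preimage_subset U hy
    exact this
  · -- x ∈ closure U ∩ V ⇒ ⟨x, hxV⟩ ∈ closure (val ⁻¹' U)
    rw [hemb.isInducing.closure_eq_preimage_closure_image]
    show x ∈ closure _
    rw [Subtype.image_preimage_coe]
    rw [mem_closure_iff] at hx ⊢
    intro W hW hxW
    obtain ⟨z, hz1, hz2⟩ := hx (W ∩ V) (hW.inter hVo) ⟨hxW, hxV⟩
    exact ⟨z, hz1.1, hz1.2, hz2⟩

end Groth.Agent.H27.EDLocal
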