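import Mathlib
import Groth.Agent.H27.EDLocal
import Groth.Agent.H27.SHTransport

/-!
# Quasi-finite finitely presented algebras over a zero-dimensional ring with extremally
disconnected spectrum and separably closed residue fields
-/

set_option autoImplicit false
set_option linter.style.haveILetI false
universe u

open TensorProduct AlgebraicGeometry CategoryTheory CategoryTheory.Limits Topology

namespace Groth.Agent.H27.EDQuasiFinite

theorem isClopen_of_isConstructible {X : Type*} [TopologicalSpace X] [CompactSpace X] [T2Space X]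
    {s : Set X} (hs : IsConstructible s) : IsClopen s := by
  induction hs using IsConstructible.empty_union_induction with
  | open_retrocompact U hUo hUc => exact ⟨hUc.isCompact.isClosed, hUo⟩
  | union s hs t ht hs' ht' => exact hs'.union ht'
  | compl s hs hs' => exact hs'.compl

section

variable (A B : Type u) [CommRing A] [CommRing B] [Algebra A B]

/-- for a finitely presented algebra over a ring with Hausdorff spectrum, `Spec B → Spec A` is
open -/
theorem isClopen_image_basicOpen [T2Space (PrimeSpectrum A)] [Algebra.FinitePresentation A B]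
    (h : B) :
    IsClopen (PrimeSpectrum.comap (algebraMap A B) '' (PrimeSpectrum.basicOpen h : Set _)) := by
  apply isClopen_of_isConstructible
  apply PrimeSpectrum.isConstructible_comap_image
    (RingHom.finitePresentation_algebraMap.mpr inferInstance)
  exact (PrimeSpectrum.isCompact_basicOpen h).isConstructible (PrimeSpectrum.basicOpen h).isOpen

theorem isOpenMap_comap [T2Space (PrimeSpectrum A)] [Algebra.FinitePresentation A B] :
    IsOpenMap (PrimeSpectrum.comap (algebraMap A B)) := by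
  rw [PrimeSpectrum.isBasis_basic_opens.isOpenMap_iff]
  rintro _ ⟨_, ⟨h, rfl⟩, rfl⟩
  exact (isClopen_image_basicOpen A B h).isOpen

/-- points of `Spec (B ⊗[A] B)` over a pair of points with the same image -/
theorem exists_prime_tensor (y₁ y₂ : PrimeSpectrum B)
    (h : PrimeSpectrum.comap (algebraMap A B) y₁ = PrimeSpectrum.comap (algebraMap A B) y₂) :
    ∃ z : PrimeSpectrum (B ⊗[A] B),
      PrimeSpectrum.comap (Algebra.TensorProduct.includeLeftRingHom : B →+* B ⊗[A] B) z = y₁ ∧
      PrimeSpectrum.comap (Algebra.TensorProduct.includeRight : B →ₐ[A] B ⊗[A] B).toRingHom z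
        = y₂ := by
  let f : Spec (CommRingCat.of B) ⟶ Spec (CommRingCat.of A) :=
    Spec.map (CommRingCat.ofHom (algebraMap A B))
  obtain ⟨z, hz1, hz2⟩ := Scheme.Pullback.exists_preimage_pullback (f := f) (g := f) y₁ y₂ h
  refine ⟨(pullbackSpecIso A B B).hom.base z, ?_, ?_⟩
  · have := congrArg (fun φ : pullback f f ⟶ Spec (CommRingCat.of B) => φ.base z)
      (pullbackSpecIso_hom_fst A B B)
    exact this.trans hz1
  · have := congrArg (fun φ : pullback f f ⟶ Spec (CommRingCat.of B) => φ.base z)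
      (pullbackSpecIso_hom_snd A B B)
    exact this.trans hz2

end

theorem ringHom_ext_of_isPurelyInseparable (F : Type*) {E L : Type*} [Field F] [CommRing E]
    [IsDomain E] [Algebra F E] [IsPurelyInseparable F E] [CommRing L] [IsReduced L]
    (f g : E →+* L) (heq : f.comp (algebraMap F E) = g.comp (algebraMap F E)) : f = g := by
  ext x
  let q := ringExpChar F
  obtain ⟨n, y, h⟩ := IsPurelyInseparable.pow_mem F q x
  replace heq := congr($heq y)
  simp_rw [RingHom.comp_apply, h, map_pow] at heq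
  nontriviality L
  have := expChar_of_injective_ringHom (f.comp (algebraMap F E)).injective q
  exact iterateFrobenius_inj L q n heq

section

variable (A B : Type u) [CommRing A] [CommRing B] [Algebra A B]

open PrimeSpectrum in
/-- a point of `Spec (B ⊗[A] B)` both of whose projections are `y` lies on the diagonal -/
theorem tmul_sub_tmul_mem [Algebra.QuasiFinite A B]
    (hres : ∀ p : PrimeSpectrum A, IsSepClosed p.asIdeal.ResidueField)
    (hmax : ∀ p : PrimeSpectrum A, p.asIdeal.IsMaximal)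
    (y : PrimeSpectrum B) (z : PrimeSpectrum (B ⊗[A] B))
    (h1 : comap (Algebra.TensorProduct.includeLeftRingHom : B →+* B ⊗[A] B) z = y)
    (h2 : comap (Algebra.TensorProduct.includeRight : B →ₐ[A] B ⊗[A] B).toRingHom z = y)
    (b : B) : b ⊗ₜ[A] (1 : B) - (1 : B) ⊗ₜ[A] b ∈ z.asIdeal := by
  let p : Ideal A := y.asIdeal.comap (algebraMap A B)
  haveI hpmax : p.IsMaximal := hmax ⟨p, inferInstance⟩
  letI : Field (A ⧸ p) := Ideal.Quotient.field p
  haveI : y.asIdeal.LiesOver p := ⟨rfl⟩
  haveI : Algebra.QuasiFinite (A ⧸ p) (B ⧸ y.asIdeal) :=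
    Algebra.QuasiFinite.of_restrictScalars A (A ⧸ p) (B ⧸ y.asIdeal)
  haveI : Module.Finite (A ⧸ p) (B ⧸ y.asIdeal) := Module.Finite.of_quasiFinite
  haveI : Algebra.IsAlgebraic (A ⧸ p) (B ⧸ y.asIdeal) := Algebra.IsAlgebraic.of_finite _ _
  haveI : IsSepClosed (A ⧸ p) := by
    haveI := hres ⟨p, inferInstance⟩
    exact SHTransport.isSepClosed_of_ringEquiv
      (RingEquiv.ofBijective _ (Ideal.bijective_algebraMap_quotient_residueField p)).symm
  haveI : IsPurelyInseparable (A ⧸ p) (B ⧸ y.asIdeal) := inferInstance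
  let D := (B ⊗[A] B) ⧸ z.asIdeal
  let f1 : B ⧸ y.asIdeal →+* D := Ideal.Quotient.lift y.asIdeal
    ((Ideal.Quotient.mk z.asIdeal).comp Algebra.TensorProduct.includeLeftRingHom) (by
      intro x hx
      rw [RingHom.comp_apply, Ideal.Quotient.eq_zero_iff_mem]
      rw [← h1] at hx
      exact hx)
  let f2 : B ⧸ y.asIdeal →+* D := Ideal.Quotient.lift y.asIdeal
    ((Ideal.Quotient.mk z.asIdeal).comp
      (Algebra.TensorProduct.includeRight : B →ₐ[A] B ⊗[A] B).toRingHom) (by
      intro x hx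
      rw [RingHom.comp_apply, Ideal.Quotient.eq_zero_iff_mem]
      rw [← h2] at hx
      exact hx)
  have hf : f1 = f2 := by
    apply ringHom_ext_of_isPurelyInseparable (A ⧸ p)
    apply Ideal.Quotient.ringHom_ext
    ext a
    simp only [RingHom.comp_apply]
    rw [Ideal.Quotient.algebraMap_mk_of_liesOver]
    show Ideal.Quotient.mk z.asIdeal (algebraMap A B a ⊗ₜ[A] (1 : B)) =
      Ideal.Quotient.mk z.asIdeal ((1 : B) ⊗ₜ[A] algebraMap A B a)
    congr 1
    rw [Algebra.algebraMap_eq_smul_one, TensorProduct.smul_tmul]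
  have := congrArg (fun φ : B ⧸ y.asIdeal →+* D => φ (Ideal.Quotient.mk _ b)) hf
  have h3 : Ideal.Quotient.mk z.asIdeal (b ⊗ₜ[A] (1 : B)) =
      Ideal.Quotient.mk z.asIdeal ((1 : B) ⊗ₜ[A] b) := this
  exact Ideal.Quotient.eq.mp h3

open PrimeSpectrum in
theorem comap_algebraMap_tensor_left (z : PrimeSpectrum (B ⊗[A] B)) :
    comap (algebraMap A B)
      (comap (Algebra.TensorProduct.includeLeftRingHom : B →+* B ⊗[A] B) z) =
      comap (algebraMap A (B ⊗[A] B)) z := by
  rw [← PrimeSpectrum.comap_comp_apply]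
  rfl

open PrimeSpectrum in
theorem comap_algebraMap_tensor_right (z : PrimeSpectrum (B ⊗[A] B)) :
    comap (algebraMap A B)
      (comap (Algebra.TensorProduct.includeRight : B →ₐ[A] B ⊗[A] B).toRingHom z) =
      comap (algebraMap A (B ⊗[A] B)) z := by
  rw [← PrimeSpectrum.comap_comp_apply]
  congr 1
  exact (Algebra.TensorProduct.includeRight : B →ₐ[A] B ⊗[A] B).comp_algebraMap

/-- if all the `b ⊗ 1 - 1 ⊗ b`, `b` in a generating set, lie in `z`, then all do -/
theorem forall_tmul_sub_tmul_mem (s : Set B) (hs : Algebra.adjoin A s = ⊤)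
    (z : Ideal (B ⊗[A] B))
    (h : ∀ b ∈ s, b ⊗ₜ[A] (1 : B) - (1 : B) ⊗ₜ[A] b ∈ z) (b : B) :
    b ⊗ₜ[A] (1 : B) - (1 : B) ⊗ₜ[A] b ∈ z := by
  have hb : b ∈ Algebra.adjoin A s := by rw [hs]; trivial
  induction hb using Algebra.adjoin_induction with
  | mem x hx => exact h x hx
  | algebraMap a =>
    rw [Algebra.algebraMap_eq_smul_one, TensorProduct.smul_tmul, sub_self]
    exact z.zero_mem
  | add x y _ _ hx hy =>
    rw [TensorProduct.add_tmul, TensorProduct.tmul_add]
    have : x ⊗ₜ[A] (1 : B) + y ⊗ₜ[A] (1 : B) - ((1 : B) ⊗ₜ[A] x + (1 : B) ⊗ₜ[A] y) =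
        (x ⊗ₜ[A] (1 : B) - (1 : B) ⊗ₜ[A] x) + (y ⊗ₜ[A] (1 : B) - (1 : B) ⊗ₜ[A] y) := by ring
    rw [this]
    exact z.add_mem hx hy
  | mul x y _ _ hx hy =>
    have : (x * y) ⊗ₜ[A] (1 : B) - (1 : B) ⊗ₜ[A] (x * y) =
        (x ⊗ₜ[A] (1 : B)) * (y ⊗ₜ[A] (1 : B) - (1 : B) ⊗ₜ[A] y) +
          (x ⊗ₜ[A] (1 : B) - (1 : B) ⊗ₜ[A] x) * ((1 : B) ⊗ₜ[A] y) := by
      simp only [mul_sub, sub_mul, Algebra.TensorProduct.tmul_mul_tmul, mul_one, one_mul]
      ring
    rw [this]
    exact z.add_mem (z.mul_mem_left _ hy) (z.mul_mem_right _ hx)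

open PrimeSpectrum in
/-- `Spec B → Spec A` is locally injective -/
theorem exists_open_injOn [Algebra.QuasiFinite A B] [Algebra.FinitePresentation A B]
    [T2Space (PrimeSpectrum A)]
    (hres : ∀ p : PrimeSpectrum A, IsSepClosed p.asIdeal.ResidueField) (y : PrimeSpectrum B) :
    ∃ V : Set (PrimeSpectrum B), IsOpen V ∧ y ∈ V ∧ Set.InjOn (comap (algebraMap A B)) V := by
  classical
  have hmax : ∀ p : PrimeSpectrum A, p.asIdeal.IsMaximal := fun p =>
    (PrimeSpectrum.isClosed_singleton_iff_isMaximal p).mp isClosed_singleton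
  let p : PrimeSpectrum A := comap (algebraMap A B) y
  haveI : y.asIdeal.LiesOver p.asIdeal := ⟨rfl⟩
  obtain ⟨g, hg, hg'⟩ := Ideal.exists_not_mem_forall_mem_of_ne_of_liesOver p.asIdeal y.asIdeal
  obtain ⟨s, hs⟩ := (Algebra.FiniteType.out : (⊤ : Subalgebra A B).FG)
  let c : B → B ⊗[A] B := fun b => b ⊗ₜ[A] (1 : B) - (1 : B) ⊗ₜ[A] b
  let T : Set (PrimeSpectrum (B ⊗[A] B)) :=
    ⋃ b ∈ (s : Set B), (basicOpen (c b * (g ⊗ₜ[A] g)) : Set (PrimeSpectrum (B ⊗[A] B)))
  have hTc : IsConstructible T :=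
    IsConstructible.biUnion s.finite_toSet
      (fun b _ => (PrimeSpectrum.isCompact_basicOpen _).isConstructible (basicOpen _).isOpen)
  haveI : Algebra.FinitePresentation A (B ⊗[A] B) :=
    Algebra.FinitePresentation.trans A B (B ⊗[A] B)
  let im : Set (PrimeSpectrum A) := comap (algebraMap A (B ⊗[A] B)) '' T
  have him : IsClopen im := isClopen_of_isConstructible
    (isConstructible_comap_image (RingHom.finitePresentation_algebraMap.mpr inferInstance) hTc)
  have hgg : ∀ z : PrimeSpectrum (B ⊗[A] B), g ⊗ₜ[A] g ∉ z.asIdeal →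
      g ∉ (comap (Algebra.TensorProduct.includeLeftRingHom : B →+* B ⊗[A] B) z).asIdeal ∧
      g ∉ (comap (Algebra.TensorProduct.includeRight : B →ₐ[A] B ⊗[A] B).toRingHom z).asIdeal := by
    intro z hz
    have h0 : g ⊗ₜ[A] g = (g ⊗ₜ[A] (1 : B)) * ((1 : B) ⊗ₜ[A] g) := by
      rw [Algebra.TensorProduct.tmul_mul_tmul, mul_one, one_mul]
    constructor
    · intro h
      apply hz
      rw [h0]
      exact z.asIdeal.mul_mem_right _ h
    · intro h
      apply hz
      rw [h0]
      exact z.asIdeal.mul_mem_left _ h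
  have hp : p ∉ im := by
    rintro ⟨z, hzT, hzp⟩
    simp only [T, Set.mem_iUnion] at hzT
    obtain ⟨b, hb, hzb⟩ := hzT
    have hzb' : c b * (g ⊗ₜ[A] g) ∉ z.asIdeal := hzb
    have hcb : c b ∉ z.asIdeal := fun h => hzb' (z.asIdeal.mul_mem_right _ h)
    have hgz : g ⊗ₜ[A] g ∉ z.asIdeal := fun h => hzb' (z.asIdeal.mul_mem_left _ h)
    obtain ⟨hg1, hg2⟩ := hgg z hgz
    have hy1 : comap (Algebra.TensorProduct.includeLeftRingHom : B →+* B ⊗[A] B) z = y := by
      by_contra hne
      refine hg1 (hg' _ inferInstance (fun h => hne (PrimeSpectrum.ext h)) ⟨?_⟩)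
      have := comap_algebraMap_tensor_left A B z
      rw [hzp] at this
      exact (congrArg PrimeSpectrum.asIdeal this).symm
    have hy2 : comap (Algebra.TensorProduct.includeRight : B →ₐ[A] B ⊗[A] B).toRingHom z = y := by
      by_contra hne
      refine hg2 (hg' _ inferInstance (fun h => hne (PrimeSpectrum.ext h)) ⟨?_⟩)
      have := comap_algebraMap_tensor_right A B z
      rw [hzp] at this
      exact (congrArg PrimeSpectrum.asIdeal this).symm
    exact hcb (tmul_sub_tmul_mem A B hres hmax y z hy1 hy2 b)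
  refine ⟨(basicOpen g : Set (PrimeSpectrum B)) ∩ comap (algebraMap A B) ⁻¹' imᶜ,
    (basicOpen g).isOpen.inter (him.compl.isOpen.preimage (PrimeSpectrum.continuous_comap (algebraMap A B))),
    ⟨hg, hp⟩, ?_⟩
  rintro y1 ⟨hy1g, hy1i⟩ y2 ⟨hy2g, -⟩ h12
  by_contra hne
  obtain ⟨z, hz1, hz2⟩ := exists_prime_tensor A B y1 y2 h12
  apply hy1i
  refine ⟨z, ?_, ?_⟩
  · -- z ∈ T
    have hex : ∃ b ∈ (s : Set B), c b ∉ z.asIdeal := by
      by_contra hall
      push Not at hall
      have hall' := forall_tmul_sub_tmul_mem A B (s : Set B) hs z.asIdeal hall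
      apply hne
      apply PrimeSpectrum.ext
      ext b
      rw [← hz1, ← hz2]
      show b ⊗ₜ[A] (1 : B) ∈ z.asIdeal ↔ (1 : B) ⊗ₜ[A] b ∈ z.asIdeal
      constructor
      · intro h
        have := z.asIdeal.sub_mem h (hall' b)
        simpa using this
      · intro h
        have := z.asIdeal.add_mem (hall' b) h
        simpa using this
    obtain ⟨b, hb, hcb⟩ := hex
    simp only [T, Set.mem_iUnion]
    refine ⟨b, hb, ?_⟩
    show c b * (g ⊗ₜ[A] g) ∉ z.asIdeal
    intro h
    rcases z.2.mem_or_mem h with h | h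
    · exact hcb h
    · have h0 : g ⊗ₜ[A] g = (g ⊗ₜ[A] (1 : B)) * ((1 : B) ⊗ₜ[A] g) := by
        rw [Algebra.TensorProduct.tmul_mul_tmul, mul_one, one_mul]
      rw [h0] at h
      rcases z.2.mem_or_mem h with h | h
      · apply hy1g
        rw [← hz1]
        exact h
      · apply hy2g
        rw [← hz2]
        exact h
  · rw [← comap_algebraMap_tensor_left A B z, hz1]

open PrimeSpectrum in
theorem main [Algebra.QuasiFinite A B] [Algebra.FinitePresentation A B]
    (hres : ∀ p : PrimeSpectrum A, IsSepClosed p.asIdeal.ResidueField)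
    [T2Space (PrimeSpectrum A)] [ExtremallyDisconnected (PrimeSpectrum A)] :
    ExtremallyDisconnected (PrimeSpectrum B) := by
  apply EDLocal.of_open_cover
  intro y
  obtain ⟨V, hVo, hyV, hinj⟩ := exists_open_injOn A B hres y
  refine ⟨V, hVo, hyV, ?_⟩
  refine EDLocal.of_isOpenEmbedding (fun v : V => comap (algebraMap A B) v.1) ?_ inferInstance
  refine Topology.IsOpenEmbedding.of_continuous_injective_isOpenMap
    ((PrimeSpectrum.continuous_comap (algebraMap A B)).comp continuous_subtype_val) ?_ ?_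
  · intro v w hvw
    exact Subtype.ext (hinj v.2 w.2 hvw)
  · exact (isOpenMap_comap A B).comp hVo.isOpenMap_subtype_val

end

end Groth.Agent.H27.EDQuasiFinite
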