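import Groth.Agent.H27.EpsUnitSurj
import Groth.Agent.H1.LanFlat
import Groth.Agent.H4.ProEtCont

/-!
# Exactness and full faithfulness of `ε⁻¹` on abelian sheaves (helper27)
-/

set_option autoImplicit false
set_option linter.style.haveILetI false
open CategoryTheory CategoryTheory.Limits AlgebraicGeometry Opposite
universe u

namespace Groth.Agent.H27.EpsAbExact

variable (X : Scheme.{u}) [ProEtS.EpsCont X]

instance epsPull_preservesFiniteLimits : PreservesFiniteLimits (ProEtS.epsPull X) := by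
  have hfilt : ∀ K : (X.ProEt)ᵒᵖ, IsFiltered (CostructuredArrow (ProEtS.eps X).op K) := fun K =>
    IsFiltered.of_equivalence (structuredArrowOpEquivalence (ProEtS.eps X) (unop K))
  have hAB5 : AB5OfSize.{u, u + 1} AddCommGrpCat.{u + 1} :=
    AB5OfSize_of_univLE.{u, u + 1, u + 1, u + 1} AddCommGrpCat.{u + 1}
  have hex : ∀ K : (X.ProEt)ᵒᵖ,
      HasExactColimitsOfShape (CostructuredArrow (ProEtS.eps X).op K) AddCommGrpCat.{u + 1} :=
    fun K => inferInstance
  have : PreservesFiniteLimits ((ProEtS.eps X).op.lan :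
      ((X.Etale)ᵒᵖ ⥤ AddCommGrpCat.{u + 1}) ⥤ (X.ProEt)ᵒᵖ ⥤ AddCommGrpCat.{u + 1}) :=
    Groth.Agent.H1.lan_preservesFiniteLimits_of_flat_gen AddCommGrpCat.{u + 1} (ProEtS.eps X)
  exact Functor.sheafPullbackConstruction.preservesFiniteLimits (ProEtS.eps X)
    AddCommGrpCat.{u + 1} X.smallEtaleTopology (Scheme.ProEt.topology X)

instance epsPush_additive : (ProEtS.epsPush X).Additive where

instance epsPull_additive : (ProEtS.epsPull X).Additive :=
  (ProEtS.epsAdj X).left_adjoint_additive

instance isIso_unit : IsIso (ProEtS.epsAdj X).unit := by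
  haveI : ∀ F, IsIso ((ProEtS.epsAdj X).unit.app F) := fun F =>
    EpsUnitSurj.isIso_unit (A := AddCommGrpCat.{u + 1}) F
  exact NatIso.isIso_of_isIso_app _

end Groth.Agent.H27.EpsAbExact
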