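import Groth.Agent.H27.ProEtDCSerre

/-!
# Limits of derived complete sheaves of modules on the pro-étale site are derived complete
-/

set_option autoImplicit false
set_option linter.style.haveILetI false
open CategoryTheory CategoryTheory.Limits AlgebraicGeometry Opposite
universe u

namespace Groth.Agent.H27.ProEtDCLim

open ProEtFree ProEtDCNak ProEtDCConv

variable {Λ : Type (u + 1)} [CommRing Λ] {X : Scheme.{u}}
variable {J : Type} [SmallCategory J] (D : J ⥤ EtModW.ModP Λ X) (W : X.ProEt)

/-- the cone of sections over `W` of the limit cone, in types, is a limit cone -/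
noncomputable def isLimitSections :
    IsLimit ((forget (ModuleCat.{u + 1} Λ)).mapCone
      ((ProEtFree.Γ Λ W).mapCone (limit.cone D))) :=
  haveI : PreservesLimitsOfSize.{0, 0} (ProEtFree.Γ Λ W) :=
    (adjL Λ W).rightAdjoint_preservesLimits
  isLimitOfPreserves (forget (ModuleCat.{u + 1} Λ))
    (isLimitOfPreserves (ProEtFree.Γ Λ W) (limit.isLimit D))

theorem ext_sections (m m' : (limit D).obj.obj (op W))
    (h : ∀ j, (limit.π D j).hom.app (op W) m = (limit.π D j).hom.app (op W) m') : m = m' := by
  apply (Types.isLimitEquivSections (isLimitSections D W)).injective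
  apply Subtype.ext
  funext j
  exact h j

theorem exists_sections (s : ∀ j, (D.obj j).obj.obj (op W))
    (hs : ∀ {j j' : J} (g : j ⟶ j'), (D.map g).hom.app (op W) (s j) = s j') :
    ∃ m : (limit D).obj.obj (op W), ∀ j, (limit.π D j).hom.app (op W) m = s j := by
  refine ⟨(Types.isLimitEquivSections (isLimitSections D W)).symm ⟨s, fun g => hs g⟩, ?_⟩
  intro j
  exact Types.isLimitEquivSections_symm_apply (isLimitSections D W) ⟨s, fun g => hs g⟩ j

theorem map_π {j j' : J} (g : j ⟶ j') (m : (limit D).obj.obj (op W)) :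
    (D.map g).hom.app (op W) ((limit.π D j).hom.app (op W) m) =
      (limit.π D j').hom.app (op W) m :=
  congrArg (fun ψ : limit D ⟶ D.obj j' => ψ.hom.app (op W) m) (limit.w D g)

variable {f : Λ}

theorem T0_limit (h : ∀ j, DerivedNak.T0 f ((D.obj j).obj.obj (op W))) :
    DerivedNak.T0 f ((limit D).obj.obj (op W)) := by
  intro x hx
  apply ext_sections
  intro j
  rw [map_zero]
  apply h j (fun n => (limit.π D j).hom.app (op W) (x n))
  intro n
  change f • ((limit.π D j).hom.app (op W)).hom (x (n + 1)) = _
  rw [← map_smul, hx n]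

theorem T1_limit (h0 : ∀ j, DerivedNak.T0 f ((D.obj j).obj.obj (op W)))
    (h1 : ∀ j, DerivedNak.T1 f ((D.obj j).obj.obj (op W))) :
    DerivedNak.T1 f ((limit D).obj.obj (op W)) := by
  intro y
  choose x hx using fun j => h1 j (fun n => (limit.π D j).hom.app (op W) (y n))
  have hcompat : ∀ {j j' : J} (g : j ⟶ j') (k : ℕ),
      (D.map g).hom.app (op W) (x j k) = x j' k := by
    intro j j' g
    have := (h0 j').unique (fun k => (D.map g).hom.app (op W) (x j k)) (x j') (fun k => by
      rw [hx j' k]
      change ((D.map g).hom.app (op W)).hom (x j k) -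
        f • ((D.map g).hom.app (op W)).hom (x j (k + 1)) = _
      rw [← map_smul, ← map_sub, hx j k]
      exact map_π D W g (y k))
    exact fun k => congrFun this k
  choose z hz using fun k => exists_sections D W (fun j => x j k) (fun g => hcompat g k)
  refine ⟨z, fun k => ?_⟩
  apply ext_sections
  intro j
  change ((limit.π D j).hom.app (op W)).hom (z k - f • z (k + 1)) = _
  rw [map_sub, map_smul]
  change (limit.π D j).hom.app (op W) (z k) - f • (limit.π D j).hom.app (op W) (z (k + 1)) = _
  rw [hz k j, hz (k + 1) j, hx j k]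

theorem limit_isDC (I : Ideal Λ) (hD : ∀ j, ProEtDC.IsDCSheaf Λ I (D.obj j)) :
    ProEtDC.IsDCSheaf Λ I (limit D) := by
  rw [isDCSheaf_iff]
  intro f hf W hW1 hW2
  have h := fun j => (isDCSheaf_iff I).mp (hD j) f hf W hW1 hW2
  exact ⟨T0_limit D W (fun j => (h j).1), T1_limit D W (fun j => (h j).1) (fun j => (h j).2)⟩

end Groth.Agent.H27.ProEtDCLim
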