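import Groth.Prelude.Def_EtModW
import Groth.Prelude.Def_ARSys
import Groth.Prelude.Def_ProEtDC
import Mathlib.CategoryTheory.Linear.FunctorCategory
import Mathlib.RingTheory.Ideal.Operations
import Mathlib.CategoryTheory.Sites.EpiMono
import Mathlib.Algebra.Homology.ShortComplex.ExactFunctor
import Mathlib.Algebra.Homology.ShortComplex.ModuleCat

/-!
# Sections of sheaves of modules over weakly contractible objects of the pro-étale site
-/

set_option autoImplicit false
set_option linter.style.haveILetI false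
open CategoryTheory CategoryTheory.Limits AlgebraicGeometry Opposite
universe u

namespace Groth.Agent.H27.ProEtModWC

variable (Λ : Type (u + 1)) [CommRing Λ] {X : Scheme.{u}}

/-- an epimorphism of pro-étale sheaves of modules is surjective on sections over a weakly
contractible object -/
theorem surjective_of_isWC {U : X.ProEt} (hU : ProEtS.IsWC U)
    {F G : EtModW.ModP Λ X} (φ : F ⟶ G) [Epi φ] :
    Function.Surjective (φ.hom.app (op U)) := by
  let φ' : (sheafCompose (Scheme.ProEt.topology X) (forget (ModuleCat.{u + 1} Λ))).obj F ⟶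
      (sheafCompose (Scheme.ProEt.topology X) (forget (ModuleCat.{u + 1} Λ))).obj G :=
    (sheafCompose (Scheme.ProEt.topology X) (forget (ModuleCat.{u + 1} Λ))).map φ
  have h1 : Sheaf.IsLocallySurjective φ := (Sheaf.isLocallySurjective_iff_epi' _ φ).mpr inferInstance
  have h2 : Sheaf.IsLocallySurjective φ' := by
    change Presheaf.IsLocallySurjective _ (Functor.whiskerRight φ.hom (forget _))
    exact (Presheaf.isLocallySurjective_iff_whisker_forget _ φ.hom).mp h1
  have h3 : Epi φ' := (Sheaf.isLocallySurjective_iff_epi φ').mp h2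
  intro s
  obtain ⟨t, ht⟩ := hU _ _ φ' h3 s
  exact ⟨t, ht⟩

/-- the sections functor -/
noncomputable abbrev Γ (U : X.ProEt) : EtModW.ModP Λ X ⥤ ModuleCat.{u + 1} Λ :=
  sheafToPresheaf _ _ ⋙ (evaluation _ _).obj (op U)

instance (U : X.ProEt) : (Γ Λ U).Additive := ⟨fun {_ _ _ _} => rfl⟩

instance (U : X.ProEt) : (Γ Λ U).PreservesZeroMorphisms := ⟨fun _ _ => rfl⟩

/-- sections of the kernel are the kernel of the map on sections -/
theorem exists_of_map_eq_zero {U : X.ProEt} {F G : EtModW.ModP Λ X} (φ : F ⟶ G)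
    (t : F.obj.obj (op U)) (ht : φ.hom.app (op U) t = 0) :
    ∃ k : (kernel φ).obj.obj (op U), (kernel.ι φ).hom.app (op U) k = t := by
  let S : ShortComplex (EtModW.ModP Λ X) := ShortComplex.mk (kernel.ι φ) φ (kernel.condition φ)
  have hS : S.Exact := ShortComplex.exact_of_f_is_kernel S (kernelIsKernel φ)
  haveI : Mono S.f := inferInstanceAs (Mono (kernel.ι φ))
  have hS' : (S.map (Γ Λ U)).Exact :=
    hS.map_of_mono_of_preservesKernel (Γ Λ U) inferInstance inferInstance
  rw [ShortComplex.moduleCat_exact_iff] at hS'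
  exact hS' t ht

section Quot

variable {Λ}
variable {I : Ideal Λ} {F Q : EtModW.ModP Λ X} {p : F ⟶ Q}

theorem epi_of_isQuot (hp : ARSys.IsQuot I p) : Epi p := by
  apply Preadditive.epi_of_cancel_zero
  intro P c hc
  obtain ⟨ψ, -, huniq⟩ := hp.2 P 0 (by intro a _; exact smul_zero a)
  exact (huniq c hc).trans (huniq 0 comp_zero).symm

variable {r : ℕ} (a : Fin r → Λ)

/-- the map `F^r ⟶ F`, `(s_k) ↦ ∑ a_k s_k` -/
noncomputable def gens (F : EtModW.ModP Λ X) : (⨁ fun _ : Fin r => F) ⟶ F :=
  biproduct.desc (fun k : Fin r => (a k) • 𝟙 F)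

theorem ι_gens (F : EtModW.ModP Λ X) (k : Fin r) :
    biproduct.ι (fun _ : Fin r => F) k ≫ gens a F = (a k) • 𝟙 F := by
  unfold gens
  exact biproduct.ι_desc _ _

theorem gens_comp (ha : Ideal.span (Set.range a) = I) (hp : ARSys.IsQuot I p) :
    gens a F ≫ p = 0 := by
  apply biproduct.hom_ext'
  intro k
  rw [← Category.assoc, ι_gens, comp_zero, Linear.smul_comp, Category.id_comp]
  have hk : a k ∈ I := by
    rw [← ha]
    exact Ideal.subset_span ⟨k, rfl⟩
  have h1 : (a k) • p = p ≫ ((a k) • 𝟙 Q) := by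
    rw [Linear.comp_smul, Category.comp_id]
  rw [h1, hp.1 (a k) hk, comp_zero]

theorem homKilledBy_of_gens_comp (ha : Ideal.span (Set.range a) = I) {Y : EtModW.ModP Λ X}
    (φ : F ⟶ Y) (hφ : gens a F ≫ φ = 0) : ARSys.HomKilledBy I φ := by
  intro x hx
  rw [← ha] at hx
  induction hx using Submodule.span_induction with
  | mem x hx =>
    obtain ⟨k, rfl⟩ := hx
    have : (a k) • φ = ((a k) • 𝟙 F) ≫ φ := by rw [Linear.smul_comp, Category.id_comp]
    rw [this, ← ι_gens, Category.assoc, hφ, comp_zero]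
  | zero => exact zero_smul _ _
  | add x y _ _ hx hy => rw [add_smul, hx, hy, add_zero]
  | smul c x _ hx =>
    rw [smul_eq_mul, mul_smul, hx, smul_zero]

/-- `p` is a cokernel of `gens` -/
noncomputable def isColimit (ha : Ideal.span (Set.range a) = I) (hp : ARSys.IsQuot I p) :
    IsColimit (CokernelCofork.ofπ p (gens_comp a ha hp)) :=
  CokernelCofork.IsColimit.ofπ p (gens_comp a ha hp)
    (fun φ hφ => Classical.choose (hp.2 _ φ (homKilledBy_of_gens_comp a ha φ hφ)).exists)
    (fun φ hφ => Classical.choose_spec (hp.2 _ φ (homKilledBy_of_gens_comp a ha φ hφ)).exists)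
    (fun φ hφ m hm => (hp.2 _ φ (homKilledBy_of_gens_comp a ha φ hφ)).unique hm
      (Classical.choose_spec (hp.2 _ φ (homKilledBy_of_gens_comp a ha φ hφ)).exists))

theorem epi_kernel_lift (ha : Ideal.span (Set.range a) = I) (hp : ARSys.IsQuot I p) :
    Epi (kernel.lift p (gens a F) (gens_comp a ha hp)) := by
  let S : ShortComplex (EtModW.ModP Λ X) := ShortComplex.mk (gens a F) p (gens_comp a ha hp)
  have hS : S.Exact := ShortComplex.exact_of_g_is_cokernel S (isColimit a ha hp)
  exact S.exact_iff_epi_kernel_lift.mp hS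

/-- sections of `gens` -/
theorem gens_app_mem (U : X.ProEt) (ha : Ideal.span (Set.range a) = I)
    (x : (⨁ fun _ : Fin r => F).obj.obj (op U)) :
    (gens a F).hom.app (op U) x ∈ I • (⊤ : Submodule Λ (F.obj.obj (op U))) := by
  have htot : ∑ k : Fin r, biproduct.π (fun _ : Fin r => F) k ≫
      biproduct.ι (fun _ : Fin r => F) k = 𝟙 _ := biproduct.total
  have h1 : gens a F = ∑ k : Fin r, biproduct.π (fun _ : Fin r => F) k ≫ ((a k) • 𝟙 F) := by
    rw [← Category.id_comp (gens a F), ← htot, Preadditive.sum_comp]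
    refine Finset.sum_congr rfl (fun k _ => ?_)
    rw [Category.assoc, ι_gens]
  have h2 : (Γ Λ U).map (gens a F) =
      ∑ k : Fin r, (Γ Λ U).map (biproduct.π (fun _ : Fin r => F) k ≫ ((a k) • 𝟙 F)) := by
    rw [h1, Functor.map_sum]
  have h3 : (gens a F).hom.app (op U) x =
      ∑ k : Fin r, (a k) • (biproduct.π (fun _ : Fin r => F) k).hom.app (op U) x := by
    have := congrArg (fun ψ : (Γ Λ U).obj (⨁ fun _ : Fin r => F) ⟶ (Γ Λ U).obj F => ψ.hom x) h2
    simp only [ModuleCat.hom_sum, LinearMap.sum_apply] at this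
    exact this
  rw [h3]
  refine Submodule.sum_mem _ (fun k _ => ?_)
  refine Submodule.smul_mem_smul ?_ trivial
  rw [← ha]
  exact Ideal.subset_span ⟨k, rfl⟩

end Quot

/-- **Sections of `F ⟶ F/IF` over a weakly contractible object.** -/
theorem main (I : Ideal Λ) (hI : I.FG) (F Q : EtModW.ModP Λ X) (p : F ⟶ Q)
    (hp : ARSys.IsQuot I p) (U : X.ProEt) (hU : ProEtS.IsWC U) :
    Function.Surjective (p.hom.app (op U)).hom ∧
      LinearMap.ker (p.hom.app (op U)).hom = I • (⊤ : Submodule Λ (F.obj.obj (op U))) := by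
  haveI := epi_of_isQuot hp
  refine ⟨surjective_of_isWC Λ hU p, ?_⟩
  obtain ⟨r, a, ha⟩ := (Submodule.fg_iff_exists_fin_generating_family).mp hI
  apply le_antisymm
  · intro t ht
    obtain ⟨k, hk⟩ := exists_of_map_eq_zero Λ p t ht
    haveI := epi_kernel_lift a ha hp
    obtain ⟨x, hx⟩ := surjective_of_isWC Λ hU (kernel.lift p (gens a F) (gens_comp a ha hp)) k
    have h1 : (gens a F).hom.app (op U) x = t := by
      have := congrArg (fun φ : (⨁ fun _ : Fin r => F) ⟶ F => φ.hom.app (op U) x)
        (kernel.lift_ι p (gens a F) (gens_comp a ha hp))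
      refine this.symm.trans ?_
      show (kernel.ι p).hom.app (op U)
        ((kernel.lift p (gens a F) (gens_comp a ha hp)).hom.app (op U) x) = t
      rw [hx, hk]
    rw [← h1]
    exact gens_app_mem a U ha x
  · rw [Submodule.smul_le]
    intro c hc n _
    show (p.hom.app (op U)).hom (c • n) = 0
    rw [map_smul]
    have h0 : (c • 𝟙 Q : Q ⟶ Q) = 0 := hp.1 c hc
    have := congrArg (fun φ : Q ⟶ Q => φ.hom.app (op U) ((p.hom.app (op U)).hom n)) h0
    exact this

end Groth.Agent.H27.ProEtModWC
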