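import Groth.Agent.H27.AdicLim
import Groth.Agent.H27.ProEtDCLim
import Groth.Agent.H27.ProEtModWC

/-!
# The limit of an `I`-adic tower of pro-étale sheaves of modules

* `isQuot_map`: a left adjoint (with linear right adjoint) preserves quotient maps modulo `I`;
* `isQuot_limit_π`: for an `I`-adic tower `G'` of pro-étale sheaves of `Λ`-modules (`I` finitely
  generated), the projection `lim G' ⟶ G'_n` is a quotient map modulo `I^(n+1)`.
-/

set_option autoImplicit false
set_option linter.style.haveILetI false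
open CategoryTheory CategoryTheory.Limits AlgebraicGeometry Opposite
universe u

namespace Groth.Agent.H27.EpsAdicLim

section Adj

universe v₁ v₂ u₁ u₂ w

variable {Λ : Type w} [CommRing Λ] {C : Type u₁} [Category.{v₁} C] {D : Type u₂} [Category.{v₂} D]
  [Preadditive C] [Preadditive D] [Linear Λ C] [Linear Λ D]
  {L : C ⥤ D} {R : D ⥤ C} (adj : L ⊣ R)
  (hR : ∀ {Y Y' : D} (a : Λ) (g : Y ⟶ Y'), R.map (a • g) = a • R.map g)

include adj hR in
/-- a left adjoint whose right adjoint is linear preserves quotient maps modulo `I` -/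
theorem isQuot_map {I : Ideal Λ} {X Q : C} {p : X ⟶ Q} (hp : ARSys.IsQuot I p) :
    ARSys.IsQuot I (L.map p) := by
  have hR0 : ∀ {Y Y' : D}, R.map (0 : Y ⟶ Y') = 0 := by
    intro Y Y'
    have := hR (0 : Λ) (0 : Y ⟶ Y')
    rw [zero_smul, zero_smul] at this
    exact this
  refine ⟨fun a ha => ?_, fun Y φ hφ => ?_⟩
  · apply (adj.homEquiv _ _).injective
    have e1 : adj.homEquiv Q (L.obj Q) (a • 𝟙 (L.obj Q)) = (a • 𝟙 Q) ≫ adj.unit.app Q := by
      rw [adj.homEquiv_unit, hR, CategoryTheory.Functor.map_id, Linear.smul_comp,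
        Category.id_comp, Linear.comp_smul]
      congr 1
      exact Category.comp_id _
    rw [e1, hp.1 a ha, zero_comp, adj.homEquiv_unit, hR0, comp_zero]
  · have hφ' : ARSys.HomKilledBy I (adj.homEquiv X Y φ) := by
      intro a ha
      rw [adj.homEquiv_unit, ← Linear.comp_smul, ← hR, hφ a ha, hR0, comp_zero]
    obtain ⟨ψ', hψ', huniq⟩ := hp.2 _ _ hφ'
    refine ⟨(adj.homEquiv Q Y).symm ψ', ?_, fun ψ₂ hψ₂ => ?_⟩
    · show L.map p ≫ (adj.homEquiv Q Y).symm ψ' = φ
      rw [← adj.homEquiv_naturality_left_symm, hψ', Equiv.symm_apply_apply]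
    · have h2 : p ≫ adj.homEquiv Q Y ψ₂ = adj.homEquiv X Y φ := by
        rw [← adj.homEquiv_naturality_left, hψ₂]
      rw [← huniq _ h2, Equiv.symm_apply_apply]

end Adj

variable {Λ : Type (u + 1)} [CommRing Λ] {X : Scheme.{u}}

section Gens

variable {I : Ideal Λ} {F Q : EtModW.ModP Λ X} {r : ℕ} (a : Fin r → Λ)

open ProEtModWC

theorem gens_comp' (ha : Ideal.span (Set.range a) = I) (p : F ⟶ Q) (hQ : ARSys.KilledBy I Q) :
    gens a F ≫ p = 0 := by
  apply biproduct.hom_ext'
  intro k
  rw [← Category.assoc, ι_gens, comp_zero, Linear.smul_comp, Category.id_comp]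
  have hk : a k ∈ I := by
    rw [← ha]
    exact Ideal.subset_span ⟨k, rfl⟩
  have h1 : (a k) • p = p ≫ ((a k) • 𝟙 Q) := by
    rw [Linear.comp_smul, Category.comp_id]
  rw [h1, hQ (a k) hk, comp_zero]

theorem gens_comp_of_homKilledBy (ha : Ideal.span (Set.range a) = I) {Y : EtModW.ModP Λ X}
    (φ : F ⟶ Y) (hφ : ARSys.HomKilledBy I φ) : gens a F ≫ φ = 0 := by
  apply biproduct.hom_ext'
  intro k
  rw [← Category.assoc, ι_gens, comp_zero, Linear.smul_comp, Category.id_comp]
  apply hφ
  rw [← ha]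
  exact Ideal.subset_span ⟨k, rfl⟩

/-- the value of `gens` on a sum of inclusions -/
theorem gens_app_sum (W : X.ProEt) (m : Fin r → F.obj.obj (op W)) :
    (gens a F).hom.app (op W)
      (∑ k, (biproduct.ι (fun _ : Fin r => F) k).hom.app (op W) (m k)) = ∑ k, a k • m k := by
  rw [map_sum]
  refine Finset.sum_congr rfl (fun k _ => ?_)
  have h := congrArg (fun ψ : F ⟶ F => ψ.hom.app (op W) (m k)) (ι_gens a F k)
  exact h

/-- an epimorphism `p` whose kernel is covered by `gens` is a quotient map -/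
theorem isQuot_of_epi (ha : Ideal.span (Set.range a) = I) (p : F ⟶ Q)
    (hQ : ARSys.KilledBy I Q) [Epi p]
    (hk : Epi (kernel.lift p (gens a F) (gens_comp' a ha p hQ))) : ARSys.IsQuot I p := by
  refine ⟨hQ, fun Y φ hφ => ?_⟩
  let S : ShortComplex (EtModW.ModP Λ X) :=
    ShortComplex.mk (gens a F) p (gens_comp' a ha p hQ)
  have hS : S.Exact := S.exact_iff_epi_kernel_lift.mpr hk
  haveI : Epi S.g := inferInstanceAs (Epi p)
  have hc : IsColimit (CokernelCofork.ofπ S.g S.zero) := hS.gIsCokernel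
  have h0 : S.f ≫ φ = 0 := gens_comp_of_homKilledBy a ha φ hφ
  refine ⟨hc.desc (CokernelCofork.ofπ φ h0), ?_, fun ψ hψ => ?_⟩
  · exact hc.fac (CokernelCofork.ofπ φ h0) WalkingParallelPair.one
  · have h1 : p ≫ hc.desc (CokernelCofork.ofπ φ h0) = φ :=
      hc.fac (CokernelCofork.ofπ φ h0) WalkingParallelPair.one
    exact (cancel_epi p).mp (hψ.trans h1.symm)

end Gens

section Main

variable {I : Ideal Λ} (G' : ℕᵒᵖ ⥤ EtModW.ModP Λ X) (hG' : ARSys.IsAdic I G')

/-- every morphism of `ℕᵒᵖ` is the opposite of a `homOfLE` -/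
theorem hom_eq {j j' : ℕᵒᵖ} (g : j ⟶ j') : ∃ h : j'.unop ≤ j.unop, g = (homOfLE h).op :=
  ⟨leOfHom g.unop, Subsingleton.elim _ _⟩

include hG' in
/-- the tower of sections of an adic tower over a weakly contractible object -/
noncomputable def tower (hI : I.FG) (W : X.ProEt) (hW : ProEtS.IsWC W) :
    AdicLim.Tower I (fun n => (G'.obj (op n)).obj.obj (op W)) where
  tr i j h := ((G'.map (homOfLE h).op).hom.app (op W)).hom
  tr_id i x := by
    have h1 : (homOfLE (le_refl i)).op = 𝟙 (op i : ℕᵒᵖ) := Subsingleton.elim _ _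
    rw [h1, CategoryTheory.Functor.map_id]
    rfl
  tr_comp i j k h h' x := by
    have h1 : (homOfLE (h.trans h')).op =
        ((homOfLE h').op : (op k : ℕᵒᵖ) ⟶ op j) ≫ (homOfLE h).op := Subsingleton.elim _ _
    rw [h1, Functor.map_comp]
    rfl
  surj i j h := (ProEtModWC.main Λ (I ^ (i + 1)) (hI.pow) _ _ _ (hG'.2 i j h) W hW).1
  ker i j h := (ProEtModWC.main Λ (I ^ (i + 1)) (hI.pow) _ _ _ (hG'.2 i j h) W hW).2

include hG' in
/-- **The projection from the limit of an adic tower is a quotient map.** -/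
theorem isQuot_limit_π (hI : I.FG) (n : ℕ) :
    ARSys.IsQuot (I ^ (n + 1)) (limit.π G' (op n)) := by
  obtain ⟨r, a, ha⟩ := (Submodule.fg_iff_exists_fin_generating_family).mp (hI.pow (n := n + 1))
  have ha' : Ideal.span (Set.range a) = I ^ (n + 1) := ha
  have hQ : ARSys.KilledBy (I ^ (n + 1)) (G'.obj (op n)) := hG'.1 n
  -- compatible families give sections of the limit
  have hsec : ∀ (W : X.ProEt) (hW : ProEtS.IsWC W) (x : ∀ j, (G'.obj (op j)).obj.obj (op W)),
      (tower G' hG' hI W hW).Compat x →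
      ∃ m : (limit G').obj.obj (op W), ∀ j, (limit.π G' (op j)).hom.app (op W) m = x j := by
    intro W hW x hx
    obtain ⟨m, hm⟩ := ProEtDCLim.exists_sections G' W (fun j => x j.unop) (by
      intro j j' g
      obtain ⟨h, rfl⟩ := hom_eq g
      exact hx j'.unop j.unop h)
    exact ⟨m, fun j => hm (op j)⟩
  -- sections of the limit give compatible families
  have hcompat : ∀ (W : X.ProEt) (hW : ProEtS.IsWC W) (t : (limit G').obj.obj (op W)),
      (tower G' hG' hI W hW).Compat (fun j => (limit.π G' (op j)).hom.app (op W) t) := by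
    intro W hW t i j h
    exact ProEtDCLim.map_π G' W (homOfLE h).op t
  haveI hepi : Epi (limit.π G' (op n)) := by
    apply ProEtDCConv.epi_of_surjective_wc
    intro W hW1 hW2 s
    have hW := ProEtIsWC.isWC_of_isWContractible W hW2
    obtain ⟨x, hx, hxn⟩ := (tower G' hG' hI W hW).exists_compat n s
    obtain ⟨m, hm⟩ := hsec W hW x hx
    exact ⟨m, (hm n).trans hxn⟩
  apply isQuot_of_epi a ha' (limit.π G' (op n)) hQ
  apply ProEtDCConv.epi_of_surjective_wc
  intro W hW1 hW2 k
  have hW := ProEtIsWC.isWC_of_isWContractible W hW2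
  set t := (kernel.ι (limit.π G' (op n))).hom.app (op W) k with ht
  have htn : (limit.π G' (op n)).hom.app (op W) t = 0 :=
    congrArg (fun ψ : kernel (limit.π G' (op n)) ⟶ G'.obj (op n) => ψ.hom.app (op W) k)
      (kernel.condition (limit.π G' (op n)))
  obtain ⟨Y, hY, hsum⟩ := (tower G' hG' hI W hW).exists_sum_of_compat n a ha'
    (fun j => (limit.π G' (op j)).hom.app (op W) t) (hcompat W hW t) htn
  choose m hm using fun k => hsec W hW (Y k) (hY k)
  refine ⟨∑ k, (biproduct.ι (fun _ : Fin r => limit G') k).hom.app (op W) (m k), ?_⟩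
  -- compare after the monomorphism `kernel.ι`
  haveI : PreservesLimitsOfSize.{0, 0} (ProEtFree.Γ Λ W) :=
    (ProEtFree.adjL Λ W).rightAdjoint_preservesLimits
  have hmono : Function.Injective ((kernel.ι (limit.π G' (op n))).hom.app (op W)) := by
    haveI : Mono ((ProEtFree.Γ Λ W).map (kernel.ι (limit.π G' (op n)))) := inferInstance
    exact (ModuleCat.mono_iff_injective _).mp this
  apply hmono
  have h1 := congrArg (fun ψ : (⨁ fun _ : Fin r => limit G') ⟶ limit G' =>
    ψ.hom.app (op W) (∑ k, (biproduct.ι (fun _ : Fin r => limit G') k).hom.app (op W) (m k)))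
    (kernel.lift_ι (limit.π G' (op n)) (ProEtModWC.gens a (limit G'))
      (gens_comp' a ha' (limit.π G' (op n)) hQ))
  refine h1.trans ?_
  show (ProEtModWC.gens a (limit G')).hom.app (op W) _ = t
  rw [gens_app_sum]
  apply ProEtDCLim.ext_sections
  intro j
  obtain ⟨j⟩ := j
  rw [map_sum]
  simp only [map_smul]
  have h2 : ∀ k, (limit.π G' (op j)).hom.app (op W) (m k) = Y k j := fun k => hm k j
  simp only [h2]
  exact hsum j

end Main

end Groth.Agent.H27.EpsAdicLim
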