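import Groth.Agent.H27.ProEtBC

/-!
# Sections of `ε⁻¹F` that agree on a cofiltered limit agree at a finite stage (helper27)
-/

set_option autoImplicit false
set_option linter.style.haveILetI false
set_option linter.unusedSectionVars false
set_option backward.isDefEq.respectTransparency.types false
open CategoryTheory CategoryTheory.Limits AlgebraicGeometry Opposite
universe u w

namespace Groth.Agent.H27.EpsLimInj

open EpsLan EpsUnitSurj EpsG ProEtBC

variable {X : Scheme.{u}}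

section Prod

/-- the product of two objects of the small étale site -/
noncomputable def prodEt (E₁ E₂ : X.Etale) : X.Etale :=
  Scheme.Etale.mk (pullback.fst E₁.hom E₂.hom ≫ E₁.hom)

noncomputable def prodFst (E₁ E₂ : X.Etale) : prodEt E₁ E₂ ⟶ E₁ :=
  MorphismProperty.Over.homMk (pullback.fst E₁.hom E₂.hom) rfl

noncomputable def prodSnd (E₁ E₂ : X.Etale) : prodEt E₁ E₂ ⟶ E₂ :=
  MorphismProperty.Over.homMk (pullback.snd E₁.hom E₂.hom) pullback.condition.symm

noncomputable def prodLift {W : X.ProEt} {E₁ E₂ : X.Etale} (a₁ : W ⟶ (ProEtS.eps X).obj E₁)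
    (a₂ : W ⟶ (ProEtS.eps X).obj E₂) : W ⟶ (ProEtS.eps X).obj (prodEt E₁ E₂) :=
  MorphismProperty.Over.homMk (pullback.lift a₁.left a₂.left
    ((MorphismProperty.Over.w a₁).trans (MorphismProperty.Over.w a₂).symm)) (by
    show pullback.lift a₁.left a₂.left _ ≫ pullback.fst E₁.hom E₂.hom ≫ E₁.hom = W.hom
    exact (Category.assoc _ _ _).symm.trans
      ((congrArg (fun k => k ≫ E₁.hom) (pullback.lift_fst _ _ _)).trans
        (MorphismProperty.Over.w a₁)))

theorem prodLift_fst {W : X.ProEt} {E₁ E₂ : X.Etale} (a₁ : W ⟶ (ProEtS.eps X).obj E₁)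
    (a₂ : W ⟶ (ProEtS.eps X).obj E₂) :
    prodLift a₁ a₂ ≫ (ProEtS.eps X).map (prodFst E₁ E₂) = a₁ := by
  apply MorphismProperty.Over.Hom.ext
  exact pullback.lift_fst _ _ _

theorem prodLift_snd {W : X.ProEt} {E₁ E₂ : X.Etale} (a₁ : W ⟶ (ProEtS.eps X).obj E₁)
    (a₂ : W ⟶ (ProEtS.eps X).obj E₂) :
    prodLift a₁ a₂ ≫ (ProEtS.eps X).map (prodSnd E₁ E₂) = a₂ := by
  apply MorphismProperty.Over.Hom.ext
  exact pullback.lift_snd _ _ _

end Prod

variable {A : Type (u + 2)} [Category.{u + 1} A] {FA : A → A → Type w} {CA : A → Type (u + 1)}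
  [∀ M N, FunLike (FA M N) (CA M) (CA N)] [ConcreteCategory.{u + 1} A FA]
  [∀ F : X.Etaleᵒᵖ ⥤ A, (ProEtS.eps X).op.HasPointwiseLeftKanExtension F]
  [PreservesFilteredColimitsOfSize.{u, u + 1} (forget A)]
  [ProEtS.EpsCont X] [HasSheafify (Scheme.ProEt.topology X) A]
  [(Scheme.ProEt.topology X).WEqualsLocallyBijective A]
  [(Scheme.ProEt.topology X).HasSheafCompose (forget A)]
  [X.smallEtaleTopology.HasSheafCompose (forget A)]

variable (F : Sheaf X.smallEtaleTopology A)

/-- two triples over the same object can be represented over a common étale scheme -/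
theorem exists_common {W : X.ProEt} {E₁ E₂ : X.Etale} (a₁ : W ⟶ (ProEtS.eps X).obj E₁)
    (a₂ : W ⟶ (ProEtS.eps X).obj E₂) (s₁ : ToType (F.obj.obj (op E₁)))
    (s₂ : ToType (F.obj.obj (op E₂))) :
    ∃ (E : X.Etale) (a : W ⟶ (ProEtS.eps X).obj E) (s s' : ToType (F.obj.obj (op E))),
      gelt F E₁ a₁ s₁ = gelt F E a s ∧ gelt F E₂ a₂ s₂ = gelt F E a s' := by
  refine ⟨prodEt E₁ E₂, prodLift a₁ a₂, F.obj.map (prodFst E₁ E₂).op s₁,
    F.obj.map (prodSnd E₁ E₂).op s₂, ?_, ?_⟩
  · rw [← gelt_comp, prodLift_fst]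
  · rw [← gelt_comp, prodLift_snd]

/-- functoriality of restriction for `G'` -/
theorem G'_map_map {W W' W'' : X.ProEt} (k : W' ⟶ W) (l : W'' ⟶ W')
    (y : ToType ((G' F).obj.obj (op W))) :
    (G' F).obj.map l.op ((G' F).obj.map k.op y) = (G' F).obj.map (l ≫ k).op y :=
  map_map (G' F).obj k l y

/-- a weakly étale quasi-compact surjection is a cover: sections are determined by their
restriction -/
theorem eq_of_map_eq {U V : X.ProEt} (g : V ⟶ U) [QuasiCompact g.left]
    (hs : Function.Surjective g.left.base) (x y : ToType ((G' F).obj.obj (op U)))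
    (h : (G' F).obj.map g.op x = (G' F).obj.map g.op y) : x = y := by
  haveI : WeaklyEtale g.left := weaklyEtale_left g
  have hcov := generate_singleton_mem g hs
  refine ((EpsWCRep.isSheaf_type (G' F)) _ hcov).isSeparatedFor.ext ?_
  rintro Y f ⟨T0, m', k, ⟨⟩, rfl⟩
  show (G' F).obj.map (m' ≫ g).op _ = (G' F).obj.map (m' ≫ g).op _
  rw [← G'_map_map, ← G'_map_map, h]

variable {J : Type u} [SmallCategory J] [IsCofiltered J] (Z : J ⥤ X.ProEt) (c : Cone Z)

/-- **Sections of `ε⁻¹F` over an affine stage which agree on the limit agree at some stage.** -/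
theorem eq_at_stage (hc : IsLimit (cS Z c))
    (haff : ∀ {i j : J} (f : i ⟶ j), IsAffineHom (Z.map f).left)
    (j0 : J) [IsAffine (Z.obj j0).left]
    (t t' : ToType ((G' F).obj.obj (op (Z.obj j0))))
    (h : (G' F).obj.map (c.π.app j0).op t = (G' F).obj.map (c.π.app j0).op t') :
    ∃ (j : J) (f : j ⟶ j0), (G' F).obj.map (Z.map f).op t = (G' F).obj.map (Z.map f).op t' := by
  -- a weakly contractible cover of the stage
  obtain ⟨p⟩ := PresP.nonempty_pres (Z.obj j0)
  obtain ⟨V, hV⟩ : ∃ V : X.ProEt, V = PresP.Zpt (Z.obj j0) p := ⟨_, rfl⟩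
  obtain ⟨q, hq⟩ : ∃ q : V ⟶ Z.obj j0, HEq q (PresP.toY (Z.obj j0) p) := by
    subst hV; exact ⟨_, HEq.rfl⟩
  haveI : IsAffine V.left := by subst hV; infer_instance
  have hwc : EtPBC.IsWContractible ↥Γ(V.left, ⊤) := by subst hV; exact PresP.wc _ p
  have hqs : Function.Surjective q.left.base := by
    subst hV; obtain rfl := eq_of_heq hq; exact PresP.toY_surjective _ p
  -- represent both restrictions by triples over a common étale scheme
  obtain ⟨E₁, a₁, s₁, h₁⟩ := exists_gelt_of_wc F V hwc ((G' F).obj.map q.op t)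
  obtain ⟨E₂, a₂, s₂, h₂⟩ := exists_gelt_of_wc F V hwc ((G' F).obj.map q.op t')
  obtain ⟨E, a, s, s', e₁, e₂⟩ := exists_common F a₁ a₂ s₁ s₂
  have ht : (G' F).obj.map q.op t = gelt F E a s := h₁.symm.trans e₁
  have ht' : (G' F).obj.map q.op t' = gelt F E a s' := h₂.symm.trans e₂
  -- the base-changed system
  let φ0 : Over j0 := Over.mk (𝟙 j0)
  have hlim := hbc Z c j0 q hc
  -- the limit lands in the good open
  have hpt : ∀ z : (bcPt Z c j0 q).left,
      (bcPtSnd Z c j0 q ≫ a).left.base z ∈ EpsDescent.goodOpen F.obj E s s' := by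
    refine mem_goodOpen_of_gelt_eq F E _ s s' ?_
    rw [← map_gelt, ← map_gelt, ← ht, ← ht', G'_map_map, G'_map_map, ← bcPtFst_π,
      ← G'_map_map, ← G'_map_map, h]
  obtain ⟨U0, hU0⟩ : ∃ U0 : ((DS (bcD Z j0 q)).obj φ0).Opens,
      U0 = (bcSnd Z j0 q φ0 ≫ a).left ⁻¹ᵁ EpsDescent.goodOpen F.obj E s s' := ⟨_, rfl⟩
  have hO : (cS (bcD Z j0 q) (bcCone Z c j0 q)).π.app φ0 ⁻¹ᵁ U0 = ⊤ := by
    rw [eq_top_iff]
    intro z _
    rw [hU0]
    have h1 := hpt z
    rw [← bcCone_π_snd Z c j0 q φ0] at h1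
    exact h1
  haveI : ∀ {φ ψ : Over j0} (g : φ ⟶ ψ), IsAffineHom ((DS (bcD Z j0 q)).map g) := by
    intro φ ψ g
    haveI : IsAffineHom ((DS Z).map g.left) := haff g.left
    exact MorphismProperty.of_isPullback (P := @IsAffineHom)
      (Groth.Agent.H24.isPullback_pullbackDiagram_map (DS Z) j0 q.left g).flip inferInstance
  haveI : ∀ φ : Over j0, CompactSpace ((DS (bcD Z j0 q)).obj φ) := by
    intro φ
    haveI : IsAffineHom ((DS Z).map φ.hom) := haff φ.hom
    haveI : IsAffineHom (pullback.snd ((DS Z).map φ.hom) q.left) :=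
      MorphismProperty.pullback_snd (P := @IsAffineHom) _ _ inferInstance
    haveI : IsAffine (pullback ((DS Z).map φ.hom) q.left) :=
      isAffine_of_isAffineHom (pullback.snd ((DS Z).map φ.hom) q.left)
    exact inferInstanceAs (CompactSpace ↥(pullback ((DS Z).map φ.hom) q.left))
  obtain ⟨ψ, g, hg⟩ := exists_map_eq_top (DS (bcD Z j0 q)) (cS (bcD Z j0 q) (bcCone Z c j0 q))
    hlim U0 hO
  refine ⟨ψ.left, ψ.hom, ?_⟩
  -- compare on the cover `bcFst ψ`
  haveI : QuasiCompact (bcFst Z j0 q ψ).left := by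
    haveI : IsAffine (Z.obj j0).left := inferInstance
    have hqa : IsAffineHom q.left := isAffineHom_of_isAffine q.left
    haveI : IsAffineHom (pullback.fst ((DS Z).map ψ.hom) q.left) :=
      MorphismProperty.pullback_fst (P := @IsAffineHom) _ _ hqa
    exact inferInstanceAs (QuasiCompact (pullback.fst ((DS Z).map ψ.hom) q.left))
  have hsurj : Function.Surjective (bcFst Z j0 q ψ).left.base := by
    intro x
    obtain ⟨y, hy⟩ := hqs (((DS Z).map ψ.hom).base x)
    obtain ⟨w, hw, -⟩ := Scheme.Pullback.exists_preimage_pullback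
      (f := (DS Z).map ψ.hom) (g := q.left) x y hy.symm
    exact ⟨w, hw⟩
  apply eq_of_map_eq F (bcFst Z j0 q ψ) hsurj
  rw [G'_map_map, G'_map_map, bcFst_map, ← G'_map_map, ← G'_map_map, ht, ht', map_gelt,
    map_gelt]
  apply gelt_eq_of_mem_goodOpen
  intro z
  have hz : ((DS (bcD Z j0 q)).map g).base z ∈ U0 := by
    have : z ∈ (DS (bcD Z j0 q)).map g ⁻¹ᵁ U0 := by rw [hg]; trivial
    exact this
  rw [hU0] at hz
  rw [← bcMap_snd Z j0 q g]
  exact hz

end Groth.Agent.H27.EpsLimInj
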