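import Groth.Agent.H27.ProEtBC2
import Groth.Agent.H27.EpsLimInj

/-!
# Finite level étale charts for sections of `ε⁻¹F` over a cofiltered limit (helper27)
-/

set_option autoImplicit false
set_option linter.style.haveILetI false
set_option linter.unusedSectionVars false
set_option backward.isDefEq.respectTransparency.types false
open CategoryTheory CategoryTheory.Limits AlgebraicGeometry Opposite
universe u w

namespace Groth.Agent.H27.EpsChart

open EpsLan EpsUnitSurj EpsG ProEtBC EpsLimInj

variable {X : Scheme.{u}}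
variable {A : Type (u + 2)} [Category.{u + 1} A] {FA : A → A → Type w} {CA : A → Type (u + 1)}
  [∀ M N, FunLike (FA M N) (CA M) (CA N)] [ConcreteCategory.{u + 1} A FA]
  [∀ F : X.Etaleᵒᵖ ⥤ A, (ProEtS.eps X).op.HasPointwiseLeftKanExtension F]
  [PreservesFilteredColimitsOfSize.{u, u + 1} (forget A)]
  [ProEtS.EpsCont X] [HasSheafify (Scheme.ProEt.topology X) A]
  [(Scheme.ProEt.topology X).WEqualsLocallyBijective A]
  [(Scheme.ProEt.topology X).HasSheafCompose (forget A)]
  [X.smallEtaleTopology.HasSheafCompose (forget A)]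

variable (F : Sheaf X.smallEtaleTopology A)
variable {J : Type u} [SmallCategory J] (Z : J ⥤ X.ProEt) (c : Cone Z)
variable (s : ToType ((G' F).obj.obj (op c.pt)))

/-- a finite level étale chart on whose pullback to the limit `s` is given by a triple -/
structure Chart where
  /-- the stage -/
  k : J
  /-- the chart -/
  T : X.ProEt
  /-- its structure map -/
  qT : T ⟶ Z.obj k
  et : Etale qT.left
  qc : QuasiCompact qT.left
  surjL : Function.Surjective (bcPtFst Z c k qT).left.base
  /-- the étale scheme of the triple -/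
  E : X.Etale
  /-- the section of the triple -/
  f : ToType (F.obj.obj (op E))
  /-- the map of the triple -/
  g : bcPt Z c k qT ⟶ (ProEtS.eps X).obj E
  hg : gelt F E g f = (G' F).obj.map (bcPtFst Z c k qT).op s

namespace Chart

variable {F Z c s}
variable (C : Chart F Z c s)

/-- rebasing a chart to a further stage -/
noncomputable def rebase (φ : Over C.k) : Chart F Z c s where
  k := φ.left
  T := bcObj Z C.k C.qT φ
  qT := bcFst Z C.k C.qT φ
  et := MorphismProperty.pullback_fst (P := @Etale) ((DS Z).map φ.hom) C.qT.left C.et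
  qc := MorphismProperty.pullback_fst (P := @QuasiCompact) ((DS Z).map φ.hom) C.qT.left C.qc
  surjL := by
    intro x
    obtain ⟨y, hy⟩ := C.surjL x
    refine ⟨(rebaseσ Z c C.k C.qT φ).left.base y, ?_⟩
    have h := congrArg (fun m => m.left.base y) (rebaseσ_fst Z c C.k C.qT φ)
    exact h.trans hy
  E := C.E
  f := C.f
  g := rebaseρ Z c C.k C.qT φ ≫ C.g
  hg := by
    rw [← map_gelt, C.hg, G'_map_map, rebaseρ_fst]

/-- the chart is affine -/
def Aff : Prop := IsAffine C.T.left

/-- the triple is defined on the chart -/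
def Fac : Prop := ∃ g1 : C.T ⟶ (ProEtS.eps X).obj C.E, C.g = bcPtSnd Z c C.k C.qT ≫ g1

/-- the chart is surjective -/
def Surj : Prop := Function.Surjective C.qT.left.base

theorem rebase_fac (φ : Over C.k) (h : C.Fac) : (C.rebase φ).Fac := by
  obtain ⟨g1, hg1⟩ := h
  refine ⟨bcSnd Z C.k C.qT φ ≫ g1, ?_⟩
  show rebaseρ Z c C.k C.qT φ ≫ C.g = _
  rw [hg1, ← Category.assoc, rebaseρ_snd, Category.assoc]
  rfl

theorem rebase_fac_of_factor (φ : Over C.k) (g1 : bcObj Z C.k C.qT φ ⟶ (ProEtS.eps X).obj C.E)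
    (h : bcπ Z c C.k C.qT φ ≫ g1 = C.g) : (C.rebase φ).Fac := by
  refine ⟨g1, ?_⟩
  show rebaseρ Z c C.k C.qT φ ≫ C.g = _
  rw [← h, ← Category.assoc, rebaseρ_π]
  rfl

theorem rebase_surj (φ : Over C.k) (h : C.Surj) : (C.rebase φ).Surj := by
  intro x
  obtain ⟨y, hy⟩ := h (((DS Z).map φ.hom).base x)
  obtain ⟨w, hw, -⟩ := Scheme.Pullback.exists_preimage_pullback
    (f := (DS Z).map φ.hom) (g := C.qT.left) x y hy.symm
  exact ⟨w, hw⟩

theorem rebase_aff (haff : ∀ {i j : J} (f : i ⟶ j), IsAffineHom (Z.map f).left)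
    (φ : Over C.k) (h : C.Aff) : (C.rebase φ).Aff := by
  have h0 : IsAffine C.T.left := h
  have h1 : IsAffineHom ((DS Z).map φ.hom) := haff φ.hom
  have h2 : IsAffineHom (pullback.snd ((DS Z).map φ.hom) C.qT.left) :=
    MorphismProperty.pullback_snd (P := @IsAffineHom) _ _ h1
  exact @isAffine_of_isAffineHom _ _ (pullback.snd ((DS Z).map φ.hom) C.qT.left) h2 h0

end Chart

end Groth.Agent.H27.EpsChart
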