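import Groth.Agent.H27.EpsChart
import Groth.Agent.H24.DescFP7
import Groth.Agent.H24.LimitLocusEtale

/-!
# Existence of affine finite level charts (helper27)
-/

set_option autoImplicit false
set_option linter.style.haveILetI false
set_option linter.unusedSectionVars false
set_option backward.isDefEq.respectTransparency.types false
open CategoryTheory CategoryTheory.Limits AlgebraicGeometry Opposite
universe u w

namespace Groth.Agent.H27.EpsChart

open EpsLan EpsUnitSurj EpsG ProEtBC EpsLimInj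

variable {X : Scheme.{u}}
variable {A : Type (u + 2)} [Category.{u + 1} A] {FA : A → A → Type w} {CA : A → Type (u + 1)}
  [∀ M N, FunLike (FA M N) (CA M) (CA N)] [ConcreteCategory.{u + 1} A FA]
  [∀ F : X.Etaleᵒᵖ ⥤ A, (ProEtS.eps X).op.HasPointwiseLeftKanExtension F]
  [PreservesFilteredColimitsOfSize.{u, u + 1} (forget A)]
  [ProEtS.EpsCont X] [HasSheafify (Scheme.ProEt.topology X) A]
  [(Scheme.ProEt.topology X).WEqualsLocallyBijective A]
  [(Scheme.ProEt.topology X).HasSheafCompose (forget A)]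
  [X.smallEtaleTopology.HasSheafCompose (forget A)]

variable (F : Sheaf X.smallEtaleTopology A)
variable {J : Type u} [SmallCategory J] [IsCofiltered J] (Z : J ⥤ X.ProEt) (c : Cone Z)

/-- on an étale quasi-compact cover of the limit (a stage of a presentation of a weakly
contractible cover), the section is given by a triple -/
theorem exists_etale_triple [IsAffine c.pt.left] (s : ToType ((G' F).obj.obj (op c.pt))) :
    ∃ (V : X.ProEt) (u : V ⟶ c.pt) (E : X.Etale) (g : V ⟶ (ProEtS.eps X).obj E)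
      (f : ToType (F.obj.obj (op E))), IsAffine V.left ∧ Etale u.left ∧
        Function.Surjective u.left.base ∧ gelt F E g f = (G' F).obj.map u.op s := by
  obtain ⟨p⟩ := PresP.nonempty_pres c.pt
  obtain ⟨E, a, f, ha⟩ := exists_gelt_of_wc F (PresP.Zpt c.pt p) (PresP.wc c.pt p)
    ((G' F).obj.map (PresP.toY c.pt p).op s)
  obtain ⟨l, g0, hg0⟩ := PresP.exists_factor c.pt p E a
  have haff' : ∀ {i j : p.I} (f : i ⟶ j), IsAffineHom ((PresP.Zd c.pt p).map f).left := by
    intro i j f
    haveI : IsAffine (p.D.obj i) := p.aff i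
    haveI : IsAffine (p.D.obj j) := p.aff j
    exact isAffineHom_of_isAffine (p.D.map f)
  have h1 : (G' F).obj.map ((PresP.Zc c.pt p).π.app l).op (gelt F E g0 f) =
      (G' F).obj.map ((PresP.Zc c.pt p).π.app l).op
        ((G' F).obj.map (PresP.stageToY c.pt p l).op s) := by
    rw [map_gelt, hg0]
    exact ha.trans ((congrArg (fun m => (G' F).obj.map m.op s)
      (PresP.π_stageToY c.pt p l).symm).trans (G'_map_map F _ _ s).symm)
  obtain ⟨l', f', hl'⟩ := eq_at_stage F (PresP.Zd c.pt p) (PresP.Zc c.pt p) (PresP.hZc c.pt p)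
    haff' l (gelt F E g0 f) ((G' F).obj.map (PresP.stageToY c.pt p l).op s) h1
  refine ⟨(PresP.Zd c.pt p).obj l', PresP.stageToY c.pt p l', E,
    (PresP.Zd c.pt p).map f' ≫ g0, f, inferInstance, ?_, PresP.stageToY_surjective c.pt p l', ?_⟩
  · exact inferInstanceAs (Etale (PresP.tS c.pt p l'))
  · rw [← map_gelt, hl', G'_map_map, PresP.map_stageToY]

/-- **Existence of an affine finite level chart.** -/
theorem exists_chart (hc : IsLimit (cS Z c))
    (haff : ∀ {i j : J} (f : i ⟶ j), IsAffineHom (Z.map f).left)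
    (hZ : ∀ j, IsAffine (Z.obj j).left) (s : ToType ((G' F).obj.obj (op c.pt))) :
    ∃ C : Chart F Z c s, C.Aff := by
  haveI : ∀ j, IsAffine ((DS Z).obj j) := hZ
  haveI : ∀ {i j : J} (f : i ⟶ j), IsAffineHom ((DS Z).map f) := fun f => haff f
  haveI hptaff : IsAffine c.pt.left := Scheme.isAffine_of_isLimit (cS Z c) hc
  obtain ⟨V, u, E, g, f, hVaff, hu_et, hu_surj, hgelt⟩ := exists_etale_triple F Z c s
  haveI : IsAffine V.left := hVaff
  haveI : Etale u.left := hu_et
  obtain ⟨ul, hul⟩ : ∃ ul : V.left ⟶ (cS Z c).pt, ul = u.left := ⟨_, rfl⟩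
  haveI : IsAffine (cS Z c).pt := hptaff
  haveI : Etale ul := hul ▸ hu_et
  haveI : IsAffineHom ul := isAffineHom_of_isAffine ul
  obtain ⟨k, Tk, fT, gT, hfp, hcpt, hqs, het, hP⟩ := Groth.Agent.H24.exists_descAt_prop (DS Z)
    (cS Z c) @Etale (fun j _ => inferInstance) Groth.Agent.H24.coreDescent_etale hc ul
    (inferInstanceAs (Etale ul))
  haveI : CompactSpace Tk := hcpt
  haveI : QuasiSeparatedSpace Tk := hqs
  obtain ⟨fT', hfT'⟩ : ∃ fT' : Tk ⟶ (Z.obj k).left, fT' = fT := ⟨_, rfl⟩
  subst hfT'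
  haveI : Etale fT' := het
  haveI hwe : WeaklyEtale (fT' ≫ (Z.obj k).hom) := inferInstance
  let qT : Scheme.ProEt.mk (fT' ≫ (Z.obj k).hom) ⟶ Z.obj k :=
    MorphismProperty.Over.homMk fT' rfl
  -- the comparison maps
  have hπk : (cS Z c).π.app k ≫ (Z.obj k).hom = c.pt.hom := MorphismProperty.Over.w (c.π.app k)
  have hu : ul ≫ c.pt.hom = V.hom := hul ▸ MorphismProperty.Over.w u
  let gTP : V ⟶ Scheme.ProEt.mk (fT' ≫ (Z.obj k).hom) := MorphismProperty.Over.homMk gT (by
    show gT ≫ fT' ≫ (Z.obj k).hom = V.hom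
    exact (Category.assoc _ _ _).symm.trans
      ((congrArg (fun m => m ≫ (Z.obj k).hom) hP.w).trans
        ((Category.assoc _ _ _).trans ((congrArg (fun m => ul ≫ m) hπk).trans hu))))
  have hcomm : u ≫ c.π.app k = gTP ≫ qT := by
    apply MorphismProperty.Over.Hom.ext
    show u.left ≫ (cS Z c).π.app k = gT ≫ fT'
    rw [← hul]
    exact hP.w.symm
  let d : V ⟶ bcPt Z c k qT := bcPtLift Z c k qT u gTP hcomm
  have hd : d ≫ bcPtFst Z c k qT = u := bcPtLift_fst _ _ _ _ _ _ _
  have hcond : pullback.snd ((cS Z c).π.app k) fT' ≫ fT' =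
      pullback.fst ((cS Z c).π.app k) fT' ≫ (cS Z c).π.app k :=
    (pullback.condition (f := (cS Z c).π.app k) (g := fT')).symm
  let el : pullback ((cS Z c).π.app k) fT' ⟶ V.left :=
    hP.lift (pullback.snd ((cS Z c).π.app k) fT') (pullback.fst ((cS Z c).π.app k) fT') hcond
  have hel2 : el ≫ ul = pullback.fst ((cS Z c).π.app k) fT' := hP.lift_snd _ _ _
  have hel1 : el ≫ gT = pullback.snd ((cS Z c).π.app k) fT' := hP.lift_fst _ _ _
  let e : bcPt Z c k qT ⟶ V := MorphismProperty.Over.homMk el (by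
    show el ≫ V.hom = (bcPt Z c k qT).hom
    rw [← hu, ← Category.assoc, hel2]
    exact MorphismProperty.Over.w (bcPtFst Z c k qT))
  have he : e ≫ u = bcPtFst Z c k qT := by
    apply MorphismProperty.Over.Hom.ext
    show el ≫ u.left = _
    rw [← hul]
    exact hel2
  have hqc : QuasiCompact fT' := (quasiCompact_iff_compactSpace fT').mpr hcpt
  let C0 : Chart F Z c s :=
    { k := k
      T := _
      qT := qT
      et := het
      qc := hqc
      surjL := by
        intro x
        obtain ⟨v, hv⟩ := hu_surj x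
        refine ⟨d.left.base v, ?_⟩
        have h := congrArg (fun m => m.left.base v) hd
        exact h.trans hv
      E := E
      f := f
      g := e ≫ g
      hg := by
        rw [← map_gelt, hgelt, G'_map_map, he] }
  -- an affine stage
  haveI : ∀ {φ ψ : Over k} (a : φ ⟶ ψ), IsAffineHom ((DS (bcD Z k qT)).map a) := by
    intro φ ψ a
    haveI : IsAffineHom ((DS Z).map a.left) := haff a.left
    exact MorphismProperty.of_isPullback (P := @IsAffineHom)
      (Groth.Agent.H24.isPullback_pullbackDiagram_map (DS Z) k fT' a).flip inferInstance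
  haveI : ∀ φ : Over k, CompactSpace ((DS (bcD Z k qT)).obj φ) := fun φ =>
    Groth.Agent.H24.compactSpace_rbObj (DS Z) φ fT'
  haveI : ∀ φ : Over k, QuasiSeparatedSpace ((DS (bcD Z k qT)).obj φ) := fun φ =>
    Groth.Agent.H24.quasiSeparatedSpace_rbObj (DS Z) φ fT'
  have hiso : IsIso el := by
    have hP' : IsPullback (pullback.snd ((cS Z c).π.app k) fT')
        (pullback.fst ((cS Z c).π.app k) fT') fT' ((cS Z c).π.app k) :=
      (IsPullback.of_hasPullback ((cS Z c).π.app k) fT').flip
    have : el = (hP'.isoIsPullback _ _ hP).hom := by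
      apply hP.hom_ext
      · exact hel1.trans (IsPullback.isoIsPullback_hom_fst _ _ hP' hP).symm
      · exact hel2.trans (IsPullback.isoIsPullback_hom_snd _ _ hP' hP).symm
    rw [this]
    infer_instance
  haveI : IsAffine (cS (bcD Z k qT) (bcCone Z c k qT)).pt :=
    @IsAffine.of_isIso _ _ el hiso (inferInstanceAs (IsAffine V.left))
  obtain ⟨φ3, hφ3⟩ := Scheme.exists_isAffine_of_isLimit (DS (bcD Z k qT))
    (cS (bcD Z k qT) (bcCone Z c k qT)) (hbc Z c k qT hc)
  exact ⟨C0.rebase φ3, hφ3⟩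

end Groth.Agent.H27.EpsChart
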