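import Groth.Agent.H27.EpsUnitInj

/-!
# Étale descent of sections along surjections of the small étale site, and the locus where two
sections agree étale locally
-/

set_option autoImplicit false
set_option linter.style.haveILetI false
set_option linter.unusedSectionVars false
open CategoryTheory CategoryTheory.Limits AlgebraicGeometry Opposite
universe u w

namespace Groth.Agent.H27.EpsDescent

variable {X : Scheme.{u}}
variable {A : Type (u + 2)} [Category.{u + 1} A] {FA : A → A → Type w} {CA : A → Type (u + 1)}
  [∀ M N, FunLike (FA M N) (CA M) (CA N)] [ConcreteCategory.{u + 1} A FA]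
  [X.smallEtaleTopology.HasSheafCompose (forget A)]

/-- étale sheaves are sheaves on underlying types -/
theorem isSheaf_type (F : Sheaf X.smallEtaleTopology A) :
    Presieve.IsSheaf X.smallEtaleTopology (F.obj ⋙ forget A) :=
  (isSheaf_iff_isSheaf_of_type _ _).1
    ((sheafCompose X.smallEtaleTopology (forget A)).obj F).2

/-- a surjective morphism of the small étale site generates a covering sieve -/
theorem generate_singleton_mem {E T : X.Etale} (π : T ⟶ E)
    (hπ : Function.Surjective π.left.base) :
    Sieve.generate (Presieve.singleton π) ∈ X.smallEtaleTopology E := by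
  rw [Groth.Agent.H4.GlueSec.mem_smallEtaleTopology_iff]
  intro x
  obtain ⟨t, ht⟩ := hπ x
  exact ⟨T, π, t, Sieve.le_generate _ _ _ (Presieve.singleton_self π), ht⟩

/-- descent of sections along a surjection with a weak self fibre product -/
theorem exists_descent (F : Sheaf X.smallEtaleTopology A) {E T T2 : X.Etale} (π : T ⟶ E)
    (hπ : Function.Surjective π.left.base) (q1 q2 : T2 ⟶ T)
    (hlift : ∀ {S : X.Etale} (m₁ m₂ : S ⟶ T), m₁ ≫ π = m₂ ≫ π →
      ∃ l : S ⟶ T2, l ≫ q1 = m₁ ∧ l ≫ q2 = m₂)
    (s : ToType (F.obj.obj (op T))) (hs : F.obj.map q1.op s = F.obj.map q2.op s) :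
    ∃ sE : ToType (F.obj.obj (op E)), F.obj.map π.op sE = s := by
  have h1 := (Presieve.isSheafFor_iff_generate _).mpr
    ((isSheaf_type F) _ (generate_singleton_mem π hπ))
  have h2 : ∀ {Z : X.Etale} (m₁ m₂ : Z ⟶ T), m₁ ≫ π = m₂ ≫ π →
      (F.obj ⋙ forget A).map m₁.op s = (F.obj ⋙ forget A).map m₂.op s := by
    intro Z m₁ m₂ h
    obtain ⟨l, hl1, hl2⟩ := hlift m₁ m₂ h
    show F.obj.map m₁.op s = F.obj.map m₂.op s
    rw [← hl1, ← hl2, op_comp, op_comp, Functor.map_comp, Functor.map_comp,
      ConcreteCategory.comp_apply, ConcreteCategory.comp_apply, hs]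
  obtain ⟨y, hy, -⟩ := Presieve.isSheafFor_singleton.mp h1 s h2
  exact ⟨y, hy⟩

section GoodOpen

variable (F : X.Etaleᵒᵖ ⥤ A) (T : X.Etale) (t t' : ToType (F.obj (op T)))

set_option backward.isDefEq.respectTransparency.types false in
/-- the open locus where two sections agree étale locally -/
def goodOpen : T.left.Opens :=
  ⟨⋃ (p : Σ (E'' : X.Etale), {h : E'' ⟶ T // F.map h.op t = F.map h.op t'}),
      Set.range p.2.1.left.base,
    isOpen_iUnion (fun p => by
      haveI : Etale p.2.1.left := inferInstance
      exact p.2.1.left.isOpenMap.isOpen_range)⟩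

theorem mem_goodOpen_iff (x : T.left) :
    x ∈ goodOpen F T t t' ↔ ∃ (E'' : X.Etale) (h : E'' ⟶ T) (e : E''.left),
      F.map h.op t = F.map h.op t' ∧ h.left.base e = x := by
  constructor
  · intro hx
    obtain ⟨_, ⟨⟨E'', h, hh⟩, rfl⟩, e, he⟩ := hx
    exact ⟨E'', h, e, hh, he⟩
  · rintro ⟨E'', h, e, hh, he⟩
    exact Set.mem_iUnion.mpr ⟨⟨E'', h, hh⟩, e, he⟩

end GoodOpen

set_option backward.isDefEq.respectTransparency.types false in
/-- two sections agree after pullback along a morphism landing in the good open -/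
theorem eq_of_forall_mem_goodOpen (F : Sheaf X.smallEtaleTopology A) {S T : X.Etale} (k : S ⟶ T)
    (t t' : ToType (F.obj.obj (op T)))
    (hk : ∀ y : S.left, k.left.base y ∈ goodOpen F.obj T t t') :
    F.obj.map k.op t = F.obj.map k.op t' := by
  have hS : EpsUnitInj.eqSieve F.obj S (F.obj.map k.op t) (F.obj.map k.op t') ∈
      X.smallEtaleTopology S := by
    rw [Groth.Agent.H4.GlueSec.mem_smallEtaleTopology_iff]
    intro y
    obtain ⟨E'', h, e, hh, he⟩ := (mem_goodOpen_iff F.obj T t t' _).mp (hk y)
    haveI : Etale h.left := inferInstance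
    let V : X.Etale := Scheme.Etale.mk (pullback.snd h.left k.left ≫ S.hom)
    let g : V ⟶ S := MorphismProperty.Over.homMk (pullback.snd h.left k.left) rfl
    let g' : V ⟶ E'' := MorphismProperty.Over.homMk (pullback.fst h.left k.left) (by
      show pullback.fst h.left k.left ≫ E''.hom = pullback.snd h.left k.left ≫ S.hom
      rw [← MorphismProperty.Over.w h, ← MorphismProperty.Over.w k, ← Category.assoc,
        ← Category.assoc, pullback.condition])
    have hgg : g ≫ k = g' ≫ h := by
      apply MorphismProperty.Over.Hom.ext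
      exact pullback.condition.symm
    obtain ⟨v, -, hv⟩ := Scheme.Pullback.exists_preimage_pullback (f := h.left) (g := k.left)
      e y he
    refine ⟨V, g, v, ?_, hv⟩
    show F.obj.map g.op (F.obj.map k.op t) = F.obj.map g.op (F.obj.map k.op t')
    have e1 : ∀ z : ToType (F.obj.obj (op T)), F.obj.map g.op (F.obj.map k.op z) =
        F.obj.map g'.op (F.obj.map h.op z) := by
      intro z
      rw [← ConcreteCategory.comp_apply, ← ConcreteCategory.comp_apply, ← Functor.map_comp,
        ← Functor.map_comp, ← op_comp, ← op_comp, hgg]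
    rw [e1, e1, hh]
  exact ((isSheaf_type F) _ hS).isSeparatedFor.ext (fun Y f hf => hf)

end Groth.Agent.H27.EpsDescent
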