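import Groth.Agent.H27.ProEtCov

/-!
# Gluing sections of pro-étale sheaves over a disjoint open cover of an object
-/

set_option autoImplicit false
set_option linter.style.haveILetI false
open CategoryTheory CategoryTheory.Limits AlgebraicGeometry Opposite
universe u w

namespace Groth.Agent.H27.ProEtSheafGlue

/-- sections of a sheaf over an object with empty underlying scheme are all equal -/
theorem subsingleton_of_isEmpty {X : Scheme.{u}} (F : Sheaf (Scheme.ProEt.topology X) (Type w))
    (Z : X.ProEt) [IsEmpty Z.left] : Subsingleton (F.obj.obj (op Z)) := by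
  refine ⟨fun a b => ?_⟩
  have hF : Presieve.IsSheaf (Scheme.ProEt.topology X) F.obj :=
    (isSheaf_iff_isSheaf_of_type _ _).1 F.2
  have hbot : (⊥ : Sieve Z) ∈ Scheme.ProEt.topology X Z := Scheme.ProEt.bot_mem_topology Z
  refine (hF ⊥ hbot).isSeparatedFor.ext ?_
  intro Y f hf
  exact hf.elim

set_option backward.isDefEq.respectTransparency.types false in
/-- the open pieces of an open cover generate a covering sieve -/
theorem generate_ofArrows_mem {X : Scheme.{u}} (U : X.ProEt) {ι : Type*} (W : ι → U.left.Opens)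
    (hcov : (⋃ k, (W k : Set ↥U.left)) = Set.univ) :
    Sieve.generate (Presieve.ofArrows (fun k => Scheme.ProEt.mk ((W k).ι ≫ U.hom))
      (fun k => (MorphismProperty.Over.homMk (W k).ι :
        Scheme.ProEt.mk ((W k).ι ≫ U.hom) ⟶ U))) ∈ Scheme.ProEt.topology X U := by
  have hU : TopologicalSpace.IsOpenCover W := by
    apply TopologicalSpace.IsOpenCover.mk
    rw [eq_top_iff]
    intro x _
    have : x ∈ ⋃ k, (W k : Set ↥U.left) := by rw [hcov]; trivial
    obtain ⟨k, hk⟩ := Set.mem_iUnion.mp this
    exact TopologicalSpace.Opens.mem_iSup.mpr ⟨k, hk⟩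
  apply Precoverage.generate_mem_toGrothendieck
  show Presieve.map (Scheme.ProEt.forget X ⋙ Over.forget X) (Presieve.ofArrows _ _) ∈
    Scheme.proetalePrecoverage U.left
  rw [Presieve.map_ofArrows]
  exact Scheme.zariskiPrecoverage_le_propQCPrecoverage _
    (U.left.openCoverOfIsOpenCover W hU).mem₀

set_option backward.isDefEq.respectTransparency.types false in
/-- sections of a sheaf glue uniquely over a disjoint open cover -/
theorem existsUnique_glue {X : Scheme.{u}} (U : X.ProEt) {ι : Type*} (W : ι → U.left.Opens)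
    (hdisj : Pairwise (fun k l => Disjoint (W k : Set ↥U.left) (W l)))
    (hcov : (⋃ k, (W k : Set ↥U.left)) = Set.univ)
    (F : Sheaf (Scheme.ProEt.topology X) (Type w))
    (t : ∀ k, F.obj.obj (op (Scheme.ProEt.mk ((W k).ι ≫ U.hom)))) :
    ∃! x : F.obj.obj (op U), ∀ k, F.obj.map (MorphismProperty.Over.homMk (W k).ι :
        Scheme.ProEt.mk ((W k).ι ≫ U.hom) ⟶ U).op x = t k := by
  have hF : Presieve.IsSheaf (Scheme.ProEt.topology X) F.obj :=
    (isSheaf_iff_isSheaf_of_type _ _).1 F.2
  have h1 := (Presieve.isSheafFor_iff_generate _).mpr (hF _ (generate_ofArrows_mem U W hcov))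
  refine (Presieve.isSheafFor_arrows_iff _ _).mp h1 t ?_
  intro i j Z gi gj hgg
  have hleft : gi.left ≫ (W i).ι = gj.left ≫ (W j).ι := congrArg (fun g => g.left) hgg
  by_cases hij : i = j
  · subst hij
    have h2 : gi.left = gj.left := (cancel_mono (W i).ι).mp hleft
    have h3 : gi = gj := MorphismProperty.Over.Hom.ext h2
    rw [h3]
  · haveI : IsEmpty ↥Z.left := by
      refine ⟨fun z => ?_⟩
      have h2 : (W i).ι.base (gi.left.base z) = (W j).ι.base (gj.left.base z) := by
        have := congrArg (fun g => g.base z) hleft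
        exact this
      have h3 : (W i).ι.base (gi.left.base z) ∈ (W i : Set ↥U.left) := (gi.left.base z).2
      have h4 : (W j).ι.base (gj.left.base z) ∈ (W j : Set ↥U.left) := (gj.left.base z).2
      rw [← h2] at h4
      exact Set.disjoint_iff.mp (hdisj hij) ⟨h3, h4⟩
    haveI := subsingleton_of_isEmpty F Z
    exact Subsingleton.elim _ _

end Groth.Agent.H27.ProEtSheafGlue
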