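import Groth.Agent.H27.ProEtWCrit
import Groth.Agent.H27.ProEtSheafGlue

/-!
# Weakly contractible objects of the small pro-étale site
-/

set_option autoImplicit false
set_option linter.style.haveILetI false
open CategoryTheory CategoryTheory.Limits AlgebraicGeometry Opposite
universe u

namespace Groth.Agent.H27.ProEtIsWC

set_option backward.isDefEq.respectTransparency.types false in
/-- affine with w-contractible ring of functions ⇒ weakly contractible object -/
theorem isWC_of_isWContractible {X : Scheme.{u}} (U : X.ProEt) [IsAffine U.left]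
    (hwc : EtPBC.IsWContractible ↥(Γ(U.left, ⊤))) : ProEtS.IsWC U := by
  intro F G φ hφ s
  haveI := hφ
  haveI hls : Sheaf.IsLocallySurjective φ := (Sheaf.isLocallySurjective_iff_epi φ).mpr hφ
  have hmem : Presheaf.imageSieve φ.hom s ∈ Scheme.ProEt.topology X U :=
    Presheaf.imageSieve_mem _ φ.hom s
  obtain ⟨n, W, -, hdisj, hcov, hR⟩ := ProEtWCrit.forward U hwc _ hmem
  choose t ht using hR
  obtain ⟨x, hx, -⟩ := ProEtSheafGlue.existsUnique_glue U W hdisj hcov F t
  refine ⟨x, ?_⟩
  obtain ⟨y, -, hy⟩ := ProEtSheafGlue.existsUnique_glue U W hdisj hcov G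
    (fun k => G.obj.map (MorphismProperty.Over.homMk (W k).ι :
        Scheme.ProEt.mk ((W k).ι ≫ U.hom) ⟶ U).op s)
  have h1 : φ.hom.app (op U) x = y := by
    apply hy
    intro k
    have hnat := ConcreteCategory.congr_hom (φ.hom.naturality
      (MorphismProperty.Over.homMk (W k).ι : Scheme.ProEt.mk ((W k).ι ≫ U.hom) ⟶ U).op) x
    dsimp at hnat
    refine hnat.symm.trans ?_
    refine (congrArg _ (hx k)).trans ?_
    exact ht k
  have h2 : s = y := hy s (fun k => rfl)
  rw [h1, h2]

set_option backward.isDefEq.respectTransparency.types false in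
/-- a covering morphism to a weakly contractible object has a section -/
theorem exists_section_of_isWC {X : Scheme.{u}} {U V : X.ProEt} (g : V ⟶ U)
    (hg : Sieve.generate (Presieve.singleton g) ∈ Scheme.ProEt.topology X U)
    (h : ProEtS.IsWC U) : ∃ σ : U ⟶ V, σ ≫ g = 𝟙 U := by
  let φ : (GrothendieckTopology.uliftYoneda.{u + 1} (Scheme.ProEt.topology X)).obj V ⟶
      (GrothendieckTopology.uliftYoneda.{u + 1} (Scheme.ProEt.topology X)).obj U :=
    (GrothendieckTopology.uliftYoneda.{u + 1} (Scheme.ProEt.topology X)).map g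
  haveI : Sheaf.IsLocallySurjective φ := by
    constructor
    intro T s
    refine (Scheme.ProEt.topology X).superset_covering ?_
      ((Scheme.ProEt.topology X).pullback_stable s.down hg)
    intro T' f' hf'
    obtain ⟨Y, a, b, hb, hab⟩ := hf'
    obtain ⟨⟩ := hb
    exact ⟨⟨a⟩, congrArg ULift.up hab⟩
  obtain ⟨σ', hσ'⟩ := h _ _ φ inferInstance ⟨𝟙 U⟩
  exact ⟨σ'.down, congrArg ULift.down hσ'⟩

set_option backward.isDefEq.respectTransparency.types false in
/-- if every single covering of an affine object has a section, its ring is w-contractible -/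
theorem isWContractible_of_sections {X : Scheme.{u}} (U : X.ProEt) [IsAffine U.left]
    (H : ∀ (V : X.ProEt) (g : V ⟶ U),
      Sieve.generate (Presieve.singleton g) ∈ Scheme.ProEt.topology X U →
      ∃ σ : U ⟶ V, σ ≫ g = 𝟙 U) :
    EtPBC.IsWContractible ↥(Γ(U.left, ⊤)) := by
  intro B _ _ hff hwe
  haveI := hff
  haveI := hwe
  let φ : Γ(U.left, ⊤) ⟶ CommRingCat.of B := CommRingCat.ofHom (algebraMap _ B)
  haveI hweφ : WeaklyEtale (Spec.map φ) :=
    (Groth.Agent.H10.weaklyEtale_SpecMap_algebraMap_iff _ _).mpr inferInstance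
  haveI hsφ : Surjective (Spec.map φ) := by
    refine ((flat_and_surjective_SpecMap_iff φ).mpr ?_).2
    show (algebraMap Γ(U.left, ⊤) B).FaithfullyFlat
    rw [RingHom.faithfullyFlat_algebraMap_iff]
    exact hff
  let f : Spec (CommRingCat.of B) ⟶ U.left := Spec.map φ ≫ U.left.isoSpec.inv
  haveI : WeaklyEtale f := inferInstanceAs (WeaklyEtale (Spec.map φ ≫ U.left.isoSpec.inv))
  haveI : Surjective f := inferInstanceAs (Surjective (Spec.map φ ≫ U.left.isoSpec.inv))
  haveI : QuasiCompact f := inferInstanceAs (QuasiCompact (Spec.map φ ≫ U.left.isoSpec.inv))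
  obtain ⟨σ, hσ⟩ := H _ _ (ProEtWCrit.generate_singleton_mem (U := U) f)
  have hσf : σ.left ≫ f = 𝟙 U.left := congrArg (fun g => g.left) hσ
  have hret := ProEtWCrit.retraction_of_section φ σ.left hσf
  refine ⟨{ toRingHom := ((Scheme.ΓSpecIso (CommRingCat.of B)).inv ≫ σ.left.appTop).hom
            commutes' := ?_ }⟩
  intro a
  exact congrArg (fun g => g.hom a) hret

/-- weakly contractible affine object ⇒ w-contractible ring of functions -/
theorem isWContractible_of_isWC {X : Scheme.{u}} (U : X.ProEt) [IsAffine U.left]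
    (h : ProEtS.IsWC U) : EtPBC.IsWContractible ↥(Γ(U.left, ⊤)) :=
  isWContractible_of_sections U (fun _ g hg => exists_section_of_isWC g hg h)

end Groth.Agent.H27.ProEtIsWC
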