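import Groth.Prelude.Def_WeakSerre
import Mathlib.Algebra.Homology.ShortComplex.ExactFunctor
import Mathlib.CategoryTheory.Adjunction.FullyFaithful
import Mathlib.CategoryTheory.Limits.Preserves.Shapes.Kernels

/-!
# Transfer of weak Serre subcategories along a fully faithful exact left adjoint (helper27)

Let `L ⊣ R` with `L` exact and the unit an isomorphism.  If `R` sends the epimorphism of a short
exact sequence whose kernel is in the essential image of `L` to an epimorphism, then the image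
under `L` of a weak Serre subcategory is a weak Serre subcategory.
-/

set_option autoImplicit false
set_option linter.style.haveILetI false
set_option linter.unusedSectionVars false
open CategoryTheory CategoryTheory.Limits ZeroObject

namespace Groth.Agent.H27.WSerreTransfer

universe v₁ v₂ u₁ u₂

variable {C : Type u₁} [Category.{v₁} C] [Abelian C] {D : Type u₂} [Category.{v₂} D] [Abelian D]
  {L : C ⥤ D} {R : D ⥤ C} (adj : L ⊣ R) [L.Additive] [R.Additive] [PreservesFiniteLimits L]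
  [IsIso adj.unit] (P : ObjectProperty C)

/-- the image of a property under a functor, up to isomorphism -/
def img (L : C ⥤ D) (P : ObjectProperty C) : ObjectProperty D :=
  fun F => ∃ G : C, P G ∧ Nonempty (L.obj G ≅ F)

include adj in
theorem isIso_counit_app_obj (G : C) : IsIso (adj.counit.app (L.obj G)) := by
  have h0 : L.map (adj.unit.app G) ≫ adj.counit.app (L.obj G) = 𝟙 _ :=
    adj.left_triangle_components G
  have h : IsIso (L.map (adj.unit.app G) ≫ adj.counit.app (L.obj G)) := by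
    rw [h0]
    infer_instance
  exact IsIso.of_isIso_comp_left (L.map (adj.unit.app G)) (adj.counit.app (L.obj G))

include adj in
theorem isIso_counit_app_of_iso {F : D} {G : C} (e : L.obj G ≅ F) : IsIso (adj.counit.app F) :=
  (NatTrans.isIso_app_iff_of_iso adj.counit e).mp (isIso_counit_app_obj adj G)

variable [WSerre.IsWeakSerre P]

include adj in
theorem img_containsZero : (img L P).ContainsZero := by
  obtain ⟨Z, hZ, hPZ⟩ := P.exists_prop_of_containsZero
  exact ⟨⟨L.obj Z, L.map_isZero hZ, Z, hPZ, ⟨Iso.refl _⟩⟩⟩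

include adj in
theorem img_kernels : (img L P).IsClosedUnderKernels := by
  constructor
  rintro _ ⟨f, k, hk, ⟨G₁, hG₁, ⟨e₁⟩⟩, ⟨G₂, hG₂, ⟨e₂⟩⟩⟩
  let ff : L.FullyFaithful := adj.fullyFaithfulLOfIsIsoUnit
  let ψ : G₁ ⟶ G₂ := ff.preimage (e₁.hom ≫ f ≫ e₂.inv)
  have hψ : L.map ψ = e₁.hom ≫ f ≫ e₂.inv := ff.map_preimage _
  refine ⟨kernel ψ, P.prop_kernel ψ hG₁ hG₂, ⟨?_⟩⟩
  have w : L.map ψ ≫ e₂.hom = e₁.hom ≫ f := by
    rw [hψ, Category.assoc, Category.assoc, Iso.inv_hom_id, Category.comp_id]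
  exact PreservesKernel.iso L ψ ≪≫ kernel.mapIso (L.map ψ) f e₁ e₂ w ≪≫
    IsLimit.conePointUniqueUpToIso (s := KernelFork.ofι (kernel.ι f) (kernel.condition f))
      (t := k) (kernelIsKernel f) hk

include adj in
theorem img_cokernels : (img L P).IsClosedUnderCokernels := by
  haveI : PreservesColimitsOfSize.{0, 0} L := adj.leftAdjoint_preservesColimits
  constructor
  rintro _ ⟨f, k, hk, ⟨G₁, hG₁, ⟨e₁⟩⟩, ⟨G₂, hG₂, ⟨e₂⟩⟩⟩
  let ff : L.FullyFaithful := adj.fullyFaithfulLOfIsIsoUnit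
  let ψ : G₁ ⟶ G₂ := ff.preimage (e₁.hom ≫ f ≫ e₂.inv)
  have hψ : L.map ψ = e₁.hom ≫ f ≫ e₂.inv := ff.map_preimage _
  refine ⟨cokernel ψ, P.prop_cokernel ψ hG₁ hG₂, ⟨?_⟩⟩
  have w : L.map ψ ≫ e₂.hom = e₁.hom ≫ f := by
    rw [hψ, Category.assoc, Category.assoc, Iso.inv_hom_id, Category.comp_id]
  exact PreservesCokernel.iso L ψ ≪≫ cokernel.mapIso (L.map ψ) f e₁ e₂ w ≪≫
    IsColimit.coconePointUniqueUpToIso
      (s := CokernelCofork.ofπ (cokernel.π f) (cokernel.condition f)) (t := k)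
      (cokernelIsCokernel f) hk

include adj in
theorem img_extensions
    (hext : ∀ (T : ShortComplex D), T.ShortExact → ∀ A₀ : C, Nonempty (L.obj A₀ ≅ T.X₁) →
      Epi (R.map T.g)) : (img L P).IsClosedUnderExtensions := by
  haveI : PreservesColimitsOfSize.{0, 0} L := adj.leftAdjoint_preservesColimits
  haveI : PreservesFiniteColimits L := PreservesColimitsOfSize.preservesFiniteColimits _
  haveI : PreservesLimitsOfSize.{0, 0} R := adj.rightAdjoint_preservesLimits
  haveI : PreservesFiniteLimits R := PreservesLimitsOfSize.preservesFiniteLimits _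
  constructor
  rintro T hT ⟨A₀, hA₀, ⟨e₁⟩⟩ ⟨B₀, hB₀, ⟨e₃⟩⟩
  haveI : Epi (R.map T.g) := hext T hT A₀ ⟨e₁⟩
  haveI : Mono T.f := hT.mono_f
  have hRT : (T.map R).ShortExact :=
    ShortComplex.ShortExact.mk' (hT.exact.map_of_mono_of_preservesKernel R inferInstance
      inferInstance) (inferInstanceAs (Mono (R.map T.f))) (inferInstanceAs (Epi (R.map T.g)))
  have h₁ : P (T.map R).X₁ :=
    P.prop_of_iso ((asIso (adj.unit.app A₀)) ≪≫ R.mapIso e₁) hA₀
  have h₃ : P (T.map R).X₃ :=
    P.prop_of_iso ((asIso (adj.unit.app B₀)) ≪≫ R.mapIso e₃) hB₀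
  have h₂ : P (R.obj T.X₂) := P.prop_X₂_of_shortExact hRT h₁ h₃
  have hLRT : ((T.map R).map L).ShortExact := hRT.map_of_exact L
  let φ : (T.map R).map L ⟶ T :=
    { τ₁ := adj.counit.app T.X₁
      τ₂ := adj.counit.app T.X₂
      τ₃ := adj.counit.app T.X₃
      comm₁₂ := (adj.counit.naturality T.f).symm
      comm₂₃ := (adj.counit.naturality T.g).symm }
  haveI : IsIso φ.τ₁ := isIso_counit_app_of_iso adj e₁
  haveI : IsIso φ.τ₃ := isIso_counit_app_of_iso adj e₃
  haveI : IsIso (adj.counit.app T.X₂) :=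
    ShortComplex.isIso₂_of_shortExact_of_isIso₁₃ φ hLRT hT
  exact ⟨R.obj T.X₂, h₂, ⟨asIso (adj.counit.app T.X₂)⟩⟩

include adj in
/-- **Transfer of weak Serre subcategories.** -/
theorem isWeakSerre_img
    (hext : ∀ (T : ShortComplex D), T.ShortExact → ∀ A₀ : C, Nonempty (L.obj A₀ ≅ T.X₁) →
      Epi (R.map T.g)) : WSerre.IsWeakSerre (img L P) :=
  { img_containsZero adj P, img_kernels adj P, img_cokernels adj P,
    img_extensions adj P hext with }

instance isWeakSerre_top : WSerre.IsWeakSerre (⊤ : ObjectProperty C) where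
  exists_zero := ⟨0, isZero_zero C, trivial⟩
  kernels_le := fun _ _ => trivial
  cokernels_le := fun _ _ => trivial

theorem img_top_iff (L : C ⥤ D) (F : D) : img L ⊤ F ↔ L.essImage F :=
  ⟨fun ⟨G, _, ⟨e⟩⟩ => ⟨G, ⟨e⟩⟩, fun ⟨G, ⟨e⟩⟩ => ⟨G, trivial, ⟨e⟩⟩⟩

end Groth.Agent.H27.WSerreTransfer
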