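import Groth.Agent.H27.EpsExtLocal
import Groth.Agent.H27.WSerreTransfer
import Groth.Agent.H27.EpsAbExact
import Groth.Agent.H27.ProEtIsWC
import Mathlib.Algebra.Homology.ShortComplex.Ab
import Mathlib.Algebra.Homology.ShortComplex.ExactFunctor
import Mathlib.CategoryTheory.Sites.EpiMono

/-!
# `R¹ε_* ε⁻¹F = 0` for abelian sheaves, in extension form (helper27)
-/

set_option autoImplicit false
set_option linter.style.haveILetI false
set_option linter.unusedSectionVars false
open CategoryTheory CategoryTheory.Limits AlgebraicGeometry Opposite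
universe u

namespace Groth.Agent.H27.EpsExtAb

open EpsLan EpsG

variable {X : Scheme.{u}}

/-- an epimorphism of abelian pro-étale sheaves is surjective on sections over a weakly
contractible object -/
theorem surjective_of_isWC {U : X.ProEt} (hU : ProEtS.IsWC U)
    {F G : ProEtS.AbP X} (φ : F ⟶ G) [Epi φ] :
    Function.Surjective (φ.hom.app (op U)) := by
  let φ' : (sheafCompose (Scheme.ProEt.topology X) (forget AddCommGrpCat.{u + 1})).obj F ⟶
      (sheafCompose (Scheme.ProEt.topology X) (forget AddCommGrpCat.{u + 1})).obj G :=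
    (sheafCompose (Scheme.ProEt.topology X) (forget AddCommGrpCat.{u + 1})).map φ
  have h1 : Sheaf.IsLocallySurjective φ := (Sheaf.isLocallySurjective_iff_epi' _ φ).mpr inferInstance
  have h2 : Sheaf.IsLocallySurjective φ' := by
    change Presheaf.IsLocallySurjective _ (Functor.whiskerRight φ.hom (forget _))
    exact (Presheaf.isLocallySurjective_iff_whisker_forget _ φ.hom).mp h1
  have h3 : Epi φ' := (Sheaf.isLocallySurjective_iff_epi φ').mp h2
  intro s
  obtain ⟨t, ht⟩ := hU _ _ φ' h3 s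
  exact ⟨t, ht⟩

/-- the sections functor -/
noncomputable abbrev Γ (U : X.ProEt) : ProEtS.AbP X ⥤ AddCommGrpCat.{u + 1} :=
  sheafToPresheaf _ _ ⋙ (evaluation _ _).obj (op U)

instance (U : X.ProEt) : (Γ U).Additive := ⟨fun {_ _ _ _} => rfl⟩

instance (U : X.ProEt) : (Γ U).PreservesZeroMorphisms := ⟨fun _ _ => rfl⟩

variable (X) [ProEtS.EpsCont X]

/-- `ε_*` sends the epimorphism of an extension by `ε⁻¹A₀` to an epimorphism -/
theorem epi_push_of_shortExact (T : ShortComplex (ProEtS.AbP X)) (hT : T.ShortExact)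
    (A₀ : EtCoh.Ab X) (e : (ProEtS.epsPull X).obj A₀ ≅ T.X₁) :
    Epi ((ProEtS.epsPush X).map T.g) := by
  haveI : Epi T.g := hT.epi_g
  haveI : Mono T.f := hT.mono_f
  let j : G' (A := AddCommGrpCat.{u + 1}) A₀ ≅ T.X₁ :=
    (cmp (A := AddCommGrpCat.{u + 1}) A₀).symm ≪≫ e
  have hinj : ∀ V : X.ProEt, Function.Injective ((j.hom ≫ T.f).hom.app (op V)) := by
    intro V
    haveI : Mono ((Γ V).map (j.hom ≫ T.f)) := inferInstance
    exact (AddCommGrpCat.mono_iff_injective _).mp this
  have hex : ∀ (V : X.ProEt) (x : ToType (T.X₂.obj.obj (op V))), T.g.hom.app (op V) x = 0 →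
      ∃ k, (j.hom ≫ T.f).hom.app (op V) k = x := by
    intro V x hx
    have hS' : (T.map (Γ V)).Exact :=
      hT.exact.map_of_mono_of_preservesKernel (Γ V) inferInstance inferInstance
    rw [ShortComplex.ab_exact_iff] at hS'
    obtain ⟨k₁, hk₁⟩ := hS' x hx
    refine ⟨j.inv.hom.app (op V) k₁, ?_⟩
    have h1 := ConcreteCategory.congr_hom
      (congrArg (fun m : T.X₁ ⟶ T.X₁ => m.hom.app (op V)) j.inv_hom_id) k₁
    have h2 : (j.hom ≫ T.f).hom.app (op V) (j.inv.hom.app (op V) k₁) =
        T.f.hom.app (op V) ((j.inv ≫ j.hom).hom.app (op V) k₁) := rfl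
    rw [h2]
    refine (congrArg (T.f.hom.app (op V)) h1).trans ?_
    exact hk₁
  have hcomp : ∀ (V : X.ProEt)
      (k : ToType ((G' (A := AddCommGrpCat.{u + 1}) A₀).obj.obj (op V))),
      T.g.hom.app (op V) ((j.hom ≫ T.f).hom.app (op V) k) = 0 := by
    intro V k
    have h0 : (j.hom ≫ T.f) ≫ T.g = 0 := by rw [Category.assoc, T.zero, comp_zero]
    have h1 := ConcreteCategory.congr_hom
      (congrArg (fun m : G' (A := AddCommGrpCat.{u + 1}) A₀ ⟶ T.X₃ => m.hom.app (op V)) h0) k
    exact h1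
  have hsurj : ∀ (V : X.ProEt) [IsAffine V.left], EtPBC.IsWContractible ↥Γ(V.left, ⊤) →
      Function.Surjective (T.g.hom.app (op V)) := by
    intro V _ hwc
    exact surjective_of_isWC (ProEtIsWC.isWC_of_isWContractible V hwc) T.g
  refine (Sheaf.isLocallySurjective_iff_epi' _ _).mp ⟨fun {U} b => ?_⟩
  rw [Groth.Agent.H4.GlueSec.mem_smallEtaleTopology_iff]
  intro x
  obtain ⟨V, f, v, t, hv, ht⟩ := EpsExtLocal.exists_local_lift (A := AddCommGrpCat.{u + 1}) A₀
    (j.hom ≫ T.f) T.g hinj hex hcomp hsurj U b x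
  exact ⟨V, f, v, ⟨t, ht⟩, hv⟩

end Groth.Agent.H27.EpsExtAb
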