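import Groth.Agent.H27.ProEtBC2

/-!
# Fibre products in the small pro-étale site, and descent along quasi-compact surjections
(helper27)
-/

set_option autoImplicit false
set_option linter.style.haveILetI false
set_option linter.unusedSectionVars false
set_option backward.isDefEq.respectTransparency.types false
open CategoryTheory CategoryTheory.Limits AlgebraicGeometry Opposite
universe u w

namespace Groth.Agent.H27.ProEtPB

open ProEtBC

variable {X : Scheme.{u}}

section PB

variable {A B C : X.ProEt} (f : A ⟶ B) (g : C ⟶ B)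

instance : WeaklyEtale (pullback.snd f.left g.left ≫ C.hom) := by
  haveI : WeaklyEtale f.left := weaklyEtale_left f
  infer_instance

/-- the fibre product in the small pro-étale site -/
noncomputable def pb : X.ProEt := Scheme.ProEt.mk (pullback.snd f.left g.left ≫ C.hom)

/-- the second projection -/
noncomputable def pbSnd : pb f g ⟶ C :=
  MorphismProperty.Over.homMk (pullback.snd f.left g.left) rfl

/-- the first projection -/
noncomputable def pbFst : pb f g ⟶ A :=
  MorphismProperty.Over.homMk (pullback.fst f.left g.left) (by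
    show pullback.fst f.left g.left ≫ A.hom = pullback.snd f.left g.left ≫ C.hom
    have h1 : f.left ≫ B.hom = A.hom := MorphismProperty.Over.w f
    have h2 : g.left ≫ B.hom = C.hom := MorphismProperty.Over.w g
    rw [← h1, ← h2, ← Category.assoc, ← Category.assoc, pullback.condition])

theorem pb_cond : pbFst f g ≫ f = pbSnd f g ≫ g := by
  apply MorphismProperty.Over.Hom.ext
  exact pullback.condition

variable {f g}
variable {M : X.ProEt}

/-- the universal property -/
noncomputable def pbLift (a : M ⟶ A) (b : M ⟶ C) (h : a ≫ f = b ≫ g) : M ⟶ pb f g :=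
  MorphismProperty.Over.homMk (pullback.lift a.left b.left (congrArg (fun m => m.left) h)) (by
    show pullback.lift a.left b.left _ ≫ pullback.snd f.left g.left ≫ C.hom = M.hom
    exact (Category.assoc _ _ _).symm.trans
      ((congrArg (fun m => m ≫ C.hom) (pullback.lift_snd _ _ _)).trans
        (MorphismProperty.Over.w b)))

theorem pbLift_fst (a : M ⟶ A) (b : M ⟶ C) (h : a ≫ f = b ≫ g) :
    pbLift a b h ≫ pbFst f g = a := by
  apply MorphismProperty.Over.Hom.ext
  exact pullback.lift_fst _ _ _

theorem pbLift_snd (a : M ⟶ A) (b : M ⟶ C) (h : a ≫ f = b ≫ g) :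
    pbLift a b h ≫ pbSnd f g = b := by
  apply MorphismProperty.Over.Hom.ext
  exact pullback.lift_snd _ _ _

theorem pb_hom_ext (m₁ m₂ : M ⟶ pb f g) (h1 : m₁ ≫ pbFst f g = m₂ ≫ pbFst f g)
    (h2 : m₁ ≫ pbSnd f g = m₂ ≫ pbSnd f g) : m₁ = m₂ := by
  apply MorphismProperty.Over.Hom.ext
  apply pullback.hom_ext
  · exact congrArg (fun m => m.left) h1
  · exact congrArg (fun m => m.left) h2

variable (f g)

theorem isAffine_pb [IsAffine A.left] [IsAffine B.left] [IsAffine C.left] :
    IsAffine (pb f g).left :=
  inferInstanceAs (IsAffine (pullback f.left g.left))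

theorem surjective_pbFst (hg : Function.Surjective g.left.base) :
    Function.Surjective (pbFst f g).left.base := by
  intro x
  obtain ⟨y, hy⟩ := hg (f.left.base x)
  obtain ⟨w, hw, -⟩ := Scheme.Pullback.exists_preimage_pullback
    (f := f.left) (g := g.left) x y hy.symm
  exact ⟨w, hw⟩

theorem quasiCompact_pbFst [hg : QuasiCompact g.left] : QuasiCompact (pbFst f g).left :=
  MorphismProperty.pullback_fst (P := @QuasiCompact) f.left g.left hg

end PB

variable {A : Type (u + 2)} [Category.{u + 1} A] {FA : A → A → Type w} {CA : A → Type (u + 1)}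
  [∀ M N, FunLike (FA M N) (CA M) (CA N)] [ConcreteCategory.{u + 1} A FA]
  [(Scheme.ProEt.topology X).HasSheafCompose (forget A)]

/-- pro-étale sheaves are sheaves on underlying types -/
theorem isSheaf_type (G : Sheaf (Scheme.ProEt.topology X) A) :
    Presieve.IsSheaf (Scheme.ProEt.topology X) (G.obj ⋙ forget A) :=
  (isSheaf_iff_isSheaf_of_type _ _).1
    ((sheafCompose (Scheme.ProEt.topology X) (forget A)).obj G).2

theorem map_map (G : Sheaf (Scheme.ProEt.topology X) A) {W W' W'' : X.ProEt} (k : W' ⟶ W)
    (l : W'' ⟶ W') (y : ToType (G.obj.obj (op W))) :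
    G.obj.map l.op (G.obj.map k.op y) = G.obj.map (l ≫ k).op y := by
  rw [op_comp, Functor.map_comp, ConcreteCategory.comp_apply]

/-- a weakly étale quasi-compact surjection is a cover: sections are determined by their
restriction -/
theorem eq_of_map_eq (G : Sheaf (Scheme.ProEt.topology X) A) {U V : X.ProEt} (g : V ⟶ U)
    [QuasiCompact g.left] (hs : Function.Surjective g.left.base)
    (x y : ToType (G.obj.obj (op U))) (h : G.obj.map g.op x = G.obj.map g.op y) : x = y := by
  haveI : WeaklyEtale g.left := weaklyEtale_left g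
  have hcov := EpsUnitSurj.generate_singleton_mem g hs
  refine ((isSheaf_type G) _ hcov).isSeparatedFor.ext ?_
  rintro Y f ⟨T0, m', k, ⟨⟩, rfl⟩
  show G.obj.map (m' ≫ g).op _ = G.obj.map (m' ≫ g).op _
  rw [← map_map, ← map_map, h]

/-- descent of sections along a quasi-compact surjection of the small pro-étale site -/
theorem exists_descent (G : Sheaf (Scheme.ProEt.topology X) A) {U V : X.ProEt} (g : V ⟶ U)
    [QuasiCompact g.left] (hs : Function.Surjective g.left.base)
    (y : ToType (G.obj.obj (op V)))
    (hy : G.obj.map (pbFst g g).op y = G.obj.map (pbSnd g g).op y) :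
    ∃ x : ToType (G.obj.obj (op U)), G.obj.map g.op x = y := by
  haveI : WeaklyEtale g.left := weaklyEtale_left g
  have h1 := (Presieve.isSheafFor_iff_generate _).mpr
    ((isSheaf_type G) _ (EpsUnitSurj.generate_singleton_mem g hs))
  have h2 : ∀ {S : X.ProEt} (m₁ m₂ : S ⟶ V), m₁ ≫ g = m₂ ≫ g →
      (G.obj ⋙ forget A).map m₁.op y = (G.obj ⋙ forget A).map m₂.op y := by
    intro S m₁ m₂ h
    show G.obj.map m₁.op y = G.obj.map m₂.op y
    rw [← pbLift_fst m₁ m₂ h, ← map_map, hy, map_map, pbLift_snd]
  obtain ⟨x, hx, -⟩ := Presieve.isSheafFor_singleton.mp h1 y h2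
  exact ⟨x, hx⟩

end Groth.Agent.H27.ProEtPB
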