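import Groth.Agent.H27.EpsLimSurj
import Groth.Agent.H27.ProEtPB

/-!
# Sections of `ε⁻¹F` over a cofiltered limit of affine objects come from a finite stage, II
(helper27)
-/

set_option autoImplicit false
set_option linter.style.haveILetI false
set_option linter.unusedSectionVars false
set_option backward.isDefEq.respectTransparency.types false
open CategoryTheory CategoryTheory.Limits AlgebraicGeometry Opposite
universe u w

namespace Groth.Agent.H27.EpsChart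

open EpsLan EpsUnitSurj EpsG ProEtBC EpsLimInj ProEtPB

variable {X : Scheme.{u}}
variable {A : Type (u + 2)} [Category.{u + 1} A] {FA : A → A → Type w} {CA : A → Type (u + 1)}
  [∀ M N, FunLike (FA M N) (CA M) (CA N)] [ConcreteCategory.{u + 1} A FA]
  [∀ F : X.Etaleᵒᵖ ⥤ A, (ProEtS.eps X).op.HasPointwiseLeftKanExtension F]
  [PreservesFilteredColimitsOfSize.{u, u + 1} (forget A)]
  [ProEtS.EpsCont X] [HasSheafify (Scheme.ProEt.topology X) A]
  [(Scheme.ProEt.topology X).WEqualsLocallyBijective A]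
  [(Scheme.ProEt.topology X).HasSheafCompose (forget A)]
  [X.smallEtaleTopology.HasSheafCompose (forget A)]

variable {F : Sheaf X.smallEtaleTopology A}
variable {J : Type u} [SmallCategory J] [IsCofiltered J] {Z : J ⥤ X.ProEt} {c : Cone Z}
variable {s : ToType ((G' F).obj.obj (op c.pt))}

/-- a section which admits an affine surjective chart on which the triple is defined comes
from a finite stage -/
theorem Chart.exists_section (C : Chart F Z c s) (hA : C.Aff) (hF : C.Fac) (hS : C.Surj)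
    (hc : IsLimit (cS Z c))
    (haff : ∀ {i j : J} (f : i ⟶ j), IsAffineHom (Z.map f).left)
    (hZ : ∀ j, IsAffine (Z.obj j).left) :
    ∃ (j : J) (t : ToType ((G' F).obj.obj (op (Z.obj j)))),
      (G' F).obj.map (c.π.app j).op t = s := by
  obtain ⟨k, T, qT, het, hqc, hsurjL, E, f, g, hg⟩ := C
  obtain ⟨g1, hg1⟩ := hF
  change g = bcPtSnd Z c k qT ≫ g1 at hg1
  change Function.Surjective qT.left.base at hS
  change IsAffine T.left at hA
  haveI : IsAffine T.left := hA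
  haveI : IsAffine (Z.obj k).left := hZ k
  haveI : QuasiCompact qT.left := hqc
  -- the section on the chart
  obtain ⟨t1, ht1⟩ : ∃ t1 : ToType ((G' F).obj.obj (op T)), t1 = gelt F E g1 f := ⟨_, rfl⟩
  have hK : (G' F).obj.map (bcPtSnd Z c k qT).op t1 = (G' F).obj.map (bcPtFst Z c k qT).op s := by
    rw [ht1, map_gelt, ← hg1]
    exact hg
  -- the self fibre product of the chart
  obtain ⟨R, hR⟩ : ∃ R : X.ProEt, R = pb qT qT := ⟨_, rfl⟩
  obtain ⟨r1, hr1⟩ : ∃ r1 : R ⟶ T, HEq r1 (pbFst qT qT) := by subst hR; exact ⟨_, HEq.rfl⟩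
  obtain ⟨r2, hr2⟩ : ∃ r2 : R ⟶ T, HEq r2 (pbSnd qT qT) := by subst hR; exact ⟨_, HEq.rfl⟩
  have hr : r1 ≫ qT = r2 ≫ qT := by
    subst hR; obtain rfl := eq_of_heq hr1; obtain rfl := eq_of_heq hr2; exact pb_cond qT qT
  have hRlift : ∀ {M : X.ProEt} (a b : M ⟶ T), a ≫ qT = b ≫ qT →
      ∃ l : M ⟶ R, l ≫ r1 = a ∧ l ≫ r2 = b := by
    intro M a b h
    subst hR; obtain rfl := eq_of_heq hr1; obtain rfl := eq_of_heq hr2
    exact ⟨pbLift a b h, pbLift_fst a b h, pbLift_snd a b h⟩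
  haveI hRaff : IsAffine R.left := by subst hR; exact isAffine_pb qT qT
  clear hr1 hr2
  obtain ⟨qR, hqR⟩ : ∃ qR : R ⟶ Z.obj k, qR = r1 ≫ qT := ⟨_, rfl⟩
  -- the two pullbacks of the section to the base-changed system over `R`
  let φ0 : Over k := Over.mk (𝟙 k)
  haveI : IsAffine ((bcD Z k qR).obj φ0).left := isAffine_bcObj Z k qR haff φ0
  have haff' : ∀ {φ ψ : Over k} (a : φ ⟶ ψ), IsAffineHom ((bcD Z k qR).map a).left :=
    fun a => isAffineHom_bcD_map Z k qR haff a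
  obtain ⟨x1, hx1⟩ : ∃ x1 : ToType ((G' F).obj.obj (op ((bcD Z k qR).obj φ0))),
      x1 = (G' F).obj.map (bcSnd Z k qR φ0 ≫ r1).op t1 := ⟨_, rfl⟩
  obtain ⟨x2, hx2⟩ : ∃ x2 : ToType ((G' F).obj.obj (op ((bcD Z k qR).obj φ0))),
      x2 = (G' F).obj.map (bcSnd Z k qR φ0 ≫ r2).op t1 := ⟨_, rfl⟩
  have hm : ∀ r : R ⟶ T, r ≫ qT = qR →
      (G' F).obj.map (bcπ Z c k qR φ0).op ((G' F).obj.map (bcSnd Z k qR φ0 ≫ r).op t1) =
        (G' F).obj.map (bcPtFst Z c k qR).op s := by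
    intro r hrq
    have hcomm : bcPtFst Z c k qR ≫ c.π.app k = (bcPtSnd Z c k qR ≫ r) ≫ qT := by
      rw [Category.assoc, hrq]
      exact bcPtFst_π Z c k qR
    rw [G'_map_map, ← Category.assoc, bcπ_snd,
      ← bcPtLift_snd Z c k qT (bcPtFst Z c k qR) (bcPtSnd Z c k qR ≫ r) hcomm,
      ← G'_map_map, hK, G'_map_map, bcPtLift_fst]
  have hx : (G' F).obj.map ((bcCone Z c k qR).π.app φ0).op x1 =
      (G' F).obj.map ((bcCone Z c k qR).π.app φ0).op x2 := by
    rw [hx1, hx2]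
    exact (hm r1 hqR.symm).trans (hm r2 (hr.symm.trans hqR.symm)).symm
  obtain ⟨ψ, a, ha⟩ := eq_at_stage F (bcD Z k qR) (bcCone Z c k qR) (hbc Z c k qR hc) haff'
    φ0 x1 x2 hx
  have ha' : (G' F).obj.map (bcSnd Z k qR ψ ≫ r1).op t1 =
      (G' F).obj.map (bcSnd Z k qR ψ ≫ r2).op t1 := by
    have e : ∀ r : R ⟶ T, (G' F).obj.map ((bcD Z k qR).map a).op
        ((G' F).obj.map (bcSnd Z k qR φ0 ≫ r).op t1) =
          (G' F).obj.map (bcSnd Z k qR ψ ≫ r).op t1 := by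
      intro r
      refine (G'_map_map F (bcSnd Z k qR φ0 ≫ r) ((bcD Z k qR).map a) t1).trans ?_
      have e0 : (bcD Z k qR).map a ≫ bcSnd Z k qR φ0 ≫ r = bcSnd Z k qR ψ ≫ r :=
        (Category.assoc _ _ _).symm.trans (congrArg (fun m => m ≫ r) (bcMap_snd Z k qR a))
      exact congrArg (fun m => (G' F).obj.map m.op t1) e0
    rw [hx1, hx2] at ha
    exact (e r1).symm.trans (ha.trans (e r2))
  -- descend along the cover `bcFst ψ`
  obtain ⟨gψ, hgψ⟩ : ∃ gψ : bcObj Z k qT ψ ⟶ Z.obj ψ.left, gψ = bcFst Z k qT ψ := ⟨_, rfl⟩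
  haveI : QuasiCompact gψ.left := by
    subst hgψ
    exact MorphismProperty.pullback_fst (P := @QuasiCompact) ((DS Z).map ψ.hom) qT.left hqc
  have hgψs : Function.Surjective gψ.left.base := by
    subst hgψ
    intro x
    obtain ⟨y, hy⟩ := hS (((DS Z).map ψ.hom).base x)
    obtain ⟨w, hw, -⟩ := Scheme.Pullback.exists_preimage_pullback
      (f := (DS Z).map ψ.hom) (g := qT.left) x y hy.symm
    exact ⟨w, hw⟩
  have hgψ' : gψ ≫ Z.map ψ.hom = bcSnd Z k qT ψ ≫ qT := by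
    subst hgψ; exact bcFst_map Z k qT ψ
  have hpp : (pbFst gψ gψ ≫ bcSnd Z k qT ψ) ≫ qT = (pbSnd gψ gψ ≫ bcSnd Z k qT ψ) ≫ qT := by
    rw [Category.assoc, Category.assoc, ← hgψ', ← Category.assoc, ← Category.assoc, pb_cond]
  obtain ⟨lR, hlR1, hlR2⟩ := hRlift _ _ hpp
  have hl2 : (pbFst gψ gψ ≫ gψ) ≫ Z.map ψ.hom = lR ≫ qR := by
    rw [hqR, ← Category.assoc, hlR1, Category.assoc, Category.assoc, hgψ']
  obtain ⟨l, hl⟩ : ∃ l : pb gψ gψ ⟶ bcObj Z k qR ψ, l ≫ bcSnd Z k qR ψ = lR :=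
    ⟨bcObjLift Z k qR ψ (pbFst gψ gψ ≫ gψ) lR hl2, bcObjLift_snd _ _ _ _ _ _ _⟩
  obtain ⟨y, hy⟩ : ∃ y : ToType ((G' F).obj.obj (op (bcObj Z k qT ψ))),
      y = (G' F).obj.map (bcSnd Z k qT ψ).op t1 := ⟨_, rfl⟩
  have hyy : (G' F).obj.map (pbFst gψ gψ).op y = (G' F).obj.map (pbSnd gψ gψ).op y := by
    rw [hy, G'_map_map, G'_map_map, ← hlR1, ← hlR2, ← hl, Category.assoc, Category.assoc,
      ← G'_map_map, ← G'_map_map F _ l, ha']
  obtain ⟨t0, ht0⟩ := exists_descent (G' F) gψ hgψs y hyy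
  refine ⟨ψ.left, t0, ?_⟩
  -- compare on the cover `bcPtFst`
  haveI : QuasiCompact (bcPtFst Z c k qT).left :=
    MorphismProperty.pullback_fst (P := @QuasiCompact) ((cS Z c).π.app k) qT.left hqc
  apply EpsLimInj.eq_of_map_eq F (bcPtFst Z c k qT) hsurjL
  rw [G'_map_map, ← bcπ_fst Z c k qT ψ, ← hgψ, ← G'_map_map, ht0, hy, G'_map_map, bcπ_snd]
  exact hK

/-- **Sections of `ε⁻¹F` over a cofiltered limit of affine objects with affine transition maps
come from a finite stage.** -/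
theorem exists_at_stage (hc : IsLimit (cS Z c))
    (haff : ∀ {i j : J} (f : i ⟶ j), IsAffineHom (Z.map f).left)
    (hZ : ∀ j, IsAffine (Z.obj j).left) (s : ToType ((G' F).obj.obj (op c.pt))) :
    ∃ (j : J) (t : ToType ((G' F).obj.obj (op (Z.obj j)))),
      (G' F).obj.map (c.π.app j).op t = s := by
  obtain ⟨C1, hC1⟩ := exists_chart F Z c hc haff hZ s
  obtain ⟨φ, hφ⟩ := C1.exists_fac hC1 hc haff
  have hA2 : (C1.rebase φ).Aff := C1.rebase_aff haff φ hC1
  obtain ⟨φ', hφ'⟩ := (C1.rebase φ).exists_surj hc haff hZ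
  exact ((C1.rebase φ).rebase φ').exists_section ((C1.rebase φ).rebase_aff haff φ' hA2)
    ((C1.rebase φ).rebase_fac φ' hφ) hφ' hc haff hZ

end Groth.Agent.H27.EpsChart
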