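import Groth.Agent.H27.ProEtPS
import Groth.Agent.H27.EpsLimSurj2

/-!
# Lifting sections along an extension by `ε⁻¹F`, étale locally (helper27)

The key step for the vanishing of `R¹ε_* ε⁻¹F`.
-/

set_option autoImplicit false
set_option linter.style.haveILetI false
set_option linter.unusedSectionVars false
set_option backward.isDefEq.respectTransparency.types false
open CategoryTheory CategoryTheory.Limits AlgebraicGeometry Opposite
universe u w

namespace Groth.Agent.H27.EpsExtLift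

open EpsLan EpsUnitSurj EpsG ProEtBC ProEtPB ProEtPS

variable {X : Scheme.{u}}
variable {A : Type (u + 2)} [Category.{u + 1} A] {FA : A → A → Type w} {CA : A → Type (u + 1)}
  [∀ M N, FunLike (FA M N) (CA M) (CA N)] [ConcreteCategory.{u + 1} A FA]
  [(Scheme.ProEt.topology X).HasSheafCompose (forget A)]
  [∀ M : A, AddCommGroup (CA M)] [∀ M N : A, AddMonoidHomClass (FA M N) (CA M) (CA N)]

section Nat

variable {G H : Sheaf (Scheme.ProEt.topology X) A} (φ : G ⟶ H)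

/-- naturality on sections -/
theorem nat {V V' : X.ProEt} (f : V' ⟶ V) (x : ToType (G.obj.obj (op V))) :
    φ.hom.app (op V') (G.obj.map f.op x) = H.obj.map f.op (φ.hom.app (op V) x) := by
  have h := ConcreteCategory.congr_hom (φ.hom.naturality f.op) x
  rw [ConcreteCategory.comp_apply, ConcreteCategory.comp_apply] at h
  exact h

end Nat

variable {K T Q : Sheaf (Scheme.ProEt.topology X) A} (i : K ⟶ T) (p : T ⟶ Q)

section Cocycle

variable {Y W : X.ProEt} (tW : W ⟶ Y)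

/-- the cocycle identity for the difference of the two pullbacks of a section -/
theorem cocycle (hinj : ∀ V : X.ProEt, Function.Injective (i.hom.app (op V)))
    (t : ToType (T.obj.obj (op W))) (κ : ToType (K.obj.obj (op (pb tW tW))))
    (hκ : i.hom.app _ κ = T.obj.map (pbFst tW tW).op t - T.obj.map (pbSnd tW tW).op t) :
    K.obj.map (pbFst (pbFst tW tW ≫ tW) tW).op κ + K.obj.map (p23 tW tW tW).op κ =
      K.obj.map (p13 tW tW tW).op κ := by
  apply hinj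
  rw [map_add, nat, nat, nat, hκ, map_sub, map_sub, map_sub, map_map, map_map, map_map, map_map,
    map_map, map_map, p13_fst, p13_snd, p23_fst, p23_snd]
  abel

end Cocycle

section Descent

variable {Y W U' : X.ProEt} (tW : W ⟶ Y) (τ' : U' ⟶ Y) (π : W ⟶ U') (hπ : π ≫ τ' = tW)

theorem quasiCompact_pbSnd {A' B' C' : X.ProEt} (f : A' ⟶ B') (g : C' ⟶ B')
    [hf : QuasiCompact f.left] : QuasiCompact (pbSnd f g).left :=
  MorphismProperty.pullback_snd (P := @QuasiCompact) f.left g.left hf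

theorem surjective_pbSnd {A' B' C' : X.ProEt} (f : A' ⟶ B') (g : C' ⟶ B')
    (hf : Function.Surjective f.left.base) : Function.Surjective (pbSnd f g).left.base := by
  intro y
  obtain ⟨x, hx⟩ := hf (g.left.base y)
  obtain ⟨w, -, hw⟩ := Scheme.Pullback.exists_preimage_pullback
    (f := f.left) (g := g.left) x y hx
  exact ⟨w, hw⟩

include hπ in
/-- given a lift over the cover `W` whose difference cocycle comes from a cocycle at the stage
`U'`, the section lifts over `U'` -/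
theorem exists_lift_of_cocycle [QuasiCompact tW.left] (htWs : Function.Surjective tW.left.base)
    (hcomp : ∀ (V : X.ProEt) (k : ToType (K.obj.obj (op V))),
      p.hom.app (op V) (i.hom.app (op V) k) = 0)
    (b : ToType (Q.obj.obj (op Y))) (t : ToType (T.obj.obj (op W)))
    (ht : p.hom.app _ t = Q.obj.map tW.op b)
    (κ' : ToType (K.obj.obj (op (pb τ' τ'))))
    (hκ : i.hom.app _ (K.obj.map (pbMap π π hπ hπ).op κ') =
      T.obj.map (pbFst tW tW).op t - T.obj.map (pbSnd tW tW).op t)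
    (hcoc : K.obj.map (pbFst (pbFst τ' τ' ≫ τ') τ').op κ' + K.obj.map (p23 τ' τ' τ').op κ' =
      K.obj.map (p13 τ' τ' τ').op κ') :
    ∃ t' : ToType (T.obj.obj (op U')), p.hom.app _ t' = Q.obj.map τ'.op b := by
  -- the base change of the cover to `U'`
  obtain ⟨W', a, u, hau, huc, hus⟩ : ∃ (W' : X.ProEt) (a : W' ⟶ W) (u : W' ⟶ U'),
      a ≫ tW = u ≫ τ' ∧ QuasiCompact u.left ∧ Function.Surjective u.left.base :=
    ⟨pb tW τ', pbFst tW τ', pbSnd tW τ', pb_cond tW τ', quasiCompact_pbSnd tW τ',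
      surjective_pbSnd tW τ' htWs⟩
  haveI : QuasiCompact u.left := huc
  have hm0 : (a ≫ π) ≫ τ' = u ≫ τ' := by rw [Category.assoc, hπ, hau]
  obtain ⟨m, hm1, hm2⟩ : ∃ m : W' ⟶ pb τ' τ', m ≫ pbFst τ' τ' = a ≫ π ∧ m ≫ pbSnd τ' τ' = u :=
    ⟨pbLift (a ≫ π) u hm0, pbLift_fst _ _ _, pbLift_snd _ _ _⟩
  obtain ⟨t'', ht''⟩ : ∃ t'' : ToType (T.obj.obj (op W')),
      t'' = T.obj.map a.op t - i.hom.app _ (K.obj.map m.op κ') := ⟨_, rfl⟩
  -- the self fibre product of the base-changed cover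
  obtain ⟨W'', e1, e2, he, hlift⟩ : ∃ (W'' : X.ProEt) (e1 e2 : W'' ⟶ W'), e1 ≫ u = e2 ≫ u ∧
      (W'' = pb u u ∧ HEq e1 (pbFst u u) ∧ HEq e2 (pbSnd u u)) :=
    ⟨pb u u, pbFst u u, pbSnd u u, pb_cond u u, rfl, HEq.rfl, HEq.rfl⟩
  have hn0 : (e1 ≫ a) ≫ tW = (e2 ≫ a) ≫ tW := by
    rw [Category.assoc, Category.assoc, hau, ← Category.assoc, ← Category.assoc, he]
  obtain ⟨n, hn1, hn2⟩ : ∃ n : W'' ⟶ pb tW tW, n ≫ pbFst tW tW = e1 ≫ a ∧
      n ≫ pbSnd tW tW = e2 ≫ a := ⟨pbLift _ _ hn0, pbLift_fst _ _ _, pbLift_snd _ _ _⟩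
  have hN0 : (n ≫ pbMap π π hπ hπ) ≫ (pbFst τ' τ' ≫ τ') = (e1 ≫ u) ≫ τ' := by
    rw [Category.assoc, pbMap_fst_assoc, hπ, ← Category.assoc, hn1, Category.assoc, hau,
      Category.assoc]
  obtain ⟨N, hN1, hN2⟩ : ∃ N : W'' ⟶ pb (pbFst τ' τ' ≫ τ') τ',
      N ≫ pbFst (pbFst τ' τ' ≫ τ') τ' = n ≫ pbMap π π hπ hπ ∧
        N ≫ pbSnd (pbFst τ' τ' ≫ τ') τ' = e1 ≫ u :=
    ⟨pbLift _ _ hN0, pbLift_fst _ _ _, pbLift_snd _ _ _⟩
  have hI2 : N ≫ p13 τ' τ' τ' = e1 ≫ m := by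
    apply pb_hom_ext
    · rw [Category.assoc, p13_fst, ← Category.assoc, hN1, Category.assoc, pbMap_fst,
        ← Category.assoc, hn1, Category.assoc, Category.assoc, hm1]
    · rw [Category.assoc, p13_snd, hN2, Category.assoc, hm2]
  have hI3 : N ≫ p23 τ' τ' τ' = e2 ≫ m := by
    apply pb_hom_ext
    · rw [Category.assoc, p23_fst, ← Category.assoc, hN1, Category.assoc, pbMap_snd,
        ← Category.assoc, hn2, Category.assoc, Category.assoc, hm1]
    · rw [Category.assoc, p23_snd, hN2, Category.assoc, hm2, he]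
  -- the corrected lift descends
  have E1 : T.obj.map e1.op t'' = T.obj.map (e1 ≫ a).op t -
      i.hom.app _ (K.obj.map N.op (K.obj.map (p13 τ' τ' τ').op κ')) := by
    rw [ht'', map_sub, map_map, ← nat, map_map, map_map, hI2]
  have E2 : T.obj.map e2.op t'' = T.obj.map (e2 ≫ a).op t -
      i.hom.app _ (K.obj.map N.op (K.obj.map (p23 τ' τ' τ').op κ')) := by
    rw [ht'', map_sub, map_map, ← nat, map_map, map_map, hI3]
  have E3 : T.obj.map (e1 ≫ a).op t - T.obj.map (e2 ≫ a).op t =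
      i.hom.app _ (K.obj.map N.op (K.obj.map (pbFst (pbFst τ' τ' ≫ τ') τ').op κ')) := by
    have h1 : K.obj.map N.op (K.obj.map (pbFst (pbFst τ' τ' ≫ τ') τ').op κ') =
        K.obj.map n.op (K.obj.map (pbMap π π hπ hπ).op κ') := by
      rw [map_map, map_map, hN1]
    rw [h1, nat, hκ, map_sub, map_map, map_map, hn1, hn2]
  have hyy : T.obj.map e1.op t'' = T.obj.map e2.op t'' := by
    rw [E1, E2, ← hcoc, map_add, map_add, eq_add_of_sub_eq' E3]
    abel
  obtain ⟨t', ht'⟩ : ∃ t' : ToType (T.obj.obj (op U')), T.obj.map u.op t' = t'' := by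
    obtain ⟨rfl, h1, h2⟩ := hlift
    obtain rfl := eq_of_heq h1
    obtain rfl := eq_of_heq h2
    exact exists_descent T u hus t'' hyy
  refine ⟨t', ?_⟩
  apply eq_of_map_eq Q u hus
  rw [← nat, ht', ht'', map_sub, hcomp, sub_zero, nat, ht, map_map, map_map, hau]

end Descent

section Main

variable [∀ F : X.Etaleᵒᵖ ⥤ A, (ProEtS.eps X).op.HasPointwiseLeftKanExtension F]
  [PreservesFilteredColimitsOfSize.{u, u + 1} (forget A)]
  [ProEtS.EpsCont X] [HasSheafify (Scheme.ProEt.topology X) A]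
  [(Scheme.ProEt.topology X).WEqualsLocallyBijective A]
  [X.smallEtaleTopology.HasSheafCompose (forget A)]

variable {J : Type u} [SmallCategory J] [IsCofiltered J] {Y : X.ProEt}

/-- a cocycle on the self fibre product of the limit comes from a cocycle at a finite stage -/
theorem exists_finite_cocycle (S : SysOver J Y) (hlim : S.IsLim) [IsAffine Y.left]
    (hZ : ∀ j, IsAffine (S.Z.obj j).left)
    (F₀ : Sheaf X.smallEtaleTopology A)
    (κ : ToType ((G' F₀).obj.obj (op (pb S.tW S.tW))))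
    (hcoc : (G' F₀).obj.map (pbFst (pbFst S.tW S.tW ≫ S.tW) S.tW).op κ +
      (G' F₀).obj.map (p23 S.tW S.tW S.tW).op κ = (G' F₀).obj.map (p13 S.tW S.tW S.tW).op κ) :
    ∃ (l : J) (κ' : ToType ((G' F₀).obj.obj (op (pb (S.τ l) (S.τ l))))),
      (G' F₀).obj.map (pbMap (S.π l) (S.π l) (S.π_τ l) (S.π_τ l)).op κ' = κ ∧
      (G' F₀).obj.map (pbFst (pbFst (S.τ l) (S.τ l) ≫ S.τ l) (S.τ l)).op κ' +
        (G' F₀).obj.map (p23 (S.τ l) (S.τ l) (S.τ l)).op κ' =
          (G' F₀).obj.map (p13 (S.τ l) (S.τ l) (S.τ l)).op κ' := by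
  haveI : ∀ j, IsAffine (S.Z.obj j).left := hZ
  -- the systems of double and triple fibre products
  have hlim2 : (S.prod S).IsLim := SysOver.prod_isLim hlim hlim
  have hlim3 : ((S.prod S).prod S).IsLim := SysOver.prod_isLim hlim2 hlim
  obtain ⟨hc2⟩ := hlim2
  obtain ⟨hc3⟩ := hlim3
  have hZ2 : ∀ j, IsAffine ((S.prod S).Z.obj j).left := fun j => isAffine_pb (S.τ j) (S.τ j)
  haveI : ∀ j, IsAffine ((S.prod S).Z.obj j).left := hZ2
  have hZ3 : ∀ j, IsAffine (((S.prod S).prod S).Z.obj j).left := fun j =>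
    isAffine_pb ((S.prod S).τ j) (S.τ j)
  haveI : ∀ j, IsAffine (((S.prod S).prod S).Z.obj j).left := hZ3
  have haff2 : ∀ {i j : J} (f : i ⟶ j), IsAffineHom ((S.prod S).Z.map f).left :=
    fun f => isAffineHom_of_isAffine _
  have haff3 : ∀ {i j : J} (f : i ⟶ j), IsAffineHom (((S.prod S).prod S).Z.map f).left :=
    fun f => isAffineHom_of_isAffine _
  -- the cocycle comes from a finite stage
  obtain ⟨l, κl0, hκl0⟩ := EpsChart.exists_at_stage (F := F₀) (Z := (S.prod S).Z)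
    (c := (S.prod S).c) hc2 haff2 hZ2 κ
  obtain ⟨κl, hκl⟩ : ∃ κl : ToType ((G' F₀).obj.obj (op (pb (S.τ l) (S.τ l)))),
      (G' F₀).obj.map (pbMap (S.π l) (S.π l) (S.π_τ l) (S.π_τ l)).op κl = κ := ⟨κl0, hκl0⟩
  clear hκl0
  -- naturality of the three projections
  have h3 : ∀ {Y' A' B' : X.ProEt} {f₁ : A' ⟶ Y'} {g₁ : B' ⟶ Y'} (a : A' ⟶ B')
      (ha : a ≫ g₁ = f₁) (y : ToType ((G' F₀).obj.obj (op (pb g₁ g₁)))),
      (G' F₀).obj.map (pbMap3 a a a ha ha ha).op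
          ((G' F₀).obj.map (pbFst (pbFst g₁ g₁ ≫ g₁) g₁).op y) =
        (G' F₀).obj.map (pbFst (pbFst f₁ f₁ ≫ f₁) f₁).op
          ((G' F₀).obj.map (pbMap a a ha ha).op y) ∧
      (G' F₀).obj.map (pbMap3 a a a ha ha ha).op ((G' F₀).obj.map (p23 g₁ g₁ g₁).op y) =
        (G' F₀).obj.map (p23 f₁ f₁ f₁).op ((G' F₀).obj.map (pbMap a a ha ha).op y) ∧
      (G' F₀).obj.map (pbMap3 a a a ha ha ha).op ((G' F₀).obj.map (p13 g₁ g₁ g₁).op y) =
        (G' F₀).obj.map (p13 f₁ f₁ f₁).op ((G' F₀).obj.map (pbMap a a ha ha).op y) := by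
    intro Y' A' B' f₁ g₁ a ha y
    refine ⟨?_, ?_, ?_⟩
    · rw [ProEtPB.map_map, ProEtPB.map_map, pbMap3_p12]
    · rw [ProEtPB.map_map, ProEtPB.map_map, pbMap3_p23]
    · rw [ProEtPB.map_map, ProEtPB.map_map, pbMap3_p13]
  have hx : (G' F₀).obj.map (pbMap3 (S.π l) (S.π l) (S.π l) (S.π_τ l) (S.π_τ l) (S.π_τ l)).op
      ((G' F₀).obj.map (pbFst (pbFst (S.τ l) (S.τ l) ≫ S.τ l) (S.τ l)).op κl +
        (G' F₀).obj.map (p23 (S.τ l) (S.τ l) (S.τ l)).op κl) =
      (G' F₀).obj.map (pbMap3 (S.π l) (S.π l) (S.π l) (S.π_τ l) (S.π_τ l) (S.π_τ l)).op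
        ((G' F₀).obj.map (p13 (S.τ l) (S.τ l) (S.τ l)).op κl) := by
    obtain ⟨e1, e2, e3⟩ := h3 (S.π l) (S.π_τ l) κl
    rw [map_add, e1, e2, e3, hκl]
    exact hcoc
  obtain ⟨l', f, hf⟩ := EpsLimInj.eq_at_stage F₀ ((S.prod S).prod S).Z ((S.prod S).prod S).c hc3
    haff3 l ((G' F₀).obj.map (pbFst (pbFst (S.τ l) (S.τ l) ≫ S.τ l) (S.τ l)).op κl +
        (G' F₀).obj.map (p23 (S.τ l) (S.τ l) (S.τ l)).op κl)
    ((G' F₀).obj.map (p13 (S.τ l) (S.τ l) (S.τ l)).op κl) hx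
  have hf' : (G' F₀).obj.map (pbMap3 (S.Z.map f) (S.Z.map f) (S.Z.map f) (S.hτ f) (S.hτ f)
      (S.hτ f)).op
      ((G' F₀).obj.map (pbFst (pbFst (S.τ l) (S.τ l) ≫ S.τ l) (S.τ l)).op κl +
        (G' F₀).obj.map (p23 (S.τ l) (S.τ l) (S.τ l)).op κl) =
      (G' F₀).obj.map (pbMap3 (S.Z.map f) (S.Z.map f) (S.Z.map f) (S.hτ f) (S.hτ f)
        (S.hτ f)).op ((G' F₀).obj.map (p13 (S.τ l) (S.τ l) (S.τ l)).op κl) := hf
  -- the cocycle at the stage `l'`
  refine ⟨l', (G' F₀).obj.map (pbMap (S.Z.map f) (S.Z.map f) (S.hτ f) (S.hτ f)).op κl, ?_, ?_⟩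
  · rw [ProEtPB.map_map]
    refine Eq.trans ?_ hκl
    refine congrArg (fun m : pb S.tW S.tW ⟶ pb (S.τ l) (S.τ l) => (G' F₀).obj.map m.op κl) ?_
    apply pb_hom_ext
    · rw [Category.assoc, pbMap_fst, pbMap_fst_assoc, pbMap_fst, S.π_map]
    · rw [Category.assoc, pbMap_snd, pbMap_snd_assoc, pbMap_snd, S.π_map]
  · obtain ⟨e1, e2, e3⟩ := h3 (S.Z.map f) (S.hτ f) κl
    rw [← e1, ← e2, ← e3, ← map_add]
    exact hf'

/-- **Lifting along an extension by `ε⁻¹F₀`.** Given a limit system of affine objects over an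
affine `Y`, a section `b` of `Q` over `Y` which lifts to `T` over the limit also lifts over some
stage. -/
theorem exists_lift_at_stage (S : SysOver J Y) (hlim : S.IsLim) [IsAffine Y.left]
    (hZ : ∀ j, IsAffine (S.Z.obj j).left) [IsAffine S.c.pt.left]
    (htWs : Function.Surjective S.tW.left.base)
    (F₀ : Sheaf X.smallEtaleTopology A) {T Q : Sheaf (Scheme.ProEt.topology X) A}
    (i : G' F₀ ⟶ T) (p : T ⟶ Q)
    (hinj : ∀ V : X.ProEt, Function.Injective (i.hom.app (op V)))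
    (hex : ∀ (V : X.ProEt) (x : ToType (T.obj.obj (op V))), p.hom.app (op V) x = 0 →
      ∃ k, i.hom.app (op V) k = x)
    (hcomp : ∀ (V : X.ProEt) (k : ToType ((G' F₀).obj.obj (op V))),
      p.hom.app (op V) (i.hom.app (op V) k) = 0)
    (b : ToType (Q.obj.obj (op Y))) (t : ToType (T.obj.obj (op S.c.pt)))
    (ht : p.hom.app _ t = Q.obj.map S.tW.op b) :
    ∃ (j : J) (t' : ToType (T.obj.obj (op (S.Z.obj j)))),
      p.hom.app _ t' = Q.obj.map (S.τ j).op b := by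
  -- the difference cocycle
  have hδ : p.hom.app _ (T.obj.map (pbFst S.tW S.tW).op t - T.obj.map (pbSnd S.tW S.tW).op t) =
      0 := by
    rw [map_sub, nat, nat, ht, ProEtPB.map_map, ProEtPB.map_map, pb_cond, sub_self]
  obtain ⟨κ, hκ⟩ := hex _ _ hδ
  have hcoc := cocycle i S.tW hinj t κ hκ
  obtain ⟨l, κ', hκ'1, hκ'2⟩ := exists_finite_cocycle S hlim hZ F₀ κ hcoc
  haveI : QuasiCompact S.tW.left := inferInstance
  obtain ⟨t', ht'⟩ := exists_lift_of_cocycle i p S.tW (S.τ l) (S.π l) (S.π_τ l) htWs hcomp b t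
    ht κ' (by rw [hκ'1]; exact hκ) hκ'2
  exact ⟨l, t', ht'⟩

end Main

end Groth.Agent.H27.EpsExtLift
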