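import Groth.Agent.H27.EpsExtLift

/-!
# Sections of a quotient of an extension by `ε⁻¹F₀` lift étale locally (helper27)
-/

set_option autoImplicit false
set_option linter.style.haveILetI false
set_option linter.unusedSectionVars false
set_option backward.isDefEq.respectTransparency.types false
open CategoryTheory CategoryTheory.Limits AlgebraicGeometry Opposite
universe u w

namespace Groth.Agent.H27.EpsExtLocal

open EpsLan EpsG ProEtBC ProEtPB ProEtPS EpsExtLift

variable {X : Scheme.{u}}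
variable {A : Type (u + 2)} [Category.{u + 1} A] {FA : A → A → Type w} {CA : A → Type (u + 1)}
  [∀ M N, FunLike (FA M N) (CA M) (CA N)] [ConcreteCategory.{u + 1} A FA]
  [(Scheme.ProEt.topology X).HasSheafCompose (forget A)]
  [∀ M : A, AddCommGroup (CA M)] [∀ M N : A, AddMonoidHomClass (FA M N) (CA M) (CA N)]
  [∀ F : X.Etaleᵒᵖ ⥤ A, (ProEtS.eps X).op.HasPointwiseLeftKanExtension F]
  [PreservesFilteredColimitsOfSize.{u, u + 1} (forget A)]
  [ProEtS.EpsCont X] [HasSheafify (Scheme.ProEt.topology X) A]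
  [(Scheme.ProEt.topology X).WEqualsLocallyBijective A]
  [X.smallEtaleTopology.HasSheafCompose (forget A)]

/-- the system over an affine object given by a presentation of a weakly contractible cover -/
noncomputable def sysOfPres (Y : X.ProEt) (p₀ : EpsPres.Pres (PresP.topEt Y.left)) :
    SysOver p₀.I Y where
  Z := PresP.Zd Y p₀
  τ := PresP.stageToY Y p₀
  hτ f := PresP.map_stageToY Y p₀ f
  c := PresP.Zc Y p₀
  tW := PresP.toY Y p₀
  htW j := PresP.π_stageToY Y p₀ j

/-- **Étale local lifting along an extension by `ε⁻¹F₀`.** -/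
theorem exists_local_lift (F₀ : Sheaf X.smallEtaleTopology A)
    {T Q : Sheaf (Scheme.ProEt.topology X) A} (i : G' F₀ ⟶ T) (p : T ⟶ Q)
    (hinj : ∀ V : X.ProEt, Function.Injective (i.hom.app (op V)))
    (hex : ∀ (V : X.ProEt) (x : ToType (T.obj.obj (op V))), p.hom.app (op V) x = 0 →
      ∃ k, i.hom.app (op V) k = x)
    (hcomp : ∀ (V : X.ProEt) (k : ToType ((G' F₀).obj.obj (op V))),
      p.hom.app (op V) (i.hom.app (op V) k) = 0)
    (hsurj : ∀ (V : X.ProEt) [IsAffine V.left], EtPBC.IsWContractible ↥Γ(V.left, ⊤) →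
      Function.Surjective (p.hom.app (op V)))
    (U : X.Etale) (b : ToType (Q.obj.obj (op ((ProEtS.eps X).obj U)))) (x : U.left) :
    ∃ (V : X.Etale) (f : V ⟶ U) (v : V.left) (t : ToType (T.obj.obj (op ((ProEtS.eps X).obj V)))),
      f.left.base v = x ∧ p.hom.app _ t = Q.obj.map ((ProEtS.eps X).map f).op b := by
  obtain ⟨Ua, hUa, hxUa, -⟩ := exists_isAffineOpen_mem_and_subset (x := x) (U := ⊤) trivial
  let EU : X.Etale := Scheme.Etale.mk (Ua.ι ≫ U.hom)
  let jU : EU ⟶ U := MorphismProperty.Over.homMk Ua.ι rfl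
  haveI : IsAffine EU.left := hUa
  obtain ⟨Y, hY⟩ : ∃ Y : X.ProEt, Y = (ProEtS.eps X).obj EU := ⟨_, rfl⟩
  haveI : IsAffine Y.left := by subst hY; exact inferInstanceAs (IsAffine EU.left)
  obtain ⟨jY, hjY⟩ : ∃ jY : Y ⟶ (ProEtS.eps X).obj U, HEq jY ((ProEtS.eps X).map jU) := by
    subst hY; exact ⟨_, HEq.rfl⟩
  obtain ⟨b', hb'⟩ : ∃ b' : ToType (Q.obj.obj (op Y)), b' = Q.obj.map jY.op b := ⟨_, rfl⟩
  obtain ⟨p₀⟩ := PresP.nonempty_pres Y
  -- a lift over the weakly contractible cover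
  obtain ⟨t, ht⟩ := hsurj (PresP.Zpt Y p₀) (PresP.wc Y p₀) (Q.obj.map (PresP.toY Y p₀).op b')
  haveI : IsAffine (sysOfPres Y p₀).c.pt.left := inferInstanceAs (IsAffine (PresP.Zpt Y p₀).left)
  obtain ⟨l, t', ht'⟩ := exists_lift_at_stage (sysOfPres Y p₀) ⟨PresP.hZc Y p₀⟩
    (fun j => inferInstanceAs (IsAffine ((PresP.Zd Y p₀).obj j).left))
    (PresP.toY_surjective Y p₀) F₀ i p hinj hex hcomp b' t ht
  -- the stage as an object of the small étale site
  obtain ⟨xa, hxa⟩ := PresP.stageToY_surjective Y p₀ l (by subst hY; exact ⟨x, hxUa⟩)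
  subst hY
  obtain rfl := eq_of_heq hjY
  have key : ∀ (tl : p₀.D.obj l ⟶ EU.left) [Etale tl],
      tl = PresP.tS ((ProEtS.eps X).obj EU) p₀ l →
      ∃ (V : X.Etale) (f : V ⟶ U) (v : V.left)
        (t : ToType (T.obj.obj (op ((ProEtS.eps X).obj V)))),
        f.left.base v = x ∧ p.hom.app _ t = Q.obj.map ((ProEtS.eps X).map f).op b := by
    intro tl _ htl
    let V : X.Etale := Scheme.Etale.mk (tl ≫ EU.hom)
    let fV : V ⟶ EU := MorphismProperty.Over.homMk tl rfl
    subst htl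
    refine ⟨V, fV ≫ jU, xa, t', ?_, ?_⟩
    · have h1 : (fV ≫ jU).left.base xa =
          Ua.ι.base ((PresP.tS ((ProEtS.eps X).obj EU) p₀ l).base xa) := rfl
      rw [h1]
      have h2 : (PresP.tS ((ProEtS.eps X).obj EU) p₀ l).base xa = ⟨x, hxUa⟩ := hxa
      rw [h2]
      rfl
    · refine ht'.trans ?_
      rw [hb', ProEtPB.map_map]
      rfl
  exact @key (PresP.tS ((ProEtS.eps X).obj EU) p₀ l)
    (inferInstanceAs (Etale (PresP.tS ((ProEtS.eps X).obj EU) p₀ l))) rfl

end Groth.Agent.H27.EpsExtLocal
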