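import Groth.Agent.H27.EpsModAdic
import Groth.Agent.H1.LanFlat
import Groth.Agent.H4.ProEtCont

/-!
# Exactness of `ε⁻¹` on sheaves of modules
-/

set_option autoImplicit false
set_option linter.style.haveILetI false
open CategoryTheory CategoryTheory.Limits AlgebraicGeometry Opposite
universe u

namespace Groth.Agent.H27.EpsModExact

variable (Λ : Type (u + 1)) [CommRing Λ] (X : Scheme.{u}) [ProEtS.EpsCont X]

instance epsPullMod_preservesFiniteLimits : PreservesFiniteLimits (EtModW.epsPullMod Λ X) := by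
  have hfilt : ∀ K : (X.ProEt)ᵒᵖ, IsFiltered (CostructuredArrow (ProEtS.eps X).op K) := fun K =>
    IsFiltered.of_equivalence (structuredArrowOpEquivalence (ProEtS.eps X) (unop K))
  have hAB5 : AB5OfSize.{u, u + 1} (ModuleCat.{u + 1} Λ) :=
    AB5OfSize_of_univLE.{u, u + 1, u + 1, u + 1} (ModuleCat.{u + 1} Λ)
  have hex : ∀ K : (X.ProEt)ᵒᵖ,
      HasExactColimitsOfShape (CostructuredArrow (ProEtS.eps X).op K) (ModuleCat.{u + 1} Λ) :=
    fun K => inferInstance
  have : PreservesFiniteLimits ((ProEtS.eps X).op.lan :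
      ((X.Etale)ᵒᵖ ⥤ ModuleCat.{u + 1} Λ) ⥤ (X.ProEt)ᵒᵖ ⥤ ModuleCat.{u + 1} Λ) :=
    Groth.Agent.H1.lan_preservesFiniteLimits_of_flat_gen (ModuleCat.{u + 1} Λ) (ProEtS.eps X)
  exact Functor.sheafPullbackConstruction.preservesFiniteLimits (ProEtS.eps X)
    (ModuleCat.{u + 1} Λ) X.smallEtaleTopology (Scheme.ProEt.topology X)

instance epsPullMod_preservesFiniteColimits :
    PreservesFiniteColimits (EtModW.epsPullMod Λ X) := by
  have : PreservesColimitsOfSize.{0, 0} (EtModW.epsPullMod Λ X) :=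
    (EpsModAdic.epsAdjMod Λ X).leftAdjoint_preservesColimits
  exact PreservesColimitsOfSize.preservesFiniteColimits _

instance epsPushMod_additive : (EpsModAdic.epsPushMod Λ X).Additive where

instance epsPullMod_additive : (EtModW.epsPullMod Λ X).Additive :=
  (EpsModAdic.epsAdjMod Λ X).left_adjoint_additive

end Groth.Agent.H27.EpsModExact
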