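import Groth.Agent.H27.EpsAdicLim

/-!
# `ε⁻¹` on sheaves of modules preserves quotient maps modulo `I` and `I`-adic systems
-/

set_option autoImplicit false
set_option linter.style.haveILetI false
open CategoryTheory CategoryTheory.Limits AlgebraicGeometry Opposite
universe u

namespace Groth.Agent.H27.EpsModAdic

variable (Λ : Type (u + 1)) [CommRing Λ] (X : Scheme.{u}) [ProEtS.EpsCont X]

/-- `ε_*` on sheaves of modules -/
noncomputable abbrev epsPushMod : EtModW.ModP Λ X ⥤ EtModW.Mod Λ X :=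
  (ProEtS.eps X).sheafPushforwardContinuous (ModuleCat.{u + 1} Λ) X.smallEtaleTopology
    (Scheme.ProEt.topology X)

/-- the adjunction `ε⁻¹ ⊣ ε_*` on sheaves of modules -/
noncomputable abbrev epsAdjMod : EtModW.epsPullMod Λ X ⊣ epsPushMod Λ X :=
  (ProEtS.eps X).sheafAdjunctionContinuous (ModuleCat.{u + 1} Λ) X.smallEtaleTopology
    (Scheme.ProEt.topology X)

theorem epsPushMod_map_smul {Y Y' : EtModW.ModP Λ X} (a : Λ) (g : Y ⟶ Y') :
    (epsPushMod Λ X).map (a • g) = a • (epsPushMod Λ X).map g := rfl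

variable {Λ X}

theorem isQuot_map {I : Ideal Λ} {F Q : EtModW.Mod Λ X} {p : F ⟶ Q} (hp : ARSys.IsQuot I p) :
    ARSys.IsQuot I ((EtModW.epsPullMod Λ X).map p) :=
  EpsAdicLim.isQuot_map (epsAdjMod Λ X) (fun a g => epsPushMod_map_smul Λ X a g) hp

theorem isAdic_comp {I : Ideal Λ} {G : ARSys.PS (EtModW.Mod Λ X)} (hG : ARSys.IsAdic I G) :
    ARSys.IsAdic I (G ⋙ EtModW.epsPullMod Λ X) :=
  ⟨fun n => (isQuot_map (hG.2 n n le_rfl)).1, fun n m h => isQuot_map (hG.2 n m h)⟩

end Groth.Agent.H27.EpsModAdic
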