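import Groth.Agent.H27.EpsUnitSurj
import Groth.Agent.H27.EpsModAdic

/-!
# `ε⁻¹` on sheaves of modules is fully faithful
-/

set_option autoImplicit false
set_option linter.style.haveILetI false
open CategoryTheory CategoryTheory.Limits AlgebraicGeometry Opposite
universe u

namespace Groth.Agent.H27.EpsModFF

variable (Λ : Type (u + 1)) [CommRing Λ] (X : Scheme.{u}) [ProEtS.EpsCont X]

instance : PreservesFilteredColimitsOfSize.{u, u + 1} (forget (ModuleCat.{u + 1} Λ)) :=
  preservesFilteredColimitsOfSize_shrink.{u + 1, u + 1, u, u + 1} _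

instance isIso_unit : IsIso (EpsModAdic.epsAdjMod Λ X).unit := by
  haveI : ∀ F, IsIso ((EpsModAdic.epsAdjMod Λ X).unit.app F) := fun F =>
    EpsUnitSurj.isIso_unit (A := ModuleCat.{u + 1} Λ) F
  exact NatIso.isIso_of_isIso_app _

/-- `ε⁻¹` is fully faithful -/
noncomputable def fullyFaithful : (EtModW.epsPullMod Λ X).FullyFaithful :=
  (EpsModAdic.epsAdjMod Λ X).fullyFaithfulLOfIsIsoUnit

instance : (EtModW.epsPullMod Λ X).Full := (fullyFaithful Λ X).full

instance : (EtModW.epsPullMod Λ X).Faithful := (fullyFaithful Λ X).faithful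

end Groth.Agent.H27.EpsModFF
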