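import Groth.Agent.H27.EpsExtLocal
import Groth.Agent.H27.WSerreTransfer
import Groth.Agent.H27.EpsModFF
import Groth.Agent.H27.EpsModExact
import Groth.Agent.H27.ProEtModWC
import Groth.Agent.H27.ProEtIsWC

/-!
# `R¹ε_* ε⁻¹F = 0` for sheaves of modules, in extension form; the essential image of `ε⁻¹` is a
weak Serre subcategory (helper27)
-/

set_option autoImplicit false
set_option linter.style.haveILetI false
set_option linter.unusedSectionVars false
open CategoryTheory CategoryTheory.Limits AlgebraicGeometry Opposite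
universe u

namespace Groth.Agent.H27.EpsExtMod

open EpsLan EpsG

variable (Λ : Type (u + 1)) [CommRing Λ] (X : Scheme.{u}) [ProEtS.EpsCont X]

/-- `ε_*` sends the epimorphism of an extension by `ε⁻¹A₀` to an epimorphism -/
theorem epi_push_of_shortExact (T : ShortComplex (EtModW.ModP Λ X)) (hT : T.ShortExact)
    (A₀ : EtModW.Mod Λ X) (e : (EtModW.epsPullMod Λ X).obj A₀ ≅ T.X₁) :
    Epi ((EpsModAdic.epsPushMod Λ X).map T.g) := by
  haveI : Epi T.g := hT.epi_g
  haveI : Mono T.f := hT.mono_f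
  let j : G' (A := ModuleCat.{u + 1} Λ) A₀ ≅ T.X₁ := (cmp (A := ModuleCat.{u + 1} Λ) A₀).symm ≪≫ e
  have hinj : ∀ V : X.ProEt, Function.Injective ((j.hom ≫ T.f).hom.app (op V)) := by
    intro V
    haveI : Mono ((ProEtModWC.Γ Λ V).map (j.hom ≫ T.f)) := inferInstance
    exact (ModuleCat.mono_iff_injective _).mp this
  have hex : ∀ (V : X.ProEt) (x : ToType (T.X₂.obj.obj (op V))), T.g.hom.app (op V) x = 0 →
      ∃ k, (j.hom ≫ T.f).hom.app (op V) k = x := by
    intro V x hx
    have hS' : (T.map (ProEtModWC.Γ Λ V)).Exact :=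
      hT.exact.map_of_mono_of_preservesKernel (ProEtModWC.Γ Λ V) inferInstance inferInstance
    rw [ShortComplex.moduleCat_exact_iff] at hS'
    obtain ⟨k₁, hk₁⟩ := hS' x hx
    refine ⟨j.inv.hom.app (op V) k₁, ?_⟩
    have h1 := ConcreteCategory.congr_hom
      (congrArg (fun m : T.X₁ ⟶ T.X₁ => m.hom.app (op V)) j.inv_hom_id) k₁
    have h2 : (j.hom ≫ T.f).hom.app (op V) (j.inv.hom.app (op V) k₁) =
        T.f.hom.app (op V) ((j.inv ≫ j.hom).hom.app (op V) k₁) := rfl
    rw [h2]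
    refine (congrArg (T.f.hom.app (op V)) h1).trans ?_
    exact hk₁
  have hcomp : ∀ (V : X.ProEt) (k : ToType ((G' (A := ModuleCat.{u + 1} Λ) A₀).obj.obj (op V))),
      T.g.hom.app (op V) ((j.hom ≫ T.f).hom.app (op V) k) = 0 := by
    intro V k
    have h0 : (j.hom ≫ T.f) ≫ T.g = 0 := by rw [Category.assoc, T.zero, comp_zero]
    have h1 := ConcreteCategory.congr_hom
      (congrArg (fun m : G' (A := ModuleCat.{u + 1} Λ) A₀ ⟶ T.X₃ => m.hom.app (op V)) h0) k
    exact h1
  have hsurj : ∀ (V : X.ProEt) [IsAffine V.left], EtPBC.IsWContractible ↥Γ(V.left, ⊤) →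
      Function.Surjective (T.g.hom.app (op V)) := by
    intro V _ hwc
    exact ProEtModWC.surjective_of_isWC Λ (ProEtIsWC.isWC_of_isWContractible V hwc) T.g
  refine (Sheaf.isLocallySurjective_iff_epi' _ _).mp ⟨fun {U} b => ?_⟩
  rw [Groth.Agent.H4.GlueSec.mem_smallEtaleTopology_iff]
  intro x
  obtain ⟨V, f, v, t, hv, ht⟩ := EpsExtLocal.exists_local_lift (A := ModuleCat.{u + 1} Λ) A₀
    (j.hom ≫ T.f) T.g hinj hex hcomp hsurj U b x
  exact ⟨V, f, v, ⟨t, ht⟩, hv⟩

end Groth.Agent.H27.EpsExtMod
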