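import Groth.Agent.H27.EpsUnitSurj

/-!
# Sections of the sheafified Kan extension represented by triples (helper27)

`G' F` is the sheafification of `Lan_ε F`; `gelt F E a s` is the section over `W` represented by
`a : W ⟶ ε E` and `s ∈ F(E)`.
-/

set_option autoImplicit false
set_option linter.style.haveILetI false
set_option linter.unusedSectionVars false
open CategoryTheory CategoryTheory.Limits AlgebraicGeometry Opposite
universe u w

namespace Groth.Agent.H27.EpsG

open EpsLan EpsUnitSurj

variable {X : Scheme.{u}}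

variable {A : Type (u + 2)} [Category.{u + 1} A] {FA : A → A → Type w} {CA : A → Type (u + 1)}
  [∀ M N, FunLike (FA M N) (CA M) (CA N)] [ConcreteCategory.{u + 1} A FA]
  [∀ F : X.Etaleᵒᵖ ⥤ A, (ProEtS.eps X).op.HasPointwiseLeftKanExtension F]
  [PreservesFilteredColimitsOfSize.{u, u + 1} (forget A)]
  [ProEtS.EpsCont X] [HasSheafify (Scheme.ProEt.topology X) A]
  [(Scheme.ProEt.topology X).WEqualsLocallyBijective A]
  [(Scheme.ProEt.topology X).HasSheafCompose (forget A)]
  [X.smallEtaleTopology.HasSheafCompose (forget A)]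

variable (F : Sheaf X.smallEtaleTopology A)

/-- the sheafified Kan extension -/
noncomputable abbrev G' : Sheaf (Scheme.ProEt.topology X) A :=
  (presheafToSheaf (Scheme.ProEt.topology X) A).obj (P F.obj)

/-- the section represented by a triple -/
noncomputable def gelt {W : X.ProEt} (E : X.Etale) (a : W ⟶ (ProEtS.eps X).obj E)
    (s : ToType (F.obj.obj (op E))) : ToType ((G' F).obj.obj (op W)) :=
  (toSheafify (Scheme.ProEt.topology X) (P F.obj)).app (op W) (elt F.obj E a s)

theorem map_gelt {W W' : X.ProEt} (k : W' ⟶ W) (E : X.Etale) (a : W ⟶ (ProEtS.eps X).obj E)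
    (s : ToType (F.obj.obj (op E))) :
    (G' F).obj.map k.op (gelt F E a s) = gelt F E (k ≫ a) s := by
  unfold gelt
  rw [← ts_map, map_elt]

theorem gelt_comp {W : X.ProEt} {E E' : X.Etale} (h : E' ⟶ E)
    (b : W ⟶ (ProEtS.eps X).obj E') (s : ToType (F.obj.obj (op E))) :
    gelt F E (b ≫ (ProEtS.eps X).map h) s = gelt F E' b (F.obj.map h.op s) := by
  unfold gelt
  rw [elt_comp]

theorem exists_gelt_of_wc (W : X.ProEt) [IsAffine W.left]
    (hwc : EtPBC.IsWContractible ↥Γ(W.left, ⊤)) (x : ToType ((G' F).obj.obj (op W))) :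
    ∃ (E : X.Etale) (a : W ⟶ (ProEtS.eps X).obj E) (s : ToType (F.obj.obj (op E))),
      gelt F E a s = x :=
  EpsWCRep.exists_rep F W hwc x

set_option backward.isDefEq.respectTransparency.types false in
/-- if two triples with the same map define the same section, the map lands in the good open -/
theorem mem_goodOpen_of_gelt_eq {W : X.ProEt} (E : X.Etale) (a : W ⟶ (ProEtS.eps X).obj E)
    (s s' : ToType (F.obj.obj (op E))) (h : gelt F E a s = gelt F E a s') (z : W.left) :
    a.left.base z ∈ EpsDescent.goodOpen F.obj E s s' := by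
  have hmem := Presheaf.equalizerSieve_mem (Scheme.ProEt.topology X)
    (toSheafify (Scheme.ProEt.topology X) (P F.obj)) (X := op W) _ _ h
  obtain ⟨Pc, hPc, hle⟩ := (ProEtCov.mem_topology_iff _ _).mp hmem
  obtain ⟨V, gV, hgV, -, v, hv⟩ := ProEtCov.exists_of_mem_precoverage hPc z
  have hR : (P F.obj).map gV.op (elt F.obj E a s) = (P F.obj).map gV.op (elt F.obj E a s') :=
    hle _ _ hgV
  rw [map_elt, map_elt] at hR
  obtain ⟨E'', h', b, hb, hs⟩ := EpsUnitInj.exists_of_elt_eq_same F.obj _ s s' hR
  refine (EpsDescent.mem_goodOpen_iff F.obj E s s' _).mpr ⟨E'', h', b.left.base v, hs, ?_⟩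
  have h1 : b.left ≫ h'.left = gV.left ≫ a.left := congrArg (fun m => m.left) hb
  have h2 := congrArg (fun m : V.left ⟶ E.left => m.base v) h1
  exact h2.trans (congrArg a.left.base hv)

set_option backward.isDefEq.respectTransparency.types false in
/-- if the map lands in the good open, the two triples define the same section -/
theorem gelt_eq_of_mem_goodOpen {W : X.ProEt} (E : X.Etale) (a : W ⟶ (ProEtS.eps X).obj E)
    (s s' : ToType (F.obj.obj (op E)))
    (h : ∀ z : W.left, a.left.base z ∈ EpsDescent.goodOpen F.obj E s s') :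
    gelt F E a s = gelt F E a s' := by
  obtain ⟨Ug, hUg⟩ : ∃ Ug : E.left.Opens, Ug = EpsDescent.goodOpen F.obj E s s' := ⟨_, rfl⟩
  let EU : X.Etale := Scheme.Etale.mk (Ug.ι ≫ E.hom)
  let ι : EU ⟶ E := MorphismProperty.Over.homMk Ug.ι rfl
  obtain ⟨al, hal⟩ : ∃ al : W.left ⟶ E.left, al = a.left := ⟨_, rfl⟩
  have hrange : Set.range al.base ⊆ Set.range Ug.ι.base := by
    rintro _ ⟨z, rfl⟩
    rw [Scheme.Opens.range_ι, hUg, hal]
    exact h z
  let bl : W.left ⟶ (Ug : Scheme.{u}) := IsOpenImmersion.lift Ug.ι al hrange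
  have hbl : bl ≫ Ug.ι = al := IsOpenImmersion.lift_fac _ _ _
  let b : W ⟶ (ProEtS.eps X).obj EU := MorphismProperty.Over.homMk bl (by
    show bl ≫ Ug.ι ≫ E.hom = W.hom
    rw [← Category.assoc, hbl, hal]
    exact MorphismProperty.Over.w a)
  have hb : b ≫ (ProEtS.eps X).map ι = a := by
    apply MorphismProperty.Over.Hom.ext
    exact hbl.trans hal
  have hs : F.obj.map ι.op s = F.obj.map ι.op s' :=
    EpsDescent.eq_of_forall_mem_goodOpen F ι s s' (fun y => by
      have h1 : (Ug.ι.base y) ∈ Ug := y.2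
      exact (congrArg (fun O : E.left.Opens => (Ug.ι.base y) ∈ O) hUg).mp h1)
  rw [← hb, gelt_comp, gelt_comp, hs]

end Groth.Agent.H27.EpsG
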