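import Groth.Agent.H27.ProEtPullUnit

/-!
# Elements of the left Kan extension along `ε : X_et ⥤ X_proet` (generic coefficients)

`A` is a concrete category (abelian groups, modules, ...) whose forgetful functor preserves the
relevant filtered colimits.  For a presheaf `F` on `X_et` with values in `A`, we describe the
elements of `P F = Lan_ε F` by triples `(E, a : W ⟶ ε E, s ∈ F(E))`, and compare `ε⁻¹ F` with the
sheafification of `P F`.
-/

set_option autoImplicit false
set_option linter.style.haveILetI false
set_option linter.unusedSectionVars false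
open CategoryTheory CategoryTheory.Limits AlgebraicGeometry Opposite
universe u w

namespace Groth.Agent.H27.EpsLan

variable {X : Scheme.{u}}

instance isFiltered_costructuredArrow (W : (X.ProEt)ᵒᵖ) :
    IsFiltered (CostructuredArrow (ProEtS.eps X).op W) :=
  IsFiltered.of_equivalence (structuredArrowOpEquivalence (ProEtS.eps X) (unop W))

variable {A : Type (u + 2)} [Category.{u + 1} A] {FA : A → A → Type w} {CA : A → Type (u + 1)}
  [∀ M N, FunLike (FA M N) (CA M) (CA N)] [ConcreteCategory.{u + 1} A FA]
  [∀ F : X.Etaleᵒᵖ ⥤ A, (ProEtS.eps X).op.HasPointwiseLeftKanExtension F]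
  [PreservesFilteredColimitsOfSize.{u, u + 1} (forget A)]

section Lan

variable (F : X.Etaleᵒᵖ ⥤ A)

/-- the left Kan extension presheaf -/
noncomputable abbrev P : X.ProEtᵒᵖ ⥤ A := (ProEtS.eps X).op.lan.obj F

/-- the unit -/
noncomputable abbrev unit : F ⟶ (ProEtS.eps X).op ⋙ P F :=
  (ProEtS.eps X).op.leftKanExtensionUnit F

/-- the colimit property -/
noncomputable def isColimit (W : X.ProEt) :
    IsColimit ((Functor.LeftExtension.mk _ (unit F)).coconeAt (op W)) :=
  (ProEtS.eps X).op.isPointwiseLeftKanExtensionLeftKanExtensionUnit F (op W)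

/-- the element of the Kan extension represented by a triple -/
noncomputable def elt {W : X.ProEt} (E : X.Etale) (a : W ⟶ (ProEtS.eps X).obj E)
    (s : ToType (F.obj (op E))) : ToType ((P F).obj (op W)) :=
  (P F).map a.op ((unit F).app (op E) s)

theorem exists_elt {W : X.ProEt} (x : ToType ((P F).obj (op W))) :
    ∃ (E : X.Etale) (a : W ⟶ (ProEtS.eps X).obj E) (s : ToType (F.obj (op E))),
      elt F E a s = x := by
  obtain ⟨g, s, hs⟩ := Concrete.isColimit_exists_rep _ (isColimit F W) x
  refine ⟨g.left.unop, g.hom.unop, s, ?_⟩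
  refine Eq.trans ?_ hs
  exact (ConcreteCategory.comp_apply _ _ _).symm

theorem map_elt {W W' : X.ProEt} (k : W' ⟶ W) (E : X.Etale) (a : W ⟶ (ProEtS.eps X).obj E)
    (s : ToType (F.obj (op E))) : (P F).map k.op (elt F E a s) = elt F E (k ≫ a) s := by
  unfold elt
  rw [op_comp, Functor.map_comp, ConcreteCategory.comp_apply]

theorem elt_comp {W : X.ProEt} {E E' : X.Etale} (h : E' ⟶ E)
    (b : W ⟶ (ProEtS.eps X).obj E') (s : ToType (F.obj (op E))) :
    elt F E (b ≫ (ProEtS.eps X).map h) s = elt F E' b (F.map h.op s) := by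
  unfold elt
  have hnat := ConcreteCategory.congr_hom ((unit F).naturality h.op) s
  rw [ConcreteCategory.comp_apply, ConcreteCategory.comp_apply] at hnat
  rw [op_comp, Functor.map_comp, ConcreteCategory.comp_apply]
  exact congrArg ((P F).map b.op) hnat.symm

theorem unit_eq_elt (E : X.Etale) (s : ToType (F.obj (op E))) :
    (unit F).app (op E) s = elt F E (𝟙 _) s := by
  unfold elt
  rw [op_id, CategoryTheory.Functor.map_id, ConcreteCategory.id_apply]

theorem exists_of_elt_eq {W : X.ProEt} {E E' : X.Etale} (a : W ⟶ (ProEtS.eps X).obj E)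
    (a' : W ⟶ (ProEtS.eps X).obj E') (s : ToType (F.obj (op E))) (s' : ToType (F.obj (op E')))
    (h : elt F E a s = elt F E' a' s') :
    ∃ (E'' : X.Etale) (h : E'' ⟶ E) (h' : E'' ⟶ E') (b : W ⟶ (ProEtS.eps X).obj E''),
      b ≫ (ProEtS.eps X).map h = a ∧ b ≫ (ProEtS.eps X).map h' = a' ∧
        F.map h.op s = F.map h'.op s' := by
  let i : CostructuredArrow (ProEtS.eps X).op (op W) := CostructuredArrow.mk (Y := op E) a.op
  let j : CostructuredArrow (ProEtS.eps X).op (op W) := CostructuredArrow.mk (Y := op E') a'.op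
  have h' : ((Functor.LeftExtension.mk _ (unit F)).coconeAt (op W)).ι.app i s =
      ((Functor.LeftExtension.mk _ (unit F)).coconeAt (op W)).ι.app j s' :=
    ((ConcreteCategory.comp_apply _ _ _).trans h).trans (ConcreteCategory.comp_apply _ _ _).symm
  obtain ⟨k, φ, φ', hk⟩ := Concrete.isColimit_exists_of_rep_eq _ (isColimit F W) _ _ h'
  refine ⟨k.left.unop, φ.left.unop, φ'.left.unop, k.hom.unop, ?_, ?_, hk⟩
  · have := CostructuredArrow.w φ
    exact congrArg Quiver.Hom.unop this
  · have := CostructuredArrow.w φ'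
    exact congrArg Quiver.Hom.unop this

end Lan

section Unit

variable [ProEtS.EpsCont X] [HasWeakSheafify (Scheme.ProEt.topology X) A]
  (F : Sheaf X.smallEtaleTopology A)

/-- `ε⁻¹` with coefficients in `A` -/
noncomputable abbrev epsPullA : Sheaf X.smallEtaleTopology A ⥤ Sheaf (Scheme.ProEt.topology X) A :=
  (ProEtS.eps X).sheafPullback A X.smallEtaleTopology (Scheme.ProEt.topology X)

/-- the adjunction `ε⁻¹ ⊣ ε_*` with coefficients in `A` -/
noncomputable abbrev epsAdjA : epsPullA (A := A) ⊣
    (ProEtS.eps X).sheafPushforwardContinuous A X.smallEtaleTopology (Scheme.ProEt.topology X) :=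
  (ProEtS.eps X).sheafAdjunctionContinuous A X.smallEtaleTopology (Scheme.ProEt.topology X)

/-- the comparison of `ε⁻¹ F` with the sheafified Kan extension -/
noncomputable def cmp : epsPullA.obj F ≅
    (presheafToSheaf (Scheme.ProEt.topology X) A).obj (P F.obj) :=
  (Functor.sheafPullbackConstruction.sheafPullbackIso (ProEtS.eps X) A
    X.smallEtaleTopology (Scheme.ProEt.topology X)).app F

theorem cmp_unit (E : X.Etale) (t : ToType (F.obj.obj (op E))) :
    (cmp F).hom.hom.app (op ((ProEtS.eps X).obj E))
      ((epsAdjA.unit.app F).hom.app (op E) t) =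
    (toSheafify (Scheme.ProEt.topology X) (P F.obj)).app (op ((ProEtS.eps X).obj E))
      ((unit F.obj).app (op E) t) := by
  have h := ProEtPullUnit.unit_app' (ProEtS.eps X) A
    X.smallEtaleTopology (Scheme.ProEt.topology X) F
  have h2 := congrArg (fun φ => φ.app (op E)) h
  have h3 := ConcreteCategory.congr_hom h2 t
  refine (ConcreteCategory.comp_apply _ _ _).symm.trans (h3.trans ?_)
  exact ConcreteCategory.comp_apply _ _ _

/-- naturality of the unit on sections -/
theorem unit_naturality {E E' : X.Etale} (m : E' ⟶ E) (t : ToType (F.obj.obj (op E))) :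
    (epsAdjA.unit.app F).hom.app (op E') (F.obj.map m.op t) =
      (epsPullA.obj F).obj.map ((ProEtS.eps X).map m).op
        ((epsAdjA.unit.app F).hom.app (op E) t) :=
  (ConcreteCategory.comp_apply _ _ _).symm.trans
    ((ConcreteCategory.congr_hom ((epsAdjA.unit.app F).hom.naturality m.op) t).trans
      (ConcreteCategory.comp_apply _ _ _))

end Unit

end Groth.Agent.H27.EpsLan
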