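import Groth.Agent.H27.EpsLimQcqs

/-!
# Sections of `ε⁻¹F` over a cofiltered limit of qcqs objects are the colimit of the sections
over the stages (helper27)
-/

set_option autoImplicit false
set_option linter.style.haveILetI false
set_option linter.unusedSectionVars false
set_option backward.isDefEq.respectTransparency.types false
open CategoryTheory CategoryTheory.Limits AlgebraicGeometry Opposite
universe u w

namespace Groth.Agent.H27.EpsLimColim

open EpsLan EpsUnitSurj EpsG ProEtBC EpsLimInj ProEtPB EpsChart EpsLimQcqs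

/-- recognizing filtered colimits of abelian groups elementwise -/
theorem nonempty_isColimit_of_elementwise {J : Type u} [SmallCategory J] [IsFiltered J]
    (K : J ⥤ AddCommGrpCat.{u + 1}) (t : Cocone K)
    (hsurj : ∀ x : t.pt, ∃ (i : J) (xi : K.obj i), t.ι.app i xi = x)
    (hinj : ∀ (i : J) (x y : K.obj i), t.ι.app i x = t.ι.app i y →
      ∃ (k : J) (f : i ⟶ k), K.map f x = K.map f y) : Nonempty (IsColimit t) := by
  haveI : PreservesColimitsOfShape J (forget AddCommGrpCat.{u + 1}) := inferInstance
  haveI : HasColimitsOfShape J AddCommGrpCat.{u + 1} := inferInstance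
  haveI : ReflectsColimitsOfShape J (forget AddCommGrpCat.{u + 1}) :=
    reflectsColimitsOfShape_of_reflectsIsomorphisms
  refine ⟨isColimitOfReflects (forget AddCommGrpCat.{u + 1}) ?_⟩
  refine Types.FilteredColimit.isColimitOf' _ _ ?_ ?_
  · intro x
    obtain ⟨i, xi, h⟩ := hsurj x
    exact ⟨i, xi, h.symm⟩
  · intro i x y h
    exact hinj i x y h

variable {X : Scheme.{u}} [ProEtS.EpsCont X]

/-- **The sections of the sheafified Kan extension over a cofiltered limit of qcqs objects with
affine transition maps are the colimit of the sections over the stages.** -/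
theorem nonempty_isColimit_G' {I : Type u} [SmallCategory I] [IsCofiltered I] (D : I ⥤ X.ProEt)
    [haff : ∀ (i j : I) (a : i ⟶ j), IsAffineHom (D.map a).left]
    [hc1 : ∀ i, CompactSpace ↥(D.obj i).left] [hc2 : ∀ i, QuasiSeparatedSpace ↥(D.obj i).left]
    (c : Cone D) (hc : IsLimit ((Scheme.ProEt.forget X ⋙ Over.forget X).mapCone c))
    (F : Sheaf X.smallEtaleTopology AddCommGrpCat.{u + 1}) :
    Nonempty (IsColimit ((G' F).obj.mapCocone c.op)) := by
  apply nonempty_isColimit_of_elementwise
  · intro s
    obtain ⟨j, t, ht⟩ := exists_at_stage_qcqs (F := F) (Z := D) (c := c) hc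
      (fun f => haff _ _ f) hc1 hc2 s
    exact ⟨op j, t, ht⟩
  · rintro ⟨i⟩ x y h
    haveI := hc1 i
    haveI := hc2 i
    obtain ⟨j, f, hf⟩ := eq_at_stage_qcqs F D c hc (fun f => haff _ _ f) i x y h
    exact ⟨op j, f.op, hf⟩

end Groth.Agent.H27.EpsLimColim
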