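import Mathlib.Algebra.Module.LinearMap.Basic
import Mathlib.Algebra.Module.Submodule.Ker
import Mathlib.Order.Monotone.Basic
import Mathlib.Tactic.Abel

/-!
# Lifting compatible families along a surjection of towers with Mittag-Leffler kernel

`B`, `C` towers of modules indexed by `ℕ`, `g : B → C` a levelwise surjective morphism of towers
whose kernel tower satisfies the Mittag-Leffler condition. Then every compatible family of `C`
lifts to a compatible family of `B`.
-/

set_option autoImplicit false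
universe u v

namespace Groth.Agent.H27.MLLift

variable {Λ : Type u} [Ring Λ]

/-- a tower of modules -/
structure Tw (B : ℕ → Type v) [∀ n, AddCommGroup (B n)] [∀ n, Module Λ (B n)] where
  /-- the transition maps -/
  tr : ∀ i j : ℕ, i ≤ j → B j →ₗ[Λ] B i
  tr_id : ∀ (i : ℕ) (x : B i), tr i i le_rfl x = x
  tr_comp : ∀ (i j k : ℕ) (h : i ≤ j) (h' : j ≤ k) (x : B k),
    tr i j h (tr j k h' x) = tr i k (h.trans h') x

variable {B C : ℕ → Type v} [∀ n, AddCommGroup (B n)] [∀ n, Module Λ (B n)]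
  [∀ n, AddCommGroup (C n)] [∀ n, Module Λ (C n)]

/-- compatible families -/
def Tw.Compat (T : Tw (Λ := Λ) B) (x : ∀ n, B n) : Prop :=
  ∀ (i j : ℕ) (h : i ≤ j), T.tr i j h (x j) = x i

theorem Tw.compat_of_succ (T : Tw (Λ := Λ) B) {x : ∀ n, B n}
    (h : ∀ j, T.tr j (j + 1) (Nat.le_succ j) (x (j + 1)) = x j) : T.Compat x := by
  intro i j hij
  induction j, hij using Nat.le_induction with
  | base => exact T.tr_id i _
  | succ j hij ih =>
    rw [← T.tr_comp i j (j + 1) hij (Nat.le_succ j), h j, ih]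

variable (TB : Tw (Λ := Λ) B) (TC : Tw (Λ := Λ) C) (g : ∀ n, B n →ₗ[Λ] C n)
  (hg : ∀ (i j : ℕ) (h : i ≤ j) (b : B j), g i (TB.tr i j h b) = TC.tr i j h (g j b))
  (hsurj : ∀ n, Function.Surjective (g n))
  (hML : ∀ n : ℕ, ∃ s : ℕ, ∃ hs : n ≤ s, ∀ (m : ℕ) (hm : s ≤ m) (k : B s), g s k = 0 →
    ∃ k' : B m, g m k' = 0 ∧ TB.tr n m (hs.trans hm) k' = TB.tr n s hs k)
  (c : ∀ n, C n) (hc : TC.Compat c)

/-- stable solutions: solutions at level `n` which lift to solutions at all higher levels -/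
def St (n : ℕ) (b : B n) : Prop :=
  g n b = c n ∧ ∀ (m : ℕ) (hm : n ≤ m), ∃ b' : B m, g m b' = c m ∧ TB.tr n m hm b' = b

include hg hsurj hc in
/-- images of solutions from a Mittag-Leffler level are stable -/
theorem st_of_level (n s : ℕ) (hs : n ≤ s)
    (hML' : ∀ (m : ℕ) (hm : s ≤ m) (k : B s), g s k = 0 →
      ∃ k' : B m, g m k' = 0 ∧ TB.tr n m (hs.trans hm) k' = TB.tr n s hs k)
    (e : B s) (he : g s e = c s) : St TB g c n (TB.tr n s hs e) := by
  refine ⟨by rw [hg, he, hc], fun m hm => ?_⟩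
  -- work at a level above both `m` and `s`
  obtain ⟨e', he'⟩ := hsurj (max m s) (c (max m s))
  have hms : s ≤ max m s := le_max_right m s
  have hmm : m ≤ max m s := le_max_left m s
  have h1 : g s (e - TB.tr s (max m s) hms e') = 0 := by
    rw [map_sub, hg, he', hc, he, sub_self]
  obtain ⟨a', ha', ha''⟩ := hML' (max m s) hms _ h1
  refine ⟨TB.tr m (max m s) hmm (e' + a'), ?_, ?_⟩
  · rw [hg, map_add, he', ha', add_zero, hc]
  · rw [TB.tr_comp, map_add, ha'', map_sub, TB.tr_comp]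
    exact add_sub_cancel _ _

include hg hsurj hML hc in
theorem exists_st (n : ℕ) : ∃ b : B n, St TB g c n b := by
  obtain ⟨s, hs, hML'⟩ := hML n
  obtain ⟨e, he⟩ := hsurj s (c s)
  exact ⟨_, st_of_level TB TC g hg hsurj c hc n s hs hML' e he⟩

include hg hsurj hML hc in
theorem exists_st_succ (n : ℕ) (b : B n) (hb : St TB g c n b) :
    ∃ b₁ : B (n + 1), St TB g c (n + 1) b₁ ∧ TB.tr n (n + 1) (Nat.le_succ n) b₁ = b := by
  obtain ⟨s, hs, hML'⟩ := hML (n + 1)
  obtain ⟨e, he, he'⟩ := hb.2 s ((Nat.le_succ n).trans hs)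
  refine ⟨_, st_of_level TB TC g hg hsurj c hc (n + 1) s hs hML' e he, ?_⟩
  rw [TB.tr_comp]
  exact he'

/-- the recursively chosen stable solutions -/
noncomputable def stSeq (b0 : {b : B 0 // St TB g c 0 b})
    (step : ∀ n (b : {b : B n // St TB g c n b}), {b : B (n + 1) // St TB g c (n + 1) b}) :
    ∀ n, {b : B n // St TB g c n b}
  | 0 => b0
  | n + 1 => step n (stSeq b0 step n)

include hg hsurj hML hc in
/-- **Mittag-Leffler lifting.** -/
theorem exists_lift : ∃ b : ∀ n, B n, TB.Compat b ∧ ∀ n, g n (b n) = c n := by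
  obtain ⟨b0, hb0⟩ := exists_st TB TC g hg hsurj hML c hc 0
  have hstep : ∀ n (b : {b : B n // St TB g c n b}),
      ∃ b₁ : {b : B (n + 1) // St TB g c (n + 1) b},
        TB.tr n (n + 1) (Nat.le_succ n) b₁.1 = b.1 := by
    intro n b
    obtain ⟨b₁, h1, h2⟩ := exists_st_succ TB TC g hg hsurj hML c hc n b.1 b.2
    exact ⟨⟨b₁, h1⟩, h2⟩
  choose step hstep' using hstep
  let s := stSeq TB g c ⟨b0, hb0⟩ step
  refine ⟨fun n => (s n).1, ?_, fun n => (s n).2.1⟩
  apply TB.compat_of_succ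
  intro j
  exact hstep' j (s j)

end Groth.Agent.H27.MLLift
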