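import Groth.Agent.H27.EpsModExact
import Groth.Agent.H27.MLLift
import Mathlib.Algebra.Homology.ShortComplex.ExactFunctor

/-!
# `lim` of towers of pro-étale sheaves of modules: epimorphisms with Mittag-Leffler kernels

* `epi_limMap`: for towers `A' ⟶ B' ⟶ C'` of sheaves of modules on `X_proet`, levelwise exact with
  `B'_n ⟶ C'_n` epi, such that `A'` receives a map from a tower with epimorphic transition maps
  whose cokernel is null up to translation: `lim B' ⟶ lim C'` is an epimorphism.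
* `main`: the case of `ε⁻¹` of a short exact sequence of towers of étale sheaves whose first
  term is adic up to translation.
-/

set_option autoImplicit false
set_option linter.style.haveILetI false
open CategoryTheory CategoryTheory.Limits AlgebraicGeometry Opposite
universe u

namespace Groth.Agent.H27.EpsLimEpi

variable {Λ : Type (u + 1)} [CommRing Λ] {X : Scheme.{u}}

/-- sections of an exact sequence over a weakly contractible object -/
theorem exists_preimage_of_exact {S : ShortComplex (EtModW.ModP Λ X)} (hS : S.Exact)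
    {W : X.ProEt} (hW : ProEtS.IsWC W) (t : S.X₂.obj.obj (op W))
    (ht : S.g.hom.app (op W) t = 0) : ∃ a : S.X₁.obj.obj (op W), S.f.hom.app (op W) a = t := by
  haveI : Epi (kernel.lift S.g S.f S.zero) := S.exact_iff_epi_kernel_lift.mp hS
  obtain ⟨k, hk⟩ := ProEtModWC.exists_of_map_eq_zero Λ S.g t ht
  obtain ⟨a, ha⟩ := ProEtModWC.surjective_of_isWC Λ hW (kernel.lift S.g S.f S.zero) k
  refine ⟨a, ?_⟩
  have h1 := congrArg (fun ψ : S.X₁ ⟶ S.X₂ => ψ.hom.app (op W) a) (kernel.lift_ι S.g S.f S.zero)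
  refine h1.symm.trans ?_
  show (kernel.ι S.g).hom.app (op W) ((kernel.lift S.g S.f S.zero).hom.app (op W) a) = t
  rw [ha, hk]

/-- the tower of sections of a tower of sheaves -/
noncomputable def tw (D : ℕᵒᵖ ⥤ EtModW.ModP Λ X) (W : X.ProEt) :
    MLLift.Tw (Λ := Λ) (fun n => (D.obj (op n)).obj.obj (op W)) where
  tr i j h := ((D.map (homOfLE h).op).hom.app (op W)).hom
  tr_id i x := by
    have h1 : (homOfLE (le_refl i)).op = 𝟙 (op i : ℕᵒᵖ) := Subsingleton.elim _ _
    rw [h1, CategoryTheory.Functor.map_id]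
    rfl
  tr_comp i j k h h' x := by
    have h1 : (homOfLE (h.trans h')).op =
        ((homOfLE h').op : (op k : ℕᵒᵖ) ⟶ op j) ≫ (homOfLE h).op := Subsingleton.elim _ _
    rw [h1, Functor.map_comp]
    rfl

/-- naturality on sections -/
theorem nat_app {D D' : ℕᵒᵖ ⥤ EtModW.ModP Λ X} (φ : D ⟶ D') (W : X.ProEt) {i j : ℕ} (h : i ≤ j)
    (x : (D.obj (op j)).obj.obj (op W)) :
    (φ.app (op i)).hom.app (op W) ((tw D W).tr i j h x) =
      (tw D' W).tr i j h ((φ.app (op j)).hom.app (op W) x) :=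
  congrArg (fun ψ : D.obj (op j) ⟶ D'.obj (op i) => ψ.hom.app (op W) x)
    (φ.naturality (homOfLE h).op)

theorem exists_of_compat (D : ℕᵒᵖ ⥤ EtModW.ModP Λ X) (W : X.ProEt)
    (x : ∀ j, (D.obj (op j)).obj.obj (op W)) (hx : (tw D W).Compat x) :
    ∃ m : (limit D).obj.obj (op W), ∀ j, (limit.π D (op j)).hom.app (op W) m = x j := by
  obtain ⟨m, hm⟩ := ProEtDCLim.exists_sections D W (fun j => x j.unop) (by
    intro j j' g
    obtain ⟨h, rfl⟩ := EpsAdicLim.hom_eq g
    exact hx j'.unop j.unop h)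
  exact ⟨m, fun j => hm (op j)⟩

theorem compat_π (D : ℕᵒᵖ ⥤ EtModW.ModP Λ X) (W : X.ProEt) (t : (limit D).obj.obj (op W)) :
    (tw D W).Compat (fun j => (limit.π D (op j)).hom.app (op W) t) := by
  intro i j h
  exact ProEtDCLim.map_π D W (homOfLE h).op t

/-- **Epimorphisms of limits of towers with Mittag-Leffler kernel.** -/
theorem epi_limMap {A' B' C' Y' : ℕᵒᵖ ⥤ EtModW.ModP Λ X} (f : A' ⟶ B') (g : B' ⟶ C')
    (v : Y' ⟶ A')
    (hfg : ∀ n : ℕ, f.app (op n) ≫ g.app (op n) = 0)
    (hex : ∀ n : ℕ, (ShortComplex.mk (f.app (op n)) (g.app (op n)) (hfg n)).Exact)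
    (hg : ∀ n : ℕ, Epi (g.app (op n)))
    (hY : ∀ (i j : ℕ) (h : i ≤ j), Epi (Y'.map (homOfLE h).op))
    (Q : ℕ → EtModW.ModP Λ X) (q : ∀ n : ℕ, A'.obj (op n) ⟶ Q n)
    (hvq : ∀ n : ℕ, v.app (op n) ≫ q n = 0)
    (hexq : ∀ n : ℕ, (ShortComplex.mk (v.app (op n)) (q n) (hvq n)).Exact)
    (r : ℕ) (hr : ∀ n : ℕ, A'.map (homOfLE (Nat.le_add_right n r)).op ≫ q n = 0) :
    Epi (limMap g) := by
  apply ProEtDCConv.epi_of_surjective_wc
  intro W hW1 hW2 c
  have hW := ProEtIsWC.isWC_of_isWContractible W hW2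
  obtain ⟨b, hb, hgb⟩ := MLLift.exists_lift (tw B' W) (tw C' W)
    (fun n => ((g.app (op n)).hom.app (op W)).hom)
    (fun i j h x => nat_app g W h x)
    (fun n => by
      haveI := hg n
      exact ProEtModWC.surjective_of_isWC Λ hW (g.app (op n)))
    (fun n => by
      refine ⟨n + r, Nat.le_add_right n r, fun m hm k hk => ?_⟩
      obtain ⟨a, ha⟩ := exists_preimage_of_exact (hex (n + r)) hW k hk
      have hq : (q n).hom.app (op W) ((tw A' W).tr n (n + r) (Nat.le_add_right n r) a) = 0 :=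
        congrArg (fun ψ : A'.obj (op (n + r)) ⟶ Q n => ψ.hom.app (op W) a) (hr n)
      obtain ⟨y, hy⟩ := exists_preimage_of_exact (hexq n) hW _ hq
      haveI := hY n m ((Nat.le_add_right n r).trans hm)
      obtain ⟨ym, hym⟩ := ProEtModWC.surjective_of_isWC Λ hW
        (Y'.map (homOfLE ((Nat.le_add_right n r).trans hm)).op) y
      refine ⟨(f.app (op m)).hom.app (op W) ((v.app (op m)).hom.app (op W) ym), ?_, ?_⟩
      · exact congrArg (fun ψ : A'.obj (op m) ⟶ C'.obj (op m) =>
          ψ.hom.app (op W) ((v.app (op m)).hom.app (op W) ym)) (hfg m)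
      · have e1 := nat_app f W ((Nat.le_add_right n r).trans hm)
          ((v.app (op m)).hom.app (op W) ym)
        have e2 := nat_app v W ((Nat.le_add_right n r).trans hm) ym
        have e3 := nat_app f W (Nat.le_add_right n r) a
        refine e1.symm.trans ?_
        refine (congrArg _ e2.symm).trans ?_
        have e4 : (tw Y' W).tr n m ((Nat.le_add_right n r).trans hm) ym = y := hym
        rw [e4]
        refine (congrArg _ hy).trans ?_
        refine e3.trans ?_
        exact congrArg _ ha)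
    (fun n => (limit.π C' (op n)).hom.app (op W) c) (compat_π C' W c)
  obtain ⟨m, hm⟩ := exists_of_compat B' W b hb
  refine ⟨m, ?_⟩
  apply ProEtDCLim.ext_sections
  intro j
  obtain ⟨j⟩ := j
  have h1 := congrArg (fun ψ : limit B' ⟶ C'.obj (op j) => ψ.hom.app (op W) m) (limMap_π g (op j))
  refine h1.trans ?_
  show (g.app (op j)).hom.app (op W) ((limit.π B' (op j)).hom.app (op W) m) = _
  rw [hm j]
  exact hgb j

section Eps

variable (Λ) (I : Ideal Λ) (X) [ProEtS.EpsCont X]

/-- **`lim ε⁻¹` is right exact on short exact sequences with first term adic up to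
translation.** -/
theorem main (S : ShortComplex (ARSys.PS (EtModW.Mod Λ X))) (hS : S.ShortExact)
    (hA : ∃ (Y : ARSys.PS (EtModW.Mod Λ X)) (v : Y ⟶ S.X₁), ARSys.IsAdic I Y ∧ ARSys.IsARIso v) :
    Epi (limMap (Functor.whiskerRight S.g (EtModW.epsPullMod Λ X))) := by
  obtain ⟨Y, v, hY, -, r, hr⟩ := hA
  let L := EtModW.epsPullMod Λ X
  let ev : ∀ n : ℕ, ARSys.PS (EtModW.Mod Λ X) ⥤ EtModW.Mod Λ X :=
    fun n => (evaluation ℕᵒᵖ (EtModW.Mod Λ X)).obj (op n)
  -- the cokernel sequence of `v`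
  let T : ShortComplex (ARSys.PS (EtModW.Mod Λ X)) :=
    ShortComplex.mk v (cokernel.π v) (cokernel.condition v)
  have hT : T.Exact := ShortComplex.exact_of_g_is_cokernel T (cokernelIsCokernel v)
  haveI : Epi S.g := hS.epi_g
  refine epi_limMap (Functor.whiskerRight S.f L) (Functor.whiskerRight S.g L)
    (Functor.whiskerRight v L) (fun n => ?_) (fun n => ?_) (fun n => ?_) (fun i j h => ?_)
    (fun n => L.obj ((cokernel v).obj (op n))) (fun n => L.map ((cokernel.π v).app (op n)))
    (fun n => ?_) (fun n => ?_) r (fun n => ?_)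
  · exact ((S.map (ev n)).map L).zero
  · exact (hS.exact.map (ev n)).map L
  · haveI : Epi ((ev n).map S.g) := inferInstance
    exact inferInstanceAs (Epi (L.map ((ev n).map S.g)))
  · exact ProEtModWC.epi_of_isQuot ((EpsModAdic.isAdic_comp hY).2 i j h)
  · exact ((T.map (ev n)).map L).zero
  · exact (hT.map (ev n)).map L
  · show L.map (S.X₁.map (homOfLE (Nat.le_add_right n r)).op) ≫
      L.map ((cokernel.π v).app (op n)) = 0
    rw [← L.map_comp, (cokernel.π v).naturality]
    have h0 : (cokernel v).map (homOfLE (Nat.le_add_right n r)).op = 0 := hr n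
    rw [h0, comp_zero, L.map_zero]

end Eps

end Groth.Agent.H27.EpsLimEpi
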