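import Groth.Agent.H27.EpsLimSurj2

/-!
# Sections of `ε⁻¹F` over a cofiltered limit of qcqs objects with affine transition maps
(helper27)
-/

set_option autoImplicit false
set_option linter.style.haveILetI false
set_option linter.unusedSectionVars false
set_option backward.isDefEq.respectTransparency.types false
open CategoryTheory CategoryTheory.Limits AlgebraicGeometry Opposite
universe u w

namespace Groth.Agent.H27.EpsLimQcqs

open EpsLan EpsUnitSurj EpsG ProEtBC EpsLimInj ProEtPB EpsChart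

variable {X : Scheme.{u}}

/-- a quasi-compact object of the small pro-étale site has an affine étale cover -/
theorem exists_affine_cover (Y : X.ProEt) [CompactSpace Y.left] :
    ∃ (U : X.ProEt) (q : U ⟶ Y), IsAffine U.left ∧ Etale q.left ∧
      Function.Surjective q.left.base := by
  obtain ⟨U0, p, hsurj, hp, hU0⟩ :=
    Scheme.exists_hom_isAffine_of_isZariskiLocalAtSource @Etale Y.left
  haveI : Etale p := hp
  haveI : WeaklyEtale (p ≫ Y.hom) := inferInstance
  refine ⟨Scheme.ProEt.mk (p ≫ Y.hom), MorphismProperty.Over.homMk p rfl, hU0, hp, ?_⟩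
  exact hsurj.surj

variable {A : Type (u + 2)} [Category.{u + 1} A] {FA : A → A → Type w} {CA : A → Type (u + 1)}
  [∀ M N, FunLike (FA M N) (CA M) (CA N)] [ConcreteCategory.{u + 1} A FA]
  [∀ F : X.Etaleᵒᵖ ⥤ A, (ProEtS.eps X).op.HasPointwiseLeftKanExtension F]
  [PreservesFilteredColimitsOfSize.{u, u + 1} (forget A)]
  [ProEtS.EpsCont X] [HasSheafify (Scheme.ProEt.topology X) A]
  [(Scheme.ProEt.topology X).WEqualsLocallyBijective A]
  [(Scheme.ProEt.topology X).HasSheafCompose (forget A)]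
  [X.smallEtaleTopology.HasSheafCompose (forget A)]

variable (F : Sheaf X.smallEtaleTopology A)
variable {J : Type u} [SmallCategory J] [IsCofiltered J] (Z : J ⥤ X.ProEt) (c : Cone Z)

/-- **Sections of `ε⁻¹F` over a qcqs stage which agree on the limit agree at some stage.** -/
theorem eq_at_stage_qcqs (hc : IsLimit (cS Z c))
    (haff : ∀ {i j : J} (f : i ⟶ j), IsAffineHom (Z.map f).left)
    (j0 : J) [CompactSpace (Z.obj j0).left] [QuasiSeparatedSpace (Z.obj j0).left]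
    (t t' : ToType ((G' F).obj.obj (op (Z.obj j0))))
    (h : (G' F).obj.map (c.π.app j0).op t = (G' F).obj.map (c.π.app j0).op t') :
    ∃ (j : J) (f : j ⟶ j0), (G' F).obj.map (Z.map f).op t = (G' F).obj.map (Z.map f).op t' := by
  obtain ⟨U, q, hU, hqet, hqs⟩ := exists_affine_cover (Z.obj j0)
  haveI : IsAffine U.left := hU
  haveI hqc : QuasiCompact q.left := inferInstance
  let φ0 : Over j0 := Over.mk (𝟙 j0)
  haveI : IsAffine ((bcD Z j0 q).obj φ0).left := isAffine_bcObj Z j0 q haff φ0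
  have haff' : ∀ {φ ψ : Over j0} (a : φ ⟶ ψ), IsAffineHom ((bcD Z j0 q).map a).left :=
    fun a => isAffineHom_bcD_map Z j0 q haff a
  obtain ⟨x, hx⟩ : ∃ x : ToType ((G' F).obj.obj (op ((bcD Z j0 q).obj φ0))),
      x = (G' F).obj.map (bcFst Z j0 q φ0).op t := ⟨_, rfl⟩
  obtain ⟨x', hx'⟩ : ∃ x' : ToType ((G' F).obj.obj (op ((bcD Z j0 q).obj φ0))),
      x' = (G' F).obj.map (bcFst Z j0 q φ0).op t' := ⟨_, rfl⟩
  have hm : ∀ y : ToType ((G' F).obj.obj (op (Z.obj j0))),
      (G' F).obj.map (bcπ Z c j0 q φ0).op ((G' F).obj.map (bcFst Z j0 q φ0).op y) =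
        (G' F).obj.map (bcPtFst Z c j0 q).op ((G' F).obj.map (c.π.app j0).op y) := by
    intro y
    rw [G'_map_map, G'_map_map]
    exact congrArg (fun m => (G' F).obj.map m.op y) (bcπ_fst Z c j0 q φ0)
  have hxx : (G' F).obj.map ((bcCone Z c j0 q).π.app φ0).op x =
      (G' F).obj.map ((bcCone Z c j0 q).π.app φ0).op x' := by
    rw [hx, hx']
    exact (hm t).trans ((congrArg _ h).trans (hm t').symm)
  obtain ⟨ψ, a, ha⟩ := eq_at_stage F (bcD Z j0 q) (bcCone Z c j0 q) (hbc Z c j0 q hc) haff'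
    φ0 x x' hxx
  refine ⟨ψ.left, a.left, ?_⟩
  have e : ∀ y : ToType ((G' F).obj.obj (op (Z.obj j0))),
      (G' F).obj.map ((bcD Z j0 q).map a).op ((G' F).obj.map (bcFst Z j0 q φ0).op y) =
        (G' F).obj.map (bcFst Z j0 q ψ).op ((G' F).obj.map (Z.map a.left).op y) := by
    intro y
    refine (G'_map_map F (bcFst Z j0 q φ0) ((bcD Z j0 q).map a) y).trans ?_
    rw [G'_map_map]
    exact congrArg (fun m => (G' F).obj.map m.op y) (bcMap_fst Z j0 q a)
  rw [hx, hx'] at ha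
  haveI : QuasiCompact (bcFst Z j0 q ψ).left :=
    MorphismProperty.pullback_fst (P := @QuasiCompact) ((DS Z).map ψ.hom) q.left hqc
  have hsurj : Function.Surjective (bcFst Z j0 q ψ).left.base := by
    intro x
    obtain ⟨y, hy⟩ := hqs (((DS Z).map ψ.hom).base x)
    obtain ⟨w, hw, -⟩ := Scheme.Pullback.exists_preimage_pullback
      (f := (DS Z).map ψ.hom) (g := q.left) x y hy.symm
    exact ⟨w, hw⟩
  apply EpsLimInj.eq_of_map_eq F (bcFst Z j0 q ψ) hsurj
  exact (e t).symm.trans (ha.trans (e t'))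

variable {F Z c}

/-- descent of a section from the limit to a finite stage, given its value on a quasi-compact
surjective chart at a finite stage, and an affine cover of the self fibre product of the chart -/
theorem exists_section_of_cover (hc : IsLimit (cS Z c))
    (haff : ∀ {i j : J} (f : i ⟶ j), IsAffineHom (Z.map f).left)
    (k : J) {T : X.ProEt} (qT : T ⟶ Z.obj k) [hqc : QuasiCompact qT.left]
    (hS : Function.Surjective qT.left.base)
    {V : X.ProEt} [IsAffine V.left] (v0 : V ⟶ pb qT qT) [hv0c : QuasiCompact v0.left]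
    (hv0 : Function.Surjective v0.left.base)
    (s : ToType ((G' F).obj.obj (op c.pt))) (t1 : ToType ((G' F).obj.obj (op T)))
    (hK : (G' F).obj.map (bcPtSnd Z c k qT).op t1 = (G' F).obj.map (bcPtFst Z c k qT).op s) :
    ∃ (j : J) (t : ToType ((G' F).obj.obj (op (Z.obj j)))),
      (G' F).obj.map (c.π.app j).op t = s := by
  -- the self fibre product of the chart
  obtain ⟨R, hR⟩ : ∃ R : X.ProEt, R = pb qT qT := ⟨_, rfl⟩
  obtain ⟨r1, hr1⟩ : ∃ r1 : R ⟶ T, HEq r1 (pbFst qT qT) := by subst hR; exact ⟨_, HEq.rfl⟩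
  obtain ⟨r2, hr2⟩ : ∃ r2 : R ⟶ T, HEq r2 (pbSnd qT qT) := by subst hR; exact ⟨_, HEq.rfl⟩
  obtain ⟨v, hv⟩ : ∃ v : V ⟶ R, HEq v v0 := by subst hR; exact ⟨_, HEq.rfl⟩
  have hr : r1 ≫ qT = r2 ≫ qT := by
    subst hR; obtain rfl := eq_of_heq hr1; obtain rfl := eq_of_heq hr2; exact pb_cond qT qT
  have hRlift : ∀ {M : X.ProEt} (a b : M ⟶ T), a ≫ qT = b ≫ qT →
      ∃ l : M ⟶ R, l ≫ r1 = a ∧ l ≫ r2 = b := by
    intro M a b h
    subst hR; obtain rfl := eq_of_heq hr1; obtain rfl := eq_of_heq hr2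
    exact ⟨pbLift a b h, pbLift_fst a b h, pbLift_snd a b h⟩
  haveI hvc : QuasiCompact v.left := by subst hR; obtain rfl := eq_of_heq hv; exact hv0c
  have hvs : Function.Surjective v.left.base := by
    subst hR; obtain rfl := eq_of_heq hv; exact hv0
  clear hr1 hr2 hv
  obtain ⟨qV, hqV⟩ : ∃ qV : V ⟶ Z.obj k, qV = v ≫ r1 ≫ qT := ⟨_, rfl⟩
  -- the two pullbacks of the section to the base-changed system over `V`
  let φ0 : Over k := Over.mk (𝟙 k)
  haveI : IsAffine ((bcD Z k qV).obj φ0).left := isAffine_bcObj Z k qV haff φ0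
  have haff' : ∀ {φ ψ : Over k} (a : φ ⟶ ψ), IsAffineHom ((bcD Z k qV).map a).left :=
    fun a => isAffineHom_bcD_map Z k qV haff a
  obtain ⟨x1, hx1⟩ : ∃ x1 : ToType ((G' F).obj.obj (op ((bcD Z k qV).obj φ0))),
      x1 = (G' F).obj.map (bcSnd Z k qV φ0 ≫ v ≫ r1).op t1 := ⟨_, rfl⟩
  obtain ⟨x2, hx2⟩ : ∃ x2 : ToType ((G' F).obj.obj (op ((bcD Z k qV).obj φ0))),
      x2 = (G' F).obj.map (bcSnd Z k qV φ0 ≫ v ≫ r2).op t1 := ⟨_, rfl⟩
  have hm : ∀ r : V ⟶ T, r ≫ qT = qV →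
      (G' F).obj.map (bcπ Z c k qV φ0).op ((G' F).obj.map (bcSnd Z k qV φ0 ≫ r).op t1) =
        (G' F).obj.map (bcPtFst Z c k qV).op s := by
    intro r hrq
    have hcomm : bcPtFst Z c k qV ≫ c.π.app k = (bcPtSnd Z c k qV ≫ r) ≫ qT := by
      rw [Category.assoc, hrq]
      exact bcPtFst_π Z c k qV
    rw [G'_map_map, ← Category.assoc, bcπ_snd,
      ← bcPtLift_snd Z c k qT (bcPtFst Z c k qV) (bcPtSnd Z c k qV ≫ r) hcomm,
      ← G'_map_map, hK, G'_map_map, bcPtLift_fst]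
  have hx : (G' F).obj.map ((bcCone Z c k qV).π.app φ0).op x1 =
      (G' F).obj.map ((bcCone Z c k qV).π.app φ0).op x2 := by
    rw [hx1, hx2]
    refine (hm (v ≫ r1) ?_).trans (hm (v ≫ r2) ?_).symm
    · rw [hqV, Category.assoc]
    · rw [hqV, Category.assoc, hr]
  obtain ⟨ψ, a, ha⟩ := eq_at_stage F (bcD Z k qV) (bcCone Z c k qV) (hbc Z c k qV hc) haff'
    φ0 x1 x2 hx
  have ha' : (G' F).obj.map (bcSnd Z k qV ψ ≫ v ≫ r1).op t1 =
      (G' F).obj.map (bcSnd Z k qV ψ ≫ v ≫ r2).op t1 := by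
    have e : ∀ r : V ⟶ T, (G' F).obj.map ((bcD Z k qV).map a).op
        ((G' F).obj.map (bcSnd Z k qV φ0 ≫ r).op t1) =
          (G' F).obj.map (bcSnd Z k qV ψ ≫ r).op t1 := by
      intro r
      refine (G'_map_map F (bcSnd Z k qV φ0 ≫ r) ((bcD Z k qV).map a) t1).trans ?_
      have e0 : (bcD Z k qV).map a ≫ bcSnd Z k qV φ0 ≫ r = bcSnd Z k qV ψ ≫ r :=
        (Category.assoc _ _ _).symm.trans (congrArg (fun m => m ≫ r) (bcMap_snd Z k qV a))
      exact congrArg (fun m => (G' F).obj.map m.op t1) e0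
    rw [hx1, hx2] at ha
    exact (e (v ≫ r1)).symm.trans (ha.trans (e (v ≫ r2)))
  -- descend along the cover `bcFst ψ`
  obtain ⟨gψ, hgψ⟩ : ∃ gψ : bcObj Z k qT ψ ⟶ Z.obj ψ.left, gψ = bcFst Z k qT ψ := ⟨_, rfl⟩
  haveI : QuasiCompact gψ.left := by
    subst hgψ
    exact MorphismProperty.pullback_fst (P := @QuasiCompact) ((DS Z).map ψ.hom) qT.left hqc
  have hgψs : Function.Surjective gψ.left.base := by
    subst hgψ
    intro x
    obtain ⟨y, hy⟩ := hS (((DS Z).map ψ.hom).base x)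
    obtain ⟨w, hw, -⟩ := Scheme.Pullback.exists_preimage_pullback
      (f := (DS Z).map ψ.hom) (g := qT.left) x y hy.symm
    exact ⟨w, hw⟩
  have hgψ' : gψ ≫ Z.map ψ.hom = bcSnd Z k qT ψ ≫ qT := by
    subst hgψ; exact bcFst_map Z k qT ψ
  have hpp : (pbFst gψ gψ ≫ bcSnd Z k qT ψ) ≫ qT = (pbSnd gψ gψ ≫ bcSnd Z k qT ψ) ≫ qT := by
    rw [Category.assoc, Category.assoc, ← hgψ', ← Category.assoc, ← Category.assoc, pb_cond]
  obtain ⟨lR, hlR1, hlR2⟩ := hRlift _ _ hpp
  -- the cover of the self fibre product of `gψ` induced by `v`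
  obtain ⟨W, w1, w2, hw, hw1c, hw1s⟩ : ∃ (W : X.ProEt) (w1 : W ⟶ pb gψ gψ) (w2 : W ⟶ V),
      w1 ≫ lR = w2 ≫ v ∧ QuasiCompact w1.left ∧ Function.Surjective w1.left.base :=
    ⟨pb lR v, pbFst lR v, pbSnd lR v, pb_cond lR v, quasiCompact_pbFst lR v,
      surjective_pbFst lR v hvs⟩
  haveI : QuasiCompact w1.left := hw1c
  have hl2 : (w1 ≫ pbFst gψ gψ ≫ gψ) ≫ Z.map ψ.hom = w2 ≫ qV := by
    rw [hqV, ← Category.assoc w2, ← hw, Category.assoc, Category.assoc, Category.assoc,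
      hgψ', ← Category.assoc (pbFst gψ gψ), ← hlR1, Category.assoc]
  obtain ⟨l, hl⟩ : ∃ l : W ⟶ bcObj Z k qV ψ, l ≫ bcSnd Z k qV ψ = w2 :=
    ⟨bcObjLift Z k qV ψ (w1 ≫ pbFst gψ gψ ≫ gψ) w2 hl2, bcObjLift_snd _ _ _ _ _ _ _⟩
  obtain ⟨y, hy⟩ : ∃ y : ToType ((G' F).obj.obj (op (bcObj Z k qT ψ))),
      y = (G' F).obj.map (bcSnd Z k qT ψ).op t1 := ⟨_, rfl⟩
  have he : ∀ (p : pb gψ gψ ⟶ bcObj Z k qT ψ) (r : R ⟶ T), lR ≫ r = p ≫ bcSnd Z k qT ψ →
      (G' F).obj.map w1.op ((G' F).obj.map p.op y) =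
        (G' F).obj.map l.op ((G' F).obj.map (bcSnd Z k qV ψ ≫ v ≫ r).op t1) := by
    intro p r hpr
    rw [hy, G'_map_map, G'_map_map, G'_map_map]
    refine congrArg (fun m : W ⟶ T => (G' F).obj.map m.op t1) ?_
    rw [← Category.assoc l, hl, ← Category.assoc w2, ← hw]
    simp only [Category.assoc]
    rw [hpr]
  have hyy : (G' F).obj.map (pbFst gψ gψ).op y = (G' F).obj.map (pbSnd gψ gψ).op y := by
    apply EpsLimInj.eq_of_map_eq F w1 hw1s
    rw [he _ r1 hlR1, he _ r2 hlR2, ha']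
  obtain ⟨t0, ht0⟩ := exists_descent (G' F) gψ hgψs y hyy
  refine ⟨ψ.left, t0, ?_⟩
  -- compare on the cover `bcPtFst`
  haveI : QuasiCompact (bcPtFst Z c k qT).left :=
    MorphismProperty.pullback_fst (P := @QuasiCompact) ((cS Z c).π.app k) qT.left hqc
  have hsurjL : Function.Surjective (bcPtFst Z c k qT).left.base := by
    intro x
    obtain ⟨y, hy⟩ := hS (((cS Z c).π.app k).base x)
    obtain ⟨w, hw, -⟩ := Scheme.Pullback.exists_preimage_pullback
      (f := (cS Z c).π.app k) (g := qT.left) x y hy.symm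
    exact ⟨w, hw⟩
  apply EpsLimInj.eq_of_map_eq F (bcPtFst Z c k qT) hsurjL
  rw [G'_map_map, ← bcπ_fst Z c k qT ψ, ← hgψ, ← G'_map_map, ht0, hy, G'_map_map, bcπ_snd]
  exact hK

/-- **Sections of `ε⁻¹F` over a cofiltered limit of qcqs objects with affine transition maps
come from a finite stage.** -/
theorem exists_at_stage_qcqs (hc : IsLimit (cS Z c))
    (haff : ∀ {i j : J} (f : i ⟶ j), IsAffineHom (Z.map f).left)
    (hZc : ∀ j, CompactSpace (Z.obj j).left) (hZq : ∀ j, QuasiSeparatedSpace (Z.obj j).left)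
    (s : ToType ((G' F).obj.obj (op c.pt))) :
    ∃ (j : J) (t : ToType ((G' F).obj.obj (op (Z.obj j)))),
      (G' F).obj.map (c.π.app j).op t = s := by
  obtain ⟨i0⟩ : Nonempty J := IsCofiltered.nonempty
  haveI := hZc i0
  haveI := hZq i0
  obtain ⟨U, q, hU, hqet, hqs⟩ := exists_affine_cover (Z.obj i0)
  haveI : IsAffine U.left := hU
  haveI hqc : QuasiCompact q.left := inferInstance
  have haff' : ∀ {φ ψ : Over i0} (a : φ ⟶ ψ), IsAffineHom ((bcD Z i0 q).map a).left :=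
    fun a => isAffineHom_bcD_map Z i0 q haff a
  have hZ' : ∀ φ : Over i0, IsAffine ((bcD Z i0 q).obj φ).left :=
    fun φ => isAffine_bcObj Z i0 q haff φ
  obtain ⟨φ, tU, htU⟩ := exists_at_stage (F := F) (Z := bcD Z i0 q) (c := bcCone Z c i0 q)
    (hbc Z c i0 q hc) haff' hZ' ((G' F).obj.map (bcPtFst Z c i0 q).op s)
  -- the chart at the stage `φ`
  obtain ⟨T, hT⟩ : ∃ T : X.ProEt, T = bcObj Z i0 q φ := ⟨_, rfl⟩
  obtain ⟨qT, hqT⟩ : ∃ qT : T ⟶ Z.obj φ.left, HEq qT (bcFst Z i0 q φ) := by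
    subst hT; exact ⟨_, HEq.rfl⟩
  obtain ⟨t1, ht1⟩ : ∃ t1 : ToType ((G' F).obj.obj (op T)), HEq t1 tU := by
    subst hT; exact ⟨_, HEq.rfl⟩
  haveI hTaff : IsAffine T.left := by subst hT; exact isAffine_bcObj Z i0 q haff φ
  haveI hqTc : QuasiCompact qT.left := by
    subst hT; obtain rfl := eq_of_heq hqT
    exact MorphismProperty.pullback_fst (P := @QuasiCompact) ((DS Z).map φ.hom) q.left hqc
  have hqTs : Function.Surjective qT.left.base := by
    subst hT; obtain rfl := eq_of_heq hqT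
    intro x
    obtain ⟨y, hy⟩ := hqs (((DS Z).map φ.hom).base x)
    obtain ⟨w, hw, -⟩ := Scheme.Pullback.exists_preimage_pullback
      (f := (DS Z).map φ.hom) (g := q.left) x y hy.symm
    exact ⟨w, hw⟩
  have hK : (G' F).obj.map (bcPtSnd Z c φ.left qT).op t1 =
      (G' F).obj.map (bcPtFst Z c φ.left qT).op s := by
    subst hT; obtain rfl := eq_of_heq hqT; obtain rfl := eq_of_heq ht1
    rw [← rebaseρ_π Z c i0 q φ, ← rebaseρ_fst Z c i0 q φ, ← G'_map_map, ← G'_map_map]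
    exact congrArg _ htU
  clear hqT ht1
  -- an affine cover of the self fibre product
  have hqTq : QuasiSeparated qT.left := inferInstance
  have hfq : QuasiSeparated (pullback.fst qT.left qT.left) :=
    MorphismProperty.pullback_fst (P := @QuasiSeparated) qT.left qT.left hqTq
  haveI : QuasiSeparatedSpace (pb qT qT).left :=
    @quasiSeparatedSpace_of_quasiSeparated _ _ (pullback.fst qT.left qT.left) inferInstance hfq
  haveI : CompactSpace (pb qT qT).left :=
    inferInstanceAs (CompactSpace ↥(pullback qT.left qT.left))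
  obtain ⟨V, v0, hV, -, hv0s⟩ := exists_affine_cover (pb qT qT)
  haveI : IsAffine V.left := hV
  haveI : QuasiCompact v0.left := inferInstance
  exact exists_section_of_cover hc haff φ.left qT hqTs v0 hv0s s t1 hK

end Groth.Agent.H27.EpsLimQcqs
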