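import Groth.Agent.H27.EpsChartExists

/-!
# Sections of `ε⁻¹F` over a cofiltered limit of affine objects come from a finite stage (helper27)
-/

set_option autoImplicit false
set_option linter.style.haveILetI false
set_option linter.unusedSectionVars false
set_option backward.isDefEq.respectTransparency.types false
open CategoryTheory CategoryTheory.Limits AlgebraicGeometry Opposite
universe u w

namespace Groth.Agent.H27.EpsChart

open EpsLan EpsUnitSurj EpsG ProEtBC EpsLimInj

variable {X : Scheme.{u}}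
variable {A : Type (u + 2)} [Category.{u + 1} A] {FA : A → A → Type w} {CA : A → Type (u + 1)}
  [∀ M N, FunLike (FA M N) (CA M) (CA N)] [ConcreteCategory.{u + 1} A FA]
  [∀ F : X.Etaleᵒᵖ ⥤ A, (ProEtS.eps X).op.HasPointwiseLeftKanExtension F]
  [PreservesFilteredColimitsOfSize.{u, u + 1} (forget A)]
  [ProEtS.EpsCont X] [HasSheafify (Scheme.ProEt.topology X) A]
  [(Scheme.ProEt.topology X).WEqualsLocallyBijective A]
  [(Scheme.ProEt.topology X).HasSheafCompose (forget A)]
  [X.smallEtaleTopology.HasSheafCompose (forget A)]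

variable {F : Sheaf X.smallEtaleTopology A}
variable {J : Type u} [SmallCategory J] [IsCofiltered J] {Z : J ⥤ X.ProEt} {c : Cone Z}
variable {s : ToType ((G' F).obj.obj (op c.pt))}

section Instances

variable (Z) (k : J) {T : X.ProEt} (qT : T ⟶ Z.obj k)

theorem isAffineHom_bcD_map (haff : ∀ {i j : J} (f : i ⟶ j), IsAffineHom (Z.map f).left)
    {φ ψ : Over k} (a : φ ⟶ ψ) : IsAffineHom ((DS (bcD Z k qT)).map a) := by
  haveI : IsAffineHom ((DS Z).map a.left) := haff a.left
  exact MorphismProperty.of_isPullback (P := @IsAffineHom)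
    (Groth.Agent.H24.isPullback_pullbackDiagram_map (DS Z) k qT.left a).flip inferInstance

theorem isAffine_bcObj (haff : ∀ {i j : J} (f : i ⟶ j), IsAffineHom (Z.map f).left)
    [hT : IsAffine T.left] (φ : Over k) : IsAffine (bcObj Z k qT φ).left := by
  have h1 : IsAffineHom ((DS Z).map φ.hom) := haff φ.hom
  have h2 : IsAffineHom (pullback.snd ((DS Z).map φ.hom) qT.left) :=
    MorphismProperty.pullback_snd (P := @IsAffineHom) _ _ h1
  exact @isAffine_of_isAffineHom _ _ (pullback.snd ((DS Z).map φ.hom) qT.left) h2 hT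

end Instances

/-- after rebasing, the triple of an affine chart is defined on the chart -/
theorem Chart.exists_fac (C : Chart F Z c s) (hC : C.Aff) (hc : IsLimit (cS Z c))
    (haff : ∀ {i j : J} (f : i ⟶ j), IsAffineHom (Z.map f).left) :
    ∃ φ : Over C.k, (C.rebase φ).Fac := by
  haveI : IsAffine C.T.left := hC
  haveI : ∀ {φ ψ : Over C.k} (a : φ ⟶ ψ), IsAffineHom ((DS (bcD Z C.k C.qT)).map a) :=
    fun a => isAffineHom_bcD_map Z C.k C.qT haff a
  haveI : ∀ φ : Over C.k, IsAffine ((DS (bcD Z C.k C.qT)).obj φ) :=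
    fun φ => isAffine_bcObj Z C.k C.qT haff φ
  let tX : DS (bcD Z C.k C.qT) ⟶ (Functor.const (Over C.k)).obj X :=
    { app := fun φ => (bcObj Z C.k C.qT φ).hom
      naturality := fun φ ψ a => by
        exact (MorphismProperty.Over.w ((bcD Z C.k C.qT).map a)).trans (Category.comp_id _).symm }
  obtain ⟨φ, g1l, hg1, hg2⟩ := Scheme.exists_π_app_comp_eq_of_locallyOfFinitePresentation
    (DS (bcD Z C.k C.qT)) tX C.E.hom (cS (bcD Z C.k C.qT) (bcCone Z c C.k C.qT))
    (hbc Z c C.k C.qT hc) C.g.left (by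
      ext φ : 2
      show ((bcCone Z c C.k C.qT).π.app φ).left ≫ (bcObj Z C.k C.qT φ).hom = C.g.left ≫ C.E.hom
      exact (MorphismProperty.Over.w ((bcCone Z c C.k C.qT).π.app φ)).trans
        (MorphismProperty.Over.w C.g).symm)
  refine ⟨φ, C.rebase_fac_of_factor φ (MorphismProperty.Over.homMk g1l hg2) ?_⟩
  apply MorphismProperty.Over.Hom.ext
  exact hg1

/-- after rebasing, a chart is surjective -/
theorem Chart.exists_surj (C : Chart F Z c s) (hc : IsLimit (cS Z c))
    (haff : ∀ {i j : J} (f : i ⟶ j), IsAffineHom (Z.map f).left)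
    (hZ : ∀ j, IsAffine (Z.obj j).left) :
    ∃ φ : Over C.k, (C.rebase φ).Surj := by
  haveI : ∀ {i j : J} (f : i ⟶ j), IsAffineHom ((DS Z).map f) := fun f => haff f
  haveI : ∀ j, CompactSpace ((DS Z).obj j) := fun j => by
    haveI : IsAffine ((DS Z).obj j) := hZ j
    infer_instance
  haveI : Etale C.qT.left := C.et
  obtain ⟨U, hU⟩ : ∃ U : ((DS Z).obj C.k).Opens, (U : Set ((DS Z).obj C.k)) =
      Set.range C.qT.left.base :=
    ⟨⟨_, C.qT.left.isOpenMap.isOpen_range⟩, rfl⟩
  have hO : (cS Z c).π.app C.k ⁻¹ᵁ U = ⊤ := by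
    rw [eq_top_iff]
    intro x _
    obtain ⟨y, hy⟩ := C.surjL x
    show ((cS Z c).π.app C.k).base x ∈ (U : Set ((DS Z).obj C.k))
    rw [hU]
    refine ⟨(bcPtSnd Z c C.k C.qT).left.base y, ?_⟩
    have h := congrArg (fun m => m.left.base y) (bcPtFst_π Z c C.k C.qT)
    exact h.symm.trans (congrArg ((cS Z c).π.app C.k).base hy)
  obtain ⟨j2, f2, hf2⟩ := exists_map_eq_top (DS Z) (cS Z c) hc U hO
  refine ⟨Over.mk f2, ?_⟩
  intro x
  have hx : ((DS Z).map f2).base x ∈ (U : Set ((DS Z).obj C.k)) := by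
    have : x ∈ (DS Z).map f2 ⁻¹ᵁ U := by rw [hf2]; trivial
    exact this
  rw [hU] at hx
  obtain ⟨y, hy⟩ := hx
  obtain ⟨w, hw, -⟩ := Scheme.Pullback.exists_preimage_pullback
    (f := (DS Z).map f2) (g := C.qT.left) x y hy.symm
  exact ⟨w, hw⟩

end Groth.Agent.H27.EpsChart
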