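import Mathlib.AlgebraicGeometry.AffineTransitionLimit

/-!
# The self fibre product of a limit of schemes over a base is the limit of the self fibre products
-/

set_option autoImplicit false
open CategoryTheory CategoryTheory.Limits AlgebraicGeometry
universe u

namespace Groth.Agent.H27.LimSquare

section PB

variable {C : Type*} [Category C] {W₁ X₁ Y₁ Z₁ S₁ T₁ : C} (f₁ : W₁ ⟶ S₁) (f₂ : X₁ ⟶ S₁)
  [HasPullback f₁ f₂] (g₁ : Y₁ ⟶ T₁) (g₂ : Z₁ ⟶ T₁) [HasPullback g₁ g₂] (i₁ : W₁ ⟶ Y₁)
  (i₂ : X₁ ⟶ Z₁) (i₃ : S₁ ⟶ T₁) (e₁ : f₁ ≫ i₃ = i₁ ≫ g₁) (e₂ : f₂ ≫ i₃ = i₂ ≫ g₂)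

theorem pbmap_fst : pullback.map f₁ f₂ g₁ g₂ i₁ i₂ i₃ e₁ e₂ ≫ pullback.fst g₁ g₂ =
    pullback.fst f₁ f₂ ≫ i₁ := pullback.lift_fst _ _ _

theorem pbmap_snd : pullback.map f₁ f₂ g₁ g₂ i₁ i₂ i₃ e₁ e₂ ≫ pullback.snd g₁ g₂ =
    pullback.snd f₁ f₂ ≫ i₂ := pullback.lift_snd _ _ _

theorem pbmap_fst_assoc {Q : C} (k : Y₁ ⟶ Q) :
    pullback.map f₁ f₂ g₁ g₂ i₁ i₂ i₃ e₁ e₂ ≫ pullback.fst g₁ g₂ ≫ k =
      pullback.fst f₁ f₂ ≫ i₁ ≫ k := by
  rw [← Category.assoc, pbmap_fst, Category.assoc]

theorem pbmap_snd_assoc {Q : C} (k : Z₁ ⟶ Q) :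
    pullback.map f₁ f₂ g₁ g₂ i₁ i₂ i₃ e₁ e₂ ≫ pullback.snd g₁ g₂ ≫ k =
      pullback.snd f₁ f₂ ≫ i₂ ≫ k := by
  rw [← Category.assoc, pbmap_snd, Category.assoc]

end PB

variable {I : Type u} [Category.{u} I] [IsCofiltered I] {B : Scheme.{u}} (D : I ⥤ Scheme.{u})
  (t : D ⟶ (Functor.const I).obj B) (c : Cone D) (hc : IsLimit c) (tW : c.pt ⟶ B)
  (htW : ∀ i, c.π.app i ≫ t.app i = tW)

theorem t_naturality {i j : I} (f : i ⟶ j) : D.map f ≫ t.app j = t.app i := by
  have := t.naturality f
  simpa using this

/-- the self fibre products of the stages over `B` -/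
noncomputable abbrev D2 : I ⥤ Scheme.{u} where
  obj i := pullback (t.app i) (t.app i)
  map {i j} f := pullback.map _ _ _ _ (D.map f) (D.map f) (𝟙 _)
    (by rw [Category.comp_id, t_naturality]) (by rw [Category.comp_id, t_naturality])
  map_id i := by
    apply pullback.hom_ext <;>
      simp only [pbmap_fst, pbmap_snd, CategoryTheory.Functor.map_id, Category.comp_id,
        Category.id_comp]
  map_comp f g := by
    apply pullback.hom_ext <;>
      simp only [pbmap_fst, pbmap_snd, Functor.map_comp, Category.assoc, pbmap_fst_assoc,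
        pbmap_snd_assoc]

theorem D2_map_fst {i j : I} (f : i ⟶ j) :
    (D2 D t).map f ≫ pullback.fst (t.app j) (t.app j) =
      pullback.fst (t.app i) (t.app i) ≫ D.map f := by
  exact pullback.lift_fst _ _ _

theorem D2_map_snd {i j : I} (f : i ⟶ j) :
    (D2 D t).map f ≫ pullback.snd (t.app j) (t.app j) =
      pullback.snd (t.app i) (t.app i) ≫ D.map f := by
  exact pullback.lift_snd _ _ _

include htW in
/-- the cone over the self fibre products -/
noncomputable abbrev c2 : Cone (D2 D t) where
  pt := pullback tW tW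
  π :=
    { app := fun i => pullback.map _ _ _ _ (c.π.app i) (c.π.app i) (𝟙 _)
        (by rw [Category.comp_id, htW]) (by rw [Category.comp_id, htW])
      naturality := by
        intro i j f
        apply pullback.hom_ext
        · simp only [Functor.const_obj_obj, Functor.const_obj_map, Category.id_comp,
            pbmap_fst, Category.assoc, pbmap_fst_assoc]
          rw [c.w f]
        · simp only [Functor.const_obj_obj, Functor.const_obj_map, Category.id_comp,
            pbmap_snd, Category.assoc, pbmap_snd_assoc]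
          rw [c.w f] }

theorem c2_π_fst (i : I) :
    (c2 D t c tW htW).π.app i ≫ pullback.fst (t.app i) (t.app i) =
      pullback.fst tW tW ≫ c.π.app i := by
  exact pullback.lift_fst _ _ _

theorem c2_π_snd (i : I) :
    (c2 D t c tW htW).π.app i ≫ pullback.snd (t.app i) (t.app i) =
      pullback.snd tW tW ≫ c.π.app i := by
  exact pullback.lift_snd _ _ _

/-- the two cones over `D` induced by a cone over `D2` -/
noncomputable abbrev coneFst (s : Cone (D2 D t)) : Cone D where
  pt := s.pt
  π :=
    { app := fun i => s.π.app i ≫ pullback.fst _ _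
      naturality := by
        intro i j f
        have h := s.w f
        simp only [Functor.const_obj_obj, Functor.const_obj_map, Category.id_comp]
        rw [← h, Category.assoc, D2_map_fst, Category.assoc] }

/-- the two cones over `D` induced by a cone over `D2` -/
noncomputable abbrev coneSnd (s : Cone (D2 D t)) : Cone D where
  pt := s.pt
  π :=
    { app := fun i => s.π.app i ≫ pullback.snd _ _
      naturality := by
        intro i j f
        have h := s.w f
        simp only [Functor.const_obj_obj, Functor.const_obj_map, Category.id_comp]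
        rw [← h, Category.assoc, D2_map_snd, Category.assoc] }

include htW in
theorem lift_condition (s : Cone (D2 D t)) :
    hc.lift (coneFst D t s) ≫ tW = hc.lift (coneSnd D t s) ≫ tW := by
  obtain ⟨i⟩ := IsCofiltered.nonempty (C := I)
  rw [← htW i, ← Category.assoc, ← Category.assoc, hc.fac, hc.fac]
  show (s.π.app i ≫ pullback.fst _ _) ≫ t.app i = (s.π.app i ≫ pullback.snd _ _) ≫ t.app i
  rw [Category.assoc, Category.assoc, pullback.condition]

/-- the self fibre product of the limit is the limit of the self fibre products -/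
noncomputable def hc2 : IsLimit (c2 D t c tW htW) where
  lift s := pullback.lift (hc.lift (coneFst D t s)) (hc.lift (coneSnd D t s))
    (lift_condition D t c hc tW htW s)
  fac s i := by
    apply pullback.hom_ext
    · rw [Category.assoc, c2_π_fst, ← Category.assoc, pullback.lift_fst]
      exact hc.fac (coneFst D t s) i
    · rw [Category.assoc, c2_π_snd, ← Category.assoc, pullback.lift_snd]
      exact hc.fac (coneSnd D t s) i
  uniq s m hm := by
    apply pullback.hom_ext
    · rw [pullback.lift_fst]
      apply hc.uniq (coneFst D t s)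
      intro i
      show (m ≫ pullback.fst _ _) ≫ c.π.app i = s.π.app i ≫ pullback.fst _ _
      rw [← hm i, Category.assoc, Category.assoc, c2_π_fst]
    · rw [pullback.lift_snd]
      apply hc.uniq (coneSnd D t s)
      intro i
      show (m ≫ pullback.snd _ _) ≫ c.π.app i = s.π.app i ≫ pullback.snd _ _
      rw [← hm i, Category.assoc, Category.assoc, c2_π_snd]

end Groth.Agent.H27.LimSquare
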