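import Groth.Agent.H27.EpsLan
import Groth.Prelude.Def_PBC
import Groth.Agent.H27.LimSquare

/-!
# Pro-étale presentations of weakly contractible covers of an étale `X`-scheme

A `Pres E` is a cofiltered system of affine étale `E`-schemes `D i` whose limit `W` is affine,
w-contractible and surjects onto `E`.  We construct the associated objects of the small étale
and pro-étale sites, the factorisation of maps `W ⟶ E'` (`E'` étale) through a stage, and the
presentation of `W ×_E W` as the limit of the `D i ×_E D i`.
-/

set_option autoImplicit false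
set_option linter.style.haveILetI false
set_option linter.unusedSectionVars false
open CategoryTheory CategoryTheory.Limits AlgebraicGeometry Opposite
universe u

namespace Groth.Agent.H27.EpsPres

variable {X : Scheme.{u}}

/-- a presentation of a w-contractible affine pro-étale cover of `E` -/
structure Pres (E : X.Etale) where
  /-- the index category -/
  I : Type u
  [cat : Category.{u} I]
  [cof : IsCofiltered I]
  /-- the stages -/
  D : I ⥤ Scheme.{u}
  /-- the structure maps of the stages -/
  t : D ⟶ (Functor.const I).obj E.left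
  affE : IsAffine E.left
  et : ∀ i, Etale (t.app i)
  aff : ∀ i, IsAffine (D.obj i)
  /-- the limit cone -/
  c : Cone D
  /-- it is a limit cone -/
  hc : IsLimit c
  affW : IsAffine c.pt
  /-- the structure map of the limit -/
  tW : c.pt ⟶ E.left
  htW : ∀ i, c.π.app i ≫ t.app i = tW
  we : WeaklyEtale tW
  surj : Function.Surjective tW.base
  wc : EtPBC.IsWContractible ↥Γ(c.pt, ⊤)

attribute [instance] Pres.cat Pres.cof Pres.et Pres.aff Pres.affW Pres.we

namespace Pres

variable {E : X.Etale} (p : Pres E)

theorem t_naturality {i j : p.I} (f : i ⟶ j) : p.D.map f ≫ p.t.app j = p.t.app i := by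
  exact LimSquare.t_naturality p.D p.t f

/-- the stages as objects of the small étale site -/
noncomputable def stage (i : p.I) : X.Etale := Scheme.Etale.mk (p.t.app i ≫ E.hom)

/-- the structure map of a stage -/
noncomputable def stageHom (i : p.I) : p.stage i ⟶ E :=
  MorphismProperty.Over.homMk (p.t.app i) rfl

/-- the transition maps -/
noncomputable def stageMap {i j : p.I} (f : i ⟶ j) : p.stage i ⟶ p.stage j :=
  MorphismProperty.Over.homMk (p.D.map f) (by
    show p.D.map f ≫ p.t.app j ≫ E.hom = p.t.app i ≫ E.hom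
    rw [← Category.assoc, p.t_naturality])

theorem stageMap_stageHom {i j : p.I} (f : i ⟶ j) :
    p.stageMap f ≫ p.stageHom j = p.stageHom i := by
  apply MorphismProperty.Over.Hom.ext
  exact p.t_naturality f

/-- the limit as an object of the small pro-étale site -/
noncomputable def W : X.ProEt := Scheme.ProEt.mk (p.tW ≫ E.hom)

instance : IsAffine p.W.left := inferInstanceAs (IsAffine p.c.pt)

/-- the projections -/
noncomputable def Wπ (i : p.I) : p.W ⟶ (ProEtS.eps X).obj (p.stage i) :=
  MorphismProperty.Over.homMk (p.c.π.app i) (by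
    show p.c.π.app i ≫ p.t.app i ≫ E.hom = p.tW ≫ E.hom
    rw [← Category.assoc, p.htW])

/-- the structure map -/
noncomputable def Whom : p.W ⟶ (ProEtS.eps X).obj E :=
  MorphismProperty.Over.homMk p.tW rfl

theorem Wπ_stageHom (i : p.I) : p.Wπ i ≫ (ProEtS.eps X).map (p.stageHom i) = p.Whom := by
  apply MorphismProperty.Over.Hom.ext
  exact p.htW i

theorem Wπ_stageMap {i j : p.I} (f : i ⟶ j) :
    p.Wπ i ≫ (ProEtS.eps X).map (p.stageMap f) = p.Wπ j := by
  apply MorphismProperty.Over.Hom.ext
  exact p.c.w f

/-- the stages surject onto `E` -/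
theorem surjective_stageHom (i : p.I) : Function.Surjective (p.stageHom i).left.base := by
  intro x
  obtain ⟨w, hw⟩ := p.surj x
  refine ⟨(p.c.π.app i).base w, ?_⟩
  have h := congrArg (fun m : p.c.pt ⟶ E.left => m.base w) (p.htW i)
  exact h.trans hw

set_option backward.isDefEq.respectTransparency.types false in
/-- every morphism from the limit to an étale `X`-scheme factors through a stage -/
theorem exists_factor (E' : X.Etale) (a : p.W ⟶ (ProEtS.eps X).obj E') :
    ∃ (i : p.I) (g : p.stage i ⟶ E'), p.Wπ i ≫ (ProEtS.eps X).map g = a := by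
  obtain ⟨i, g, hg1, hg2⟩ := Scheme.exists_π_app_comp_eq_of_locallyOfFinitePresentation p.D
    (p.t ≫ (Functor.const p.I).map E.hom) E'.hom p.c p.hc a.left (by
      ext i : 2
      show p.c.π.app i ≫ p.t.app i ≫ E.hom = a.left ≫ E'.hom
      rw [← Category.assoc, p.htW]
      exact (MorphismProperty.Over.w a).symm)
  refine ⟨i, MorphismProperty.Over.homMk g hg2, ?_⟩
  apply MorphismProperty.Over.Hom.ext
  exact hg1

section Square

/-- the self fibre products of the stages over `E` -/
noncomputable abbrev D2 : p.I ⥤ Scheme.{u} := LimSquare.D2 p.D p.t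

/-- the cone over the self fibre products -/
noncomputable abbrev c2 : Cone p.D2 := LimSquare.c2 p.D p.t p.c p.tW p.htW

/-- the self fibre product of the limit is the limit of the self fibre products -/
noncomputable def hc2 : IsLimit p.c2 := LimSquare.hc2 p.D p.t p.c p.hc p.tW p.htW

instance (i : p.I) : IsAffine (p.D2.obj i) :=
  haveI : IsAffine (((Functor.const p.I).obj E.left).obj i) := p.affE
  inferInstanceAs (IsAffine (pullback (p.t.app i) (p.t.app i)))

/-- the self fibre product of a stage as an object of the small étale site -/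
noncomputable def stage2 (i : p.I) : X.Etale :=
  Scheme.Etale.mk (pullback.fst (p.t.app i) (p.t.app i) ≫ p.t.app i ≫ E.hom)

/-- the first projection -/
noncomputable def q1 (i : p.I) : p.stage2 i ⟶ p.stage i :=
  MorphismProperty.Over.homMk (pullback.fst (p.t.app i) (p.t.app i)) rfl

/-- the second projection -/
noncomputable def q2 (i : p.I) : p.stage2 i ⟶ p.stage i :=
  MorphismProperty.Over.homMk (pullback.snd (p.t.app i) (p.t.app i)) (by
    show pullback.snd (p.t.app i) (p.t.app i) ≫ p.t.app i ≫ E.hom =
      pullback.fst (p.t.app i) (p.t.app i) ≫ p.t.app i ≫ E.hom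
    rw [← Category.assoc, ← Category.assoc, pullback.condition])

/-- the transition maps of the self fibre products -/
noncomputable def stage2Map {i j : p.I} (f : i ⟶ j) : p.stage2 i ⟶ p.stage2 j :=
  MorphismProperty.Over.homMk (p.D2.map f) (by
    show p.D2.map f ≫ pullback.fst (p.t.app j) (p.t.app j) ≫ p.t.app j ≫ E.hom =
      pullback.fst (p.t.app i) (p.t.app i) ≫ p.t.app i ≫ E.hom
    rw [← Category.assoc, LimSquare.D2_map_fst, Category.assoc, ← Category.assoc (p.D.map f),
      p.t_naturality])

theorem stage2Map_q1 {i j : p.I} (f : i ⟶ j) :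
    p.stage2Map f ≫ p.q1 j = p.q1 i ≫ p.stageMap f := by
  apply MorphismProperty.Over.Hom.ext
  exact LimSquare.D2_map_fst p.D p.t f

theorem stage2Map_q2 {i j : p.I} (f : i ⟶ j) :
    p.stage2Map f ≫ p.q2 j = p.q2 i ≫ p.stageMap f := by
  apply MorphismProperty.Over.Hom.ext
  exact LimSquare.D2_map_snd p.D p.t f

/-- the lift of a pair of morphisms to a stage with the same composite to `E` -/
noncomputable def lift2 {T : X.Etale} {i : p.I} (m₁ m₂ : T ⟶ p.stage i)
    (h : m₁ ≫ p.stageHom i = m₂ ≫ p.stageHom i) : T ⟶ p.stage2 i :=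
  MorphismProperty.Over.homMk (pullback.lift m₁.left m₂.left (congrArg (fun k => k.left) h)) (by
    show pullback.lift m₁.left m₂.left _ ≫ pullback.fst (p.t.app i) (p.t.app i) ≫
      p.t.app i ≫ E.hom = T.hom
    exact (Category.assoc _ _ _).symm.trans
      ((congrArg (fun k => k ≫ p.t.app i ≫ E.hom) (pullback.lift_fst _ _ _)).trans
        (MorphismProperty.Over.w m₁)))

theorem lift2_q1 {T : X.Etale} {i : p.I} (m₁ m₂ : T ⟶ p.stage i)
    (h : m₁ ≫ p.stageHom i = m₂ ≫ p.stageHom i) : p.lift2 m₁ m₂ h ≫ p.q1 i = m₁ := by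
  apply MorphismProperty.Over.Hom.ext
  exact pullback.lift_fst _ _ _

theorem lift2_q2 {T : X.Etale} {i : p.I} (m₁ m₂ : T ⟶ p.stage i)
    (h : m₁ ≫ p.stageHom i = m₂ ≫ p.stageHom i) : p.lift2 m₁ m₂ h ≫ p.q2 i = m₂ := by
  apply MorphismProperty.Over.Hom.ext
  exact pullback.lift_snd _ _ _

/-- the self fibre product of the limit as an object of the small pro-étale site -/
noncomputable def W2 : X.ProEt := Scheme.ProEt.mk (pullback.fst p.tW p.tW ≫ p.tW ≫ E.hom)

/-- the first projection -/
noncomputable def pr1 : p.W2 ⟶ p.W := MorphismProperty.Over.homMk (pullback.fst p.tW p.tW) rfl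

/-- the second projection -/
noncomputable def pr2 : p.W2 ⟶ p.W :=
  MorphismProperty.Over.homMk (pullback.snd p.tW p.tW) (by
    show pullback.snd p.tW p.tW ≫ p.tW ≫ E.hom = pullback.fst p.tW p.tW ≫ p.tW ≫ E.hom
    rw [← Category.assoc, ← Category.assoc, pullback.condition])

theorem pr1_Whom : p.pr1 ≫ p.Whom = p.pr2 ≫ p.Whom := by
  apply MorphismProperty.Over.Hom.ext
  exact pullback.condition

/-- the projections to the self fibre products of the stages -/
noncomputable def W2π (i : p.I) : p.W2 ⟶ (ProEtS.eps X).obj (p.stage2 i) :=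
  MorphismProperty.Over.homMk (p.c2.π.app i) (by
    show p.c2.π.app i ≫ pullback.fst (p.t.app i) (p.t.app i) ≫ p.t.app i ≫ E.hom =
      pullback.fst p.tW p.tW ≫ p.tW ≫ E.hom
    rw [← Category.assoc, LimSquare.c2_π_fst, Category.assoc, ← Category.assoc (p.c.π.app i),
      p.htW])

theorem W2π_q1 (i : p.I) :
    p.W2π i ≫ (ProEtS.eps X).map (p.q1 i) = p.pr1 ≫ p.Wπ i := by
  apply MorphismProperty.Over.Hom.ext
  exact LimSquare.c2_π_fst p.D p.t p.c p.tW p.htW i

theorem W2π_q2 (i : p.I) :
    p.W2π i ≫ (ProEtS.eps X).map (p.q2 i) = p.pr2 ≫ p.Wπ i := by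
  apply MorphismProperty.Over.Hom.ext
  exact LimSquare.c2_π_snd p.D p.t p.c p.tW p.htW i

end Square

end Pres

end Groth.Agent.H27.EpsPres
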