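import Groth.Agent.H27.AdmMain

/-!
# Composition of maps identifying local rings; enlarging to an ind-Zariski algebra
-/

set_option autoImplicit false
universe u

namespace Groth.Agent.H27.Adm

/-- maps identifying local rings compose -/
theorem identifiesLocalRings_trans (A B C : Type u) [CommRing A] [CommRing B] [CommRing C]
    [Algebra A B] [Algebra B C] [Algebra A C] [IsScalarTower A B C]
    (h1 : EtPBC.IdentifiesLocalRings A B) (h2 : EtPBC.IdentifiesLocalRings B C) :
    EtPBC.IdentifiesLocalRings A C := by
  intro q
  have hcomp : algebraMap A C = (algebraMap B C).comp (algebraMap A B) :=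
    IsScalarTower.algebraMap_eq A B C
  have key : ∀ (f : A →+* C) (_ : f = (algebraMap B C).comp (algebraMap A B)),
      Function.Bijective (Localization.localRingHom (q.asIdeal.comap f) q.asIdeal f rfl) := by
    intro f hf
    subst hf
    have hb2 := h2 q
    have hb1 := h1 ⟨q.asIdeal.comap (algebraMap B C), inferInstance⟩
    have hc := Localization.localRingHom_comp
      ((q.asIdeal.comap (algebraMap B C)).comap (algebraMap A B))
      (q.asIdeal.comap (algebraMap B C)) q.asIdeal (algebraMap A B) rfl (algebraMap B C) rfl
    have hc' : Localization.localRingHom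
        (q.asIdeal.comap ((algebraMap B C).comp (algebraMap A B))) q.asIdeal
        ((algebraMap B C).comp (algebraMap A B)) rfl =
        (Localization.localRingHom (q.asIdeal.comap (algebraMap B C)) q.asIdeal
          (algebraMap B C) rfl).comp
        (Localization.localRingHom ((q.asIdeal.comap (algebraMap B C)).comap (algebraMap A B))
          (q.asIdeal.comap (algebraMap B C)) (algebraMap A B) rfl) := hc
    rw [hc']
    exact (Function.Bijective.comp hb2 hb1 :)
  exact key (algebraMap A C) hcomp

/-- if `A → B` identifies local rings then the w-localization of `B` is ind-Zariski over `A` -/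
theorem main183 (A B : Type u) [CommRing A] [CommRing B] [Algebra A B]
    (h : EtPBC.IdentifiesLocalRings A B) :
    ∃ (B' : Type u) (_ : CommRing B') (_ : Algebra B B') (_ : Algebra A B')
      (_ : IsScalarTower A B B'),
      Module.FaithfullyFlat B B' ∧ EtPBC.IsIndZariski B B' ∧ EtPBC.IsIndZariski A B' := by
  letI algAC : Algebra A (R (⊥ : Ideal B)) :=
    ((algebraMap B (R (⊥ : Ideal B))).comp (algebraMap A B)).toAlgebra
  haveI tower : IsScalarTower A B (R (⊥ : Ideal B)) := IsScalarTower.of_algebraMap_eq (fun _ => rfl)
  refine ⟨R (⊥ : Ideal B), inferInstance, inferInstance, algAC, tower, faithfullyFlat,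
    isIndZariski ⊥, ?_⟩
  exact Groth.Agent.H27.IndZarWLocal.main A (R (⊥ : Ideal B))
    (identifiesLocalRings_trans A B (R (⊥ : Ideal B)) h (identifiesLocalRings ⊥)) (isWLocal ⊥)

end Groth.Agent.H27.Adm
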