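import Groth.Agent.H27.FibRingZar
import Groth.Agent.H27.IdLocTrans
import Groth.Agent.H4.WLocalFib
import Mathlib.Topology.ExtremallyDisconnected
import Mathlib.Topology.Compactification.StoneCech

/-!
# A faithfully flat ind-Zariski w-local cover with extremally disconnected `π₀`
-/

set_option autoImplicit false
universe u

namespace Groth.Agent.H27.FibRing

open Groth.Agent.H4.SpectralFib

/-- the space of ultrafilters on a set is extremally disconnected -/
theorem extremallyDisconnected_ultrafilter (α : Type u) : ExtremallyDisconnected (Ultrafilter α) := by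
  constructor
  intro U hU
  let S : Set (Set α) := {s | {u : Ultrafilter α | s ∈ u} ⊆ U}
  have hcl : closure U = {u : Ultrafilter α | ⋃₀ S ∈ u} := by
    apply Set.Subset.antisymm
    · apply closure_minimal _ (ultrafilter_isClosed_basic _)
      intro u hu
      obtain ⟨_, ⟨s, rfl⟩, hus, hsU⟩ := ultrafilterBasis_is_basis.exists_subset_of_mem_open hu hU
      exact u.mem_of_superset hus (Set.subset_sUnion_of_mem hsU)
    · intro u hu
      rw [mem_closure_iff_nhds_basis (ultrafilterBasis_is_basis.nhds_hasBasis (a := u))]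
      rintro _ ⟨⟨r, rfl⟩, hur⟩
      have hne : (r ∩ ⋃₀ S).Nonempty := u.nonempty_of_mem (u.inter_mem hur hu)
      obtain ⟨a, har, s, hsS, has⟩ := hne
      refine ⟨pure a, hsS ?_, ?_⟩
      · exact has
      · exact har
  rw [hcl]
  exact ultrafilter_isOpen_basic _

/-- being w-local is invariant under homeomorphisms -/
theorem isWLocal_of_homeo {X Z : Type u} [TopologicalSpace X] [TopologicalSpace Z]
    [SpectralSpace X] (e : X ≃ₜ Z) (h : ProEtW.IsWLocal Z) : ProEtW.IsWLocal X := by
  obtain ⟨-, h0, huniq⟩ := h
  have hcl : ∀ x : X, IsClosed ({x} : Set X) ↔ IsClosed ({e x} : Set Z) := by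
    intro x
    rw [← e.isClosed_image, Set.image_singleton]
  refine ⟨inferInstance, ?_, ?_⟩
  · have : {x : X | IsClosed ({x} : Set X)} = e ⁻¹' {z : Z | IsClosed ({z} : Set Z)} := by
      ext x
      exact hcl x
    rw [this]
    exact h0.preimage e.continuous
  · intro x
    obtain ⟨z, ⟨hz1, hz2⟩, hz3⟩ := huniq (e x)
    refine ⟨e.symm z, ⟨?_, ?_⟩, ?_⟩
    · rw [hcl, e.apply_symm_apply]
      exact hz1
    · rw [← e.isInducing.specializes_iff, e.apply_symm_apply]
      exact hz2
    · rintro y ⟨hy1, hy2⟩
      rw [← hz3 (e y) ⟨(hcl y).mp hy1, (e.isInducing.specializes_iff).mpr hy2⟩,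
        e.symm_apply_apply]

variable {A : Type u} [CommRing A] {T : Type u} [TopologicalSpace T]
variable [CompactSpace T] [T2Space T] [TotallyDisconnectedSpace T]
variable (g : C(T, _root_.ConnectedComponents (PrimeSpectrum A)))

theorem identifiesLocalRings : EtPBC.IdentifiesLocalRings A (B g) := by
  intro q
  apply Groth.Agent.H27.Adm.bijective_localRingHom_of
  · intro x
    obtain ⟨h, rfl⟩ := Lam'_surjective g x
    have hU : IsClopen {s | h s = h (tOf g q.asIdeal)} := h.isLocallyConstant.isClopen_fiber _
    refine ⟨h (tOf g q.asIdeal), 1, ind g {s | h s = h (tOf g q.asIdeal)}, ?_,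
      (ind_notMem_iff g q.asIdeal hU).mpr rfl, ?_⟩
    · intro h1
      rw [Ideal.mem_comap, map_one] at h1
      exact q.isPrime.ne_top ((Ideal.eq_top_iff_one _).mpr h1)
    · rw [map_one, one_mul]
      exact ind_fiber_mul g h _
  · intro a u hu hua
    obtain ⟨h, rfl⟩ := Lam'_surjective g u
    set y := ptOf g q.asIdeal with hy
    have h1 : h y.1.2 ∉ y.1.1.asIdeal := by
      intro hmem
      apply hu
      rw [mem_iff g q.asIdeal, ev_Lam']
      exact (IsLocalization.AtPrime.to_map_mem_maximal_iff _ y.1.1.asIdeal _).mpr hmem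
    have h2 := congrArg (ev g y) hua
    rw [map_mul, AlgHom.commutes, ev_Lam', map_zero, ← map_mul,
      IsLocalization.map_eq_zero_iff y.1.1.asIdeal.primeCompl] at h2
    obtain ⟨m, hm⟩ := h2
    refine ⟨m.1 * h y.1.2, ?_, ?_⟩
    · intro hmem
      rcases (Ideal.comap_isPrime (algebraMap A (B g)) q.asIdeal).mem_or_mem hmem with h' | h'
      · exact m.2 h'
      · exact h1 h'
    · rw [mul_assoc]
      exact hm

omit [CompactSpace T] [T2Space T] [TotallyDisconnectedSpace T] in
theorem comap_surjective (hg : Function.Surjective g) :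
    Function.Surjective (PrimeSpectrum.comap (algebraMap A (B g))) := by
  intro p
  obtain ⟨t, ht⟩ := hg (_root_.ConnectedComponents.mk p)
  exact ⟨⟨primeAt g ⟨(p, t), ht.symm⟩, inferInstance⟩,
    PrimeSpectrum.ext (comap_primeAt g ⟨(p, t), ht.symm⟩)⟩

theorem isWLocal (hA : ProEtW.IsWLocal (PrimeSpectrum A)) :
    ProEtW.IsWLocal (PrimeSpectrum (B g)) :=
  isWLocal_of_homeo (specHomeo g) (Groth.Agent.H4.WLocalFib.isWLocal_Y g hA)

theorem extremallyDisconnected_cc (hT : ExtremallyDisconnected T) :
    ExtremallyDisconnected (_root_.ConnectedComponents (PrimeSpectrum (B g))) :=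
  extremallyDisconnected_of_homeo (eHomeo g).symm

end Groth.Agent.H27.FibRing

namespace Groth.Agent.H27.Adm

/-- auxiliary form of the main theorem, over an intermediate w-local ring -/
theorem main696_aux (A A1 : Type u) [CommRing A] [CommRing A1] [Algebra A A1]
    (hff : Module.FaithfullyFlat A A1) (hid : EtPBC.IdentifiesLocalRings A A1)
    (hw : ProEtW.IsWLocal (PrimeSpectrum A1))
    {T : Type u} [TopologicalSpace T] [CompactSpace T] [T2Space T] [TotallyDisconnectedSpace T]
    (g : C(T, _root_.ConnectedComponents (PrimeSpectrum A1))) (hg : Function.Surjective g)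
    (hT : ExtremallyDisconnected T) :
    ∃ (B : Type u) (_ : CommRing B) (_ : Algebra A B),
      Module.FaithfullyFlat A B ∧ EtPBC.IsIndZariski A B ∧ ProEtW.IsWLocal (PrimeSpectrum B) ∧
        ExtremallyDisconnected (_root_.ConnectedComponents (PrimeSpectrum B)) := by
  letI algAB : Algebra A (FibRing.B g) :=
    ((algebraMap A1 (FibRing.B g)).comp (algebraMap A A1)).toAlgebra
  haveI tower : IsScalarTower A A1 (FibRing.B g) :=
    IsScalarTower.of_algebraMap_eq (R := A) (S := A1) (A := FibRing.B g) (fun _ => rfl)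
  have hwl : ProEtW.IsWLocal (PrimeSpectrum (FibRing.B g)) := FibRing.isWLocal g hw
  refine ⟨FibRing.B g, inferInstance, algAB, ?_, ?_, hwl, ?_⟩
  · haveI : Module.Flat A1 (FibRing.B g) := flat_of_isIndZariski (FibRing.isIndZariski g)
    haveI : Module.FaithfullyFlat A1 (FibRing.B g) :=
      Module.FaithfullyFlat.of_comap_surjective (FibRing.comap_surjective g hg)
    exact Module.FaithfullyFlat.trans A A1 (FibRing.B g)
  · exact Groth.Agent.H27.IndZarWLocal.main A (FibRing.B g)
      (identifiesLocalRings_trans A A1 (FibRing.B g) hid (FibRing.identifiesLocalRings g)) hwl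
  · exact FibRing.extremallyDisconnected_cc g hT

/-- every ring has a faithfully flat ind-Zariski cover with w-local spectrum whose space of
connected components is extremally disconnected -/
theorem main696 (A : Type u) [CommRing A] :
    ∃ (B : Type u) (_ : CommRing B) (_ : Algebra A B),
      Module.FaithfullyFlat A B ∧ EtPBC.IsIndZariski A B ∧ ProEtW.IsWLocal (PrimeSpectrum B) ∧
        ExtremallyDisconnected (_root_.ConnectedComponents (PrimeSpectrum B)) := by
  haveI : T2Space (_root_.ConnectedComponents (PrimeSpectrum (R (⊥ : Ideal A)))) :=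
    Groth.Agent.H4.SpectralCC.t2Space_connectedComponents
  refine main696_aux A (R (⊥ : Ideal A)) faithfullyFlat (identifiesLocalRings ⊥) (isWLocal ⊥)
    (T := Ultrafilter (_root_.ConnectedComponents (PrimeSpectrum (R (⊥ : Ideal A)))))
    ⟨Ultrafilter.extend id, continuous_ultrafilter_extend id⟩ ?_
    (FibRing.extremallyDisconnected_ultrafilter _)
  intro c
  exact ⟨pure c, ultrafilter_extend_pure id c⟩

end Groth.Agent.H27.Adm
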