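import Mathlib

set_option autoImplicit false
universe u

namespace Groth.Agent.H27.PureIdeal

open PrimeSpectrum

variable (R : Type u) [CommRing R]

theorem stableUnderGeneralization_of_pure (I : Ideal R) (hI : I.Pure) :
    StableUnderGeneralization (zeroLocus (I : Set R)) := by
  intro x y hyx hx
  rw [← PrimeSpectrum.le_iff_specializes] at hyx
  rw [mem_zeroLocus] at hx ⊢
  intro a ha
  haveI := hI
  obtain ⟨b, hb, hab⟩ := Ideal.exists_eq_mul_of_pure ha
  have h0 : a * (1 - b) ∈ y.asIdeal := by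
    have : a * (1 - b) = 0 := by rw [mul_sub, mul_one, ← hab, sub_self]
    rw [this]; exact y.asIdeal.zero_mem
  have h1 : (1 - b) ∉ x.asIdeal := fun h =>
    x.asIdeal.one_notMem (by simpa using x.asIdeal.add_mem h (hx hb))
  have h2 : (1 - b) ∉ y.asIdeal := fun h => h1 (hyx h)
  exact (y.2.mem_or_mem h0).resolve_right h2

/-- The ideal `{x | x ∈ xJ}`. -/
def selfMul (J : Ideal R) : Ideal R where
  carrier := {x | ∃ f ∈ J, x = x * f}
  zero_mem' := ⟨0, J.zero_mem, by simp⟩
  add_mem' := by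
    rintro x y ⟨f, hf, hxf⟩ ⟨g, hg, hyg⟩
    refine ⟨f + g - f * g, J.sub_mem (J.add_mem hf hg) (J.mul_mem_right _ hf), ?_⟩
    have h1 : x * (f + g - f * g) = x := by
      have : x * (f + g - f * g) = x * f + (x - x * f) * g := by ring
      rw [this, ← hxf, sub_self, zero_mul, add_zero]
    have h2 : y * (f + g - f * g) = y := by
      have : y * (f + g - f * g) = y * g + (y - y * g) * f := by ring
      rw [this, ← hyg, sub_self, zero_mul, add_zero]
    rw [add_mul, h1, h2]
  smul_mem' := by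
    rintro r x ⟨f, hf, hxf⟩
    refine ⟨f, hf, ?_⟩
    rw [smul_eq_mul, mul_assoc, ← hxf]

variable {R}

lemma mem_selfMul {J : Ideal R} {x : R} : x ∈ selfMul R J ↔ ∃ f ∈ J, x = x * f := Iff.rfl

lemma selfMul_le (J : Ideal R) : selfMul R J ≤ J := by
  rintro x ⟨f, hf, hxf⟩
  rw [hxf]; exact J.mul_mem_left _ hf

lemma exists_pow_mem_selfMul {J : Ideal R}
    (hZ : StableUnderGeneralization (zeroLocus (J : Set R))) {f : R} (hf : f ∈ J) :
    ∃ n : ℕ, f ^ n ∈ selfMul R J := by
  classical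
  let T : Submonoid R :=
    { carrier := {t | ∃ g ∈ J, ∃ n : ℕ, t = (1 + g) * f ^ n}
      one_mem' := ⟨0, J.zero_mem, 0, by simp⟩
      mul_mem' := by
        rintro a b ⟨g, hg, n, rfl⟩ ⟨g', hg', n', rfl⟩
        refine ⟨g + g' + g * g', J.add_mem (J.add_mem hg hg') (J.mul_mem_left _ hg'), n + n', ?_⟩
        rw [pow_add]; ring }
  by_cases h0 : (0 : R) ∈ T
  · obtain ⟨g, hg, n, hn⟩ := h0
    refine ⟨n, -g, J.neg_mem hg, ?_⟩
    have : f ^ n + g * f ^ n = 0 := by rw [hn]; ring
    have h2 : f ^ n = -(g * f ^ n) := eq_neg_of_add_eq_zero_left this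
    calc f ^ n = -(g * f ^ n) := h2
      _ = f ^ n * -g := by ring
  · exfalso
    have hdisj : Disjoint ((⊥ : Ideal R) : Set R) (T : Set R) := by
      rw [Set.disjoint_left]
      intro x hx hxT
      rw [SetLike.mem_coe, Ideal.mem_bot] at hx
      subst hx
      exact h0 hxT
    obtain ⟨p, hp, -, hpT⟩ := Ideal.exists_le_prime_disjoint (⊥ : Ideal R) T hdisj
    have hne : p ⊔ J ≠ ⊤ := by
      intro htop
      have h1 : (1 : R) ∈ p ⊔ J := htop ▸ Submodule.mem_top
      obtain ⟨a, ha, g', hg', hag⟩ := Submodule.mem_sup.mp h1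
      have haT : a ∈ T := ⟨-g', J.neg_mem hg', 0, by rw [pow_zero, mul_one, ← hag]; ring⟩
      exact Set.disjoint_left.mp hpT ha haT
    obtain ⟨m, hm, hpm⟩ := Ideal.exists_le_maximal _ hne
    have hmZ : (⟨m, hm.isPrime⟩ : PrimeSpectrum R) ∈ zeroLocus (J : Set R) := by
      rw [mem_zeroLocus]
      exact fun x hx => hpm (Ideal.mem_sup_right hx)
    have hspec : (⟨p, hp⟩ : PrimeSpectrum R) ⤳ ⟨m, hm.isPrime⟩ := by
      rw [← PrimeSpectrum.le_iff_specializes]
      exact fun x hx => hpm (Ideal.mem_sup_left hx)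
    have hpZ := hZ hspec hmZ
    rw [mem_zeroLocus] at hpZ
    have hfp : f ∈ p := hpZ hf
    have hfT : f ∈ T := ⟨0, J.zero_mem, 1, by simp⟩
    exact Set.disjoint_left.mp hpT hfp hfT

lemma zeroLocus_selfMul {J : Ideal R}
    (hZ : StableUnderGeneralization (zeroLocus (J : Set R))) :
    zeroLocus (selfMul R J : Set R) = zeroLocus (J : Set R) := by
  apply le_antisymm
  · intro p hp
    rw [mem_zeroLocus] at hp ⊢
    intro f hf
    obtain ⟨n, hn⟩ := exists_pow_mem_selfMul hZ hf
    exact p.2.mem_of_pow_mem n (hp hn)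
  · exact zeroLocus_anti_mono (selfMul_le J)

lemma pure_selfMul {J : Ideal R}
    (hZ : StableUnderGeneralization (zeroLocus (J : Set R))) : (selfMul R J).Pure := by
  apply Ideal.Pure.of_inf_eq_mul
  intro B _
  refine le_antisymm ?_ Ideal.mul_le_inf
  rintro x ⟨hxI, hxB⟩
  obtain ⟨f, hf, hxf⟩ := hxI
  obtain ⟨n, hn⟩ := exists_pow_mem_selfMul hZ hf
  have : ∀ k : ℕ, x = x * f ^ k := by
    intro k
    induction k with
    | zero => simp
    | succ k ih => rw [pow_succ, ← mul_assoc, ← ih, ← hxf]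
  rw [this n]
  exact Ideal.mul_mem_mul_rev hn hxB

variable (R)

theorem pure_zeroLocus :
    (∀ I : Ideal R, I.Pure → StableUnderGeneralization (zeroLocus (I : Set R))) ∧
      ∀ Z : Set (PrimeSpectrum R), IsClosed Z → StableUnderGeneralization Z →
        ∃ I : Ideal R, I.Pure ∧ zeroLocus (I : Set R) = Z := by
  refine ⟨stableUnderGeneralization_of_pure R, ?_⟩
  intro Z hZc hZ
  have hZJ : zeroLocus (vanishingIdeal Z : Set R) = Z := by
    rw [zeroLocus_vanishingIdeal_eq_closure, hZc.closure_eq]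
  have hZ' : StableUnderGeneralization (zeroLocus (vanishingIdeal Z : Set R)) := by
    rw [hZJ]; exact hZ
  exact ⟨selfMul R (vanishingIdeal Z), pure_selfMul hZ', (zeroLocus_selfMul hZ').trans hZJ⟩

lemma pure_fg_of_idempotent {I : Ideal R} {e : R} (he : IsIdempotentElem e)
    (hI : I = Ideal.span {e}) : I.Pure ∧ I.FG := by
  have hfg : I.FG := by rw [hI]; exact ⟨{e}, by simp⟩
  refine ⟨?_, hfg⟩
  exact Ideal.Pure.of_isIdempotentElem hfg
    ((Ideal.isIdempotentElem_iff_of_fg I hfg).mpr ⟨e, he, hI⟩)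

theorem pure_fg_tfae (I : Ideal R) :
    List.TFAE [I.Pure ∧ I.FG, ∃ e : R, IsIdempotentElem e ∧ I = Ideal.span {e},
      I.Pure ∧ IsOpen (zeroLocus (I : Set R)), Module.Projective R (R ⧸ I)] := by
  tfae_have 1 → 2 := by
    rintro ⟨hp, hfg⟩
    haveI := hp
    exact (Ideal.isIdempotentElem_iff_of_fg I hfg).mp (Ideal.isIdempotentElem_of_pure I)
  tfae_have 2 → 1 := by
    rintro ⟨e, he, hI⟩
    exact pure_fg_of_idempotent R he hI
  tfae_have 2 → 3 := by
    rintro ⟨e, he, hI⟩
    refine ⟨(pure_fg_of_idempotent R he hI).1, ?_⟩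
    rw [hI, zeroLocus_span, zeroLocus_eq_basicOpen_of_isIdempotentElem e he]
    exact (basicOpen (1 - e)).isOpen
  tfae_have 3 → 2 := by
    rintro ⟨hp, hopen⟩
    have hclopen : IsClopen (zeroLocus (I : Set R)) := ⟨isClosed_zeroLocus _, hopen⟩
    obtain ⟨e, he, hZe⟩ := isClopen_iff_zeroLocus.mp hclopen
    refine ⟨e, he, ?_⟩
    haveI := hp
    haveI : (Ideal.span {e}).Pure := (pure_fg_of_idempotent R he rfl).1
    rw [← Ideal.zeroLocus_inj_of_pure, hZe, zeroLocus_span]
  tfae_have 2 → 4 := by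
    rintro ⟨e, he, hI⟩
    let i : (R ⧸ I) →ₗ[R] R := Submodule.liftQ I (LinearMap.mulLeft R (1 - e)) (by
      intro x hx
      rw [hI, Ideal.mem_span_singleton'] at hx
      obtain ⟨r, rfl⟩ := hx
      rw [LinearMap.mem_ker, LinearMap.mulLeft_apply]
      calc (1 - e) * (r * e) = r * (e - e * e) := by ring
        _ = 0 := by rw [he.eq, sub_self, mul_zero])
    refine Module.Projective.of_split i (Submodule.mkQ I) ?_
    ext
    simp only [LinearMap.coe_comp, Function.comp_apply, Submodule.mkQ_apply, LinearMap.id_coe,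
      id_eq, i]
    rw [← Submodule.mkQ_apply, Submodule.liftQ_apply, LinearMap.mulLeft_apply, mul_one,
      Submodule.mkQ_apply, ← sub_eq_zero, ← Submodule.Quotient.mk_sub,
      Submodule.Quotient.mk_eq_zero]
    have : (1 - e - 1 : R) = -e := by ring
    rw [this, hI]
    exact (Ideal.span {e}).neg_mem (Ideal.mem_span_singleton_self e)
  tfae_have 4 → 2 := by
    intro hproj
    obtain ⟨σ, hσ⟩ := Module.projective_lifting_property (Submodule.mkQ I) LinearMap.id
      (Submodule.mkQ_surjective I)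
    have hσ' : ∀ y, Submodule.mkQ I (σ y) = y := fun y => LinearMap.congr_fun hσ y
    set e' := σ 1 with he'
    have h1 : 1 - e' ∈ I := by
      rw [← Submodule.Quotient.mk_eq_zero, Submodule.Quotient.mk_sub, sub_eq_zero]
      exact (hσ' 1).symm
    have h2 : ∀ x ∈ I, x * e' = 0 := by
      intro x hx
      have : x • σ 1 = σ (x • (1 : R ⧸ I)) := (map_smul σ x 1).symm
      rw [smul_eq_mul] at this
      rw [he', this]
      have : x • (1 : R ⧸ I) = 0 := by
        change x • Submodule.Quotient.mk (1 : R) = 0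
        rw [← Submodule.Quotient.mk_smul, Submodule.Quotient.mk_eq_zero, smul_eq_mul, mul_one]
        exact hx
      rw [this, map_zero]
    have h3 : (1 - e') * e' = 0 := h2 _ h1
    refine ⟨1 - e', ?_, ?_⟩
    · change (1 - e') * (1 - e') = 1 - e'
      have : (1 - e') * (1 - e') = (1 - e') - (1 - e') * e' := by ring
      rw [this, h3, sub_zero]
    · apply le_antisymm
      · intro x hx
        rw [Ideal.mem_span_singleton']
        refine ⟨x, ?_⟩
        rw [mul_sub, mul_one, h2 x hx, sub_zero]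
      · rw [Ideal.span_singleton_le_iff_mem]
        exact h1
  tfae_finish

end Groth.Agent.H27.PureIdeal
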