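import Groth.Agent.H27.IndEtK
import Groth.Agent.H27.PureIdeal
import Mathlib.RingTheory.LocalIso
import Mathlib.RingTheory.RingHom.Etale
import Mathlib.RingTheory.Smooth.Flat

/-!
# The factorization criterion for ind-Zariski algebras

`B` is ind-Zariski over `A` as soon as every map `P → B` from a finitely presented `A`-algebra
factors through a local isomorphism `A → E`.
-/

set_option autoImplicit false
universe u

open CategoryTheory CategoryTheory.Limits
open scoped TensorProduct

namespace Groth.Agent.H27.IndZarK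

/-- local isomorphisms are étale -/
theorem etale_of_isLocalIso (A E : Type u) [CommRing A] [CommRing E] [Algebra A E]
    [Algebra.IsLocalIso A E] : Algebra.Etale A E := by
  rw [← RingHom.etale_algebraMap]
  refine RingHom.Etale.ofLocalizationSpanTarget (algebraMap A E)
    {g : E | Algebra.IsStandardOpenImmersion A (Localization.Away g)}
    (Algebra.IsLocalIso.span_isStandardOpenImmersion_eq_top A E) ?_
  rintro ⟨g, hg⟩
  have hg' : Algebra.IsStandardOpenImmersion A (Localization.Away g) := hg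
  obtain ⟨r, hr⟩ := Algebra.IsStandardOpenImmersion.exists_away A (Localization.Away g)
  have : Algebra.Etale A (Localization.Away g) := Algebra.Etale.of_isLocalizationAway r
  rw [← IsScalarTower.algebraMap_eq A E (Localization.Away g), RingHom.etale_algebraMap]
  exact this

/-- the quotient of a local isomorphism by a finitely generated ideal with étale quotient is a local
isomorphism -/
theorem isLocalIso_quotient_of_etale (A Y : Type u) [CommRing A] [CommRing Y] [Algebra A Y]
    [Algebra.IsLocalIso A Y] (I : Ideal Y) (hfg : I.FG) [Algebra.Etale A (Y ⧸ I)] :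
    Algebra.IsLocalIso A (Y ⧸ I) := by
  haveI : Algebra.Etale A Y := etale_of_isLocalIso A Y
  haveI : Algebra.Etale Y (Y ⧸ I) :=
    Algebra.Etale.of_restrictScalars (R := A) (A := Y) (B := Y ⧸ I)
  haveI : Module.Flat Y (Y ⧸ I) := inferInstance
  have hpure : I.Pure := ‹Module.Flat Y (Y ⧸ I)›
  have h01 : (I.Pure ∧ I.FG) ↔ ∃ e : Y, IsIdempotentElem e ∧ I = Ideal.span {e} :=
    (Groth.Agent.H27.PureIdeal.pure_fg_tfae Y I).out 0 1
  obtain ⟨e, he, hI⟩ := h01.mp ⟨hpure, hfg⟩
  haveI : IsLocalization.Away (1 - e) (Y ⧸ I) := by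
    apply IsLocalization.away_of_isIdempotentElem he.one_sub
    · rw [Ideal.Quotient.algebraMap_eq, Ideal.mk_ker, hI, sub_sub_cancel]
    · exact Ideal.Quotient.mk_surjective
  haveI : Algebra.IsStandardOpenImmersion Y (Y ⧸ I) := ⟨1 - e, inferInstance⟩
  exact Algebra.IsLocalIso.trans A Y (Y ⧸ I)

variable (A B : Type u) [CommRing A] [CommRing B] [Algebra A B]

/-- presented local isomorphisms with a map to `B` -/
structure ObjZ : Type u where
  n : ℕ
  s : Finset (MvPolynomial (Fin n) A)
  li : Algebra.IsLocalIso A (MvPolynomial (Fin n) A ⧸ Ideal.span (s : Set (MvPolynomial (Fin n) A)))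
  φ : (MvPolynomial (Fin n) A ⧸ Ideal.span (s : Set (MvPolynomial (Fin n) A))) →ₐ[A] B

variable {A B}

/-- the underlying ring -/
abbrev ObjZ.ring (X : ObjZ A B) : Type u :=
  MvPolynomial (Fin X.n) A ⧸ Ideal.span (X.s : Set (MvPolynomial (Fin X.n) A))

instance (X : ObjZ A B) : Algebra.IsLocalIso A X.ring := X.li

instance (X : ObjZ A B) : Algebra.Etale A X.ring := etale_of_isLocalIso A X.ring

/-- morphisms over `B` -/
@[ext]
structure HomZ (X Y : ObjZ A B) : Type u where
  f : X.ring →ₐ[A] Y.ring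
  comm : Y.φ.comp f = X.φ

noncomputable instance : Category (ObjZ A B) where
  Hom := HomZ
  id X := ⟨AlgHom.id A _, AlgHom.comp_id _⟩
  comp f g := ⟨g.f.comp f.f, by rw [← AlgHom.comp_assoc, g.comm, f.comm]⟩

theorem comp_f {X Y Z : ObjZ A B} (f : X ⟶ Y) (g : Y ⟶ Z) : (f ≫ g).f = g.f.comp f.f := rfl

theorem hom_comm_apply {X Y : ObjZ A B} (f : X ⟶ Y) (x : X.ring) : Y.φ (f.f x) = X.φ x :=
  congrArg (fun g : X.ring →ₐ[A] B => g x) f.comm

/-- the diagram -/
noncomputable def diagram : ObjZ A B ⥤ Under (CommRingCat.of A) where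
  obj X := Under.mk (CommRingCat.ofHom (algebraMap A X.ring))
  map {X Y} g := Under.homMk (CommRingCat.ofHom g.f.toRingHom) (by
    ext a
    exact g.f.commutes a)
  map_id X := by ext x; rfl
  map_comp f g := by ext x; rfl

/-- the cocone with vertex `B` -/
noncomputable def cocone : Cocone (diagram (A := A) (B := B)) where
  pt := Under.mk (CommRingCat.ofHom (algebraMap A B))
  ι :=
    { app := fun X => Under.homMk (CommRingCat.ofHom X.φ.toRingHom) (by
        ext a
        exact X.φ.commutes a)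
      naturality := fun X Y g => by
        ext x
        exact hom_comm_apply g x }

/-- every local isomorphism over `B` is isomorphic to a presented one -/
theorem exists_obj (E : Type u) [CommRing E] [Algebra A E] [Algebra.IsLocalIso A E]
    (φ : E →ₐ[A] B) : ∃ (X : ObjZ A B) (e : X.ring ≃ₐ[A] E), φ.comp e.toAlgHom = X.φ := by
  classical
  haveI : Algebra.Etale A E := etale_of_isLocalIso A E
  obtain ⟨n, f, hfs, t, ht⟩ := Algebra.FinitePresentation.out (R := A) (A := E)
  have hker : Ideal.span (t : Set (MvPolynomial (Fin n) A)) = RingHom.ker f.toRingHom := ht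
  let e : (MvPolynomial (Fin n) A ⧸ Ideal.span (t : Set (MvPolynomial (Fin n) A))) ≃ₐ[A] E :=
    (Ideal.quotientEquivAlgOfEq A hker).trans (Ideal.quotientKerAlgEquivOfSurjective hfs)
  exact ⟨⟨n, t, Algebra.IsLocalIso.of_algEquiv e.symm, φ.comp e.toAlgHom⟩, e, rfl⟩

/-- coequalizers -/
theorem exists_coeq {X Y : ObjZ A B} (f g : X ⟶ Y) :
    ∃ (Z : ObjZ A B) (h : Y ⟶ Z), f ≫ h = g ≫ h := by
  classical
  let t : Finset Y.ring := Finset.univ.image fun i : Fin X.n =>
    f.f (Ideal.Quotient.mk _ (MvPolynomial.X i)) - g.f (Ideal.Quotient.mk _ (MvPolynomial.X i))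
  set I : Ideal Y.ring := Ideal.span (t : Set Y.ring) with hI
  let π : Y.ring →ₐ[A] Y.ring ⧸ I := Ideal.Quotient.mkₐ A I
  have hsurjX : Function.Surjective (Ideal.Quotient.mkₐ A
      (Ideal.span (X.s : Set (MvPolynomial (Fin X.n) A)))) := Ideal.Quotient.mk_surjective
  have hπ : π.comp f.f = π.comp g.f := by
    rw [← AlgHom.cancel_right hsurjX]
    apply MvPolynomial.algHom_ext
    intro i
    change π (f.f (Ideal.Quotient.mk _ (MvPolynomial.X i))) =
      π (g.f (Ideal.Quotient.mk _ (MvPolynomial.X i)))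
    rw [← sub_eq_zero, ← map_sub]
    exact Ideal.Quotient.eq_zero_iff_mem.mpr
      (Ideal.subset_span (Finset.mem_image.mpr ⟨i, Finset.mem_univ _, rfl⟩))
  have hkill : ∀ y ∈ t, ∀ (R : Type u) [CommRing R] [Algebra A R] (v : Y.ring →ₐ[A] R),
      v.comp f.f = v.comp g.f → v y = 0 := by
    intro y hy R _ _ v hv
    obtain ⟨i, -, rfl⟩ := Finset.mem_image.mp hy
    rw [map_sub, sub_eq_zero]
    exact congrArg (fun w : X.ring →ₐ[A] R => w (Ideal.Quotient.mk _ (MvPolynomial.X i))) hv
  haveI : Algebra.Etale A (Y.ring ⧸ I) := IndEtK.etale_coeq f.f g.f t hπ hkill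
  haveI : Algebra.IsLocalIso A (Y.ring ⧸ I) :=
    isLocalIso_quotient_of_etale A Y.ring I ⟨t, rfl⟩
  have hφ : ∀ y ∈ I, Y.φ y = 0 := by
    have : I ≤ RingHom.ker Y.φ.toRingHom := by
      rw [hI, Ideal.span_le]
      intro y hy
      refine hkill y hy B Y.φ ?_
      rw [f.comm, g.comm]
    exact fun y hy => this hy
  let φZ : (Y.ring ⧸ I) →ₐ[A] B := Ideal.Quotient.liftₐ I Y.φ hφ
  obtain ⟨Z, e, he⟩ := exists_obj (Y.ring ⧸ I) φZ
  refine ⟨Z, ⟨e.symm.toAlgHom.comp π, ?_⟩, ?_⟩
  · ext y
    change Z.φ (e.symm (π y)) = Y.φ y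
    rw [← he]
    change φZ (e (e.symm (π y))) = _
    rw [AlgEquiv.apply_symm_apply]
    rfl
  · apply HomZ.ext
    rw [comp_f, comp_f]
    change (e.symm.toAlgHom.comp π).comp f.f = (e.symm.toAlgHom.comp π).comp g.f
    rw [AlgHom.comp_assoc, AlgHom.comp_assoc, hπ]

/-- binary cocones -/
theorem exists_sup (X Y : ObjZ A B) : ∃ (Z : ObjZ A B) (_ : X ⟶ Z) (_ : Y ⟶ Z), True := by
  haveI : Algebra.IsLocalIso A (TensorProduct A X.ring Y.ring) :=
    Algebra.IsLocalIso.trans A X.ring _
  obtain ⟨Z, e, he⟩ := exists_obj (TensorProduct A X.ring Y.ring)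
    (Algebra.TensorProduct.productMap X.φ Y.φ)
  let iL : X.ring →ₐ[A] TensorProduct A X.ring Y.ring := Algebra.TensorProduct.includeLeft
  let iR : Y.ring →ₐ[A] TensorProduct A X.ring Y.ring := Algebra.TensorProduct.includeRight
  refine ⟨Z, ⟨e.symm.toAlgHom.comp iL, ?_⟩, ⟨e.symm.toAlgHom.comp iR, ?_⟩, trivial⟩
  · ext x
    change Z.φ (e.symm (iL x)) = X.φ x
    rw [← he]
    change Algebra.TensorProduct.productMap X.φ Y.φ (e (e.symm _)) = _
    rw [AlgEquiv.apply_symm_apply]
    change Algebra.TensorProduct.productMap X.φ Y.φ (x ⊗ₜ[A] 1) = _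
    rw [Algebra.TensorProduct.productMap_apply_tmul, map_one, mul_one]
  · ext y
    change Z.φ (e.symm (iR y)) = Y.φ y
    rw [← he]
    change Algebra.TensorProduct.productMap X.φ Y.φ (e (e.symm _)) = _
    rw [AlgEquiv.apply_symm_apply]
    change Algebra.TensorProduct.productMap X.φ Y.φ (1 ⊗ₜ[A] y) = _
    rw [Algebra.TensorProduct.productMap_apply_tmul, map_one, one_mul]

variable (A B) in
theorem isFiltered : IsFiltered (ObjZ A B) := by
  haveI : Nonempty (ObjZ A B) := by
    obtain ⟨X, -, -⟩ := exists_obj (B := B) A (Algebra.ofId A B)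
    exact ⟨X⟩
  exact { cocone_objs := exists_sup, cocone_maps := fun _ _ f g => exists_coeq f g }

variable (A B) in
/-- every map from a finitely presented `A`-algebra to `B` factors through a local isomorphism -/
def HasFactorZ : Prop :=
  ∀ (P : Type u) [CommRing P] [Algebra A P] [Algebra.FinitePresentation A P] (ψ : P →ₐ[A] B),
    ∃ (X : ObjZ A B) (g : P →ₐ[A] X.ring), X.φ.comp g = ψ

theorem hasFactorZ_of_exists
    (h : ∀ (P : Type u) [CommRing P] [Algebra A P] [Algebra.FinitePresentation A P]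
      (ψ : P →ₐ[A] B), ∃ (E : Type u) (_ : CommRing E) (_ : Algebra A E)
        (_ : Algebra.IsLocalIso A E) (g : P →ₐ[A] E) (φ : E →ₐ[A] B), φ.comp g = ψ) :
    HasFactorZ A B := by
  intro P _ _ _ ψ
  obtain ⟨E, _, _, _, g, φ, hg⟩ := h P ψ
  obtain ⟨X, e, he⟩ := exists_obj E φ
  refine ⟨X, e.symm.toAlgHom.comp g, ?_⟩
  rw [← hg, ← he]
  ext x
  change φ (e (e.symm (g x))) = φ (g x)
  rw [AlgEquiv.apply_symm_apply]

theorem HasFactorZ.exists_kill (h : HasFactorZ A B) (X : ObjZ A B) (x : X.ring)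
    (hx : X.φ x = 0) : ∃ (Y : ObjZ A B) (g : X ⟶ Y), g.f x = 0 := by
  set I : Ideal X.ring := Ideal.span {x} with hI
  haveI : Algebra.FinitePresentation A (X.ring ⧸ I) :=
    Algebra.FinitePresentation.quotient ⟨{x}, by rw [Finset.coe_singleton]⟩
  have hφ : ∀ y ∈ I, X.φ y = 0 := by
    have : I ≤ RingHom.ker X.φ.toRingHom := by
      rw [hI, Ideal.span_le]
      intro y hy
      rw [Set.mem_singleton_iff.mp hy]
      exact hx
    exact fun y hy => this hy
  obtain ⟨Y, g, hg⟩ := h (X.ring ⧸ I) (Ideal.Quotient.liftₐ I X.φ hφ)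
  refine ⟨Y, ⟨g.comp (Ideal.Quotient.mkₐ A I), ?_⟩, ?_⟩
  · rw [← AlgHom.comp_assoc, hg]
    ext y; rfl
  · change g (Ideal.Quotient.mk I x) = 0
    have : Ideal.Quotient.mk I x = 0 :=
      Ideal.Quotient.eq_zero_iff_mem.mpr (Ideal.subset_span (Set.mem_singleton x))
    rw [this, map_zero]

theorem HasFactorZ.nonempty_isColimit (h : HasFactorZ A B) :
    Nonempty (IsColimit (cocone (A := A) (B := B))) := by
  classical
  haveI := isFiltered A B
  haveI : IsConnected (ObjZ A B) := IsFiltered.isConnected _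
  have hT : IsColimit ((forget CommRingCat).mapCocone
      ((Under.forget (CommRingCat.of A)).mapCocone (cocone (A := A) (B := B)))) := by
    apply Types.FilteredColimit.isColimitOf'
    · intro (b : B)
      obtain ⟨X, g, hg⟩ := h (MvPolynomial (Fin 1) A) (MvPolynomial.aeval fun _ => b)
      refine ⟨X, g (MvPolynomial.X 0), ?_⟩
      change b = X.φ (g (MvPolynomial.X 0))
      have := congrArg (fun w : MvPolynomial (Fin 1) A →ₐ[A] B => w (MvPolynomial.X 0)) hg
      simp only [AlgHom.comp_apply] at this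
      rw [MvPolynomial.aeval_X] at this
      exact this.symm
    · intro X (x : X.ring) (y : X.ring) hxy
      have hxy' : X.φ x = X.φ y := hxy
      have h0 : X.φ (x - y) = 0 := by rw [map_sub, hxy', sub_self]
      obtain ⟨Y, g, hg⟩ := h.exists_kill X (x - y) h0
      refine ⟨Y, g, ?_⟩
      change g.f x = g.f y
      rwa [map_sub, sub_eq_zero] at hg
  haveI : ReflectsColimit (diagram (A := A) (B := B) ⋙ Under.forget (CommRingCat.of A))
      (forget CommRingCat) := reflectsColimit_of_reflectsIsomorphisms _ _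
  have hR := isColimitOfReflects (forget CommRingCat) hT
  exact ⟨isColimitOfReflects (Under.forget (CommRingCat.of A)) hR⟩

theorem isLocalIso_diagram_obj (X : ObjZ A B) :
    letI := ((diagram (A := A) (B := B)).obj X).hom.hom.toAlgebra
    Algebra.IsLocalIso A ((diagram (A := A) (B := B)).obj X).right := by
  have h3 : (((diagram (A := A) (B := B)).obj X).hom.hom.toAlgebra : Algebra A X.ring) =
      Ideal.Quotient.algebra A := by
    apply Algebra.algebra_ext
    intro r
    rfl
  change @Algebra.IsLocalIso A X.ring _ _ (((diagram (A := A) (B := B)).obj X).hom.hom.toAlgebra)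
  rw [h3]
  exact X.li

/-- the factorization criterion -/
theorem HasFactorZ.isIndZariski (h : HasFactorZ A B) : EtPBC.IsIndZariski A B := by
  obtain ⟨hc⟩ := h.nonempty_isColimit
  exact ⟨ObjZ A B, inferInstance, isFiltered A B, diagram, cocone, hc, isLocalIso_diagram_obj,
    ⟨Iso.refl _⟩⟩

end Groth.Agent.H27.IndZarK
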