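import Groth.Agent.H27.IndEtK
import Groth.Agent.H27.IndZarK
import Groth.Agent.S0736
import Mathlib.RingTheory.Unramified.Finite
import Mathlib.RingTheory.Etale.Field

/-!
# Ind-étale maps: ind-Zariski implies ind-étale; flatness; primes over maximal ideals are maximal
-/

set_option autoImplicit false
universe u

open CategoryTheory CategoryTheory.Limits
open scoped TensorProduct

namespace Groth.Agent.H27.IndEtPrimes

/-- ind-Zariski algebras are ind-étale -/
theorem isIndEtale_of_isIndZariski {A B : Type u} [CommRing A] [CommRing B] [Algebra A B]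
    (h : EtPBC.IsIndZariski A B) : EtPBC.IsIndEtale A B := by
  obtain ⟨J, i1, i2, D, c, hc, hD, he⟩ := h
  refine ⟨J, i1, i2, D, c, hc, fun j => ?_, he⟩
  letI := (D.obj j).hom.hom.toAlgebra
  haveI : Algebra.IsLocalIso A (D.obj j).right := hD j
  exact Groth.Agent.H27.IndZarK.etale_of_isLocalIso A (D.obj j).right

/-- ind-étale algebras are flat -/
theorem flat_of_isIndEtale {A B : Type u} [CommRing A] [CommRing B] [Algebra A B]
    (h : EtPBC.IsIndEtale A B) : Module.Flat A B :=
  (Groth.Agent.S0736.result A B h).flat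

/-- for an ind-étale map, a prime lying over a maximal ideal is maximal -/
theorem isMaximal_of_isIndEtale {A C : Type u} [CommRing A] [CommRing C] [Algebra A C]
    (h : EtPBC.IsIndEtale A C) (q : Ideal C) [q.IsPrime]
    (hq : (q.comap (algebraMap A C)).IsMaximal) : q.IsMaximal := by
  letI := Ideal.Quotient.field (q.comap (algebraMap A C))
  haveI tw : IsScalarTower A (A ⧸ q.comap (algebraMap A C)) (C ⧸ q) :=
    IsScalarTower.of_algebraMap_eq (fun _ => rfl)
  haveI : Algebra.IsIntegral (A ⧸ q.comap (algebraMap A C)) (C ⧸ q) := by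
    constructor
    intro x
    obtain ⟨c, rfl⟩ := Ideal.Quotient.mk_surjective x
    obtain ⟨X, g, hg⟩ := Groth.Agent.H27.IndEtK.hasFactor_of_isIndEtale h
      (MvPolynomial (Fin 1) A) (MvPolynomial.aeval fun _ => c)
    have hgc : X.φ (g (MvPolynomial.X 0)) = c := by
      have := congrArg (fun w : MvPolynomial (Fin 1) A →ₐ[A] C => w (MvPolynomial.X 0)) hg
      simp only [AlgHom.comp_apply] at this
      rw [MvPolynomial.aeval_X] at this
      exact this
    haveI : Algebra.Etale (A ⧸ q.comap (algebraMap A C))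
      ((A ⧸ q.comap (algebraMap A C)) ⊗[A] X.ring) := inferInstance
    haveI : Module.Finite (A ⧸ q.comap (algebraMap A C))
      ((A ⧸ q.comap (algebraMap A C)) ⊗[A] X.ring) :=
      Algebra.FormallyUnramified.finite_of_free (A ⧸ q.comap (algebraMap A C))
        ((A ⧸ q.comap (algebraMap A C)) ⊗[A] X.ring)
    have hint : IsIntegral (A ⧸ q.comap (algebraMap A C))
      ((1 : A ⧸ q.comap (algebraMap A C)) ⊗ₜ[A] (g (MvPolynomial.X 0))) :=
      Algebra.IsIntegral.isIntegral _
    let ψ : (A ⧸ q.comap (algebraMap A C)) ⊗[A] X.ring →ₐ[A ⧸ q.comap (algebraMap A C)] (C ⧸ q) :=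
      Algebra.TensorProduct.lift (Algebra.ofId _ _) ((Ideal.Quotient.mkₐ A q).comp X.φ)
        (fun _ _ => Commute.all _ _)
    have h2 := hint.map ψ
    have h3 : ψ ((1 : A ⧸ q.comap (algebraMap A C)) ⊗ₜ[A] (g (MvPolynomial.X 0))) =
        Ideal.Quotient.mk q c := by
      simp only [ψ, Algebra.TensorProduct.lift_tmul, map_one, one_mul, AlgHom.comp_apply, hgc]
      rfl
    rwa [h3] at h2
  apply Ideal.Quotient.maximal_of_isField
  exact isField_of_isIntegral_of_isField' (R := A ⧸ q.comap (algebraMap A C))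
    (Field.toIsField _)

end Groth.Agent.H27.IndEtPrimes
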