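import Groth.Agent.H27.EtDescStage
import Groth.Agent.S0733

/-!
# Composition of ind-étale maps
-/

set_option autoImplicit false
universe u

open scoped TensorProduct

namespace Groth.Agent.H27.IndEtTrans

open Groth.Agent.H3.IndEtCrit Groth.Agent.H27.IndEtK Groth.Agent.H27.EtDescStage
  Groth.Agent.H27.IndEtCancel

set_option maxHeartbeats 800000 in
/-- an étale algebra over an ind-étale algebra is ind-étale over the base -/
theorem hasFactor_of_etale_over (A B C : Type u) [CommRing A] [CommRing B] [CommRing C]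
    [Algebra A B] [Algebra B C] [Algebra A C] [IsScalarTower A B C] [Algebra.Etale B C]
    (h : HasFactor A B) : HasFactor A C := by
  obtain ⟨X₁, C₁, _, _, _, hD⟩ := exists_stage A B C h
  letI : Algebra X₁.ring B := X₁.φ.toRingHom.toAlgebra
  obtain ⟨eD⟩ : Nonempty (C ≃ₐ[B] B ⊗[X₁.ring] C₁) := hD
  haveI : IsScalarTower A X₁.ring B :=
    IsScalarTower.of_algebraMap_eq (R := A) (S := X₁.ring) (A := B)
      (fun a => (X₁.φ.commutes a).symm)
  have h1 : HasFactor X₁.ring B :=
    hasFactor_cancel A X₁.ring B (hasFactor_of_etale A X₁.ring) h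
  have h2 : EtPBC.IsIndEtale C₁ (C₁ ⊗[X₁.ring] B) :=
    Groth.Agent.S0733.result X₁.ring B C₁ h1.isIndEtale
  have h3 : HasFactor C₁ (C₁ ⊗[X₁.ring] B) := hasFactor_of_isIndEtale h2
  letI : Algebra A C₁ := ((algebraMap X₁.ring C₁).comp (algebraMap A X₁.ring)).toAlgebra
  haveI : IsScalarTower A X₁.ring C₁ :=
    IsScalarTower.of_algebraMap_eq (R := A) (S := X₁.ring) (A := C₁) (fun _ => rfl)
  haveI : Algebra.Etale A C₁ := Algebra.Etale.comp A X₁.ring C₁
  have h4 : HasFactor A (C₁ ⊗[X₁.ring] B) := hasFactor_trans_etale A C₁ _ h3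
  let e : C₁ ⊗[X₁.ring] B ≃+* C :=
    ((Algebra.TensorProduct.comm X₁.ring C₁ B).toRingEquiv).trans eD.symm.toRingEquiv
  refine hasFactor_of_ringEquiv e ?_ h4
  intro a
  change eD.symm ((Algebra.TensorProduct.comm X₁.ring C₁ B)
    (algebraMap A C₁ a ⊗ₜ[X₁.ring] (1 : B))) = algebraMap A C a
  rw [Algebra.TensorProduct.comm_tmul]
  have h5 : ((1 : B) ⊗ₜ[X₁.ring] algebraMap A C₁ a : B ⊗[X₁.ring] C₁) =
      algebraMap B (B ⊗[X₁.ring] C₁) (algebraMap A B a) := by
    change (1 : B) ⊗ₜ[X₁.ring] (algebraMap X₁.ring C₁ (algebraMap A X₁.ring a)) = _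
    rw [Algebra.algebraMap_eq_smul_one]
    have key := TensorProduct.smul_tmul (R := X₁.ring) (R' := X₁.ring) (M := B) (N := C₁)
      (algebraMap A X₁.ring a) (1 : B) (1 : C₁)
    rw [← key, Algebra.TensorProduct.algebraMap_apply, Algebra.smul_def, mul_one,
      ← IsScalarTower.algebraMap_apply A X₁.ring B]
    rfl
  rw [h5, AlgEquiv.commutes, ← IsScalarTower.algebraMap_apply A B C]

/-- composition -/
theorem hasFactor_trans (A B C : Type u) [CommRing A] [CommRing B] [CommRing C]
    [Algebra A B] [Algebra B C] [Algebra A C] [IsScalarTower A B C]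
    (hAB : HasFactor A B) (hBC : EtPBC.IsIndEtale B C) : HasFactor A C := by
  obtain ⟨J, _, _, D, c, hc, hD, ⟨e⟩⟩ := hBC
  letI algB := fun j => Groth.Agent.H4.IndCover.algStage D j
  letI algA : ∀ j, Algebra A (D.obj j).right := fun j =>
    ((algebraMap B (D.obj j).right).comp (algebraMap A B)).toAlgebra
  haveI : ∀ j, IsScalarTower A B (D.obj j).right := fun j => IsScalarTower.of_algebraMap_eq' rfl
  let ι : ∀ j, (D.obj j).right →ₐ[A] C := fun j =>
    (Groth.Agent.H4.IndCover.toB D c e j).restrictScalars A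
  have hd : Groth.Agent.H4.DirFlat.Dir ι := by
    intro j1 j2
    obtain ⟨j3, u1, u2, h1, h2⟩ := Groth.Agent.H4.IndCover.dir D c e j1 j2
    refine ⟨j3, u1.restrictScalars A, u2.restrictScalars A, ?_, ?_⟩
    · ext x
      exact congrArg (fun w : (D.obj j1).right →ₐ[B] C => w x) h1
    · ext x
      exact congrArg (fun w : (D.obj j2).right →ₐ[B] C => w x) h2
  have hs : Groth.Agent.H4.DirFlat.Surj ι := Groth.Agent.H4.IndCover.surj D c hc e
  have hi : Groth.Agent.H4.DirFlat.Inj ι := by
    intro j x hx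
    obtain ⟨j', u, hu, hu0⟩ := Groth.Agent.H4.IndCover.inj D c hc e j x hx
    refine ⟨j', u.restrictScalars A, ?_, hu0⟩
    ext y
    exact congrArg (fun w : (D.obj j).right →ₐ[B] C => w y) hu
  refine hasFactor_of_cover hd hs hi fun j => ?_
  haveI : Algebra.Etale B (D.obj j).right := hD j
  exact hasFactor_of_etale_over A B (D.obj j).right hAB

theorem main (A B C : Type u) [CommRing A] [CommRing B] [CommRing C] [Algebra A B]
    [Algebra B C] [Algebra A C] [IsScalarTower A B C] (hAB : EtPBC.IsIndEtale A B)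
    (hBC : EtPBC.IsIndEtale B C) : EtPBC.IsIndEtale A C :=
  (hasFactor_trans A B C (hasFactor_of_isIndEtale hAB) hBC).isIndEtale

end Groth.Agent.H27.IndEtTrans
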