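import Groth.Agent.H27.IndEtCancel
import Mathlib.RingTheory.Smooth.NoetherianDescent
import Mathlib.RingTheory.FiniteStability

/-!
# Étale algebras over an ind-étale algebra descend to an étale stage
-/

set_option autoImplicit false
universe u

open scoped TensorProduct

namespace Groth.Agent.H27.EtDescStage

open Groth.Agent.H3.IndEtCrit Groth.Agent.H27.IndEtK

/-- an étale algebra factors through itself -/
theorem hasFactor_of_etale (A E : Type u) [CommRing A] [CommRing E] [Algebra A E]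
    [Algebra.Etale A E] : HasFactor A E :=
  hasFactor_of_exists fun _ _ _ _ ψ =>
    ⟨E, inferInstance, inferInstance, inferInstance, ψ, AlgHom.id A E, AlgHom.id_comp ψ⟩

/-- transport along a ring isomorphism compatible with the structure maps -/
theorem hasFactor_of_ringEquiv {A D C : Type u} [CommRing A] [CommRing D] [CommRing C]
    [Algebra A D] [Algebra A C] (e : D ≃+* C)
    (he : ∀ a, e (algebraMap A D a) = algebraMap A C a) (h : HasFactor A D) : HasFactor A C := by
  let eA : D ≃ₐ[A] C := { e with commutes' := he }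
  intro P _ _ _ ψ
  obtain ⟨X, g, hg⟩ := h P (eA.symm.toAlgHom.comp ψ)
  refine ⟨objMap X eA.toAlgHom, g, ?_⟩
  change (eA.toAlgHom.comp X.φ).comp g = ψ
  rw [AlgHom.comp_assoc, hg, ← AlgHom.comp_assoc]
  ext p
  change eA (eA.symm (ψ p)) = ψ p
  rw [AlgEquiv.apply_symm_apply]

/-- ind-étale over an étale algebra is ind-étale over the base -/
theorem hasFactor_trans_etale (A C₁ D : Type u) [CommRing A] [CommRing C₁] [CommRing D]
    [Algebra A C₁] [Algebra C₁ D] [Algebra A D] [IsScalarTower A C₁ D] [Algebra.Etale A C₁]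
    (h : HasFactor C₁ D) : HasFactor A D := by
  apply hasFactor_of_exists
  intro P _ _ _ ψ
  let ψ' : C₁ ⊗[A] P →ₐ[C₁] D :=
    Algebra.TensorProduct.lift (Algebra.ofId C₁ D) ψ (fun _ _ => Commute.all _ _)
  obtain ⟨X, g, hg⟩ := h (C₁ ⊗[A] P) ψ'
  haveI : Algebra.Etale A X.ring := Algebra.Etale.comp A C₁ X.ring
  let inc : P →ₐ[A] C₁ ⊗[A] P := Algebra.TensorProduct.includeRight
  refine ⟨X.ring, inferInstance, inferInstance, inferInstance,
    (g.restrictScalars A).comp inc, X.φ.restrictScalars A, ?_⟩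
  ext p
  change X.φ (g ((1 : C₁) ⊗ₜ[A] p)) = ψ p
  have := congrArg (fun w : C₁ ⊗[A] P →ₐ[C₁] D => w ((1 : C₁) ⊗ₜ[A] p)) hg
  simp only [AlgHom.comp_apply] at this
  rw [this]
  change (Algebra.TensorProduct.lift (Algebra.ofId C₁ D) ψ _) ((1 : C₁) ⊗ₜ[A] p) = ψ p
  rw [Algebra.TensorProduct.lift_tmul, map_one, one_mul]

set_option maxHeartbeats 800000 in
/-- **Descent to a stage**: an étale algebra `C` over `B`, with `B` having the factorization property
over `A`, is the base change of an étale algebra over an étale `A`-algebra mapping to `B`. -/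
theorem exists_stage (A B C : Type u) [CommRing A] [CommRing B] [CommRing C] [Algebra A B]
    [Algebra B C] [Algebra.Etale B C] (h : HasFactor A B) :
    ∃ (X₁ : Obj A B) (C₁ : Type u) (_ : CommRing C₁) (_ : Algebra X₁.ring C₁)
      (_ : Algebra.Etale X₁.ring C₁),
      letI : Algebra X₁.ring B := X₁.φ.toRingHom.toAlgebra
      Nonempty (C ≃ₐ[B] B ⊗[X₁.ring] C₁) := by
  obtain ⟨B₀, C₀, _, _, hfg, hEt, ⟨e₀⟩⟩ := Algebra.Etale.exists_subalgebra_fg ℤ B C
  haveI : Algebra.FiniteType ℤ B₀ := ⟨B₀.fg_top.mpr hfg⟩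
  haveI : Algebra.FinitePresentation ℤ B₀ := Algebra.FinitePresentation.of_finiteType.mp inferInstance
  let ψ₀ : A ⊗[ℤ] B₀ →ₐ[A] B :=
    Algebra.TensorProduct.lift (Algebra.ofId A B) B₀.val (fun _ _ => Commute.all _ _)
  obtain ⟨X₁, g, hg⟩ := h (A ⊗[ℤ] B₀) ψ₀
  let incR : B₀ →ₐ[ℤ] A ⊗[ℤ] B₀ := Algebra.TensorProduct.includeRight
  let ρ : B₀ →+* X₁.ring := g.toRingHom.comp incR.toRingHom
  have hρ : ∀ b : B₀, X₁.φ (ρ b) = (b : B) := by
    intro b
    change X₁.φ (g ((1 : A) ⊗ₜ[ℤ] b)) = _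
    have := congrArg (fun w : A ⊗[ℤ] B₀ →ₐ[A] B => w ((1 : A) ⊗ₜ[ℤ] b)) hg
    simp only [AlgHom.comp_apply] at this
    rw [this]
    change (Algebra.TensorProduct.lift (Algebra.ofId A B) B₀.val _) ((1 : A) ⊗ₜ[ℤ] b) = _
    rw [Algebra.TensorProduct.lift_tmul, map_one, one_mul]
    rfl
  letI : Algebra B₀ X₁.ring := ρ.toAlgebra
  letI : Algebra X₁.ring B := X₁.φ.toRingHom.toAlgebra
  haveI : IsScalarTower B₀ X₁.ring B :=
    IsScalarTower.of_algebraMap_eq (R := B₀) (S := X₁.ring) (A := B) (fun b => (hρ b).symm)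
  refine ⟨X₁, X₁.ring ⊗[B₀] C₀, inferInstance, inferInstance, inferInstance, ?_⟩
  exact ⟨e₀.trans (Algebra.TensorProduct.cancelBaseChange B₀ X₁.ring B B C₀).symm⟩

end Groth.Agent.H27.EtDescStage
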