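import Groth.Agent.H27.IndEtHull
import Groth.Agent.H27.EtDescStage
import Groth.Agent.S0736
import Groth.Prelude.Def_ProEtW
import Mathlib.RingTheory.Etale.Field
import Mathlib.FieldTheory.IsSepClosed
import Mathlib.RingTheory.Flat.FaithfullyFlat.Algebra
import Mathlib.RingTheory.LocalRing.ResidueField.Ideal

/-!
# A faithfully flat ind-étale cover over which étale covers split

The ind-étale hull of `A → ∏_p κ(p)^sep`.
-/

set_option autoImplicit false
universe u

open scoped TensorProduct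

namespace Groth.Agent.H27.EtRetractCover

open Groth.Agent.H3.IndEtCrit Groth.Agent.H27.IndEtK Groth.Agent.H27.IndEtHull
  Groth.Agent.H27.EtDescStage

/-- maps from an étale algebra to the hull are determined by their composite to `B` -/
theorem eq_of_π_comp_eq {A B : Type u} [CommRing A] [CommRing B] [Algebra A B] {E : Type u}
    [CommRing E] [Algebra A E] [Algebra.Etale A E] (θ₁ θ₂ : E →ₐ[A] Hull A B)
    (h : (π A B).comp θ₁ = (π A B).comp θ₂) : θ₁ = θ₂ := by
  obtain ⟨X, e, he⟩ := exists_obj E ((π A B).comp θ₁)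
  have h1 : θ₁.comp e.toAlgHom = ι A B X :=
    eq_ι_of_etale X (θ₁.comp e.toAlgHom) (by rw [← AlgHom.comp_assoc, he])
  have h2 : θ₂.comp e.toAlgHom = ι A B X :=
    eq_ι_of_etale X (θ₂.comp e.toAlgHom) (by rw [← AlgHom.comp_assoc, ← h, he])
  have hsurj : Function.Surjective e.toAlgHom := e.surjective
  rw [← AlgHom.cancel_right hsurj, h1, h2]

section general

variable (A : Type u) [CommRing A] {T : Type u} (K : T → Type u) [∀ i, Field (K i)]
  [∀ i, IsSepClosed (K i)] [∀ i, Algebra A (K i)]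

/-- a faithfully flat étale algebra over the hull has a point in each factor -/
theorem exists_section (E : Type u) [CommRing E] [Algebra (Hull A (Π i, K i)) E]
    [Module.FaithfullyFlat (Hull A (Π i, K i)) E] [Algebra.Etale (Hull A (Π i, K i)) E] (i : T) :
    ∃ σ : E →+* K i, ∀ c : Hull A (Π i, K i),
      σ (algebraMap (Hull A (Π i, K i)) E c) = (π A (Π i, K i) c) i := by
  let f : Hull A (Π i, K i) →+* K i := (Pi.evalRingHom K i).comp (π A (Π i, K i)).toRingHom
  letI : Algebra (Hull A (Π i, K i)) (K i) := f.toAlgebra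
  haveI : Nontrivial (K i ⊗[Hull A (Π i, K i)] E) :=
    (Module.FaithfullyFlat.nontrivial_tensorProduct_iff_left (Hull A (Π i, K i)) (K i)).mpr inferInstance
  let eq := Algebra.FormallyEtale.equivPiOfIsSepClosed (K i) (K i ⊗[Hull A (Π i, K i)] E)
  obtain ⟨P⟩ : Nonempty (PrimeSpectrum (K i ⊗[Hull A (Π i, K i)] E)) := inferInstance
  let s : K i ⊗[Hull A (Π i, K i)] E →ₐ[K i] K i :=
    (Pi.evalAlgHom (K i) (fun _ => K i) P).comp eq.toAlgHom
  let inc : E →ₐ[Hull A (Π i, K i)] K i ⊗[Hull A (Π i, K i)] E :=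
    Algebra.TensorProduct.includeRight
  refine ⟨s.toRingHom.comp inc.toRingHom, ?_⟩
  intro c
  change s (inc (algebraMap (Hull A (Π i, K i)) E c)) = f c
  rw [AlgHom.commutes]
  have : algebraMap (Hull A (Π i, K i)) (K i ⊗[Hull A (Π i, K i)] E) c =
      algebraMap (K i) (K i ⊗[Hull A (Π i, K i)] E) (f c) := by
    rw [IsScalarTower.algebraMap_apply (Hull A (Π i, K i)) (K i)
      (K i ⊗[Hull A (Π i, K i)] E)]
    rfl
  rw [this, AlgHom.commutes]
  rfl

set_option maxHeartbeats 1600000 in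
theorem hasEtaleRetractions_hull : ProEtW.HasEtaleRetractions (Hull A (Π i, K i)) := by
  intro E _ _ hff hEt
  choose σi hσi using fun i => exists_section A K E i
  let σ : E →+* (Π i, K i) := RingHom.pi σi
  have hσ : ∀ c, σ (algebraMap (Hull A (Π i, K i)) E c) = π A (Π i, K i) c := by
    intro c
    funext i
    exact hσi i c
  obtain ⟨X₁, E₁, _, _, _, hD⟩ := exists_stage A (Hull A (Π i, K i)) E (hasFactor A (Π i, K i))
  letI : Algebra X₁.ring (Hull A (Π i, K i)) := X₁.φ.toRingHom.toAlgebra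
  obtain ⟨eD⟩ : Nonempty (E ≃ₐ[Hull A (Π i, K i)] Hull A (Π i, K i) ⊗[X₁.ring] E₁) := hD
  letI : Algebra A E₁ := ((algebraMap X₁.ring E₁).comp (algebraMap A X₁.ring)).toAlgebra
  haveI : IsScalarTower A X₁.ring E₁ :=
    IsScalarTower.of_algebraMap_eq (R := A) (S := X₁.ring) (A := E₁) (fun _ => rfl)
  haveI : Algebra.Etale A E₁ := Algebra.Etale.comp A X₁.ring E₁
  let inc₁ : E₁ →ₐ[X₁.ring] Hull A (Π i, K i) ⊗[X₁.ring] E₁ :=
    Algebra.TensorProduct.includeRight
  have hr : ∀ r : X₁.ring, σ (eD.symm (inc₁ (algebraMap X₁.ring E₁ r))) =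
      π A (Π i, K i) (X₁.φ r) := by
    intro r
    rw [AlgHom.commutes]
    have : algebraMap X₁.ring (Hull A (Π i, K i) ⊗[X₁.ring] E₁) r =
        algebraMap (Hull A (Π i, K i)) (Hull A (Π i, K i) ⊗[X₁.ring] E₁) (X₁.φ r) := by
      rw [IsScalarTower.algebraMap_apply X₁.ring (Hull A (Π i, K i))
        (Hull A (Π i, K i) ⊗[X₁.ring] E₁)]
      rfl
    rw [this, AlgEquiv.commutes, hσ]
  let φ₁ : E₁ →ₐ[A] (Π i, K i) :=
    { (σ.comp eD.symm.toRingEquiv.toRingHom).comp inc₁.toRingHom with
      commutes' := by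
        intro a
        change σ (eD.symm (inc₁ (algebraMap X₁.ring E₁ (algebraMap A X₁.ring a)))) = _
        rw [hr, AlgHom.commutes, AlgHom.commutes] }
  obtain ⟨θ, hθ⟩ := exists_lift E₁ φ₁
  -- compatibility with the structure map of `X₁`
  have h12 : θ.comp (IsScalarTower.toAlgHom A X₁.ring E₁) = X₁.φ := by
    apply eq_of_π_comp_eq
    rw [← AlgHom.comp_assoc, hθ]
    refine AlgHom.ext fun r => ?_
    exact hr r
  have h3 : ∀ r : X₁.ring, θ (algebraMap X₁.ring E₁ r) = X₁.φ r := fun r =>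
    congrArg (fun w : X₁.ring →ₐ[A] Hull A (Π i, K i) => w r) h12
  let θ' : E₁ →ₐ[X₁.ring] Hull A (Π i, K i) :=
    { θ.toRingHom with commutes' := fun r => h3 r }
  exact ⟨(Algebra.TensorProduct.lift (AlgHom.id (Hull A (Π i, K i)) (Hull A (Π i, K i))) θ'
    (fun _ _ => Commute.all _ _)).comp eD.toAlgHom⟩

end general

theorem main (A : Type u) [CommRing A] :
    ∃ (C : Type u) (_ : CommRing C) (_ : Algebra A C),
      Module.FaithfullyFlat A C ∧ EtPBC.IsIndEtale A C ∧ ProEtW.HasEtaleRetractions C := by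
  let K : PrimeSpectrum A → Type u := fun p => SeparableClosure p.asIdeal.ResidueField
  letI : ∀ p, Algebra A (K p) := fun p =>
    ((algebraMap p.asIdeal.ResidueField (K p)).comp
      (algebraMap A p.asIdeal.ResidueField)).toAlgebra
  have hind : EtPBC.IsIndEtale A (Hull A (Π p, K p)) := isIndEtale A (Π p, K p)
  refine ⟨Hull A (Π p, K p), inferInstance, inferInstance, ?_, hind,
    hasEtaleRetractions_hull A K⟩
  haveI : Module.Flat A (Hull A (Π p, K p)) :=
    (Groth.Agent.S0736.result A (Hull A (Π p, K p)) hind).flat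
  apply Module.FaithfullyFlat.of_comap_surjective
  intro p
  let f : Hull A (Π p, K p) →+* K p :=
    (Pi.evalRingHom K p).comp (π A (Π p, K p)).toRingHom
  refine ⟨PrimeSpectrum.comap f ⟨⊥, Ideal.isPrime_bot⟩, ?_⟩
  apply PrimeSpectrum.ext
  change Ideal.comap (algebraMap A (Hull A (Π p, K p))) (Ideal.comap f ⊥) = p.asIdeal
  rw [Ideal.comap_comap]
  have hcomp : f.comp (algebraMap A (Hull A (Π p, K p))) = algebraMap A (K p) := by
    refine RingHom.ext fun a => ?_
    change (π A (Π p, K p) (algebraMap A (Hull A (Π p, K p)) a)) p = _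
    rw [AlgHom.commutes]
    rfl
  rw [hcomp]
  change Ideal.comap ((algebraMap p.asIdeal.ResidueField (K p)).comp
    (algebraMap A p.asIdeal.ResidueField)) ⊥ = p.asIdeal
  rw [← Ideal.comap_comap, ← RingHom.ker_eq_comap_bot (algebraMap p.asIdeal.ResidueField (K p)),
    (RingHom.injective_iff_ker_eq_bot _).mp (algebraMap p.asIdeal.ResidueField (K p)).injective,
    ← RingHom.ker_eq_comap_bot, Ideal.ker_algebraMap_residueField]

end Groth.Agent.H27.EtRetractCover
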