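import Groth.Agent.H27.AdmMain
import Groth.Agent.H27.IndEtPrimes
import Groth.Agent.H27.IndEtTrans
import Groth.Agent.H27.SHTransport
import Groth.Agent.S0693
import Groth.Agent.S0675

/-!
# A faithfully flat ind-étale w-local cover with strictly henselian local rings at closed points
-/

set_option autoImplicit false
universe u

namespace Groth.Agent.H27.WLocStrictHens

open Groth.Agent.H27.Adm Groth.Agent.H27.IndEtPrimes

/-- local rings of `R K` at maximal ideals are strictly henselian if `C1` has étale retractions and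
all primes containing `K` are maximal -/
theorem strictHens {C1 : Type u} [CommRing C1] (K1 : Ideal C1)
    (hmaxK : ∀ y : PrimeSpectrum C1, K1 ≤ y.asIdeal → y.asIdeal.IsMaximal)
    (hret : ProEtW.HasEtaleRetractions C1) (m : Ideal (R K1)) [hm : m.IsMaximal] :
    EtCoh.IsStrictlyHenselianLocalRing (Localization.AtPrime m) := by
  haveI hmp : m.IsPrime := hm.isPrime
  have hmaxc : (m.comap (algebraMap C1 (R K1))).IsMaximal := by
    have h1 := eq_maxAt_of_isMaximal K1 m
    have h2 : m.comap (algebraMap C1 (R K1)) = (cPt K1 m).1.asIdeal := by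
      conv_lhs => rw [h1]
      exact comap_maxAt K1 _
    rw [h2]
    exact hmaxK _ (cPt K1 m).2
  have hSH := Groth.Agent.S0675.result C1 hret (m.comap (algebraMap C1 (R K1)))
  have hbij := identifiesLocalRings K1 ⟨m, hmp⟩
  exact Groth.Agent.H27.SHTransport.isStrictlyHenselian_of_bijective _ hbij hSH

theorem main (A : Type u) [CommRing A] :
    ∃ (C : Type u) (_ : CommRing C) (_ : Algebra A C),
      Module.FaithfullyFlat A C ∧ EtPBC.IsIndEtale A C ∧ ProEtW.IsWLocal (PrimeSpectrum C) ∧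
      PrimeSpectrum.comap (algebraMap A C) '' ProEtW.closedPoints (PrimeSpectrum C) = Set.univ ∧
      ∀ (m : Ideal C) [m.IsMaximal],
        EtCoh.IsStrictlyHenselianLocalRing (Localization.AtPrime m) := by
  obtain ⟨C1, i1, i2, hff, hie, hret⟩ := Groth.Agent.S0693.result (R (⊥ : Ideal A))
  letI algAC1 : Algebra A C1 :=
    ((algebraMap (R (⊥ : Ideal A)) C1).comp (algebraMap A (R (⊥ : Ideal A)))).toAlgebra
  haveI tw1 : IsScalarTower A (R (⊥ : Ideal A)) C1 :=
    IsScalarTower.of_algebraMap_eq (fun _ => rfl)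
  set K1 : Ideal C1 := (J (⊥ : Ideal A)).map (algebraMap (R (⊥ : Ideal A)) C1) with hK1
  have hmaxK : ∀ y : PrimeSpectrum C1, K1 ≤ y.asIdeal → y.asIdeal.IsMaximal := by
    intro y hy
    apply isMaximal_of_isIndEtale hie
    have h1 : J (⊥ : Ideal A) ≤ y.asIdeal.comap (algebraMap (R (⊥ : Ideal A)) C1) :=
      Ideal.map_le_iff_le_comap.mp hy
    have h2 := (isClosed_singleton_iff (⊥ : Ideal A)
      ⟨y.asIdeal.comap (algebraMap (R (⊥ : Ideal A)) C1), Ideal.comap_isPrime _ _⟩).mpr h1
    exact (PrimeSpectrum.isClosed_singleton_iff_isMaximal _).mp h2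
  letI algAC : Algebra A (R K1) := ((algebraMap C1 (R K1)).comp (algebraMap A C1)).toAlgebra
  haveI tw2 : IsScalarTower A C1 (R K1) := IsScalarTower.of_algebraMap_eq (fun _ => rfl)
  have hie1 : EtPBC.IsIndEtale A C1 :=
    Groth.Agent.H27.IndEtTrans.main A (R (⊥ : Ideal A)) C1
      (isIndEtale_of_isIndZariski (isIndZariski (⊥ : Ideal A))) hie
  have hie2 : EtPBC.IsIndEtale A (R K1) :=
    Groth.Agent.H27.IndEtTrans.main A C1 (R K1) hie1
      (isIndEtale_of_isIndZariski (isIndZariski K1))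
  have hsurj : ∀ p : PrimeSpectrum A, ∃ z : PrimeSpectrum (R K1),
      z ∈ ProEtW.closedPoints (PrimeSpectrum (R K1)) ∧
      PrimeSpectrum.comap (algebraMap A (R K1)) z = p := by
    intro p
    obtain ⟨y, hy⟩ := PrimeSpectrum.comap_surjective_of_faithfullyFlat
      (A := R (⊥ : Ideal A)) (B := C1) ⟨maxAt ⊥ ⟨p, bot_le⟩, inferInstance⟩
    have hyK : K1 ≤ y.asIdeal := by
      rw [hK1, Ideal.map_le_iff_le_comap]
      have h1 : y.asIdeal.comap (algebraMap (R (⊥ : Ideal A)) C1) = maxAt ⊥ ⟨p, bot_le⟩ :=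
        congrArg PrimeSpectrum.asIdeal hy
      rw [h1]
      exact iInf_le _ _
    refine ⟨⟨maxAt K1 ⟨y, hyK⟩, inferInstance⟩, ?_, ?_⟩
    · rw [closedPoints_eq]
      exact ⟨_, rfl⟩
    · have e1 : algebraMap A (R K1) =
          ((algebraMap C1 (R K1)).comp (algebraMap (R (⊥ : Ideal A)) C1)).comp
            (algebraMap A (R (⊥ : Ideal A))) := rfl
      rw [e1, PrimeSpectrum.comap_comp_apply, PrimeSpectrum.comap_comp_apply, comap_maxAt' K1]
      change PrimeSpectrum.comap _ (PrimeSpectrum.comap _ y) = p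
      rw [hy]
      exact comap_maxAt' ⊥ ⟨p, bot_le⟩
  haveI : Module.Flat A (R K1) := flat_of_isIndEtale hie2
  refine ⟨R K1, inferInstance, algAC, ?_, hie2, isWLocal K1, ?_, ?_⟩
  · apply Module.FaithfullyFlat.of_comap_surjective
    intro p
    obtain ⟨z, _, hz⟩ := hsurj p
    exact ⟨z, hz⟩
  · rw [Set.eq_univ_iff_forall]
    intro p
    obtain ⟨z, hz1, hz2⟩ := hsurj p
    exact ⟨z, hz1, hz2⟩
  · intro m hm
    exact strictHens K1 hmaxK hret m

end Groth.Agent.H27.WLocStrictHens
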