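import Groth.Agent.H27.WContrChar
import Groth.Agent.H27.WLocStrictHens
import Groth.Agent.H27.FibRingED
import Groth.Agent.H27.SHTransport

/-!
# Every ring has a faithfully flat ind-étale w-contractible cover
-/

set_option autoImplicit false
set_option linter.style.haveILetI false
universe u

namespace Groth.Agent.H27.WContrCover

open Groth.Agent.H27 Groth.Agent.H27.Adm

/-- over a w-local ring `C` with strictly henselian local rings at the maximal ideals, the fibre
ring along an extremally disconnected profinite cover of `π₀` is w-contractible -/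
theorem isWContractible_fibRing {C : Type u} [CommRing C] {T : Type u} [TopologicalSpace T]
    [CompactSpace T] [T2Space T] [TotallyDisconnectedSpace T]
    (g : C(T, _root_.ConnectedComponents (PrimeSpectrum C)))
    (hw : ProEtW.IsWLocal (PrimeSpectrum C)) (hT : ExtremallyDisconnected T)
    (hSH : ∀ (m : Ideal C) [m.IsMaximal],
      EtCoh.IsStrictlyHenselianLocalRing (Localization.AtPrime m)) :
    EtPBC.IsWContractible (FibRing.B g) := by
  rw [WContrChar.main]
  refine ⟨FibRing.isWLocal g hw, FibRing.extremallyDisconnected_cc g hT, ?_⟩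
  intro n hn
  haveI := hw.1
  have hcl : IsClosed ({(⟨n, hn.isPrime⟩ : PrimeSpectrum (FibRing.B g))} : Set _) :=
    (PrimeSpectrum.isClosed_singleton_iff_isMaximal _).mpr hn
  have h2 : IsClosed ({FibRing.specHomeo g ⟨n, hn.isPrime⟩} : Set _) := by
    rw [← Set.image_singleton, (FibRing.specHomeo g).isClosed_image]
    exact hcl
  have h3 := (Groth.Agent.H4.WLocalFib.isClosed_singleton_iff g _).mp h2
  haveI hmax : (n.comap (algebraMap C (FibRing.B g))).IsMaximal :=
    (PrimeSpectrum.isClosed_singleton_iff_isMaximal _).mp h3
  have hbij := FibRing.identifiesLocalRings g ⟨n, hn.isPrime⟩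
  exact SHTransport.isStrictlyHenselian_of_bijective _ hbij
    (hSH (n.comap (algebraMap C (FibRing.B g))))

theorem main (A : Type u) [CommRing A] :
    ∃ (D : Type u) (_ : CommRing D) (_ : Algebra A D),
      Module.FaithfullyFlat A D ∧ EtPBC.IsIndEtale A D ∧ EtPBC.IsWContractible D := by
  obtain ⟨C, iC, iAC, hff, hie, hw, -, hSH⟩ := WLocStrictHens.main A
  haveI : T2Space (_root_.ConnectedComponents (PrimeSpectrum C)) :=
    Groth.Agent.H4.SpectralCC.t2Space_connectedComponents
  obtain ⟨g, hg⟩ : ∃ g : C(Ultrafilter (_root_.ConnectedComponents (PrimeSpectrum C)),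
      _root_.ConnectedComponents (PrimeSpectrum C)), Function.Surjective g :=
    ⟨⟨Ultrafilter.extend id, continuous_ultrafilter_extend id⟩,
      fun c => ⟨pure c, ultrafilter_extend_pure id c⟩⟩
  letI algAD : Algebra A (FibRing.B g) :=
    ((algebraMap C (FibRing.B g)).comp (algebraMap A C)).toAlgebra
  haveI tower : IsScalarTower A C (FibRing.B g) := IsScalarTower.of_algebraMap_eq (fun _ => rfl)
  refine ⟨FibRing.B g, inferInstance, algAD, ?_, ?_, ?_⟩
  · haveI : Module.Flat C (FibRing.B g) := flat_of_isIndZariski (FibRing.isIndZariski g)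
    haveI : Module.FaithfullyFlat C (FibRing.B g) :=
      Module.FaithfullyFlat.of_comap_surjective (FibRing.comap_surjective g hg)
    exact Module.FaithfullyFlat.trans A C (FibRing.B g)
  · exact IndEtTrans.main A C (FibRing.B g) hie
      (IndEtPrimes.isIndEtale_of_isIndZariski (FibRing.isIndZariski g))
  · exact isWContractible_fibRing g hw (FibRing.extremallyDisconnected_ultrafilter _) hSH

end Groth.Agent.H27.WContrCover
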