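import Groth.Agent.H27.ProEtCov
import Groth.Agent.H27.WContrCover

/-!
# Coverings of the small pro-étale site by affine w-contractible objects
-/

set_option autoImplicit false
set_option linter.style.haveILetI false
open CategoryTheory CategoryTheory.Limits AlgebraicGeometry Opposite
universe u

namespace Groth.Agent.H27.ProEtWCover

/-- w-contractibility is invariant under ring isomorphisms -/
theorem isWContractible_of_ringEquiv {A A' : Type u} [CommRing A] [CommRing A'] (e : A ≃+* A')
    (h : EtPBC.IsWContractible A) : EtPBC.IsWContractible A' := by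
  intro B' _ _ hff hwe
  letI algAA' : Algebra A A' := e.toRingHom.toAlgebra
  letI algAB' : Algebra A B' := ((algebraMap A' B').comp e.toRingHom).toAlgebra
  haveI : IsScalarTower A A' B' := IsScalarTower.of_algebraMap_eq (fun _ => rfl)
  have hbij : Function.Bijective (algebraMap A A') := e.bijective
  let e' : A ≃ₐ[A] A' := AlgEquiv.ofBijective (Algebra.ofId A A') hbij
  haveI : Module.FaithfullyFlat A A' :=
    Module.FaithfullyFlat.of_linearEquiv A A e'.symm.toLinearEquiv
  haveI : Algebra.Etale A A' := Algebra.Etale.of_equiv e'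
  haveI := hff
  haveI := hwe
  haveI : Module.FaithfullyFlat A B' := Module.FaithfullyFlat.trans A A' B'
  haveI : Algebra.WeaklyEtale A B' := Algebra.WeaklyEtale.trans A A' B'
  obtain ⟨r⟩ := h B' inferInstance inferInstance
  refine ⟨{ toRingHom := e.toRingHom.comp r.toRingHom, commutes' := ?_ }⟩
  intro a'
  have h1 : algebraMap A' B' a' = algebraMap A B' (e.symm a') := by
    show _ = algebraMap A' B' (e (e.symm a'))
    rw [e.apply_symm_apply]
  show e (r (algebraMap A' B' a')) = a'
  rw [h1, r.commutes]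
  exact e.apply_symm_apply a'

set_option backward.isDefEq.respectTransparency.types false in
theorem main {X : Scheme.{u}} (U : X.ProEt) :
    ∃ (ι : Type u) (V : ι → X.ProEt) (g : ∀ i, V i ⟶ U),
      Sieve.generate (Presieve.ofArrows V g) ∈ Scheme.ProEt.topology X U ∧
        ∀ i, IsAffine (V i).left ∧ EtPBC.IsWContractible ↥(Γ((V i).left, ⊤)) := by
  classical
  obtain ⟨𝒰⟩ : Nonempty U.left.AffineOpenCover := ⟨U.left.affineOpenCover⟩
  choose D hD1 hD2 hff hie hwc using fun i : 𝒰.I₀ => Groth.Agent.H27.WContrCover.main (𝒰.X i)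
  letI := hD1
  letI := hD2
  let φ : ∀ i, 𝒰.X i ⟶ CommRingCat.of (D i) :=
    fun i => CommRingCat.ofHom (algebraMap (𝒰.X i) (D i))
  haveI hweφ : ∀ i, WeaklyEtale (Spec.map (φ i)) := fun i => by
    haveI : Algebra.WeaklyEtale (𝒰.X i) (D i) := Groth.Agent.S0736.result _ _ (hie i)
    exact (Groth.Agent.H10.weaklyEtale_SpecMap_algebraMap_iff _ _).mpr inferInstance
  let f : ∀ i, Spec (CommRingCat.of (D i)) ⟶ U.left := fun i => Spec.map (φ i) ≫ 𝒰.f i
  haveI hwef : ∀ i, WeaklyEtale (f i) := fun i => inferInstance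
  let V : (Σ _ : 𝒰.I₀, PUnit.{u+1}) → X.ProEt := fun p => Scheme.ProEt.mk (f p.1 ≫ U.hom)
  let g : ∀ p, V p ⟶ U := fun p => MorphismProperty.Over.homMk (f p.1)
  refine ⟨_, V, g, ?_, ?_⟩
  · apply Precoverage.generate_mem_toGrothendieck
    show Presieve.map (Scheme.ProEt.forget X ⋙ Over.forget X) (Presieve.ofArrows V g) ∈
      Scheme.proetalePrecoverage U.left
    rw [Presieve.map_ofArrows]
    have h1 : Presieve.ofArrows (fun i => Spec (𝒰.X i)) 𝒰.f ∈
        Scheme.proetalePrecoverage U.left :=
      Scheme.zariskiPrecoverage_le_propQCPrecoverage _ 𝒰.openCover.mem₀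
    have h2 : ∀ i, Presieve.ofArrows (fun _ : PUnit.{u+1} => Spec (CommRingCat.of (D i)))
        (fun _ => Spec.map (φ i)) ∈ Scheme.proetalePrecoverage (Spec (𝒰.X i)) := by
      intro i
      rw [Presieve.ofArrows_pUnit]
      haveI : Surjective (Spec.map (φ i)) := by
        refine ((flat_and_surjective_SpecMap_iff (φ i)).mpr ?_).2
        show (algebraMap (𝒰.X i) (D i)).FaithfullyFlat
        rw [RingHom.faithfullyFlat_algebraMap_iff]
        exact hff i
      exact ⟨Scheme.Hom.singleton_mem_qcPrecoverage _,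
        (Scheme.singleton_mem_precoverage_iff _ _).mpr ⟨‹Surjective (Spec.map (φ i))›.surj, hweφ i⟩⟩
    exact Precoverage.comp_mem_coverings 𝒰.f h1 (fun i _ => Spec.map (φ i)) h2
  · intro p
    refine ⟨inferInstanceAs (IsAffine (Spec _)), ?_⟩
    exact isWContractible_of_ringEquiv
      (Scheme.ΓSpecIso (CommRingCat.of (D p.1))).symm.commRingCatIsoToRingEquiv (hwc p.1)

end Groth.Agent.H27.ProEtWCover
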