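import Groth.Agent.H27.EpsPres
import Groth.Agent.H27.ProEtWCover
import Groth.Agent.S0736
import Groth.Agent.H10.WeaklyEtaleScheme

/-!
# Existence of presentations of w-contractible covers of affine étale `X`-schemes
-/

set_option autoImplicit false
set_option linter.style.haveILetI false
set_option linter.unusedSectionVars false
open CategoryTheory CategoryTheory.Limits AlgebraicGeometry Opposite
universe u

namespace Groth.Agent.H27.EpsPresExists

open EpsPres

section Ring

variable {A₀ : CommRingCat.{u}} {J : Type u} [SmallCategory J] [IsFiltered J]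
  (D : J ⥤ Under A₀) (c : Cocone D) (hc : IsColimit c)

/-- the stages -/
noncomputable abbrev DS : Jᵒᵖ ⥤ Scheme.{u} := (D ⋙ Under.forget A₀).op ⋙ Scheme.Spec

/-- the limit cone -/
noncomputable abbrev cS : Cone (DS D) := Scheme.Spec.mapCone ((Under.forget A₀).mapCocone c).op

/-- it is a limit cone -/
noncomputable def hcS : IsLimit (cS D c) :=
  isLimitOfPreserves Scheme.Spec (IsColimit.op (isColimitOfPreserves (Under.forget A₀) hc))

variable {Y : Scheme.{u}} (φ : Spec A₀ ⟶ Y)

/-- the structure maps -/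
noncomputable abbrev tS : DS D ⟶ (Functor.const Jᵒᵖ).obj Y where
  app j := Spec.map (D.obj j.unop).hom ≫ φ
  naturality := by
    intro i j f
    show Spec.map (D.map f.unop).right ≫ Spec.map (D.obj j.unop).hom ≫ φ =
      (Spec.map (D.obj i.unop).hom ≫ φ) ≫ 𝟙 _
    rw [Category.comp_id, ← Category.assoc, ← Spec.map_comp, Under.w]

theorem htS (j : Jᵒᵖ) : (cS D c).π.app j ≫ (tS D φ).app j = Spec.map c.pt.hom ≫ φ := by
  show Spec.map (c.ι.app j.unop).right ≫ Spec.map (D.obj j.unop).hom ≫ φ = Spec.map c.pt.hom ≫ φ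
  rw [← Category.assoc, ← Spec.map_comp, Under.w]
  rfl

end Ring

variable {X : Scheme.{u}}

theorem nonempty_pres (E : X.Etale) [IsAffine E.left] : Nonempty (Pres E) := by
  obtain ⟨D₀, iD, iA, hff, hie, hwc⟩ := WContrCover.main ↥Γ(E.left, ⊤)
  have hwe0 : Algebra.WeaklyEtale ↥Γ(E.left, ⊤) D₀ := S0736.result _ _ hie
  obtain ⟨J, iJ, iF, D, c, hc, het, ⟨e⟩⟩ := hie
  let c' : Cocone D := c.extend e.hom
  have hc' : IsColimit c' := IsColimit.ofIsoColimit hc (Cocone.extendIso c e)
  let A₀ : CommRingCat.{u} := CommRingCat.of ↥Γ(E.left, ⊤)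
  let φ : Spec A₀ ⟶ E.left := E.left.isoSpec.inv
  have hwe : WeaklyEtale (Spec.map c'.pt.hom) := by
    show WeaklyEtale (Spec.map (CommRingCat.ofHom (algebraMap ↥Γ(E.left, ⊤) D₀)))
    rw [H10.weaklyEtale_SpecMap_algebraMap_iff]
    exact hwe0
  refine ⟨{ I := Jᵒᵖ, D := DS D, t := tS D φ, affE := inferInstance, et := ?_, aff := ?_,
            c := cS D c', hc := hcS D c' hc', affW := ?_, tW := Spec.map c'.pt.hom ≫ φ,
            htW := htS D c' φ, we := ?_, surj := ?_, wc := ?_ }⟩
  · intro j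
    have h1 : Etale (Spec.map (D.obj j.unop).hom) :=
      (HasRingHomProperty.Spec_iff (P := @Etale)).mpr (het j.unop)
    show Etale (Spec.map (D.obj j.unop).hom ≫ E.left.isoSpec.inv)
    infer_instance
  · intro j
    exact inferInstanceAs (IsAffine (Spec _))
  · exact inferInstanceAs (IsAffine (Spec _))
  · show WeaklyEtale (Spec.map c'.pt.hom ≫ E.left.isoSpec.inv)
    infer_instance
  · intro x
    obtain ⟨y, hy⟩ := PrimeSpectrum.comap_surjective_of_faithfullyFlat (A := ↥Γ(E.left, ⊤))
      (B := D₀) (E.left.isoSpec.hom.base x)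
    refine ⟨y, ?_⟩
    show φ.base ((Spec.map c'.pt.hom).base y) = x
    have h1 : (Spec.map c'.pt.hom).base y = E.left.isoSpec.hom.base x := hy
    rw [h1]
    exact congrArg (fun m : E.left ⟶ E.left => m.base x) E.left.isoSpec.hom_inv_id
  · exact ProEtWCover.isWContractible_of_ringEquiv
      (Scheme.ΓSpecIso (CommRingCat.of D₀)).symm.commRingCatIsoToRingEquiv hwc

end Groth.Agent.H27.EpsPresExists
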