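import Groth.Agent.H27.EpsLan
import Groth.Agent.H27.ProEtCov
import Groth.Agent.H4.GlueSec

/-!
# The unit `F ⟶ ε_* ε⁻¹ F` is injective on sections (generic coefficients)
-/

set_option autoImplicit false
set_option linter.style.haveILetI false
set_option linter.unusedSectionVars false
open CategoryTheory CategoryTheory.Limits AlgebraicGeometry Opposite
universe u w

namespace Groth.Agent.H27.EpsUnitInj

open EpsLan

variable {X : Scheme.{u}}
variable {A : Type (u + 2)} [Category.{u + 1} A] {FA : A → A → Type w} {CA : A → Type (u + 1)}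
  [∀ M N, FunLike (FA M N) (CA M) (CA N)] [ConcreteCategory.{u + 1} A FA]
  [∀ F : X.Etaleᵒᵖ ⥤ A, (ProEtS.eps X).op.HasPointwiseLeftKanExtension F]
  [PreservesFilteredColimitsOfSize.{u, u + 1} (forget A)]

theorem exists_of_elt_eq_same (F : X.Etaleᵒᵖ ⥤ A) {W : X.ProEt} {E : X.Etale}
    (a : W ⟶ (ProEtS.eps X).obj E) (s s' : ToType (F.obj (op E)))
    (h : elt F E a s = elt F E a s') :
    ∃ (E'' : X.Etale) (h : E'' ⟶ E) (b : W ⟶ (ProEtS.eps X).obj E''),
      b ≫ (ProEtS.eps X).map h = a ∧ F.map h.op s = F.map h.op s' := by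
  let c : CostructuredArrow (ProEtS.eps X).op (op W) := CostructuredArrow.mk (Y := op E) a.op
  have h' : ((Functor.LeftExtension.mk _ (unit F)).coconeAt (op W)).ι.app c s =
      ((Functor.LeftExtension.mk _ (unit F)).coconeAt (op W)).ι.app c s' :=
    ((ConcreteCategory.comp_apply _ _ _).trans h).trans (ConcreteCategory.comp_apply _ _ _).symm
  obtain ⟨k, φ, φ', hk⟩ := Concrete.isColimit_exists_of_rep_eq _ (isColimit F W) _ _ h'
  let e := IsFiltered.coeqHom φ φ'
  have he : φ ≫ e = φ' ≫ e := IsFiltered.coeq_condition φ φ'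
  refine ⟨(IsFiltered.coeq φ φ').left.unop, (φ ≫ e).left.unop, (IsFiltered.coeq φ φ').hom.unop,
    ?_, ?_⟩
  · have := CostructuredArrow.w (φ ≫ e)
    exact congrArg Quiver.Hom.unop this
  · have h1 : F.map (φ ≫ e).left s = F.map e.left (F.map φ.left s) := by
      rw [CostructuredArrow.comp_left, Functor.map_comp, ConcreteCategory.comp_apply]
    have h2 : F.map (φ ≫ e).left s' = F.map e.left (F.map φ'.left s') := by
      rw [he, CostructuredArrow.comp_left, Functor.map_comp, ConcreteCategory.comp_apply]
    show F.map (φ ≫ e).left s = F.map (φ ≫ e).left s'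
    rw [h1, h2]
    exact congrArg _ hk

variable [ProEtS.EpsCont X] [HasSheafify (Scheme.ProEt.topology X) A]
  [(Scheme.ProEt.topology X).WEqualsLocallyBijective A]
  [X.smallEtaleTopology.HasSheafCompose (forget A)]

/-- étale sheaves are separated (on underlying types) -/
theorem isSheaf_type (F : Sheaf X.smallEtaleTopology A) :
    Presieve.IsSheaf X.smallEtaleTopology (F.obj ⋙ forget A) :=
  (isSheaf_iff_isSheaf_of_type _ _).1
    ((sheafCompose X.smallEtaleTopology (forget A)).obj F).2

/-- the sieve of morphisms along which two sections agree -/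
def eqSieve (F : X.Etaleᵒᵖ ⥤ A) (E : X.Etale) (t t' : ToType (F.obj (op E))) : Sieve E where
  arrows := fun _ h => F.map h.op t = F.map h.op t'
  downward_closed := by
    intro T' T'' h hh v
    show F.map (v ≫ h).op t = F.map (v ≫ h).op t'
    rw [op_comp, Functor.map_comp, ConcreteCategory.comp_apply, ConcreteCategory.comp_apply, hh]

set_option backward.isDefEq.respectTransparency.types false in
/-- two sections of `F` over `E` which agree in `P F` along a pro-étale covering sieve of `ε E`
agree -/
theorem eq_of_elt_eq (F : Sheaf X.smallEtaleTopology A) (E : X.Etale)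
    (s t : ToType (F.obj.obj (op E))) (R : Sieve ((ProEtS.eps X).obj E))
    (hR : R ∈ Scheme.ProEt.topology X ((ProEtS.eps X).obj E))
    (h : ∀ {V : X.ProEt} (g : V ⟶ (ProEtS.eps X).obj E), R g →
      elt F.obj E g s = elt F.obj E g t) : s = t := by
  have hS : eqSieve F.obj E s t ∈ X.smallEtaleTopology E := by
    rw [Groth.Agent.H4.GlueSec.mem_smallEtaleTopology_iff]
    intro x
    obtain ⟨Pc, hPc, hle⟩ := (ProEtCov.mem_topology_iff _ _).mp hR
    obtain ⟨V, g, hg, -, v, hv⟩ := ProEtCov.exists_of_mem_precoverage hPc x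
    obtain ⟨E'', h', b, hb, hs⟩ := exists_of_elt_eq_same F.obj g s t (h g (hle _ _ hg))
    refine ⟨E'', h', b.left v, hs, ?_⟩
    have h1 : b.left ≫ h'.left = g.left := congrArg (fun m => m.left) hb
    have h2 := congrArg (fun m : V.left ⟶ E.left => m.base v) h1
    exact h2.trans hv
  exact ((isSheaf_type F) _ hS).isSeparatedFor.ext (fun Y f hf => hf)

set_option backward.isDefEq.respectTransparency.types false in
/-- **Injectivity of the unit on sections.** -/
theorem injective_unit (F : Sheaf X.smallEtaleTopology A) (E : X.Etale) :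
    Function.Injective ((epsAdjA.unit.app F).hom.app (op E)) := by
  intro s t hst
  have h1 : (toSheafify (Scheme.ProEt.topology X) (P F.obj)).app (op ((ProEtS.eps X).obj E))
      ((unit F.obj).app (op E) s) =
      (toSheafify (Scheme.ProEt.topology X) (P F.obj)).app (op ((ProEtS.eps X).obj E))
      ((unit F.obj).app (op E) t) := by
    rw [← cmp_unit, ← cmp_unit, hst]
  have hmem := Presheaf.equalizerSieve_mem (Scheme.ProEt.topology X)
    (toSheafify (Scheme.ProEt.topology X) (P F.obj)) (X := op ((ProEtS.eps X).obj E)) _ _ h1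
  exact eq_of_elt_eq F E s t _ hmem (fun g hg => hg)

end Groth.Agent.H27.EpsUnitInj
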