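import Groth.Agent.H27.EpsWCRep
import Groth.Agent.H27.EpsPresExists
import Groth.Agent.H27.EpsDescent

/-!
# The unit `F ⟶ ε_* ε⁻¹ F` is surjective on sections over affine étale `X`-schemes
-/

set_option autoImplicit false
set_option linter.style.haveILetI false
set_option linter.unusedSectionVars false
open CategoryTheory CategoryTheory.Limits AlgebraicGeometry Opposite
universe u w

namespace Groth.Agent.H27.EpsUnitSurj

open EpsLan EpsPres

variable {X : Scheme.{u}}

set_option backward.isDefEq.respectTransparency.types false in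
/-- a quasi-compact surjective morphism generates a covering sieve of the pro-étale site -/
theorem generate_singleton_mem {U V : X.ProEt} (g : V ⟶ U) [QuasiCompact g.left]
    [WeaklyEtale g.left] (hs : Function.Surjective g.left.base) :
    Sieve.generate (Presieve.singleton g) ∈ Scheme.ProEt.topology X U := by
  apply Precoverage.generate_mem_toGrothendieck
  show Presieve.map (Scheme.ProEt.forget X ⋙ Over.forget X) (Presieve.singleton g) ∈
      Scheme.proetalePrecoverage U.left
  rw [Presieve.map_singleton]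
  show Presieve.singleton g.left ∈ Scheme.proetalePrecoverage U.left
  haveI : Surjective g.left := ⟨hs⟩
  exact ⟨Scheme.Hom.singleton_mem_qcPrecoverage _,
    (Scheme.singleton_mem_precoverage_iff _ _).mpr ⟨hs, inferInstanceAs (WeaklyEtale g.left)⟩⟩

variable {A : Type (u + 2)} [Category.{u + 1} A] {FA : A → A → Type w} {CA : A → Type (u + 1)}
  [∀ M N, FunLike (FA M N) (CA M) (CA N)] [ConcreteCategory.{u + 1} A FA]
  [∀ F : X.Etaleᵒᵖ ⥤ A, (ProEtS.eps X).op.HasPointwiseLeftKanExtension F]
  [PreservesFilteredColimitsOfSize.{u, u + 1} (forget A)]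
  [ProEtS.EpsCont X] [HasSheafify (Scheme.ProEt.topology X) A]
  [(Scheme.ProEt.topology X).WEqualsLocallyBijective A]
  [(Scheme.ProEt.topology X).HasSheafCompose (forget A)]
  [X.smallEtaleTopology.HasSheafCompose (forget A)]

/-- naturality of `toSheafify` on sections -/
theorem ts_map (Pr : X.ProEtᵒᵖ ⥤ A) {W W' : X.ProEt} (k : W' ⟶ W)
    (x : ToType (Pr.obj (op W))) :
    (toSheafify (Scheme.ProEt.topology X) Pr).app (op W') (Pr.map k.op x) =
      ((presheafToSheaf (Scheme.ProEt.topology X) A).obj Pr).obj.map k.op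
        ((toSheafify (Scheme.ProEt.topology X) Pr).app (op W) x) := by
  have hnat := ConcreteCategory.congr_hom
    ((toSheafify (Scheme.ProEt.topology X) Pr).naturality k.op) x
  rw [ConcreteCategory.comp_apply, ConcreteCategory.comp_apply] at hnat
  exact hnat

/-- naturality of the comparison isomorphism on sections -/
theorem cmp_map (F : Sheaf X.smallEtaleTopology A) {W W' : X.ProEt} (k : W' ⟶ W)
    (y : ToType ((epsPullA.obj F).obj.obj (op W))) :
    (cmp F).hom.hom.app (op W') ((epsPullA.obj F).obj.map k.op y) =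
      ((presheafToSheaf (Scheme.ProEt.topology X) A).obj (P F.obj)).obj.map k.op
        ((cmp F).hom.hom.app (op W) y) := by
  have hnat := ConcreteCategory.congr_hom ((cmp F).hom.hom.naturality k.op) y
  rw [ConcreteCategory.comp_apply, ConcreteCategory.comp_apply] at hnat
  exact hnat

/-- the comparison isomorphism is injective on sections -/
theorem cmp_injective (F : Sheaf X.smallEtaleTopology A) (W : X.ProEt) :
    Function.Injective ((cmp F).hom.hom.app (op W)) := by
  let e := ((sheafToPresheaf _ A).mapIso (cmp F)).app (op W)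
  exact (ConcreteCategory.bijective_of_isIso e.hom).1

/-- functoriality of restriction on sections -/
theorem map_map (Q : X.ProEtᵒᵖ ⥤ A) {W W' W'' : X.ProEt} (k : W' ⟶ W) (l : W'' ⟶ W')
    (y : ToType (Q.obj (op W))) : Q.map l.op (Q.map k.op y) = Q.map (l ≫ k).op y := by
  rw [op_comp, Functor.map_comp, ConcreteCategory.comp_apply]

/-- functoriality of restriction on sections -/
theorem map_map_et (Q : X.Etaleᵒᵖ ⥤ A) {W W' W'' : X.Etale} (k : W' ⟶ W) (l : W'' ⟶ W')
    (y : ToType (Q.obj (op W))) : Q.map l.op (Q.map k.op y) = Q.map (l ≫ k).op y := by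
  rw [op_comp, Functor.map_comp, ConcreteCategory.comp_apply]

set_option backward.isDefEq.respectTransparency.types false in
/-- **Surjectivity of the unit on sections over an étale `X`-scheme with a presentation.** -/
theorem exists_unit_eq_of_pres (F : Sheaf X.smallEtaleTopology A) (E : X.Etale) (p : Pres E)
    (σ : ToType ((epsPullA.obj F).obj.obj (op ((ProEtS.eps X).obj E)))) :
    ∃ s : ToType (F.obj.obj (op E)), (epsAdjA.unit.app F).hom.app (op E) s = σ := by
  let G := epsPullA.obj F
  let G' := (presheafToSheaf (Scheme.ProEt.topology X) A).obj (P F.obj)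
  let ts := toSheafify (Scheme.ProEt.topology X) (P F.obj)
  -- (a) represent the restriction to `W` by a single triple
  let τ := (cmp F).hom.hom.app (op p.W) (G.obj.map p.Whom.op σ)
  obtain ⟨E', a, s', hs'⟩ := EpsWCRep.exists_rep F p.W p.wc τ
  -- (b) factor through a stage
  obtain ⟨i, g, hg⟩ := p.exists_factor E' a
  obtain ⟨si, hsi⟩ : ∃ si : ToType (F.obj.obj (op (p.stage i))), si = F.obj.map g.op s' :=
    ⟨_, rfl⟩
  have hτ : ts.app (op p.W) (elt F.obj (p.stage i) (p.Wπ i) si) = τ := by
    rw [← hs', ← hg, elt_comp, hsi]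
  -- (c) the two restrictions to `W ×_E W` agree
  have hpr : G'.obj.map p.pr1.op τ = G'.obj.map p.pr2.op τ := by
    show G'.obj.map p.pr1.op ((cmp F).hom.hom.app (op p.W) (G.obj.map p.Whom.op σ)) =
      G'.obj.map p.pr2.op ((cmp F).hom.hom.app (op p.W) (G.obj.map p.Whom.op σ))
    rw [← cmp_map, ← cmp_map, map_map, map_map, p.pr1_Whom]
  obtain ⟨t1, ht1⟩ : ∃ t1 : ToType (F.obj.obj (op (p.stage2 i))),
    t1 = F.obj.map (p.q1 i).op si := ⟨_, rfl⟩
  obtain ⟨t2, ht2⟩ : ∃ t2 : ToType (F.obj.obj (op (p.stage2 i))),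
    t2 = F.obj.map (p.q2 i).op si := ⟨_, rfl⟩
  have h12 : ts.app (op p.W2) (elt F.obj (p.stage2 i) (p.W2π i) t1) =
      ts.app (op p.W2) (elt F.obj (p.stage2 i) (p.W2π i) t2) := by
    rw [ht1, ht2, ← elt_comp, ← elt_comp, p.W2π_q1, p.W2π_q2, ← map_elt, ← map_elt, ts_map,
      ts_map, hτ]
    exact hpr
  -- (d), (e) the good open contains the image of `W ×_E W`
  have hO : p.c2.π.app i ⁻¹ᵁ EpsDescent.goodOpen F.obj (p.stage2 i) t1 t2 = ⊤ := by
    rw [eq_top_iff]
    intro z _
    have hmem := Presheaf.equalizerSieve_mem (Scheme.ProEt.topology X) ts (X := op p.W2) _ _ h12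
    obtain ⟨Pc, hPc, hle⟩ := (ProEtCov.mem_topology_iff _ _).mp hmem
    obtain ⟨V, gV, hgV, -, v, hv⟩ := ProEtCov.exists_of_mem_precoverage hPc z
    have hR : (P F.obj).map gV.op (elt F.obj (p.stage2 i) (p.W2π i) t1) =
        (P F.obj).map gV.op (elt F.obj (p.stage2 i) (p.W2π i) t2) := hle _ _ hgV
    rw [map_elt, map_elt] at hR
    obtain ⟨E'', h', b, hb, hs⟩ := EpsUnitInj.exists_of_elt_eq_same F.obj _ t1 t2 hR
    refine (EpsDescent.mem_goodOpen_iff F.obj (p.stage2 i) t1 t2 _).mpr
      ⟨E'', h', b.left.base v, hs, ?_⟩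
    have h1 : b.left ≫ h'.left = gV.left ≫ p.c2.π.app i := congrArg (fun m => m.left) hb
    have h2 := congrArg (fun m : V.left ⟶ (p.stage2 i).left => m.base v) h1
    exact h2.trans (congrArg (p.c2.π.app i).base hv)
  -- (f) hence it contains the image of some `stage2 j`
  haveI : ∀ {i j : p.I} (f : i ⟶ j), IsAffineHom (p.D2.map f) := fun f => inferInstance
  haveI : ∀ i, CompactSpace (p.D2.obj i) := fun i => inferInstance
  obtain ⟨j, f, hf⟩ := exists_map_eq_top p.D2 p.c2 p.hc2
    (EpsDescent.goodOpen F.obj (p.stage2 i) t1 t2) hO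
  -- (g) the two pullbacks of `s_j` agree
  have hj : F.obj.map (p.stage2Map f).op t1 = F.obj.map (p.stage2Map f).op t2 := by
    refine EpsDescent.eq_of_forall_mem_goodOpen F (p.stage2Map f) t1 t2 (fun y => ?_)
    have hy : y ∈ p.D2.map f ⁻¹ᵁ EpsDescent.goodOpen F.obj (p.stage2 i) t1 t2 := by
      rw [hf]; trivial
    exact hy
  obtain ⟨sj, hsj⟩ : ∃ sj : ToType (F.obj.obj (op (p.stage j))),
    sj = F.obj.map (p.stageMap f).op si := ⟨_, rfl⟩
  have hq : F.obj.map (p.q1 j).op sj = F.obj.map (p.q2 j).op sj := by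
    rw [hsj, map_map_et, map_map_et, ← p.stage2Map_q1, ← p.stage2Map_q2, ← map_map_et,
      ← map_map_et, ← ht1, ← ht2]
    exact hj
  -- (h) descend to `E`
  obtain ⟨sE, hsE⟩ := EpsDescent.exists_descent F (p.stageHom j) (p.surjective_stageHom j)
    (p.q1 j) (p.q2 j) (fun m₁ m₂ h => ⟨p.lift2 m₁ m₂ h, p.lift2_q1 m₁ m₂ h, p.lift2_q2 m₁ m₂ h⟩)
    sj hq
  -- (i) compare on the cover `W ⟶ ε E`
  refine ⟨sE, ?_⟩
  have hW : G.obj.map p.Whom.op ((epsAdjA.unit.app F).hom.app (op E) sE) =
      G.obj.map p.Whom.op σ := by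
    apply cmp_injective F p.W
    rw [cmp_map, cmp_unit, unit_eq_elt, ← ts_map, map_elt, Category.comp_id,
      ← p.Wπ_stageHom j, elt_comp, hsE, hsj, ← elt_comp, p.Wπ_stageMap]
    refine hτ.trans ?_
    rw [p.Wπ_stageHom]
  haveI := p.affE
  haveI : QuasiCompact p.Whom.left := inferInstanceAs (QuasiCompact p.tW)
  haveI : WeaklyEtale p.Whom.left := inferInstanceAs (WeaklyEtale p.tW)
  have hcov := generate_singleton_mem p.Whom p.surj
  refine ((EpsWCRep.isSheaf_type G) _ hcov).isSeparatedFor.ext ?_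
  rintro Y f ⟨T0, m', k, ⟨⟩, rfl⟩
  show G.obj.map (m' ≫ p.Whom).op _ = G.obj.map (m' ≫ p.Whom).op _
  rw [← map_map, ← map_map, hW]

/-- surjectivity of the unit on sections over affine étale `X`-schemes -/
theorem exists_unit_eq_of_isAffine (F : Sheaf X.smallEtaleTopology A) (E : X.Etale)
    [IsAffine E.left]
    (σ : ToType ((epsPullA.obj F).obj.obj (op ((ProEtS.eps X).obj E)))) :
    ∃ s : ToType (F.obj.obj (op E)), (epsAdjA.unit.app F).hom.app (op E) s = σ := by
  obtain ⟨p⟩ := EpsPresExists.nonempty_pres E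
  exact exists_unit_eq_of_pres F E p σ

set_option backward.isDefEq.respectTransparency.types false in
/-- **Surjectivity of the unit on sections.** -/
theorem exists_unit_eq (F : Sheaf X.smallEtaleTopology A) (E : X.Etale)
    (σ : ToType ((epsPullA.obj F).obj.obj (op ((ProEtS.eps X).obj E)))) :
    ∃ s : ToType (F.obj.obj (op E)), (epsAdjA.unit.app F).hom.app (op E) s = σ := by
  let G := epsPullA.obj F
  let S : Sieve E :=
    { arrows := fun T h => ∃ s : ToType (F.obj.obj (op T)),
        (epsAdjA.unit.app F).hom.app (op T) s = G.obj.map ((ProEtS.eps X).map h).op σ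
      downward_closed := by
        rintro T T' h ⟨s, hs⟩ k
        refine ⟨F.obj.map k.op s, ?_⟩
        rw [unit_naturality, hs, map_map, ← Functor.map_comp] }
  have hS : S ∈ X.smallEtaleTopology E := by
    rw [Groth.Agent.H4.GlueSec.mem_smallEtaleTopology_iff]
    intro x
    obtain ⟨U, hU, hxU, -⟩ := exists_isAffineOpen_mem_and_subset (x := x) (U := ⊤) trivial
    let EU : X.Etale := Scheme.Etale.mk (U.ι ≫ E.hom)
    let jU : EU ⟶ E := MorphismProperty.Over.homMk U.ι rfl
    haveI : IsAffine EU.left := hU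
    exact ⟨EU, jU, ⟨x, hxU⟩, exists_unit_eq_of_isAffine F EU _, rfl⟩
  let fam : Presieve.FamilyOfElements (F.obj ⋙ forget A) S.arrows := fun T h hh => hh.choose
  have hfam : ∀ {T : X.Etale} (h : T ⟶ E) (hh : S h),
      (epsAdjA.unit.app F).hom.app (op T) (fam h hh) =
        G.obj.map ((ProEtS.eps X).map h).op σ := fun h hh => hh.choose_spec
  have hcompat : fam.Compatible := by
    intro T₁ T₂ Z g₁ g₂ h₁ h₂ hh₁ hh₂ hcomm
    apply EpsUnitInj.injective_unit F Z
    show (epsAdjA.unit.app F).hom.app (op Z) (F.obj.map g₁.op (fam h₁ hh₁)) =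
      (epsAdjA.unit.app F).hom.app (op Z) (F.obj.map g₂.op (fam h₂ hh₂))
    rw [unit_naturality, unit_naturality, hfam, hfam, map_map, map_map, ← Functor.map_comp,
      ← Functor.map_comp, hcomm]
  obtain ⟨s, hs, -⟩ := (EpsDescent.isSheaf_type F) S hS fam hcompat
  refine ⟨s, ?_⟩
  let εG := ((ProEtS.eps X).sheafPushforwardContinuous A X.smallEtaleTopology
    (Scheme.ProEt.topology X)).obj G
  refine ((EpsDescent.isSheaf_type εG) S hS).isSeparatedFor.ext ?_
  intro T h hh
  show G.obj.map ((ProEtS.eps X).map h).op ((epsAdjA.unit.app F).hom.app (op E) s) =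
    G.obj.map ((ProEtS.eps X).map h).op σ
  rw [← unit_naturality, ← hfam h hh]
  exact congrArg _ (hs h hh)

/-- **The unit `F ⟶ ε_* ε⁻¹ F` is an isomorphism** (generic coefficients). -/
theorem isIso_unit [(forget A).ReflectsIsomorphisms] (F : Sheaf X.smallEtaleTopology A) :
    IsIso (epsAdjA.unit.app F) := by
  haveI : ∀ E : X.Etaleᵒᵖ, IsIso ((epsAdjA.unit.app F).hom.app E) := by
    intro E
    rw [ConcreteCategory.isIso_iff_bijective]
    exact ⟨EpsUnitInj.injective_unit F E.unop, fun σ => exists_unit_eq F E.unop σ⟩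
  haveI : IsIso ((sheafToPresheaf _ A).map (epsAdjA.unit.app F)) :=
    NatIso.isIso_of_isIso_app (epsAdjA.unit.app F).hom
  exact isIso_of_reflects_iso _ (sheafToPresheaf _ A)

end Groth.Agent.H27.EpsUnitSurj
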