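import Groth.Agent.H27.ProEtGlue
import Groth.Agent.H27.ProEtCov

/-!
# A finite disjoint clopen decomposition of an object of `X_proet` is a coproduct decomposition
-/

set_option autoImplicit false
set_option linter.style.haveILetI false
open CategoryTheory CategoryTheory.Limits AlgebraicGeometry Opposite
universe u w

namespace Groth.Agent.H27.ProEtCoprod

variable {X : Scheme.{u}} (U : X.ProEt) {ι : Type*} (O : ι → U.left.Opens)

/-- the pieces of a decomposition, as objects of the pro-étale site -/
noncomputable abbrev piece (k : ι) : X.ProEt := Scheme.ProEt.mk ((O k).ι ≫ U.hom)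

/-- the inclusion of a piece -/
noncomputable abbrev incl (k : ι) : piece U O k ⟶ U := MorphismProperty.Over.homMk (O k).ι

/-- the cofan of the pieces -/
noncomputable abbrev cofan : Cofan (piece U O) := Cofan.mk U (incl U O)

set_option backward.isDefEq.respectTransparency.types false in
/-- a disjoint open cover exhibits the object as the coproduct of its pieces -/
noncomputable def isColimit
    (hdisj : Pairwise (fun k l => Disjoint (O k : Set ↥U.left) (O l)))
    (hcov : (⋃ k, (O k : Set ↥U.left)) = Set.univ) : IsColimit (cofan U O) := by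
  have key : ∀ s : Cofan (piece U O), ∃ σ : U ⟶ s.pt, ∀ k, incl U O k ≫ σ = s.inj k := by
    intro s
    obtain ⟨σ, hσ⟩ := ProEtGlue.exists_glue O hdisj hcov (fun k => (s.inj k).left)
    have hw : σ ≫ s.pt.hom = U.hom := by
      apply ProEtGlue.hom_ext_of_cover O hcov
      intro k
      rw [← Category.assoc, hσ k]
      exact MorphismProperty.Over.w (s.inj k)
    refine ⟨MorphismProperty.Over.homMk σ hw, fun k => ?_⟩
    apply MorphismProperty.Over.Hom.ext
    exact hσ k
  refine Cofan.IsColimit.mk _ (fun s => (key s).choose) (fun s k => (key s).choose_spec k) ?_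
  intro s m hm
  apply MorphismProperty.Over.Hom.ext
  apply ProEtGlue.hom_ext_of_cover O hcov
  intro k
  have h1 := congrArg (fun g => g.left) (hm k)
  have h2 := congrArg (fun g => g.left) ((key s).choose_spec k)
  exact h1.trans h2.symm

set_option backward.isDefEq.respectTransparency.types false in
/-- a presheaf preserving finite products glues sections uniquely over finite disjoint
open decompositions -/
theorem existsUnique_of_preservesFiniteProducts [Finite ι]
    (hdisj : Pairwise (fun k l => Disjoint (O k : Set ↥U.left) (O l)))
    (hcov : (⋃ k, (O k : Set ↥U.left)) = Set.univ)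
    (F : X.ProEtᵒᵖ ⥤ Type w) [PreservesFiniteProducts F]
    (t : ∀ k, F.obj (op (piece U O k))) :
    ∃! x : F.obj (op U), ∀ k, F.map (incl U O k).op x = t k := by
  have hc : IsLimit (cofan U O).op := Cofan.IsColimit.op (isColimit U O hdisj hcov)
  haveI : PreservesLimitsOfShape (Discrete ι) F := inferInstance
  have hF : IsLimit (F.mapCone (cofan U O).op) := isLimitOfPreserves F hc
  have := (Types.isLimit_iff _).mp ⟨hF⟩ (fun j => t j.as) (by
    rintro ⟨j⟩ ⟨j'⟩ f
    obtain rfl : j = j' := Discrete.eq_of_hom f
    have : f = 𝟙 _ := Subsingleton.elim _ _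
    subst this
    simp)
  obtain ⟨x, hx, hux⟩ := this
  refine ⟨x, fun k => hx ⟨k⟩, fun y hy => hux y (fun j => hy j.as)⟩

end Groth.Agent.H27.ProEtCoprod
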