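import Groth.Agent.H27.ProEtCov

/-!
# Finite affine refinements of coverings of quasi-compact objects of the small pro-étale site
-/

set_option autoImplicit false
set_option linter.style.haveILetI false
open CategoryTheory CategoryTheory.Limits AlgebraicGeometry Opposite
universe u

namespace Groth.Agent.H27.ProEtFinAff

set_option backward.isDefEq.respectTransparency.types false in
theorem aux {X : Scheme.{u}} {U : X.ProEt} {P : Presieve U} {Y : Scheme.{u}} (h : Y ⟶ U.left)
    (hh : Presieve.map (Scheme.ProEt.forget X ⋙ Over.forget X) P h) (W : Y.Opens)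
    (hW : IsAffineOpen W) :
    ∃ (V : X.ProEt) (g : V ⟶ U) (W' : V.left.Opens), P g ∧ IsAffineOpen W' ∧
      (g.left.base '' (W' : Set V.left) = h.base '' (W : Set Y)) := by
  obtain ⟨hg⟩ := hh
  exact ⟨_, _, W, hg, hW, rfl⟩

set_option backward.isDefEq.respectTransparency.types false in
theorem main {X : Scheme.{u}} {U : X.ProEt} [CompactSpace U.left] {P : Presieve U}
    (hP : P ∈ Scheme.ProEt.precoverage X U) :
    ∃ (n : ℕ) (V : Fin n → X.ProEt) (g : ∀ k, V k ⟶ U) (W : ∀ k, (V k).left.Opens),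
      (∀ k, P (g k)) ∧ (∀ k, WeaklyEtale (g k).left) ∧ (∀ k, IsAffineOpen (W k)) ∧
      ∀ x : U.left, ∃ k, ∃ w ∈ W k, (g k).left.base w = x := by
  have hP' : Presieve.map (Scheme.ProEt.forget X ⋙ Over.forget X) P ∈
      Scheme.propQCPrecoverage @WeaklyEtale U.left := hP
  obtain ⟨𝒰, hqc, heq⟩ := Scheme.mem_propQCPrecoverage_iff_exists_quasiCompactCover.mp hP'
  haveI := hqc
  obtain ⟨n, f, V', hV', hcov⟩ := QuasiCompactCover.exists_isAffineOpen_of_isCompact
    𝒰.toPreZeroHypercover (U := (⊤ : U.left.Opens)) isCompact_univ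
  have hmem : ∀ k : Fin n, Presieve.map (Scheme.ProEt.forget X ⋙ Over.forget X) P (𝒰.f (f k)) := by
    intro k
    rw [heq]
    exact ⟨f k⟩
  choose V g W hPg hW himg using fun k => aux (𝒰.f (f k)) (hmem k) (V' k) (hV' k)
  refine ⟨n, V, g, W, hPg, ?_, hW, ?_⟩
  · intro k
    exact hP.2.2 (Presieve.map.of (hPg k))
  · intro x
    have hx : x ∈ ⋃ i, (𝒰.f (f i)).base '' (V' i : Set _) := by
      rw [hcov]; trivial
    obtain ⟨k, hk⟩ := Set.mem_iUnion.mp hx
    rw [← himg k] at hk
    obtain ⟨w, hw, hwx⟩ := hk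
    exact ⟨k, w, hw, hwx⟩

end Groth.Agent.H27.ProEtFinAff
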