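import Mathlib

/-!
# Gluing morphisms along a disjoint open cover
-/

set_option autoImplicit false
set_option linter.style.haveILetI false
open CategoryTheory CategoryTheory.Limits AlgebraicGeometry Opposite
universe u

namespace Groth.Agent.H27.ProEtGlue

theorem exists_glue {S Y : Scheme.{u}} {ι : Type*} (W : ι → S.Opens)
    (hdisj : Pairwise (fun k l => Disjoint (W k : Set S) (W l)))
    (hcov : (⋃ k, (W k : Set S)) = Set.univ) (t : ∀ k, (W k).toScheme ⟶ Y) :
    ∃ σ : S ⟶ Y, ∀ k, (W k).ι ≫ σ = t k := by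
  have hU : TopologicalSpace.IsOpenCover W := by
    apply TopologicalSpace.IsOpenCover.mk
    rw [eq_top_iff]
    intro x _
    have : x ∈ ⋃ k, (W k : Set S) := by rw [hcov]; trivial
    obtain ⟨k, hk⟩ := Set.mem_iUnion.mp this
    exact TopologicalSpace.Opens.mem_iSup.mpr ⟨k, hk⟩
  let 𝒰 : S.OpenCover := S.openCoverOfIsOpenCover W hU
  have hf : ∀ x y : ι, pullback.fst (𝒰.f x) (𝒰.f y) ≫ t x = pullback.snd _ _ ≫ t y := by
    intro x y
    by_cases hxy : x = y
    · subst hxy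
      haveI : Mono (𝒰.f x) := inferInstanceAs (Mono (W x).ι)
      have : pullback.fst (𝒰.f x) (𝒰.f x) = pullback.snd (𝒰.f x) (𝒰.f x) := by
        rw [← cancel_mono (𝒰.f x)]
        exact pullback.condition
      exact congrArg (fun g => g ≫ t x) this
    · haveI : IsEmpty ↥(pullback (𝒰.f x) (𝒰.f y)) := by
        refine ⟨fun z => ?_⟩
        have h1 : (𝒰.f x).base ((pullback.fst (𝒰.f x) (𝒰.f y)).base z) =
            (𝒰.f y).base ((pullback.snd (𝒰.f x) (𝒰.f y)).base z) := by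
          have := congrArg (fun g => g.base z) (pullback.condition (f := 𝒰.f x) (g := 𝒰.f y))
          simpa using this
        have h2 : (𝒰.f x).base ((pullback.fst (𝒰.f x) (𝒰.f y)).base z) ∈ (W x : Set S) :=
          ((pullback.fst (𝒰.f x) (𝒰.f y)).base z).2
        have h3 : (𝒰.f y).base ((pullback.snd (𝒰.f x) (𝒰.f y)).base z) ∈ (W y : Set S) :=
          ((pullback.snd (𝒰.f x) (𝒰.f y)).base z).2
        rw [← h1] at h3
        exact Set.disjoint_iff.mp (hdisj hxy) ⟨h2, h3⟩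
      exact (isInitialOfIsEmpty (X := pullback (𝒰.f x) (𝒰.f y))).hom_ext _ _
  exact ⟨𝒰.glueMorphisms t hf, fun k => 𝒰.ι_glueMorphisms t hf k⟩

theorem hom_ext_of_cover {S Y : Scheme.{u}} {ι : Type*} (W : ι → S.Opens)
    (hcov : (⋃ k, (W k : Set S)) = Set.univ) (f₁ f₂ : S ⟶ Y)
    (h : ∀ k, (W k).ι ≫ f₁ = (W k).ι ≫ f₂) : f₁ = f₂ := by
  apply Scheme.hom_ext_of_forall
  intro x
  have : x ∈ ⋃ k, (W k : Set S) := by rw [hcov]; trivial
  obtain ⟨k, hk⟩ := Set.mem_iUnion.mp this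
  exact ⟨W k, hk, h k⟩

end Groth.Agent.H27.ProEtGlue
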