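import Groth.Agent.H27.ProEtSplit
import Groth.Agent.H27.ProEtFinAff
import Groth.Agent.H27.ProEtGlue

/-!
# w-contractibility of an affine object of the small pro-étale site via clopen refinements
-/

set_option autoImplicit false
set_option linter.style.haveILetI false
open CategoryTheory CategoryTheory.Limits AlgebraicGeometry Opposite
universe u

namespace Groth.Agent.H27.ProEtWCrit

set_option backward.isDefEq.respectTransparency.types false in
/-- w-contractible ⇒ every covering sieve contains a finite clopen decomposition -/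
theorem forward {X : Scheme.{u}} (U : X.ProEt) [IsAffine U.left]
    (hwc : EtPBC.IsWContractible ↥(Γ(U.left, ⊤))) (R : Sieve U)
    (hR : R ∈ Scheme.ProEt.topology X U) :
    ∃ (n : ℕ) (W : Fin n → U.left.Opens),
      (∀ k, IsClopen ((W k : Set ↥U.left))) ∧
      Pairwise (fun k l => Disjoint (W k : Set ↥U.left) (W l)) ∧
      (⋃ k, (W k : Set ↥U.left)) = Set.univ ∧
      ∀ k, R.arrows (MorphismProperty.Over.homMk (W k).ι :
        Scheme.ProEt.mk ((W k).ι ≫ U.hom) ⟶ U) := by
  obtain ⟨P, hP, hle⟩ := (ProEtCov.mem_topology_iff U R).mp hR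
  obtain ⟨n, V, g, W, hPg, hwe, hW, hcov⟩ := ProEtFinAff.main hP
  haveI : ∀ k, IsAffine (W k).toScheme := fun k => hW k
  haveI : ∀ k, WeaklyEtale (g k).left := hwe
  obtain ⟨O, h1, h2, h3, h4⟩ := ProEtSplit.split hwc (fun k => (W k).toScheme)
    (fun k => (W k).ι ≫ (g k).left) (by
      intro x
      obtain ⟨k, w, hw, hwx⟩ := hcov x
      exact ⟨k, ⟨w, hw⟩, hwx⟩)
  refine ⟨n, O, h1, h2, h3, ?_⟩
  intro k
  obtain ⟨h, hh⟩ := h4 k
  have hw : (h ≫ (W k).ι) ≫ (V k).hom = (O k).ι ≫ U.hom := by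
    have hgw : (g k).left ≫ U.hom = (V k).hom := MorphismProperty.Over.w (g k)
    rw [← hgw, ← Category.assoc, Category.assoc h, hh]
  let t : Scheme.ProEt.mk ((O k).ι ≫ U.hom) ⟶ V k :=
    MorphismProperty.Over.homMk (h ≫ (W k).ι) hw
  have ht : t ≫ g k = MorphismProperty.Over.homMk (O k).ι := by
    apply MorphismProperty.Over.Hom.ext
    show (h ≫ (W k).ι) ≫ (g k).left = (O k).ι
    rw [Category.assoc, hh]
  rw [← ht]
  exact R.downward_closed (hle _ _ (hPg k)) t

/-- a section of `Spec B ⟶ U` (`U` affine) gives a retraction of `Γ(U) ⟶ B` -/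
theorem retraction_of_section {S : Scheme.{u}} [IsAffine S] {B : CommRingCat.{u}}
    (φ : Γ(S, ⊤) ⟶ B) (σ : S ⟶ Spec B) (hσ : σ ≫ Spec.map φ ≫ S.isoSpec.inv = 𝟙 S) :
    φ ≫ (Scheme.ΓSpecIso B).inv ≫ σ.appTop = 𝟙 _ := by
  have h1 : σ ≫ Spec.map φ = S.toSpecΓ := by
    have := congrArg (fun g => g ≫ S.isoSpec.hom) hσ
    simp only [Category.assoc, Iso.inv_hom_id, Category.comp_id, Category.id_comp] at this
    exact this
  have h2 := congrArg Scheme.Hom.appTop h1
  rw [Scheme.Hom.comp_appTop, Scheme.toSpecΓ_appTop] at h2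
  have h3 := Scheme.ΓSpecIso_naturality φ
  have h4 : (Spec.map φ).appTop = (Scheme.ΓSpecIso _).hom ≫ φ ≫ (Scheme.ΓSpecIso B).inv := by
    rw [← Category.assoc, ← h3, Category.assoc, Iso.hom_inv_id, Category.comp_id]
  rw [h4] at h2
  simp only [Category.assoc] at h2
  rw [← cancel_epi (Scheme.ΓSpecIso Γ(S, ⊤)).hom, h2, Category.comp_id]

set_option backward.isDefEq.respectTransparency.types false in
/-- a surjective quasi-compact weakly étale morphism generates a covering sieve -/
theorem generate_singleton_mem {X : Scheme.{u}} {U : X.ProEt} {Y : Scheme.{u}} (f : Y ⟶ U.left)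
    [WeaklyEtale f] [Surjective f] [QuasiCompact f] :
    Sieve.generate (Presieve.singleton
      (MorphismProperty.Over.homMk f : Scheme.ProEt.mk (f ≫ U.hom) ⟶ U)) ∈
      Scheme.ProEt.topology X U := by
  apply Precoverage.generate_mem_toGrothendieck
  show Presieve.map (Scheme.ProEt.forget X ⋙ Over.forget X) (Presieve.singleton _) ∈
    Scheme.proetalePrecoverage U.left
  rw [Presieve.map_singleton]
  exact ⟨Scheme.Hom.singleton_mem_qcPrecoverage f,
    (Scheme.singleton_mem_precoverage_iff _ _).mpr ⟨‹Surjective f›.surj, ‹WeaklyEtale f›⟩⟩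

set_option backward.isDefEq.respectTransparency.types false in
/-- every covering sieve contains a finite clopen decomposition ⇒ w-contractible -/
theorem backward {X : Scheme.{u}} (U : X.ProEt) [IsAffine U.left]
    (H : ∀ R ∈ Scheme.ProEt.topology X U, ∃ (n : ℕ) (W : Fin n → U.left.Opens),
      (∀ k, IsClopen ((W k : Set ↥U.left))) ∧
      Pairwise (fun k l => Disjoint (W k : Set ↥U.left) (W l)) ∧
      (⋃ k, (W k : Set ↥U.left)) = Set.univ ∧
      ∀ k, R.arrows (MorphismProperty.Over.homMk (W k).ι :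
        Scheme.ProEt.mk ((W k).ι ≫ U.hom) ⟶ U)) :
    EtPBC.IsWContractible ↥(Γ(U.left, ⊤)) := by
  intro B _ _ hff hwe
  haveI := hff
  haveI := hwe
  let φ : Γ(U.left, ⊤) ⟶ CommRingCat.of B := CommRingCat.ofHom (algebraMap _ B)
  haveI hweφ : WeaklyEtale (Spec.map φ) :=
    (Groth.Agent.H10.weaklyEtale_SpecMap_algebraMap_iff _ _).mpr inferInstance
  haveI hsφ : Surjective (Spec.map φ) := by
    refine ((flat_and_surjective_SpecMap_iff φ).mpr ?_).2
    show (algebraMap Γ(U.left, ⊤) B).FaithfullyFlat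
    rw [RingHom.faithfullyFlat_algebraMap_iff]
    exact hff
  let f : Spec (CommRingCat.of B) ⟶ U.left := Spec.map φ ≫ U.left.isoSpec.inv
  haveI : WeaklyEtale f := inferInstanceAs (WeaklyEtale (Spec.map φ ≫ U.left.isoSpec.inv))
  haveI : Surjective f := inferInstanceAs (Surjective (Spec.map φ ≫ U.left.isoSpec.inv))
  haveI : QuasiCompact f := inferInstanceAs (QuasiCompact (Spec.map φ ≫ U.left.isoSpec.inv))
  obtain ⟨n, W, -, hdisj, hcov, hR⟩ := H _ (generate_singleton_mem (U := U) f)
  have ht : ∀ k, ∃ t : (W k).toScheme ⟶ Spec (CommRingCat.of B), t ≫ f = (W k).ι := by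
    intro k
    obtain ⟨Y, t, g', hg', ht⟩ := hR k
    obtain ⟨⟩ := hg'
    exact ⟨t.left, congrArg (fun g => g.left) ht⟩
  choose t ht using ht
  obtain ⟨σ, hσ⟩ := ProEtGlue.exists_glue W hdisj hcov t
  have hσf : σ ≫ f = 𝟙 U.left := by
    apply ProEtGlue.hom_ext_of_cover W hcov
    intro k
    rw [← Category.assoc, hσ, ht, Category.comp_id]
  have hret := retraction_of_section φ σ hσf
  refine ⟨{ toRingHom := ((Scheme.ΓSpecIso (CommRingCat.of B)).inv ≫ σ.appTop).hom
            commutes' := ?_ }⟩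
  intro a
  exact congrArg (fun g => g.hom a) hret

end Groth.Agent.H27.ProEtWCrit
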