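import Groth.Agent.H27.EtSigma
import Groth.Agent.H27.EpsUnitInj
import Groth.Agent.H27.ProEtWCrit
import Groth.Agent.H27.ProEtCoprod
import Groth.Agent.H27.ProEtSheafGlue

/-!
# Sections of `ε⁻¹F` over affine w-contractible objects are represented by single triples
-/

set_option autoImplicit false
set_option linter.style.haveILetI false
set_option linter.unusedSectionVars false
open CategoryTheory CategoryTheory.Limits AlgebraicGeometry Opposite
universe u w

namespace Groth.Agent.H27.EpsWCRep

open EpsLan

variable {X : Scheme.{u}}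
variable {A : Type (u + 2)} [Category.{u + 1} A] {FA : A → A → Type w} {CA : A → Type (u + 1)}
  [∀ M N, FunLike (FA M N) (CA M) (CA N)] [ConcreteCategory.{u + 1} A FA]
  [∀ F : X.Etaleᵒᵖ ⥤ A, (ProEtS.eps X).op.HasPointwiseLeftKanExtension F]
  [PreservesFilteredColimitsOfSize.{u, u + 1} (forget A)]
  [HasSheafify (Scheme.ProEt.topology X) A]
  [(Scheme.ProEt.topology X).WEqualsLocallyBijective A]
  [(Scheme.ProEt.topology X).HasSheafCompose (forget A)]
  [X.smallEtaleTopology.HasSheafCompose (forget A)]

/-- pro-étale sheaves are sheaves on underlying types -/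
theorem isSheaf_type (G : Sheaf (Scheme.ProEt.topology X) A) :
    Presieve.IsSheaf (Scheme.ProEt.topology X) (G.obj ⋙ forget A) :=
  (isSheaf_iff_isSheaf_of_type _ _).1
    ((sheafCompose (Scheme.ProEt.topology X) (forget A)).obj G).2

set_option backward.isDefEq.respectTransparency.types false in
/-- over an affine w-contractible object every section of the sheafified Kan extension is
represented by a single triple -/
theorem exists_rep (F : Sheaf X.smallEtaleTopology A) (W : X.ProEt) [IsAffine W.left]
    (hwc : EtPBC.IsWContractible ↥Γ(W.left, ⊤))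
    (x' : ToType (((presheafToSheaf (Scheme.ProEt.topology X) A).obj (P F.obj)).obj.obj (op W))) :
    ∃ (E : X.Etale) (a : W ⟶ (ProEtS.eps X).obj E) (s : ToType (F.obj.obj (op E))),
      (toSheafify (Scheme.ProEt.topology X) (P F.obj)).app (op W) (elt F.obj E a s) = x' := by
  have hmem := Presheaf.imageSieve_mem (Scheme.ProEt.topology X)
    (toSheafify (Scheme.ProEt.topology X) (P F.obj)) (U := op W) x'
  obtain ⟨n, O, -, hdisj, hcov, hR⟩ := ProEtWCrit.forward W hwc _ hmem
  choose p hp using hR
  choose E a s hs using fun k => exists_elt F.obj (p k)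
  have hc := ProEtCoprod.isColimit W O hdisj hcov
  obtain ⟨ss, hss, -⟩ := EtSigma.existsUnique_section E F s
  let aa : W ⟶ (ProEtS.eps X).obj (EtSigma.sigmaObj E) :=
    Cofan.IsColimit.desc hc (fun k => a k ≫ (ProEtS.eps X).map (EtSigma.sigmaι E k))
  have haa : ∀ k, ProEtCoprod.incl W O k ≫ aa =
      a k ≫ (ProEtS.eps X).map (EtSigma.sigmaι E k) :=
    fun k => Cofan.IsColimit.fac hc _ k
  refine ⟨EtSigma.sigmaObj E, aa, ss, ?_⟩
  let G := (presheafToSheaf (Scheme.ProEt.topology X) A).obj (P F.obj)
  have hcovW := ProEtSheafGlue.generate_ofArrows_mem W O hcov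
  refine ((isSheaf_type G) _ hcovW).isSeparatedFor.ext ?_
  rintro Y f ⟨T0, m', j, ⟨k⟩, rfl⟩
  have hk : G.obj.map (ProEtCoprod.incl W O k).op
      ((toSheafify (Scheme.ProEt.topology X) (P F.obj)).app (op W)
        (elt F.obj (EtSigma.sigmaObj E) aa ss)) =
      G.obj.map (ProEtCoprod.incl W O k).op x' := by
    have hnat := ConcreteCategory.congr_hom
      ((toSheafify (Scheme.ProEt.topology X) (P F.obj)).naturality (ProEtCoprod.incl W O k).op)
      (elt F.obj (EtSigma.sigmaObj E) aa ss)
    rw [ConcreteCategory.comp_apply, ConcreteCategory.comp_apply] at hnat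
    refine hnat.symm.trans ?_
    rw [map_elt, haa k, elt_comp, hss k, hs k]
    exact hp k
  show (G.obj ⋙ forget A).map (m' ≫ ProEtCoprod.incl W O k).op _ =
    (G.obj ⋙ forget A).map (m' ≫ ProEtCoprod.incl W O k).op _
  have e : ∀ y : ToType (G.obj.obj (op W)),
      (G.obj ⋙ forget A).map (m' ≫ ProEtCoprod.incl W O k).op y =
      G.obj.map m'.op (G.obj.map (ProEtCoprod.incl W O k).op y) := by
    intro y
    show G.obj.map (m' ≫ ProEtCoprod.incl W O k).op y = _
    rw [op_comp, Functor.map_comp, ConcreteCategory.comp_apply]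
  rw [e, e, hk]

end Groth.Agent.H27.EpsWCRep
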