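import Groth.Agent.H27.EtaleDescent
import Groth.Agent.H3.EtRetract

/-!
# Étale retractions pass to localizations onto the generizations of a closed set
-/

namespace Groth.Agent.H27.EtRetractLoc

open TensorProduct

universe u

theorem main (A B : Type u) [CommRing A] [CommRing B]
    [Algebra A B] (S : Submonoid A) [IsLocalization S B] (I : Ideal A)
    (hB : Set.range (PrimeSpectrum.comap (algebraMap A B)) =
      {x | ∃ z : PrimeSpectrum A, z ∈ PrimeSpectrum.zeroLocus (R := A) I ∧ x ⤳ z})
    (h : ∀ (B : Type u) [CommRing B] [Algebra A B],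
      Module.FaithfullyFlat A B → Algebra.Etale A B → Nonempty (B →ₐ[A] A))
    (D : Type u) [CommRing D] [Algebra B D] (hff : Module.FaithfullyFlat B D)
    (het : Algebra.Etale B D) :
    Nonempty (D →ₐ[B] B) := by
  obtain ⟨D0, _, _, hD0, ⟨e⟩⟩ := EtaleDescent.exists_etale_descent A B
    (fun ι p => EtaleDescent.exists_lift_of_isLocalization S B p) D
  -- image of Spec D0 is open
  have hopen : IsOpenMap (PrimeSpectrum.comap (algebraMap A D0)) :=
    PrimeSpectrum.isOpenMap_comap_of_hasGoingDown_of_finitePresentation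
  have hU : IsOpen (Set.range (PrimeSpectrum.comap (algebraMap A D0))) := hopen.isOpen_range
  obtain ⟨J, hJ⟩ := (PrimeSpectrum.isClosed_iff_zeroLocus_ideal _).mp hU.isClosed_compl
  have hcomp : ((e : B ⊗[A] D0 →+* D).comp
      (Algebra.TensorProduct.includeRight : D0 →ₐ[A] B ⊗[A] D0).toRingHom).comp
        (algebraMap A D0) = (algebraMap B D).comp (algebraMap A B) := by
    ext a
    simp only [RingHom.coe_comp, Function.comp_apply, AlgHom.toRingHom_eq_coe, RingHom.coe_coe,
      Algebra.TensorProduct.includeRight_apply]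
    have h1 : (1 : B) ⊗ₜ[A] (algebraMap A D0 a) =
        algebraMap B (B ⊗[A] D0) (algebraMap A B a) := by
      rw [Algebra.TensorProduct.algebraMap_apply, Algebra.algebraMap_eq_smul_one a,
        TensorProduct.tmul_smul, TensorProduct.smul_tmul']
      congr 1
      rw [Algebra.smul_def, mul_one]
      rfl
    rw [h1]
    exact e.commutes _
  have hrange : Set.range (PrimeSpectrum.comap (algebraMap A B)) ⊆
      Set.range (PrimeSpectrum.comap (algebraMap A D0)) := by
    rintro _ ⟨P, rfl⟩
    obtain ⟨Q, rfl⟩ := PrimeSpectrum.comap_surjective_of_faithfullyFlat (A := B) (B := D) P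
    refine ⟨PrimeSpectrum.comap ((e : B ⊗[A] D0 →+* D).comp
      (Algebra.TensorProduct.includeRight : D0 →ₐ[A] B ⊗[A] D0).toRingHom) Q, ?_⟩
    rw [← PrimeSpectrum.comap_comp_apply, ← PrimeSpectrum.comap_comp_apply, hcomp]
  have hVB : PrimeSpectrum.zeroLocus (I : Set A) ⊆
      Set.range (PrimeSpectrum.comap (algebraMap A B)) := by
    intro z hz
    rw [hB]
    exact ⟨z, hz, specializes_rfl⟩
  have hVI : PrimeSpectrum.zeroLocus (I : Set A) ⊆
      Set.range (PrimeSpectrum.comap (algebraMap A D0)) := hVB.trans hrange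
  have hIJ : I ⊔ J = ⊤ := by
    rw [← PrimeSpectrum.zeroLocus_empty_iff_eq_top, PrimeSpectrum.zeroLocus_sup, ← hJ,
      Set.eq_empty_iff_forall_notMem]
    rintro p ⟨hp1, hp2⟩
    exact hp2 (hVI hp1)
  obtain ⟨i, hiI, j, hjJ, hij⟩ := Submodule.mem_sup.1 (hIJ ▸ (Submodule.mem_top : (1 : A) ∈ ⊤))
  -- the cover
  let C' := Localization.Away i
  have hEt : Algebra.Etale A (D0 × C') := Groth.Agent.H3.EtRetract.etale_prod A D0 C'
  have hFlat : Module.Flat A (D0 × C') := inferInstance
  have hFF : Module.FaithfullyFlat A (D0 × C') := by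
    refine Module.FaithfullyFlat.of_comap_surjective fun p => ?_
    by_cases hp : p ∈ Set.range (PrimeSpectrum.comap (algebraMap A D0))
    · obtain ⟨q', rfl⟩ := hp
      refine ⟨PrimeSpectrum.comap (RingHom.fst D0 C') q', ?_⟩
      rw [← PrimeSpectrum.comap_comp_apply]
      rfl
    · have hpJ : p ∈ PrimeSpectrum.zeroLocus (J : Set A) := by
        rw [← hJ]; exact hp
      have hjp : j ∈ p.asIdeal := (PrimeSpectrum.mem_zeroLocus _ _).mp hpJ hjJ
      have hxp : i ∉ p.asIdeal := by
        intro hx
        have h1 : (1 : A) ∈ p.asIdeal := by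
          rw [← hij]
          exact Ideal.add_mem _ hx hjp
        exact p.2.ne_top ((Ideal.eq_top_iff_one _).mpr h1)
      have hdisj : Disjoint (Submonoid.powers i : Set A) (p.asIdeal : Set A) := by
        rw [Set.disjoint_left]
        rintro _ ⟨n, rfl⟩ hn
        exact hxp (p.2.mem_of_pow_mem n hn)
      have hprime := IsLocalization.isPrime_of_isPrime_disjoint (Submonoid.powers i) C' p.asIdeal
        p.2 hdisj
      have hcomap := IsLocalization.under_map_of_isPrime_disjoint (Submonoid.powers i) C'
        p.2 hdisj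
      refine ⟨PrimeSpectrum.comap (RingHom.snd D0 C') ⟨_, hprime⟩, ?_⟩
      rw [← PrimeSpectrum.comap_comp_apply]
      exact PrimeSpectrum.ext hcomap
  obtain ⟨σ⟩ := h (D0 × C') hFF hEt
  let τ : (D0 × C') →ₐ[A] B := (Algebra.ofId A B).comp σ
  -- `algebraMap A B i` lies in every maximal ideal of `B`
  have hrad : ∀ M : Ideal B, M.IsMaximal → algebraMap A B i ∈ M := by
    intro M hM
    let P : PrimeSpectrum B := ⟨M, hM.isPrime⟩
    have hp : PrimeSpectrum.comap (algebraMap A B) P ∈
        Set.range (PrimeSpectrum.comap (algebraMap A B)) := ⟨P, rfl⟩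
    rw [hB] at hp
    obtain ⟨z, hz, hpz⟩ := hp
    obtain ⟨Z', rfl⟩ := hVB hz
    have hle : PrimeSpectrum.comap (algebraMap A B) P ≤ PrimeSpectrum.comap (algebraMap A B) Z' :=
      (PrimeSpectrum.le_iff_specializes _ _).2 hpz
    have hPZ : M ≤ Z'.asIdeal := by
      have h1 := IsLocalization.map_comap S B M
      have h2 := IsLocalization.map_comap S B Z'.asIdeal
      rw [← h1, ← h2]
      exact Ideal.map_mono hle
    have hMZ : M = Z'.asIdeal := hM.eq_of_le Z'.2.ne_top hPZ
    have : i ∈ (PrimeSpectrum.comap (algebraMap A B) Z').asIdeal :=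
      (PrimeSpectrum.mem_zeroLocus _ _).mp hz hiI
    rw [hMZ]
    exact this
  have h01 : τ ((0, 1) : D0 × C') = 0 := by
    set ε := τ ((0, 1) : D0 × C') with hε
    have hidem : ε * ε = ε := by
      rw [hε, ← map_mul]
      simp
    have hmem : ∀ M : Ideal B, M.IsMaximal → ε ∈ M := by
      intro M hM
      have : ((0, 1) : D0 × C') = i • ((0, IsLocalization.Away.invSelf i) : D0 × C') := by
        ext
        · simp
        · simp only [Prod.smul_mk, Algebra.smul_def]
          exact (IsLocalization.Away.mul_invSelf i).symm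
      rw [hε, this, map_smul, Algebra.smul_def]
      exact M.mul_mem_right _ (hrad M hM)
    have hunit : IsUnit (1 - ε) := by
      by_contra hnu
      obtain ⟨M, hM, h1M⟩ := exists_max_ideal_of_mem_nonunits hnu
      have : (1 : B) ∈ M := by
        have := M.add_mem h1M (hmem M hM)
        simpa using this
      exact hM.ne_top ((Ideal.eq_top_iff_one _).2 this)
    have : (1 - ε) * ε = 0 := by rw [sub_mul, one_mul, hidem, sub_self]
    exact (hunit.mul_right_eq_zero).1 this
  have hone : τ ((1, 0) : D0 × C') = 1 := by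
    have : ((1, 0) : D0 × C') = 1 - (0, 1) := by
      ext <;> simp
    rw [this, map_sub, map_one, h01, sub_zero]
  let g : D0 →ₐ[A] B :=
    { toFun := fun b => τ (b, 0)
      map_one' := hone
      map_mul' := fun a b => by rw [← map_mul]; simp
      map_zero' := by
        have : ((0, 0) : D0 × C') = 0 := rfl
        rw [this, map_zero]
      map_add' := fun a b => by rw [← map_add]; simp
      commutes' := fun a => by
        have : ((algebraMap A D0 a, 0) : D0 × C') = a • ((1, 0) : D0 × C') := by
          ext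
          · simp [Algebra.smul_def]
          · simp
        rw [this, map_smul, hone, Algebra.smul_def, mul_one] }
  let L : B ⊗[A] D0 →ₐ[B] B :=
    Algebra.TensorProduct.lift (AlgHom.id B B) g (fun _ _ => Commute.all _ _)
  exact ⟨L.comp e.symm.toAlgHom⟩

end Groth.Agent.H27.EtRetractLoc
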