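import Groth.Agent.H47.EtaleLift
import Groth.Agent.H3.EtRetract

/-!
# Étale retractions pass to quotients
-/

namespace Groth.Agent.H27.EtRetractQuot

open TensorProduct

universe u

theorem main (A : Type u) [CommRing A]
    (h : ∀ (B : Type u) [CommRing B] [Algebra A B],
      Module.FaithfullyFlat A B → Algebra.Etale A B → Nonempty (B →ₐ[A] A)) (I : Ideal A)
    (C : Type u) [CommRing C] [Algebra (A ⧸ I) C] (hff : Module.FaithfullyFlat (A ⧸ I) C)
    (het : Algebra.Etale (A ⧸ I) C) :
    Nonempty (C →ₐ[A ⧸ I] (A ⧸ I)) := by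
  obtain ⟨B, _, _, hB, ⟨e⟩⟩ := Groth.Agent.H47.exists_etale_lift_quotient A I C
  -- image of Spec B is open
  have hopen : IsOpenMap (PrimeSpectrum.comap (algebraMap A B)) :=
    PrimeSpectrum.isOpenMap_comap_of_hasGoingDown_of_finitePresentation
  have hU : IsOpen (Set.range (PrimeSpectrum.comap (algebraMap A B))) := hopen.isOpen_range
  obtain ⟨J, hJ⟩ := (PrimeSpectrum.isClosed_iff_zeroLocus_ideal _).mp hU.isClosed_compl
  -- ... and contains `V(I)`
  have hcomp : ((e : (A ⧸ I) ⊗[A] B →+* C).comp
      (Algebra.TensorProduct.includeRight : B →ₐ[A] (A ⧸ I) ⊗[A] B).toRingHom).comp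
        (algebraMap A B) = (algebraMap (A ⧸ I) C).comp (Ideal.Quotient.mk I) := by
    ext a
    simp only [RingHom.coe_comp, Function.comp_apply, AlgHom.toRingHom_eq_coe, RingHom.coe_coe,
      Algebra.TensorProduct.includeRight_apply]
    have h1 : (1 : A ⧸ I) ⊗ₜ[A] (algebraMap A B a) =
        algebraMap (A ⧸ I) ((A ⧸ I) ⊗[A] B) (Ideal.Quotient.mk I a) := by
      rw [Algebra.TensorProduct.algebraMap_apply, Algebra.algebraMap_eq_smul_one a,
        TensorProduct.tmul_smul, TensorProduct.smul_tmul']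
      congr 1
      rw [Algebra.smul_def, mul_one]
      rfl
    rw [h1]
    exact e.commutes _
  have hVI : PrimeSpectrum.zeroLocus (I : Set A) ⊆
      Set.range (PrimeSpectrum.comap (algebraMap A B)) := by
    intro p hp
    have hr : p ∈ Set.range (PrimeSpectrum.comap (Ideal.Quotient.mk I)) := by
      rw [range_comap_of_surjective _ _ Ideal.Quotient.mk_surjective,
        Ideal.mk_ker]
      exact hp
    obtain ⟨pb, rfl⟩ := hr
    obtain ⟨Q, rfl⟩ := PrimeSpectrum.comap_surjective_of_faithfullyFlat (A := A ⧸ I) (B := C) pb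
    refine ⟨PrimeSpectrum.comap ((e : (A ⧸ I) ⊗[A] B →+* C).comp
      (Algebra.TensorProduct.includeRight : B →ₐ[A] (A ⧸ I) ⊗[A] B).toRingHom) Q, ?_⟩
    rw [← PrimeSpectrum.comap_comp_apply, ← PrimeSpectrum.comap_comp_apply, hcomp]
  have hIJ : I ⊔ J = ⊤ := by
    rw [← PrimeSpectrum.zeroLocus_empty_iff_eq_top, PrimeSpectrum.zeroLocus_sup, ← hJ,
      Set.eq_empty_iff_forall_notMem]
    rintro p ⟨hp1, hp2⟩
    exact hp2 (hVI hp1)
  obtain ⟨i, hiI, j, hjJ, hij⟩ := Submodule.mem_sup.1 (hIJ ▸ (Submodule.mem_top : (1 : A) ∈ ⊤))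
  -- the cover
  let C' := Localization.Away i
  have hEt : Algebra.Etale A (B × C') := Groth.Agent.H3.EtRetract.etale_prod A B C'
  have hFlat : Module.Flat A (B × C') := inferInstance
  have hFF : Module.FaithfullyFlat A (B × C') := by
    refine Module.FaithfullyFlat.of_comap_surjective fun p => ?_
    by_cases hp : p ∈ Set.range (PrimeSpectrum.comap (algebraMap A B))
    · obtain ⟨q', rfl⟩ := hp
      refine ⟨PrimeSpectrum.comap (RingHom.fst B C') q', ?_⟩
      rw [← PrimeSpectrum.comap_comp_apply]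
      rfl
    · have hpJ : p ∈ PrimeSpectrum.zeroLocus (J : Set A) := by
        rw [← hJ]; exact hp
      have hjp : j ∈ p.asIdeal := (PrimeSpectrum.mem_zeroLocus _ _).mp hpJ hjJ
      have hxp : i ∉ p.asIdeal := by
        intro hx
        have h1 : (1 : A) ∈ p.asIdeal := by
          rw [← hij]
          exact Ideal.add_mem _ hx hjp
        exact p.2.ne_top ((Ideal.eq_top_iff_one _).mpr h1)
      have hdisj : Disjoint (Submonoid.powers i : Set A) (p.asIdeal : Set A) := by
        rw [Set.disjoint_left]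
        rintro _ ⟨n, rfl⟩ hn
        exact hxp (p.2.mem_of_pow_mem n hn)
      have hprime := IsLocalization.isPrime_of_isPrime_disjoint (Submonoid.powers i) C' p.asIdeal
        p.2 hdisj
      have hcomap := IsLocalization.comap_map_of_isPrime_disjoint (Submonoid.powers i) C'
        p.2 hdisj
      refine ⟨PrimeSpectrum.comap (RingHom.snd B C') ⟨_, hprime⟩, ?_⟩
      rw [← PrimeSpectrum.comap_comp_apply]
      exact PrimeSpectrum.ext hcomap
  obtain ⟨σ⟩ := h (B × C') hFF hEt
  let τ : (B × C') →ₐ[A] (A ⧸ I) := (Ideal.Quotient.mkₐ A I).comp σ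
  have h01 : τ ((0, 1) : B × C') = 0 := by
    have : ((0, 1) : B × C') = i • ((0, IsLocalization.Away.invSelf i) : B × C') := by
      ext
      · simp
      · simp only [Prod.smul_mk, Algebra.smul_def]
        exact (IsLocalization.Away.mul_invSelf i).symm
    rw [this, map_smul, Algebra.smul_def]
    have : algebraMap A (A ⧸ I) i = 0 := Ideal.Quotient.eq_zero_iff_mem.2 hiI
    rw [this, zero_mul]
  have hone : τ ((1, 0) : B × C') = 1 := by
    have : ((1, 0) : B × C') = 1 - (0, 1) := by
      ext <;> simp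
    rw [this, map_sub, map_one, h01, sub_zero]
  let g : B →ₐ[A] (A ⧸ I) :=
    { toFun := fun b => τ (b, 0)
      map_one' := hone
      map_mul' := fun a b => by rw [← map_mul]; simp
      map_zero' := by
        have : ((0, 0) : B × C') = 0 := rfl
        rw [this, map_zero]
      map_add' := fun a b => by rw [← map_add]; simp
      commutes' := fun a => by
        have : ((algebraMap A B a, 0) : B × C') = a • ((1, 0) : B × C') := by
          ext
          · simp [Algebra.smul_def]
          · simp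
        rw [this, map_smul, hone, Algebra.smul_def, mul_one] }
  let L : (A ⧸ I) ⊗[A] B →ₐ[A ⧸ I] (A ⧸ I) :=
    Algebra.TensorProduct.lift (AlgHom.id (A ⧸ I) (A ⧸ I)) g (fun _ _ => Commute.all _ _)
  exact ⟨L.comp e.symm.toAlgHom⟩

end Groth.Agent.H27.EtRetractQuot
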