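import Groth.Agent.H4.GlueSec
import Groth.Prelude.Def_ProEtS

/-!
# Coproducts of objects of the small étale site and sections of sheaves over them
-/

set_option autoImplicit false
set_option linter.style.haveILetI false
set_option linter.unusedSectionVars false
open CategoryTheory CategoryTheory.Limits AlgebraicGeometry Opposite
universe u v w

namespace Groth.Agent.H27.EtSigma

variable {X : Scheme.{u}} {ι : Type v} [Small.{u} ι] (V : ι → X.Etale)

set_option backward.isDefEq.respectTransparency.types false in
theorem etale_sigmaDesc :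
    Etale (Sigma.desc (fun i => (V i).hom) : (∐ fun i => (V i).left) ⟶ X) :=
  IsZariskiLocalAtSource.sigmaDesc (P := @Etale) (fun _ => inferInstance)

/-- the coproduct of a family of objects of the small étale site -/
noncomputable def sigmaObj : X.Etale :=
  @Scheme.Etale.mk X _ (Sigma.desc (fun i => (V i).hom) : (∐ fun i => (V i).left) ⟶ X)
    (etale_sigmaDesc V)

/-- the inclusions into the coproduct -/
noncomputable def sigmaι (i : ι) : V i ⟶ sigmaObj V :=
  MorphismProperty.Over.homMk (Sigma.ι (fun i => (V i).left) i)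
    (Sigma.ι_desc (fun i => (V i).hom) i)

theorem sigmaι_left (i : ι) : (sigmaι V i).left = Sigma.ι (fun i => (V i).left) i := rfl

instance (i : ι) : IsOpenImmersion (sigmaι V i).left :=
  (sigmaOpenCover (fun i => (V i).left)).map_prop i

theorem disjoint_range (i k : ι) (hik : i ≠ k) :
    Disjoint (Set.range (sigmaι V i).left.base) (Set.range (sigmaι V k).left.base) := by
  have h := disjoint_opensRange_sigmaι (fun i => (V i).left) i k hik
  rw [Set.disjoint_iff]
  rintro x ⟨⟨a, ha⟩, ⟨b, hb⟩⟩
  have h1 : x ∈ (Sigma.ι (fun i => (V i).left) i).opensRange ⊓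
      (Sigma.ι (fun i => (V i).left) k).opensRange := ⟨⟨a, ha⟩, ⟨b, hb⟩⟩
  rw [disjoint_iff.mp h] at h1
  exact h1

theorem exists_mem_range (x : (sigmaObj V).left) :
    ∃ k, x ∈ Set.range (sigmaι V k).left.base := by
  obtain ⟨k, y, hy⟩ := (sigmaOpenCover (fun i => (V i).left)).exists_eq x
  exact ⟨k, y, hy⟩

variable {A : Type (u + 2)} [Category.{u + 1} A] {FA : A → A → Type w} {CA : A → Type (u + 1)}
  [∀ M N, FunLike (FA M N) (CA M) (CA N)] [ConcreteCategory.{u + 1} A FA]
  [X.smallEtaleTopology.HasSheafCompose (forget A)]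

/-- étale sheaves are sheaves on underlying types -/
theorem isSheaf_type (F : Sheaf X.smallEtaleTopology A) :
    Presieve.IsSheaf X.smallEtaleTopology (F.obj ⋙ forget A) :=
  (isSheaf_iff_isSheaf_of_type _ _).1
    ((sheafCompose X.smallEtaleTopology (forget A)).obj F).2

/-- sections over an object with empty underlying scheme are all equal -/
theorem subsingleton_of_isEmpty (F : Sheaf X.smallEtaleTopology A) (Z : X.Etale)
    [IsEmpty Z.left] : Subsingleton (ToType (F.obj.obj (op Z))) := by
  refine ⟨fun a b => ?_⟩
  have hbot : (⊥ : Sieve Z) ∈ X.smallEtaleTopology Z := by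
    rw [Groth.Agent.H4.GlueSec.mem_smallEtaleTopology_iff]
    intro x
    exact (IsEmpty.false x).elim
  refine ((isSheaf_type F) ⊥ hbot).isSeparatedFor.ext ?_
  intro Y f hf
  exact hf.elim

/-- sections of an étale sheaf glue uniquely over a disjoint jointly surjective family of open
immersions -/
theorem existsUnique_glue (U : X.Etale) {κ : Type*} (T : κ → X.Etale)
    (j : ∀ i, T i ⟶ U) [∀ i, IsOpenImmersion (j i).left]
    (hdisj : Pairwise (fun k l => Disjoint (Set.range (j k).left.base)
      (Set.range (j l).left.base)))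
    (hcov : ∀ x : U.left, ∃ k, x ∈ Set.range (j k).left.base)
    (F : Sheaf X.smallEtaleTopology A) (t : ∀ k, ToType (F.obj.obj (op (T k)))) :
    ∃! x : ToType (F.obj.obj (op U)), ∀ k, F.obj.map (j k).op x = t k := by
  have hF := isSheaf_type F
  have hmem : Sieve.generate (Presieve.ofArrows T j) ∈ X.smallEtaleTopology U := by
    rw [Groth.Agent.H4.GlueSec.mem_smallEtaleTopology_iff]
    intro x
    obtain ⟨k, y, hy⟩ := hcov x
    exact ⟨T k, j k, y, Sieve.le_generate _ _ _ (Presieve.ofArrows.mk k), hy⟩
  have h1 := (Presieve.isSheafFor_iff_generate _).mpr (hF _ hmem)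
  refine (Presieve.isSheafFor_arrows_iff _ _).mp h1 t ?_
  intro i k Z gi gk hgg
  have hleft : gi.left ≫ (j i).left = gk.left ≫ (j k).left := congrArg (fun g => g.left) hgg
  by_cases hik : i = k
  · subst hik
    have h2 : gi.left = gk.left := (cancel_mono (j i).left).mp hleft
    have h3 : gi = gk := MorphismProperty.Over.Hom.ext h2
    rw [h3]
  · haveI : IsEmpty ↥Z.left := by
      refine ⟨fun z => ?_⟩
      have h2 : (j i).left.base (gi.left.base z) = (j k).left.base (gk.left.base z) := by
        have := congrArg (fun g => g.base z) hleft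
        exact this
      have h3 : (j i).left.base (gi.left.base z) ∈ Set.range (j i).left.base := ⟨_, rfl⟩
      have h4 : (j k).left.base (gk.left.base z) ∈ Set.range (j k).left.base := ⟨_, rfl⟩
      rw [← h2] at h4
      exact Set.disjoint_iff.mp (hdisj hik) ⟨h3, h4⟩
    haveI := subsingleton_of_isEmpty F Z
    exact Subsingleton.elim _ _

/-- sections over a coproduct -/
theorem existsUnique_section (F : Sheaf X.smallEtaleTopology A)
    (t : ∀ k, ToType (F.obj.obj (op (V k)))) :
    ∃! x : ToType (F.obj.obj (op (sigmaObj V))), ∀ k, F.obj.map (sigmaι V k).op x = t k :=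
  existsUnique_glue (sigmaObj V) V (sigmaι V) (fun k l hkl => disjoint_range V k l hkl)
    (exists_mem_range V) F t

end Groth.Agent.H27.EtSigma
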