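import Mathlib

/-!
# Étale algebras descend along ring maps through which polynomials lift up to units

This generalizes `Groth.Agent.H47.exists_etale_lift_quotient` (whose proof we follow closely)
from quotient maps `R → R/I` to arbitrary `R`-algebras `T` such that every polynomial over `T`
is a unit multiple of a polynomial coming from `R` (quotients, localizations).
-/

set_option autoImplicit false
universe u

namespace Groth.Agent.H27.EtaleDescent

open TensorProduct MvPolynomial Algebra

/-- polynomials over a localization lift up to units -/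
theorem exists_lift_of_isLocalization {R : Type*} [CommRing R] (M : Submonoid R) (T : Type*)
    [CommRing T] [Algebra R T] [IsLocalization M T] {ι : Type*} (p : MvPolynomial ι T) :
    ∃ (f : MvPolynomial ι R) (u : T), IsUnit u ∧
      MvPolynomial.map (algebraMap R T) f = C u * p := by
  classical
  obtain ⟨b, hb⟩ := IsLocalization.exist_integer_multiples M p.support (fun m => p.coeff m)
  choose! a ha using hb
  refine ⟨∑ m ∈ p.support, monomial m (a m), algebraMap R T b, IsLocalization.map_units T b, ?_⟩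
  rw [map_sum]
  conv_rhs => rw [p.as_sum, Finset.mul_sum]
  refine Finset.sum_congr rfl fun m hm => ?_
  rw [map_monomial, ha m hm, C_mul_monomial, Algebra.smul_def]

theorem exists_etale_descent (R : Type u) [CommRing R] (T : Type u) [CommRing T] [Algebra R T]
    (hlift : ∀ (ι : Type) (p : MvPolynomial ι T), ∃ (f : MvPolynomial ι R) (u : T), IsUnit u ∧
      MvPolynomial.map (algebraMap R T) f = C u * p)
    (Sb : Type u) [CommRing Sb] [Algebra T Sb] [Algebra.Etale T Sb] :
    ∃ (S : Type u) (_ : CommRing S) (_ : Algebra R S), Algebra.Etale R S ∧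
      Nonempty ((T ⊗[R] S) ≃ₐ[T] Sb) := by
  classical
  letI : Algebra R Sb := ((algebraMap T Sb).comp (algebraMap R T)).toAlgebra
  haveI : IsScalarTower R T Sb := IsScalarTower.of_algebraMap_eq (fun _ => rfl)
  obtain ⟨ι, σ, _, _, P, hP⟩ :=
    (Algebra.Etale.iff_isStandardSmoothOfRelativeDimension_zero.mp
      (inferInstance : Algebra.Etale T Sb)).out
  cases nonempty_fintype σ
  -- lift the relations
  choose f u hu hf using fun j => hlift ι (P.relation j)
  let S₁ := MvPolynomial ι R ⧸ Ideal.span (Set.range f)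
  let P₁ : PreSubmersivePresentation R S₁ ι σ :=
    PreSubmersivePresentation.naive (v := f) P.map P.map_inj
  let J₁ : S₁ := P₁.jacobian
  let S := Localization.Away J₁
  let Q : PreSubmersivePresentation S₁ S Unit Unit :=
    PreSubmersivePresentation.localizationAway S J₁
  let PS : SubmersivePresentation R S (Unit ⊕ ι) (Unit ⊕ σ) :=
    { toPreSubmersivePresentation := Q.comp P₁
      jacobian_isUnit := by
        rw [PreSubmersivePresentation.comp_jacobian_eq_jacobian_smul_jacobian,
          PreSubmersivePresentation.localizationAway_jacobian, Algebra.smul_def, ← sq]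
        exact (IsLocalization.Away.algebraMap_isUnit J₁).pow 2 }
  have hdim : PS.dimension = 0 := by
    change (Q.comp P₁).dimension = 0
    rw [PreSubmersivePresentation.dimension_comp_eq_dimension_add_dimension]
    have h1 : Q.dimension = 0 := Presentation.localizationAway_dimension_zero J₁
    have h2 : P₁.dimension = 0 := hP
    rw [h1, h2]
  haveI : Algebra.Etale R S :=
    Algebra.Etale.iff_isStandardSmoothOfRelativeDimension_zero.mpr
      (PS.isStandardSmoothOfRelativeDimension hdim)
  refine ⟨S, inferInstance, inferInstance, inferInstance, ?_⟩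
  -- the map `S → Sb`
  let ψ₀ : MvPolynomial ι R →ₐ[R] Sb := aeval (R := R) P.val
  have hψ₀ : ∀ p : MvPolynomial ι R,
      ψ₀ p = aeval (R := T) P.val (MvPolynomial.map (algebraMap R T) p) := fun p =>
    (MvPolynomial.aeval_map_algebraMap (R := R) (A := T) P.val p).symm
  have hψ₀f : ∀ a ∈ Ideal.span (Set.range f), ψ₀ a = 0 := by
    intro a ha
    refine Submodule.span_induction ?_ (map_zero _)
      (fun x y _ _ hx hy => by rw [map_add, hx, hy, add_zero])
      (fun r x _ hx => by rw [smul_eq_mul, map_mul, hx, mul_zero]) ha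
    rintro _ ⟨j, rfl⟩
    rw [hψ₀, hf, map_mul, P.aeval_val_relation j, mul_zero]
  let ψ₁ : S₁ →ₐ[R] Sb := Ideal.Quotient.liftₐ _ ψ₀ hψ₀f
  have hψ₁ : ∀ p : MvPolynomial ι R, ψ₁ (Ideal.Quotient.mk _ p) = ψ₀ p := fun p => rfl
  have hJ : ψ₁ J₁ = (∏ j, algebraMap T Sb (u j)) * P.jacobian := by
    change ψ₁ P₁.jacobian = _
    rw [PreSubmersivePresentation.jacobian_eq_jacobiMatrix_det,
      PreSubmersivePresentation.jacobian_eq_jacobiMatrix_det]
    change ψ₁ (Ideal.Quotient.mk _ P₁.jacobiMatrix.det) = _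
    have hM : (MvPolynomial.map (σ := ι) (algebraMap R T)).mapMatrix P₁.jacobiMatrix =
        Matrix.of fun i j => C (u j) * P.jacobiMatrix i j := by
      refine Matrix.ext fun i j => ?_
      rw [RingHom.mapMatrix_apply, Matrix.map_apply, PreSubmersivePresentation.jacobiMatrix_apply,
        Matrix.of_apply, PreSubmersivePresentation.jacobiMatrix_apply, ← MvPolynomial.pderiv_map]
      have : MvPolynomial.map (algebraMap R T) (P₁.relation j) = C (u j) * P.relation j := hf j
      rw [this, MvPolynomial.pderiv_C_mul]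
      rfl
    rw [hψ₁, hψ₀, RingHom.map_det, hM, Matrix.det_mul_row, map_mul, map_prod]
    congr 1
    · refine Finset.prod_congr rfl fun j _ => ?_
      rw [aeval_C]
    · exact (P.algebraMap_apply _).symm
  have hJunit : IsUnit (ψ₁ J₁) := by
    rw [hJ]
    refine IsUnit.mul ?_ P.jacobian_isUnit
    rw [← map_prod]
    exact (IsUnit.prod_univ_iff.2 hu).map _
  have hunit : ∀ y : Submonoid.powers J₁, IsUnit (ψ₁ (y : S₁)) := by
    rintro ⟨_, n, rfl⟩
    rw [map_pow]
    exact hJunit.pow n
  let ψ : S →ₐ[R] Sb := IsLocalization.liftAlgHom (M := Submonoid.powers J₁) (f := ψ₁) hunit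
  have hψ : ∀ a : S₁, ψ (algebraMap S₁ S a) = ψ₁ a := fun a => IsLocalization.lift_eq hunit a
  let x : ι → S := fun i => algebraMap S₁ S (Ideal.Quotient.mk _ (X i))
  have hψx : ∀ i, ψ (x i) = P.val i := fun i => by
    rw [hψ, hψ₁]
    exact aeval_X _ i
  let Ψ : T ⊗[R] S →ₐ[T] Sb :=
    Algebra.TensorProduct.lift (Algebra.ofId T Sb) ψ (fun _ _ => Commute.all _ _)
  have hΨ : ∀ s : S, Ψ (1 ⊗ₜ s) = ψ s := fun s => by
    rw [Algebra.TensorProduct.lift_tmul, map_one, one_mul]
  -- the inverse
  let φ : MvPolynomial ι T →ₐ[T] T ⊗[R] S :=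
    aeval (fun i => (1 : T) ⊗ₜ[R] x i)
  have hφ : ∀ p : MvPolynomial ι R, φ (MvPolynomial.map (algebraMap R T) p) =
      (1 : T) ⊗ₜ[R] (aeval x p) := by
    intro p
    have h1 : φ (MvPolynomial.map (algebraMap R T) p) =
        aeval (R := R) (fun i => (1 : T) ⊗ₜ[R] x i) p :=
      MvPolynomial.aeval_map_algebraMap (R := R) (A := T) _ p
    rw [h1]
    have h2 : (Algebra.TensorProduct.includeRight : S →ₐ[R] T ⊗[R] S).comp (aeval x) =
        aeval (fun i => (1 : T) ⊗ₜ[R] x i) := MvPolynomial.comp_aeval x _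
    exact (congrArg (fun g => g p) h2).symm
  have hx : ∀ p : MvPolynomial ι R, aeval x p = algebraMap S₁ S (Ideal.Quotient.mk _ p) := by
    intro p
    have : aeval x = (IsScalarTower.toAlgHom R S₁ S).comp (Ideal.Quotient.mkₐ R _) :=
      MvPolynomial.algHom_ext (fun i => by rw [aeval_X]; rfl)
    exact congrArg (fun g => g p) this
  have hxf : ∀ j, aeval x (f j) = 0 := fun j => by
    rw [hx, Ideal.Quotient.eq_zero_iff_mem.mpr (Ideal.subset_span (Set.mem_range_self j)), map_zero]
  have hφker : ∀ a ∈ P.ker, φ a = 0 := by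
    intro a ha
    rw [← P.span_range_relation_eq_ker] at ha
    refine Submodule.span_induction ?_ (map_zero _)
      (fun x y _ _ hx hy => by rw [map_add, hx, hy, add_zero])
      (fun r x _ hx => by rw [smul_eq_mul, map_mul, hx, mul_zero]) ha
    rintro _ ⟨j, rfl⟩
    have h0 : φ (C (u j) * P.relation j) = 0 := by
      rw [← hf j, hφ, hxf, tmul_zero]
    rw [map_mul] at h0
    have hunit' : IsUnit (φ (C (u j))) := ((hu j).map C).map φ
    exact (hunit'.mul_right_eq_zero).1 h0
  let Φ₀ : P.Quotient →ₐ[T] T ⊗[R] S := Ideal.Quotient.liftₐ P.ker φ hφker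
  let Φ : Sb →ₐ[T] T ⊗[R] S :=
    Φ₀.comp (P.quotientEquiv.symm.restrictScalars T).toAlgHom
  have hΦ : ∀ p : P.Ring, Φ (algebraMap P.Ring Sb p) = φ p := by
    intro p
    change Φ₀ (P.quotientEquiv.symm (algebraMap P.Ring Sb p)) = φ p
    rw [← P.quotientEquiv_mk, AlgEquiv.symm_apply_apply]
    rfl
  have hΦval : ∀ i, Φ (P.val i) = (1 : T) ⊗ₜ[R] x i := fun i => by
    have := hΦ (X i)
    rw [P.algebraMap_apply, aeval_X] at this
    rw [this]
    exact aeval_X _ i
  have h12 : Ψ.comp Φ = AlgHom.id T Sb := by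
    refine AlgHom.ext fun s => ?_
    obtain ⟨p, rfl⟩ := P.algebraMap_surjective s
    have : (Ψ.comp Φ).comp (IsScalarTower.toAlgHom T P.Ring Sb) =
        IsScalarTower.toAlgHom T P.Ring Sb := by
      refine MvPolynomial.algHom_ext (fun i => ?_)
      change Ψ (Φ (algebraMap P.Ring Sb (X i))) = algebraMap P.Ring Sb (X i)
      rw [P.algebraMap_apply, aeval_X, hΦval, hΨ, hψx]
    exact congrArg (fun g => g p) this
  have h21 : Φ.comp Ψ = AlgHom.id T (T ⊗[R] S) := by
    refine Algebra.TensorProduct.ext (AlgHom.ext fun r => ?_) ?_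
    · have hr : r ⊗ₜ[R] (1 : S) = algebraMap T (T ⊗[R] S) r := by
        rw [Algebra.TensorProduct.algebraMap_apply]; rfl
      change Φ (Ψ (r ⊗ₜ[R] (1 : S))) = r ⊗ₜ[R] (1 : S)
      rw [hr, AlgHom.commutes, AlgHom.commutes]
    · refine IsLocalization.algHom_ext (Submonoid.powers J₁) ?_
      refine Ideal.Quotient.algHom_ext _ ?_
      refine MvPolynomial.algHom_ext (fun i => ?_)
      change Φ (Ψ ((1 : T) ⊗ₜ[R] x i)) = (1 : T) ⊗ₜ[R] x i
      rw [hΨ, hψx, hΦval]
  exact ⟨AlgEquiv.ofAlgHom Ψ Φ h12 h21⟩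

end Groth.Agent.H27.EtaleDescent
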