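import Mathlib

set_option autoImplicit false
universe u

namespace Groth.Agent.H27.NilpFin

open scoped Pointwise

section modules

variable {A : Type*} [CommRing A]

/-- If `C` is flat and `f : P → C` is surjective, then `ker f ∩ nP = n (ker f)`. -/
theorem mem_smul_ker_of_flat {P C : Type*} [AddCommGroup P] [Module A P]
    [AddCommGroup C] [Module A C] [Module.Flat A C] (f : P →ₗ[A] C)
    (hf : Function.Surjective f) (n : Ideal A) {k : P} (hk : f k = 0)
    (hkn : k ∈ n • (⊤ : Submodule A P)) : k ∈ n • LinearMap.ker f := by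
  classical
  have htop : (⊤ : Submodule A P) = Submodule.span A (Set.range (id : P → P)) := by
    rw [Set.range_id, Submodule.span_univ]
  rw [htop, Submodule.mem_ideal_smul_span_iff_exists_sum] at hkn
  obtain ⟨a, han, hak⟩ := hkn
  -- the relation `∑ a i • f i = 0` in `C`
  have hrel : ∑ i : a.support, a i.1 • f i.1 = 0 := by
    rw [← hk, ← hak, Finsupp.sum, map_sum, ← Finset.sum_coe_sort a.support]
    simp
  obtain ⟨κ, b, y, hxy, hb⟩ := Module.Flat.isTrivialRelation_of_sum_smul_eq_zero hrel
  choose y' hy' using fun j => hf (y j)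
  have hki : ∀ i : a.support, i.1 - ∑ j, b i j • y' j ∈ LinearMap.ker f := by
    intro i
    have := hxy i
    simp only at this
    rw [LinearMap.mem_ker, map_sub, map_sum, this]
    simp [hy']
  have hkeq : k = ∑ i : a.support, a i.1 • (i.1 - ∑ j, b i j • y' j) := by
    have h2 : ∑ i : a.support, a i.1 • ∑ j, b i j • y' j = 0 := by
      simp_rw [Finset.smul_sum, smul_smul]
      rw [Finset.sum_comm]
      refine Finset.sum_eq_zero fun j _ => ?_
      rw [← Finset.sum_smul, hb j, zero_smul]
    simp_rw [smul_sub]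
    rw [Finset.sum_sub_distrib, h2, sub_zero, ← hak, Finsupp.sum,
      ← Finset.sum_coe_sort a.support]
    rfl
  rw [hkeq]
  exact Submodule.sum_mem _ fun i _ => Submodule.smul_mem_smul (han _) (hki i)

/-- Nilpotent Nakayama: if `N ≤ N' + nN` with `n` nilpotent, then `N ≤ N'`. -/
theorem le_of_le_sup_smul_of_isNilpotent {M : Type*} [AddCommGroup M] [Module A M]
    (n : Ideal A) (hn : IsNilpotent n) (N N' : Submodule A M) (h : N ≤ N' ⊔ n • N) :
    N ≤ N' := by
  have key : ∀ k : ℕ, N ≤ N' ⊔ n ^ k • N := by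
    intro k
    induction k with
    | zero => rw [pow_zero, Ideal.one_eq_top, Submodule.top_smul]; exact le_sup_right
    | succ k ih =>
      calc N ≤ N' ⊔ n • N := h
        _ ≤ N' ⊔ n • (N' ⊔ n ^ k • N) := sup_le_sup_left (Submodule.smul_mono le_rfl ih) _
        _ = N' ⊔ (n • N' ⊔ n ^ (k + 1) • N) := by
            rw [Submodule.smul_sup, ← Submodule.smul_assoc, pow_succ', smul_eq_mul]
        _ ≤ N' ⊔ n ^ (k + 1) • N := by
            rw [← sup_assoc]
            exact sup_le_sup_right (sup_le le_rfl Submodule.smul_le_right) _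
  obtain ⟨k, hk⟩ := hn
  have := key k
  rwa [hk, Ideal.zero_eq_bot, Submodule.bot_smul, sup_bot_eq] at this

end modules

section algebras

variable (A B C : Type u) [CommRing A] [CommRing B] [CommRing C]
  [Algebra A B] [Algebra B C] [Algebra A C] [IsScalarTower A B C] (n : Ideal A)

theorem map_map_eq : (n.map (algebraMap A B)).map (algebraMap B C) = n.map (algebraMap A C) := by
  rw [Ideal.map_map, ← IsScalarTower.algebraMap_eq]

theorem finiteType_of_quot (hn : IsNilpotent n)
    (h : Algebra.FiniteType (B ⧸ n.map (algebraMap A B))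
      (C ⧸ (n.map (algebraMap A B)).map (algebraMap B C))) :
    Algebra.FiniteType B C := by
  classical
  set I := n.map (algebraMap A B) with hI
  set J := I.map (algebraMap B C) with hJ
  have hJ' : J = n.map (algebraMap A C) := map_map_eq A B C n
  have h1 : Algebra.FiniteType B (B ⧸ I) :=
    Algebra.FiniteType.of_surjective (Algebra.ofId B (B ⧸ I)) Ideal.Quotient.mk_surjective
  have h2 : Algebra.FiniteType B (C ⧸ J) := Algebra.FiniteType.trans h1 h
  obtain ⟨t, ht⟩ := h2.out
  let φ : C →ₐ[B] C ⧸ J := Ideal.Quotient.mkₐ B J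
  have hφ : Function.Surjective φ := Ideal.Quotient.mk_surjective
  let t' : Finset C := t.image (Function.surjInv hφ)
  have ht' : φ '' (t' : Set C) = (t : Set (C ⧸ J)) := by
    ext x
    simp only [t', Finset.coe_image, Set.mem_image, Finset.mem_coe]
    constructor
    · rintro ⟨_, ⟨y, hy, rfl⟩, rfl⟩
      rwa [Function.surjInv_eq hφ]
    · intro hx
      exact ⟨_, ⟨x, hx, rfl⟩, Function.surjInv_eq hφ x⟩
  let C' := Algebra.adjoin B (t' : Set C)
  have hmap : C'.map φ = ⊤ := by
    rw [AlgHom.map_adjoin, ht', ht]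
  refine ⟨t', ?_⟩
  change C' = ⊤
  rw [eq_top_iff]
  have hle : (⊤ : Submodule A C) ≤ (Subalgebra.toSubmodule C').restrictScalars A ⊔
      n • (⊤ : Submodule A C) := by
    intro c _
    have : φ c ∈ C'.map φ := by rw [hmap]; trivial
    obtain ⟨c', hc', hcc'⟩ := this
    have hsub : c - c' ∈ J := by
      rw [← Ideal.Quotient.eq]
      exact hcc'.symm
    have : c = c' + (c - c') := by ring
    rw [this]
    refine Submodule.add_mem_sup hc' ?_
    rw [Ideal.smul_top_eq_map, ← hJ']
    exact hsub
  have := le_of_le_sup_smul_of_isNilpotent n hn _ _ hle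
  intro c _
  exact this (Submodule.mem_top : c ∈ ⊤)

theorem finitePresentation_of_quot (hn : IsNilpotent n) [Module.Flat A C]
    (h : Algebra.FinitePresentation (B ⧸ n.map (algebraMap A B))
      (C ⧸ (n.map (algebraMap A B)).map (algebraMap B C))) :
    Algebra.FinitePresentation B C := by
  classical
  have hft : Algebra.FiniteType B C := finiteType_of_quot A B C n hn inferInstance
  set I := n.map (algebraMap A B) with hI
  set J := I.map (algebraMap B C) with hJ
  have hJ' : J = n.map (algebraMap A C) := map_map_eq A B C n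
  obtain ⟨m, f, hf⟩ := Algebra.FiniteType.iff_quotient_mvPolynomial''.mp hft
  refine ⟨m, f, hf, ?_⟩
  -- the reduction of `f` modulo `n`
  let g : MvPolynomial (Fin m) (B ⧸ I) →ₐ[B ⧸ I] (C ⧸ J) :=
    MvPolynomial.aeval fun i => Ideal.Quotient.mk J (f (MvPolynomial.X i))
  let π : MvPolynomial (Fin m) B →+* MvPolynomial (Fin m) (B ⧸ I) :=
    MvPolynomial.map (Ideal.Quotient.mk I)
  have hπ : Function.Surjective π := MvPolynomial.map_surjective _ Ideal.Quotient.mk_surjective
  have hgπ : ∀ p, g (π p) = Ideal.Quotient.mk J (f p) := by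
    intro p
    have : (g : MvPolynomial (Fin m) (B ⧸ I) →+* (C ⧸ J)).comp π =
        (Ideal.Quotient.mk J).comp (f : MvPolynomial (Fin m) B →+* C) := by
      apply MvPolynomial.ringHom_ext
      · intro b
        simp only [RingHom.comp_apply, π, MvPolynomial.map_C, RingHom.coe_coe, g,
          MvPolynomial.aeval_C]
        have : f (MvPolynomial.C b) = algebraMap B C b := by
          rw [← MvPolynomial.algebraMap_eq, f.commutes]
        rw [this]
        rfl
      · intro i
        simp [π, g]
    exact RingHom.congr_fun this p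
  have hg : Function.Surjective g := by
    intro c
    obtain ⟨c', rfl⟩ := Ideal.Quotient.mk_surjective c
    obtain ⟨p, rfl⟩ := hf c'
    exact ⟨π p, hgπ p⟩
  have hkg : (RingHom.ker g.toRingHom).FG := Algebra.FinitePresentation.ker_fG_of_surjective g hg
  obtain ⟨s, hs⟩ := hkg
  -- kernel of `π`
  have hkerπ : RingHom.ker π = n.map (algebraMap A (MvPolynomial (Fin m) B)) := by
    rw [MvPolynomial.ker_map, Ideal.mk_ker, hI, Ideal.map_map]
    congr 1
  let fA : MvPolynomial (Fin m) B →ₗ[A] C := (f.restrictScalars A).toLinearMap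
  have hfA : Function.Surjective fA := hf
  let K : Ideal (MvPolynomial (Fin m) B) := RingHom.ker f.toRingHom
  -- lifting elements of `ker g` to `ker f`
  have hlift : ∀ q ∈ RingHom.ker g.toRingHom, ∃ p ∈ K, π p = q := by
    intro q hq
    obtain ⟨p₀, rfl⟩ := hπ q
    have h0 : Ideal.Quotient.mk J (f p₀) = 0 := by rw [← hgπ]; exact hq
    rw [Ideal.Quotient.eq_zero_iff_mem, hJ'] at h0
    have h1 : f p₀ ∈ n • (⊤ : Submodule A C) := by
      rw [Ideal.smul_top_eq_map]; exact h0
    rw [← LinearMap.range_eq_top.mpr hfA, LinearMap.range_eq_map, ← Submodule.map_smul''] at h1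
    obtain ⟨q₀, hq₀, hq₀f⟩ := h1
    refine ⟨p₀ - q₀, ?_, ?_⟩
    · change f (p₀ - q₀) = 0
      rw [map_sub, sub_eq_zero]
      exact hq₀f.symm
    · rw [map_sub, sub_eq_self]
      change q₀ ∈ RingHom.ker π
      rw [hkerπ]
      rw [Ideal.smul_top_eq_map] at hq₀
      exact hq₀
  choose! l hlK hlπ using hlift
  let K' : Ideal (MvPolynomial (Fin m) B) := Ideal.span (s.image l)
  have hK'K : K' ≤ K := by
    rw [Ideal.span_le]
    intro x hx
    simp only [Finset.coe_image, Set.mem_image, Finset.mem_coe] at hx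
    obtain ⟨q, hq, rfl⟩ := hx
    exact hlK q (hs ▸ Ideal.subset_span hq)
  have hmapK' : K'.map π = RingHom.ker g.toRingHom := by
    rw [Ideal.map_span, ← hs]
    congr 1
    ext x
    simp only [Finset.coe_image, Set.mem_image, Finset.mem_coe]
    constructor
    · rintro ⟨_, ⟨q, hq, rfl⟩, rfl⟩
      rwa [hlπ q (hs ▸ Ideal.subset_span hq)]
    · intro hx
      exact ⟨_, ⟨x, hx, rfl⟩, hlπ x (hs ▸ Ideal.subset_span hx)⟩
  have hle : K.restrictScalars A ≤ K'.restrictScalars A ⊔ n • K.restrictScalars A := by
    intro k hk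
    have hk0 : f k = 0 := hk
    have hπk : π k ∈ K'.map π := by
      rw [hmapK']
      change g (π k) = 0
      rw [hgπ, hk0, map_zero]
    obtain ⟨k', hk', hkk'⟩ := (Ideal.mem_map_iff_of_surjective π hπ).mp hπk
    have h3 : k - k' ∈ n • (⊤ : Submodule A (MvPolynomial (Fin m) B)) := by
      rw [Ideal.smul_top_eq_map, ← hkerπ]
      change π (k - k') = 0
      rw [map_sub, hkk', sub_self]
    have h4 : fA (k - k') = 0 := by
      change f (k - k') = 0
      rw [map_sub, hk0, zero_sub, neg_eq_zero]
      exact hK'K hk'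
    have h5 := mem_smul_ker_of_flat fA hfA n h4 h3
    have : k = k' + (k - k') := by ring
    rw [this]
    exact Submodule.add_mem_sup hk' h5
  have hfin := le_of_le_sup_smul_of_isNilpotent n hn _ _ hle
  have : K = K' := le_antisymm hfin hK'K
  change K.FG
  rw [this]
  exact ⟨s.image l, rfl⟩

end algebras

end Groth.Agent.H27.NilpFin
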