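import Mathlib
import Groth.Agent.H27.Tor1
import Groth.Agent.H27.NilpFin

set_option autoImplicit false
universe u

namespace Groth.Agent.H27.EtaleLift

open TensorProduct Groth.Agent.H27.NilpFin

section step3

/-- If `B' → B` is surjective with kernel `J` and `B ⊗ N = 0` then `N = J N`. -/
theorem smul_top_eq_top_of_subsingleton_tensor {B' B : Type*} [CommRing B'] [CommRing B]
    [Algebra B' B] (hB : Function.Surjective (algebraMap B' B))
    (N : Type*) [AddCommGroup N] [Module B' N] [Subsingleton (B ⊗[B'] N)] :
    (RingHom.ker (algebraMap B' B)) • (⊤ : Submodule B' N) = ⊤ := by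
  set J := RingHom.ker (algebraMap B' B) with hJ
  let e : (B' ⧸ J) ≃ₗ[B'] B :=
    (Submodule.quotEquivOfEq _ _ (by ext x; simp [hJ, RingHom.mem_ker])).trans
      ((Algebra.linearMap B' B).quotKerEquivOfSurjective hB)
  have h1 : Subsingleton ((B' ⧸ J) ⊗[B'] N) :=
    (TensorProduct.congr e (LinearEquiv.refl B' N)).injective.subsingleton
  have h2 : Subsingleton (N ⧸ (J • (⊤ : Submodule B' N))) :=
    (TensorProduct.quotTensorEquivQuotSMul N J).symm.injective.subsingleton
  exact Submodule.Quotient.subsingleton_iff.mp h2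

/-- Kähler differentials vanish if they vanish modulo a nilpotent ideal generated by the base. -/
theorem formallyUnramified_of_quotient (A' A B' B : Type u) [CommRing A'] [CommRing A]
    [CommRing B'] [CommRing B] [Algebra A' A] [Algebra A' B'] [Algebra B' B] [Algebra A B]
    [Algebra A' B] [IsScalarTower A' A B] [IsScalarTower A' B' B]
    (hA : Function.Surjective (algebraMap A' A))
    (hB : Function.Surjective (algebraMap B' B))
    (hJ : IsNilpotent (RingHom.ker (algebraMap B' B)))
    [Algebra.FormallyUnramified A B]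
    (hJI : RingHom.ker (algebraMap B' B) =
      (RingHom.ker (algebraMap A' A)).map (algebraMap A' B')) :
    Algebra.FormallyUnramified A' B' := by
  have h1 : Algebra.FormallyUnramified A' A :=
    Algebra.FormallyUnramified.of_surjective (Algebra.ofId A' A) hA
  have h2 : Algebra.FormallyUnramified A' B := Algebra.FormallyUnramified.comp A' A B
  -- the map `J/J² → B ⊗ Ω[B'/A']` is surjective
  have hex := KaehlerDifferential.exact_kerCotangentToTensor_mapBaseChange A' B' B hB
  have hsurj : Function.Surjective (KaehlerDifferential.kerCotangentToTensor A' B' B) := by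
    intro y
    exact (hex y).mp (Subsingleton.elim _ _)
  -- ... and zero
  have hzero : ∀ x, KaehlerDifferential.kerCotangentToTensor A' B' B x = 0 := by
    intro x
    obtain ⟨⟨j, hj⟩, rfl⟩ := Ideal.toCotangent_surjective _ x
    rw [KaehlerDifferential.kerCotangentToTensor_toCotangent]
    change (1 : B) ⊗ₜ[B'] KaehlerDifferential.D A' B' j = 0
    have hj' := hj
    rw [hJI, Ideal.map] at hj'
    refine Submodule.span_induction (p := fun j _ =>
      (1 : B) ⊗ₜ[B'] KaehlerDifferential.D A' B' j = 0) ?_ ?_ ?_ ?_ hj'
    · rintro _ ⟨i, -, rfl⟩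
      rw [Derivation.map_algebraMap, tmul_zero]
    · rw [map_zero, tmul_zero]
    · intro x y _ _ hx hy
      rw [map_add, tmul_add, hx, hy, add_zero]
    · intro b x hx' hx
      have hxJ : x ∈ RingHom.ker (algebraMap B' B) := by
        rw [hJI, Ideal.map]; exact hx'
      rw [smul_eq_mul, Derivation.leibniz, tmul_add, tmul_smul, hx, smul_zero, zero_add,
        ← smul_tmul, Algebra.smul_def, mul_one, RingHom.mem_ker.mp hxJ, zero_tmul]
  have hsub : Subsingleton (B ⊗[B'] Ω[B'⁄A']) := by
    refine ⟨fun a b => ?_⟩
    obtain ⟨a', rfl⟩ := hsurj a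
    obtain ⟨b', rfl⟩ := hsurj b
    rw [hzero, hzero]
  have htop := smul_top_eq_top_of_subsingleton_tensor hB (Ω[B'⁄A'])
  have hle : (⊤ : Submodule B' Ω[B'⁄A']) ≤ ⊥ := by
    refine le_of_le_sup_smul_of_isNilpotent _ hJ _ _ ?_
    rw [htop]; exact le_sup_right
  refine ⟨?_⟩
  refine ⟨fun a b => ?_⟩
  have ha : a ∈ (⊥ : Submodule B' Ω[B'⁄A']) := hle trivial
  have hb : b ∈ (⊥ : Submodule B' Ω[B'⁄A']) := hle trivial
  rw [Submodule.mem_bot] at ha hb
  rw [ha, hb]

end step3

section step1

variable (A' A B' B : Type u) [CommRing A'] [CommRing A]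
    [CommRing B'] [CommRing B] [Algebra A' A] [Algebra A' B'] [Algebra B' B] [Algebra A B]
    [Algebra A' B] [IsScalarTower A' A B] [IsScalarTower A' B' B]

/-- `(A'/I) ⊗ B'` is flat over `A'/I` when `B = B'/IB'` is flat over `A = A'/I`. -/
theorem flat_quotient_tensor (hA : Function.Surjective (algebraMap A' A))
    (hB : Function.Surjective (algebraMap B' B)) [Module.Flat A B]
    (hJI : RingHom.ker (algebraMap B' B) =
      (RingHom.ker (algebraMap A' A)).map (algebraMap A' B')) :
    Module.Flat (A' ⧸ RingHom.ker (algebraMap A' A))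
      ((A' ⧸ RingHom.ker (algebraMap A' A)) ⊗[A'] B') := by
  set I := RingHom.ker (algebraMap A' A) with hI
  letI algA : Algebra (A' ⧸ I) A := (RingHom.kerLift (algebraMap A' A)).toAlgebra
  letI algB : Algebra (A' ⧸ I) B :=
    ((algebraMap A B).comp (RingHom.kerLift (algebraMap A' A))).toAlgebra
  haveI t1 : IsScalarTower (A' ⧸ I) A B := IsScalarTower.of_algebraMap_eq fun _ => rfl
  haveI t2 : IsScalarTower A' (A' ⧸ I) B := IsScalarTower.of_algebraMap_eq fun x => by
    change algebraMap A' B x = algebraMap A B (RingHom.kerLift (algebraMap A' A) (Ideal.Quotient.mk I x))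
    rw [RingHom.kerLift_mk, ← IsScalarTower.algebraMap_apply]
  have hbij : Function.Bijective (Algebra.linearMap (A' ⧸ I) A) :=
    ⟨RingHom.kerLift_injective _, fun a => by
      obtain ⟨a', rfl⟩ := hA a
      exact ⟨Ideal.Quotient.mk I a', RingHom.kerLift_mk _ _⟩⟩
  haveI f1 : Module.Flat (A' ⧸ I) A :=
    Module.Flat.of_linearEquiv (LinearEquiv.ofBijective _ hbij).symm
  haveI f2 : Module.Flat (A' ⧸ I) B := Module.Flat.trans (A' ⧸ I) A B
  -- the identification `(A'/I) ⊗ B' ≃ B`
  let f : B' →ₗ[A'] B := (IsScalarTower.toAlgHom A' B' B).toLinearMap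
  have hf : Function.Surjective f := hB
  have hker : I • (⊤ : Submodule A' B') = LinearMap.ker f := by
    rw [Ideal.smul_top_eq_map, ← hJI]
    ext x
    simp [f, RingHom.mem_ker]
  let e₀ : (A' ⧸ I) ⊗[A'] B' ≃ₗ[A'] B :=
    (TensorProduct.quotTensorEquivQuotSMul B' I).trans
      ((Submodule.quotEquivOfEq _ _ hker).trans (f.quotKerEquivOfSurjective hf))
  let e : (A' ⧸ I) ⊗[A'] B' ≃ₗ[A' ⧸ I] B :=
    e₀.extendScalarsOfSurjective Ideal.Quotient.mk_surjective
  exact Module.Flat.of_linearEquiv e

theorem flat_of_quotient (hA : Function.Surjective (algebraMap A' A))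
    (hI : IsNilpotent (RingHom.ker (algebraMap A' A)))
    (hB : Function.Surjective (algebraMap B' B)) [Module.Flat A B]
    (hJI : RingHom.ker (algebraMap B' B) =
      (RingHom.ker (algebraMap A' A)).map (algebraMap A' B'))
    (hinj : Function.Injective ((RingHom.ker (algebraMap A' A)).subtype.baseChange B')) :
    Module.Flat A' B' := by
  haveI := flat_quotient_tensor A' A B' B hA hB hJI
  refine Groth.Agent.H27.Tor1.flat_of_isNilpotent_of_tor1Zero (RingHom.ker (algebraMap A' A)) hI ?_
  rw [Groth.Agent.H27.Tor1.tor1Zero_quotient_iff, ← LinearMap.lTensor_inj_iff_rTensor_inj]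
  rw [LinearMap.baseChange_eq_ltensor] at hinj
  exact hinj

end step1

section step2

variable (A' A B' B : Type u) [CommRing A'] [CommRing A]
    [CommRing B'] [CommRing B] [Algebra A' A] [Algebra A' B'] [Algebra B' B] [Algebra A B]
    [Algebra A' B] [IsScalarTower A' A B] [IsScalarTower A' B' B]

theorem finitePresentation_quotient (hA : Function.Surjective (algebraMap A' A))
    (hB : Function.Surjective (algebraMap B' B)) [Algebra.FinitePresentation A B]
    (hJI : RingHom.ker (algebraMap B' B) =
      (RingHom.ker (algebraMap A' A)).map (algebraMap A' B')) :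
    Algebra.FinitePresentation (A' ⧸ RingHom.ker (algebraMap A' A))
      (B' ⧸ (RingHom.ker (algebraMap A' A)).map (algebraMap A' B')) := by
  set I := RingHom.ker (algebraMap A' A) with hI
  rw [← RingHom.finitePresentation_algebraMap]
  let eA : A' ⧸ I ≃+* A := RingHom.quotientKerEquivOfSurjective hA
  let eB : B' ⧸ I.map (algebraMap A' B') ≃+* B :=
    (Ideal.quotEquivOfEq hJI.symm).trans (RingHom.quotientKerEquivOfSurjective hB)
  have key : algebraMap (A' ⧸ I) (B' ⧸ I.map (algebraMap A' B')) =
      (eB.symm.toRingHom.comp (algebraMap A B)).comp eA.toRingHom := by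
    apply Ideal.Quotient.ringHom_ext
    ext a
    apply eB.injective
    simp only [RingHom.comp_apply, RingEquiv.toRingHom_eq_coe, RingHom.coe_coe,
      RingEquiv.apply_symm_apply]
    change eB (Ideal.Quotient.mk _ (algebraMap A' B' a)) = algebraMap A B (eA (Ideal.Quotient.mk I a))
    have h1 : eA (Ideal.Quotient.mk I a) = algebraMap A' A a := rfl
    have h2 : eB (Ideal.Quotient.mk _ (algebraMap A' B' a)) =
        algebraMap B' B (algebraMap A' B' a) := rfl
    rw [h1, h2, ← IsScalarTower.algebraMap_apply, ← IsScalarTower.algebraMap_apply]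
  rw [key]
  refine RingHom.FinitePresentation.comp (RingHom.FinitePresentation.comp ?_ ?_) ?_
  · exact RingHom.FinitePresentation.of_bijective eB.symm.bijective
  · rw [RingHom.finitePresentation_algebraMap]; infer_instance
  · exact RingHom.FinitePresentation.of_bijective eA.bijective

theorem finitePresentation_of_quotient (hA : Function.Surjective (algebraMap A' A))
    (hI : IsNilpotent (RingHom.ker (algebraMap A' A)))
    (hB : Function.Surjective (algebraMap B' B)) [Module.Flat A' B']
    [Algebra.FinitePresentation A B]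
    (hJI : RingHom.ker (algebraMap B' B) =
      (RingHom.ker (algebraMap A' A)).map (algebraMap A' B')) :
    Algebra.FinitePresentation A' B' := by
  have h0 := finitePresentation_quotient A' A B' B hA hB hJI
  have key : ∀ (K : Ideal A'), K = RingHom.ker (algebraMap A' A) →
      Algebra.FinitePresentation (A' ⧸ K) (B' ⧸ K.map (algebraMap A' B')) := by
    rintro K rfl
    exact h0
  refine finitePresentation_of_quot A' A' B' (RingHom.ker (algebraMap A' A)) hI
    (key _ ?_)
  rw [Algebra.algebraMap_self, Ideal.map_id]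

end step2

/-- Étale algebras lift along square-zero (indeed nilpotent) extensions when `J = I ⊗ B`. -/
theorem etale_of_etale_quotient (A' A B' B : Type u) [CommRing A'] [CommRing A]
    [CommRing B'] [CommRing B] [Algebra A' A] [Algebra A' B'] [Algebra B' B] [Algebra A B]
    [Algebra A' B] [IsScalarTower A' A B] [IsScalarTower A' B' B]
    (hA : Function.Surjective (algebraMap A' A))
    (hI : IsNilpotent (RingHom.ker (algebraMap A' A)))
    (hB : Function.Surjective (algebraMap B' B))
    (hJ : IsNilpotent (RingHom.ker (algebraMap B' B)))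
    [Algebra.Etale A B]
    (hJI : RingHom.ker (algebraMap B' B) =
      (RingHom.ker (algebraMap A' A)).map (algebraMap A' B'))
    (hinj : Function.Injective ((RingHom.ker (algebraMap A' A)).subtype.baseChange B')) :
    Algebra.Etale A' B' := by
  haveI : Module.Flat A B := inferInstance
  haveI h1 : Module.Flat A' B' := flat_of_quotient A' A B' B hA hI hB hJI hinj
  haveI h2 : Algebra.FinitePresentation A' B' :=
    finitePresentation_of_quotient A' A B' B hA hI hB hJI
  haveI h3 : Algebra.FormallyUnramified A' B' :=
    formallyUnramified_of_quotient A' A B' B hA hB hJ hJI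
  exact Algebra.Etale.of_formallyUnramified_of_flat

end Groth.Agent.H27.EtaleLift
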