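import Groth.Agent.H27.Weyl
import Mathlib.Order.PiLex
import Mathlib.Algebra.Order.Group.PiLex

set_option autoImplicit false

namespace Groth.Agent.H27

open RootD Finsupp RootPairing

variable {ι M N : Type*} [AddCommGroup M] [AddCommGroup N] {P : RootPairing ι ℤ M N}

lemma isPosSys_of_orderedAddHom {G : Type*} [AddCommGroup G] [PartialOrder G]
    [IsOrderedAddMonoid G] (φ : M →+ G) (hφ : ∀ i : ι, 0 < φ (P.root i) ∨ φ (P.root i) < 0) :
    IsPosSys P {i : ι | 0 < φ (P.root i)} := by
  have hnn : ∀ x ∈ RootD.natSpan P {i : ι | 0 < φ (P.root i)}, 0 ≤ φ x := by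
    intro x hx
    unfold RootD.natSpan at hx
    induction hx using AddSubmonoid.closure_induction with
    | mem x hx =>
      obtain ⟨i, hi, rfl⟩ := hx
      exact le_of_lt hi
    | zero => simp
    | add x y _ _ hx hy => rw [map_add]; exact add_nonneg hx hy
  refine ⟨?_, ?_, ?_⟩
  · intro i hi hi'
    have h1 : 0 < φ (P.root (ng P i)) := hi'
    rw [root_ng, map_neg] at h1
    have h2 : 0 < φ (P.root i) := hi
    have h3 : φ (P.root i) < 0 := neg_pos.1 h1
    exact lt_asymm h2 h3
  · intro i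
    rcases hφ i with h | h
    · exact Or.inl h
    · right
      change 0 < φ (P.root (ng P i))
      rw [root_ng, map_neg]
      exact neg_pos.2 h
  · intro k n hn hk
    rcases hφ k with h | h
    · exact h
    · exfalso
      have h1 := hnn _ hk
      rw [map_nsmul] at h1
      have h2 : 0 < n • (-φ (P.root k)) := nsmul_pos (neg_pos.2 h) (by omega)
      rw [smul_neg] at h2
      have h3 : n • φ (P.root k) < 0 := neg_pos.1 h2
      exact not_le_of_gt h3 h1

section Finite
variable [Finite ι]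

variable (P) in
lemma exists_isPosSys : ∃ S : Set ι, IsPosSys P S := by
  classical
  let n := Nat.card ι
  let e : ι ≃ Fin n := Finite.equivFin ι
  let φ : M →+ Lex (Fin n → ℤ) :=
    { toFun := fun m => toLex (fun a => P.toLinearMap m (P.coroot (e.symm a)))
      map_zero' := by
        apply toLex.injective |>.eq_iff.2
        funext a; simp
      map_add' := fun x y => by
        apply toLex.injective |>.eq_iff.2
        funext a; simp }
  have hne : ∀ i : ι, φ (P.root i) ≠ 0 := by
    intro i h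
    have h1 := congrArg (fun f : Lex (Fin n → ℤ) => (ofLex f : Fin n → ℤ) (e i)) h
    simp only [φ] at h1
    change P.toLinearMap (P.root i) (P.coroot (e.symm (e i))) = 0 at h1
    rw [Equiv.symm_apply_apply] at h1
    change P.pairing i i = 0 at h1
    rw [P.pairing_same] at h1
    norm_num at h1
  refine ⟨_, isPosSys_of_orderedAddHom φ fun i => ?_⟩
  rcases lt_or_gt_of_ne (hne i) with h | h
  · exact Or.inr h
  · exact Or.inl h

variable (P) in
lemma exists_isSimpleSys : ∃ Δ : Set ι, IsSimpleSys P Δ := by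
  obtain ⟨S, hS⟩ := exists_isPosSys P
  exact ⟨_, isSimpleSys_indec hS⟩

/-- a positive system is `posOf` of its simple system -/
lemma isPosSys_eq_posOf {S : Set ι} (hS : IsPosSys P S) :
    S = posOf P (indec P S) :=
  (subset_iff_eq_posOf (isSimpleSys_indec hS) hS).1 (indec_subset S)

omit [Finite ι] in
/-- a set containing a positive system and satisfying (P1) equals it -/
lemma eq_of_subset_of_disjoint {S S' : Set ι} (hS : IsPosSys P S) (hsub : S ⊆ S')
    (hdisj : ∀ i ∈ S', P.reflectionPerm i i ∉ S') : S' = S := by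
  refine Set.Subset.antisymm ?_ hsub
  intro k hk
  by_contra hcon
  exact hdisj k hk (hsub ((hS.cover k).resolve_left hcon))

/-- S5456 core -/
lemma isPosSys_iff (S : Set ι) :
    IsPosSys P S ↔ ((∀ i ∈ S, P.reflectionPerm i i ∉ S) ∧
      (∀ i : ι, i ∈ S ∨ P.reflectionPerm i i ∈ S) ∧ IsClosedSub P S) := by
  constructor
  · intro hS
    exact ⟨fun i hi => hS.disjoint hi, hS.cover, isPosSys_closed hS⟩
  · rintro ⟨h1, h2, h3⟩
    obtain ⟨Δ, hΔ⟩ := exists_isSimpleSys P
    obtain ⟨g, _, hg⟩ := exists_weyl_image_posOf_subset h2 h3 Δ hΔ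
    have hS0 : IsPosSys P ((fun i : ι => g • i) '' posOf P Δ) :=
      isPosSys_smul P g (isPosSys_posOf hΔ)
    rw [eq_of_subset_of_disjoint hS0 hg h1]
    exact hS0

/-- S5454 core -/
lemma weyl_transitive_posSys {S S' : Set ι} (hS : IsPosSys P S) (hS' : IsPosSys P S') :
    ∃ g : P.Aut, g ∈ P.weylGroup ∧ (fun i : ι => g • i) '' S = S' := by
  have hΔ := isSimpleSys_indec hS
  obtain ⟨g, hgW, hg⟩ := exists_weyl_image_posOf_subset hS'.cover (isPosSys_closed hS') _ hΔ
  rw [← isPosSys_eq_posOf hS] at hg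
  refine ⟨g, hgW, ?_⟩
  exact (eq_of_subset_of_disjoint (isPosSys_smul P g hS) hg (fun i hi => hS'.disjoint hi)).symm

/-- S5455 core -/
lemma weyl_transitive_simpleSys {Δ Δ' : Set ι} (hΔ : IsSimpleSys P Δ) (hΔ' : IsSimpleSys P Δ') :
    ∃ g : P.Aut, g ∈ P.weylGroup ∧ (fun i : ι => g • i) '' Δ = Δ' := by
  obtain ⟨g, hgW, hg⟩ := weyl_transitive_posSys (isPosSys_posOf hΔ) (isPosSys_posOf hΔ')
  refine ⟨g, hgW, ?_⟩
  obtain ⟨Δ₀, _, huniq⟩ := existsUnique_simple_subset (isPosSys_posOf hΔ')
  have h1 := huniq _ ⟨isSimpleSys_smul P g hΔ, by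
    rw [← hg]; exact Set.image_mono (subset_posOf Δ)⟩
  have h2 := huniq _ ⟨hΔ', subset_posOf Δ'⟩
  rw [h1, h2]

end Finite

end Groth.Agent.H27
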