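import Mathlib.Algebra.Homology.DerivedCategory.Ext.ExactSequences
import Mathlib.Algebra.Homology.DerivedCategory.Ext.EnoughInjectives
import Mathlib.CategoryTheory.Limits.Shapes.Products

/-!
# `Ext` out of a coproduct

In an abelian category with enough injectives, a class in `Ext^n(∐ P_i, F)` which restricts to
zero on every summand is zero.
-/

set_option autoImplicit false
open CategoryTheory CategoryTheory.Limits CategoryTheory.Abelian
universe w v u t

namespace Groth.Agent.H27.ExtCoprod

variable {C : Type u} [Category.{v} C] [Abelian C] [HasExt.{w} C] [EnoughInjectives C]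

theorem eq_zero_of_forall_ι {ι : Type t} (P : ι → C) [HasCoproduct P] :
    ∀ (n : ℕ) (F : C) (x : Ext.{w} (∐ P) F n),
      (∀ i, (Ext.mk₀ (Sigma.ι P i)).comp x (zero_add n) = 0) → x = 0 := by
  intro n
  induction n with
  | zero =>
    intro F x hx
    obtain ⟨φ, rfl⟩ := (Ext.mk₀_bijective _ _).2 x
    have : φ = 0 := by
      apply Sigma.hom_ext
      intro i
      have := hx i
      rw [Ext.mk₀_comp_mk₀, Ext.mk₀_eq_zero_iff] at this
      rw [this, comp_zero]
    rw [this, Ext.mk₀_zero]
  | succ n ih =>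
    intro F x hx
    let S : ShortComplex C := ShortComplex.mk (Injective.ι F) (cokernel.π (Injective.ι F))
      (cokernel.condition _)
    have hS : S.ShortExact := by
      haveI : Mono S.f := inferInstanceAs (Mono (Injective.ι F))
      haveI : Epi S.g := inferInstanceAs (Epi (cokernel.π (Injective.ι F)))
      exact ShortComplex.ShortExact.mk (ShortComplex.exact_of_g_is_cokernel S (cokernelIsCokernel _))
    haveI : Injective S.X₂ := inferInstanceAs (Injective (Injective.under F))
    have h1 : x.comp (Ext.mk₀ S.f) (add_zero (n + 1)) = 0 := Ext.eq_zero_of_injective _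
    obtain ⟨y, hy⟩ := Ext.covariant_sequence_exact₁ (∐ P) hS x h1 (rfl : n + 1 = n + 1)
    have h2 : ∀ i, ((Ext.mk₀ (Sigma.ι P i)).comp y (zero_add n)).comp hS.extClass
        (rfl : n + 1 = n + 1) = 0 := by
      intro i
      rw [Ext.comp_assoc (Ext.mk₀ (Sigma.ι P i)) y hS.extClass (zero_add n) rfl
        (by lia : 0 + n + 1 = n + 1), hy]
      exact hx i
    choose z hz using fun i => Ext.covariant_sequence_exact₃ (P i) hS _ rfl (h2 i)
    -- find `ζ` restricting to the `z i`
    have hζ : ∃ ζ : Ext.{w} (∐ P) S.X₂ n,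
        ∀ i, (Ext.mk₀ (Sigma.ι P i)).comp ζ (zero_add n) = z i := by
      cases n with
      | zero =>
        choose ζ' hζ' using fun i => (Ext.mk₀_bijective _ _).2 (z i)
        refine ⟨Ext.mk₀ (Sigma.desc ζ'), fun i => ?_⟩
        rw [Ext.mk₀_comp_mk₀, Sigma.ι_desc, hζ']
      | succ m =>
        refine ⟨0, fun i => ?_⟩
        rw [Ext.comp_zero]
        exact (Ext.eq_zero_of_injective _).symm
    obtain ⟨ζ, hζ⟩ := hζ
    have h3 : y - ζ.comp (Ext.mk₀ S.g) (add_zero n) = 0 := by
      apply ih
      intro i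
      rw [sub_eq_add_neg, Ext.comp_add, Ext.comp_neg,
        ← Ext.comp_assoc (Ext.mk₀ (Sigma.ι P i)) ζ (Ext.mk₀ S.g) (zero_add n) (add_zero n)
          (by lia : 0 + n + 0 = n), hζ i, hz i, add_neg_cancel]
    have h4 : y = ζ.comp (Ext.mk₀ S.g) (add_zero n) := sub_eq_zero.mp h3
    rw [← hy, h4, Ext.comp_assoc ζ (Ext.mk₀ S.g) hS.extClass (add_zero n) (zero_add 1)
      (by lia : n + 0 + 1 = n + 1), ShortComplex.ShortExact.comp_extClass, Ext.comp_zero]

/-- if all `Ext^m(P_i, F)` vanish then so do all `Ext^n(∐ P_i, F)` -/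
theorem subsingleton_sigma {ι : Type t} (P : ι → C) [HasCoproduct P] (F : C) (n : ℕ)
    (h : ∀ i, Subsingleton (Ext.{w} (P i) F n)) : Subsingleton (Ext.{w} (∐ P) F n) := by
  refine ⟨fun a b => ?_⟩
  rw [eq_zero_of_forall_ι P n F a (fun i => Subsingleton.elim _ _),
    eq_zero_of_forall_ι P n F b (fun i => Subsingleton.elim _ _)]

end Groth.Agent.H27.ExtCoprod
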