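import Groth.Agent.H27.Indiv

set_option autoImplicit false

namespace Groth.Agent.H27

open RootD Finsupp RootPairing

variable {ι M N : Type*} [AddCommGroup M] [AddCommGroup N] {P : RootPairing ι ℤ M N}

section Finite
variable [Finite ι]

/-- S5465 core -/
lemma existsUnique_addHom_extending {G : Type*} [AddCommGroup G] (f : ι → G)
    (hneg : ∀ i : ι, f (P.reflectionPerm i i) = -f i)
    (hadd : ∀ i j k : ι, P.root k = P.root i + P.root j → f k = f i + f j) :
    ∃! φ : Submodule.span ℤ (Set.range P.root) →+ G,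
      ∀ i : ι, φ ⟨P.root i, Submodule.subset_span (Set.mem_range_self i)⟩ = f i := by
  classical
  obtain ⟨Δ, hΔ⟩ := exists_isSimpleSys P
  let ψ : (ι →₀ ℤ) →ₗ[ℤ] G := Finsupp.linearCombination ℤ f
  have hex : ∀ x : Submodule.span ℤ (Set.range P.root), ∃ c : ι →₀ ℤ, (↑c.support ⊆ Δ) ∧
      linearCombination ℤ P.root c = (x : M) := by
    rintro ⟨x, hx⟩
    rw [← span_root_simple hΔ] at hx
    obtain ⟨c, hc1, hc2⟩ := (Finsupp.mem_span_image_iff_linearCombination ℤ).1 hx
    exact ⟨c, (Finsupp.mem_supported ℤ c).1 hc1, hc2⟩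
  choose cf hcf1 hcf2 using hex
  have hcf_add : ∀ x y, cf (x + y) = cf x + cf y := by
    intro x y
    apply coef_unique hΔ.linInd (hcf1 _) (support_add_subset (hcf1 _) (hcf1 _))
    rw [map_add, hcf2, hcf2, hcf2]; rfl
  -- values on roots
  have hpos : ∀ k ∈ posOf P Δ, ∀ c : ι →₀ ℤ, (↑c.support ⊆ Δ) →
      linearCombination ℤ P.root c = P.root k → ψ c = f k := by
    refine posOf_induction hΔ (p := fun k => ∀ c : ι →₀ ℤ, (↑c.support ⊆ Δ) →
      linearCombination ℤ P.root c = P.root k → ψ c = f k) ?_ ?_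
    · intro i hi c hc1 hc2
      have : c = Finsupp.single i 1 := by
        apply coef_unique hΔ.linInd hc1 (support_single_subset hi 1)
        rw [hc2, Finsupp.linearCombination_single, one_smul]
      rw [this]
      simp [ψ]
    · intro k l j hl ihl hj hklj c hc1 hc2
      obtain ⟨d, hd1, _, hd3⟩ := mem_posOf_iff.1 hl
      have : c = d + Finsupp.single j 1 := by
        apply coef_unique hΔ.linInd hc1 (support_add_subset hd1 (support_single_subset hj 1))
        rw [hc2, map_add, hd3, Finsupp.linearCombination_single, one_smul, hklj]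
      rw [this, map_add, ihl d hd1 hd3, hadd l j k hklj]
      simp [ψ]
  have hall : ∀ k : ι, ∀ c : ι →₀ ℤ, (↑c.support ⊆ Δ) →
      linearCombination ℤ P.root c = P.root k → ψ c = f k := by
    intro k c hc1 hc2
    by_cases hk : k ∈ posOf P Δ
    · exact hpos k hk c hc1 hc2
    · have hk' := (ng_mem_posOf_iff hΔ k).2 hk
      have h1 := hpos _ hk' (-c) (support_neg_subset hc1) (by rw [map_neg, hc2, root_ng])
      rw [map_neg] at h1
      have h2 : f (ng P k) = -f k := hneg k
      rw [h2] at h1
      exact neg_injective h1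
  let φ : Submodule.span ℤ (Set.range P.root) →+ G :=
    AddMonoidHom.mk' (fun x => ψ (cf x)) (fun x y => by rw [hcf_add, map_add])
  refine ⟨φ, ?_, ?_⟩
  · intro i
    exact hall i _ (hcf1 _) (hcf2 _)
  · intro φ' hφ'
    ext ⟨x, hx⟩
    induction hx using Submodule.span_induction with
    | mem x hx =>
      obtain ⟨i, rfl⟩ := hx
      rw [hφ' i]
      exact (hall i _ (hcf1 _) (hcf2 _)).symm
    | zero =>
      have : (⟨0, Submodule.zero_mem _⟩ : Submodule.span ℤ (Set.range P.root)) = 0 := rfl
      rw [this, map_zero, map_zero]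
    | add x y hx hy ihx ihy =>
      have : (⟨x + y, Submodule.add_mem _ hx hy⟩ : Submodule.span ℤ (Set.range P.root)) =
          ⟨x, hx⟩ + ⟨y, hy⟩ := rfl
      rw [this, map_add, map_add, ihx, ihy]
    | smul a x hx ihx =>
      have : (⟨a • x, Submodule.smul_mem _ a hx⟩ : Submodule.span ℤ (Set.range P.root)) =
          a • ⟨x, hx⟩ := rfl
      rw [this, map_zsmul, map_zsmul, ihx]

end Finite

end Groth.Agent.H27
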