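import Mathlib

set_option autoImplicit false

namespace Groth.Agent.H27

universe u v

section Abstract

variable {R S : Type u} [CommRing R] [CommRing S] (g : R →+* S)
  {J : Type v} (Rj Sj : J → Type u) [∀ j, CommRing (Rj j)] [∀ j, CommRing (Sj j)]
  (ρ : ∀ j, Rj j →+* R) (σ : ∀ j, Sj j →+* S) (gj : ∀ j, Rj j →+* Sj j)

/-- compatible transition maps from stage `j` to stage `k` -/
def Tr (j k : J) : Prop :=
  ∃ (tR : Rj j →+* Rj k) (tS : Sj j →+* Sj k),
    (ρ k).comp tR = ρ j ∧ (σ k).comp tS = σ j ∧ (gj k).comp tR = tS.comp (gj j)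

variable {Rj Sj ρ σ gj}

lemma exists_lift_fin [Nonempty J]
    (hdir : ∀ j j', ∃ k, Tr Rj Sj ρ σ gj j k ∧ Tr Rj Sj ρ σ gj j' k)
    (hsurjR : ∀ r, ∃ j r', ρ j r' = r) (hsurjS : ∀ s, ∃ j s', σ j s' = s) :
    ∀ (n : ℕ) (p : Fin n → R × S), ∃ (j : J) (r' : Fin n → Rj j) (s' : Fin n → Sj j),
      ∀ i, ρ j (r' i) = (p i).1 ∧ σ j (s' i) = (p i).2 := by
  intro n
  induction n with
  | zero =>
    intro p
    obtain ⟨j⟩ := ‹Nonempty J›
    exact ⟨j, Fin.elim0, Fin.elim0, fun i => i.elim0⟩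
  | succ n ih =>
    intro p
    obtain ⟨j₁, r₁, s₁, h₁⟩ := ih (Fin.tail p)
    obtain ⟨ja, ra, hra⟩ := hsurjR (p 0).1
    obtain ⟨jb, sb, hsb⟩ := hsurjS (p 0).2
    obtain ⟨j₂, ⟨tRa, tSa, ha1, ha2, ha3⟩, ⟨tRb, tSb, hb1, hb2, hb3⟩⟩ := hdir ja jb
    obtain ⟨k, ⟨tR₁, tS₁, h11, h12, h13⟩, ⟨tR₂, tS₂, h21, h22, h23⟩⟩ := hdir j₁ j₂
    refine ⟨k, Fin.cons (tR₂ (tRa ra)) (fun i => tR₁ (r₁ i)),
      Fin.cons (tS₂ (tSb sb)) (fun i => tS₁ (s₁ i)), ?_⟩
    intro i
    refine Fin.cases ?_ (fun i => ?_) i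
    · simp only [Fin.cons_zero]
      constructor
      · rw [← RingHom.comp_apply, h21, ← RingHom.comp_apply, ha1, hra]
      · rw [← RingHom.comp_apply, h22, ← RingHom.comp_apply, hb2, hsb]
    · simp only [Fin.cons_succ]
      constructor
      · rw [← RingHom.comp_apply, h11]; exact (h₁ i).1
      · rw [← RingHom.comp_apply, h12]; exact (h₁ i).2

theorem faithfullyFlat_of_filtered [Nonempty J]
    (hcomm : ∀ j, (σ j).comp (gj j) = g.comp (ρ j))
    (hff : ∀ j, (gj j).FaithfullyFlat)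
    (hdir : ∀ j j', ∃ k, Tr Rj Sj ρ σ gj j k ∧ Tr Rj Sj ρ σ gj j' k)
    (hsurjR : ∀ r, ∃ j r', ρ j r' = r) (hsurjS : ∀ s, ∃ j s', σ j s' = s)
    (heq0 : ∀ j (s : Sj j), σ j s = 0 → ∃ (k : J) (tR : Rj j →+* Rj k) (tS : Sj j →+* Sj k),
      (ρ k).comp tR = ρ j ∧ (σ k).comp tS = σ j ∧ (gj k).comp tR = tS.comp (gj j) ∧ tS s = 0) :
    g.FaithfullyFlat := by
  have hlift := exists_lift_fin (R := R) (S := S) hdir hsurjR hsurjS
  have hcomm' : ∀ j (r : Rj j), σ j (gj j r) = g (ρ j r) := fun j r => by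
    rw [← RingHom.comp_apply, hcomm]; rfl
  letI := g.toAlgebra
  have hsmul : ∀ (r : R) (s : S), r • s = g r * s := fun r s => by
    rw [Algebra.smul_def]; rfl
  show Module.FaithfullyFlat R S
  rw [Module.FaithfullyFlat.iff_flat_and_proper_ideal]
  constructor
  · rw [Module.Flat.iff_forall_isTrivialRelation]
    intro l f x hfx
    obtain ⟨j, f', x', hfx'⟩ := hlift l (fun i => (f i, x i))
    have h0 : σ j (∑ i, gj j (f' i) * x' i) = 0 := by
      rw [map_sum, ← hfx]
      refine Finset.sum_congr rfl fun i _ => ?_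
      rw [map_mul, hcomm', (hfx' i).1, (hfx' i).2, hsmul]
    obtain ⟨k, tR, tS, hk1, hk2, hk3, hk4⟩ := heq0 j _ h0
    have hk3' : ∀ r, gj k (tR r) = tS (gj j r) := fun r => by
      rw [← RingHom.comp_apply, hk3]; rfl
    letI := (gj k).toAlgebra
    have hflat : Module.Flat (Rj k) (Sj k) := (hff k).flat
    have hsmulk : ∀ (r : Rj k) (s : Sj k), r • s = gj k r * s := fun r s => by
      rw [Algebra.smul_def]; rfl
    have hrel : ∑ i, (tR (f' i)) • (tS (x' i)) = 0 := by
      rw [← hk4, map_sum]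
      refine Finset.sum_congr rfl fun i _ => ?_
      rw [hsmulk, map_mul, hk3']
    obtain ⟨m, a, y, hy1, hy2⟩ := Module.Flat.isTrivialRelation_of_sum_smul_eq_zero
      (R := Rj k) (M := Sj k) (f := fun i => tR (f' i)) (x := fun i => tS (x' i)) hrel
    simp only at hy1 hy2
    refine ⟨m, fun i t => ρ k (a i t), fun t => σ k (y t), fun i => ?_, fun t => ?_⟩
    · have h1 : x i = σ k (tS (x' i)) := by
        rw [← RingHom.comp_apply, hk2]; exact (hfx' i).2.symm
      rw [h1, hy1 i, map_sum]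
      refine Finset.sum_congr rfl fun t _ => ?_
      simp only []
      rw [hsmulk, map_mul, hcomm', hsmul]
    · have h1 : ∀ i, f i = ρ k (tR (f' i)) := fun i => by
        rw [← RingHom.comp_apply, hk1]; exact (hfx' i).1.symm
      simp_rw [h1, ← map_mul, ← map_sum, hy2 t, map_zero]
  · intro I hI htop
    rw [Ideal.smul_top_eq_map] at htop
    have h1 : (1 : S) ∈ I.map (algebraMap R S) := by
      have : (1 : S) ∈ (I.map (algebraMap R S)).restrictScalars R := by rw [htop]; trivial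
      exact this
    have h2 : (1 : S) ∈ Submodule.span S (g '' (I : Set R)) := h1
    obtain ⟨c, hc1, hc2⟩ := (Finsupp.mem_span_image_iff_linearCombination S).1 h2
    -- enumerate the support
    let e := c.support.equivFin
    obtain ⟨j, m', s', hms⟩ := hlift c.support.card
      (fun i => (((e.symm i : c.support) : R), c (e.symm i : c.support)))
    have hsum : (1 : S) = ∑ i, g (ρ j (m' i)) * σ j (s' i) := by
      rw [← hc2, Finsupp.linearCombination_apply, Finsupp.sum,
        ← Finset.sum_coe_sort c.support (fun a => c a • g a), ← Equiv.sum_comp e.symm]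
      refine Finset.sum_congr rfl fun i _ => ?_
      rw [(hms i).1, (hms i).2, smul_eq_mul, mul_comm]
    have h0 : σ j (1 - ∑ i, gj j (m' i) * s' i) = 0 := by
      rw [map_sub, map_one, map_sum, sub_eq_zero, hsum]
      refine Finset.sum_congr rfl fun i _ => ?_
      rw [map_mul, hcomm']
    obtain ⟨k, tR, tS, hk1, hk2, hk3, hk4⟩ := heq0 j _ h0
    have hk3' : ∀ r, gj k (tR r) = tS (gj j r) := fun r => by
      rw [← RingHom.comp_apply, hk3]; rfl
    -- the proper ideal at stage `k`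
    set Ik : Ideal (Rj k) := I.comap (ρ k) with hIk
    have hIk_ne : Ik ≠ ⊤ := by
      intro h
      apply hI
      rw [Ideal.eq_top_iff_one] at h ⊢
      have : ρ k 1 ∈ I := h
      rwa [map_one] at this
    have hmem : ∀ i, tR (m' i) ∈ Ik := by
      intro i
      show ρ k (tR (m' i)) ∈ I
      rw [← RingHom.comp_apply, hk1, (hms i).1]
      exact hc1 (e.symm i).2 |> fun h => by
        have := (Finsupp.mem_supported S c).1 hc1 (e.symm i).2
        exact this
    letI := (gj k).toAlgebra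
    have hffk : Module.FaithfullyFlat (Rj k) (Sj k) := hff k
    have hne := (Module.FaithfullyFlat.iff_flat_and_proper_ideal (R := Rj k) (M := Sj k)).1 hffk
      |>.2 Ik hIk_ne
    apply hne
    rw [Ideal.smul_top_eq_map]
    have h1k : (1 : Sj k) ∈ Ik.map (algebraMap (Rj k) (Sj k)) := by
      have e1 : (1 : Sj k) = ∑ i, gj k (tR (m' i)) * tS (s' i) := by
        have := hk4
        rw [map_sub, map_one, sub_eq_zero, map_sum] at this
        rw [this]
        refine Finset.sum_congr rfl fun i _ => ?_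
        rw [map_mul, hk3']
      rw [e1]
      refine Ideal.sum_mem _ fun i _ => ?_
      exact Ideal.mul_mem_right _ _ (Ideal.mem_map_of_mem _ (hmem i))
    rw [(Ideal.eq_top_iff_one _).2 h1k]
    rfl

end Abstract

end Groth.Agent.H27

namespace Groth.Agent.H27

open CategoryTheory CategoryTheory.Limits

universe u

/-- S5377 core -/
theorem colimMap_faithfullyFlat (J : Type u) [SmallCategory J] [IsFiltered J]
    (C A : J ⥤ CommRingCat.{u}) (φ : C ⟶ A) (h : ∀ j : J, (φ.app j).hom.FaithfullyFlat) :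
    (colimMap φ).hom.FaithfullyFlat := by
  haveI : Nonempty J := IsFiltered.nonempty
  have hwC : ∀ {j k : J} (f : j ⟶ k), (colimit.ι C k).hom.comp (C.map f).hom = (colimit.ι C j).hom := by
    intro j k f
    rw [← CommRingCat.hom_comp, colimit.w]
  have hwA : ∀ {j k : J} (f : j ⟶ k), (colimit.ι A k).hom.comp (A.map f).hom = (colimit.ι A j).hom := by
    intro j k f
    rw [← CommRingCat.hom_comp, colimit.w]
  have hnat : ∀ {j k : J} (f : j ⟶ k), (φ.app k).hom.comp (C.map f).hom = (A.map f).hom.comp (φ.app j).hom := by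
    intro j k f
    rw [← CommRingCat.hom_comp, ← CommRingCat.hom_comp, φ.naturality]
  apply faithfullyFlat_of_filtered (g := (colimMap φ).hom) (Rj := fun j => C.obj j)
    (Sj := fun j => A.obj j) (ρ := fun j => (colimit.ι C j).hom) (σ := fun j => (colimit.ι A j).hom)
    (gj := fun j => (φ.app j).hom)
  · intro j
    rw [← CommRingCat.hom_comp, ← CommRingCat.hom_comp, ι_colimMap]
  · exact h
  · intro j j'
    exact ⟨IsFiltered.max j j',
      ⟨(C.map (IsFiltered.leftToMax j j')).hom, (A.map (IsFiltered.leftToMax j j')).hom,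
        hwC _, hwA _, hnat _⟩,
      ⟨(C.map (IsFiltered.rightToMax j j')).hom, (A.map (IsFiltered.rightToMax j j')).hom,
        hwC _, hwA _, hnat _⟩⟩
  · intro r
    exact Concrete.colimit_exists_rep C r
  · intro s
    exact Concrete.colimit_exists_rep A s
  · intro j s hs
    obtain ⟨k, f, g', hfg⟩ := Concrete.colimit_exists_of_rep_eq A s (0 : A.obj j)
      (by rw [map_zero]; exact hs)
    rw [map_zero] at hfg
    exact ⟨k, (C.map f).hom, (A.map f).hom, hwC _, hwA _, hnat _, hfg⟩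

end Groth.Agent.H27
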