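import Groth.Agent.H65.W2Lift
import Groth.Agent.H47.EtaleLift

/-!
# Étale algebras over a Frobenius-liftable algebra are Frobenius-liftable
-/

set_option autoImplicit false
universe u v

open scoped TensorProduct

namespace Groth.Agent.H27.FLiftEtale

/-- lifting ring homs out of a formally smooth algebra along a surjection with nilpotent kernel -/
theorem exists_lift_ringHom {B D T Q : Type*} [CommRing B] [CommRing D] [CommRing T] [CommRing Q]
    [Algebra B D] [Algebra.FormallySmooth B D] (f : B →+* T) (π' : T →+* Q)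
    (hπ' : Function.Surjective π') (hker : IsNilpotent (RingHom.ker π')) (g : D →+* Q)
    (hg : g.comp (algebraMap B D) = π'.comp f) :
    ∃ G : D →+* T, G.comp (algebraMap B D) = f ∧ π'.comp G = g := by
  letI algT : Algebra B T := f.toAlgebra
  letI algQ : Algebra B Q := (π'.comp f).toAlgebra
  let πA : T →ₐ[B] Q := { π' with commutes' := fun _ => rfl }
  let gA : D →ₐ[B] Q := { g with commutes' := fun b => RingHom.congr_fun hg b }
  let G := Algebra.FormallySmooth.liftOfSurjective gA πA hπ' hker
  refine ⟨G.toRingHom, ?_, ?_⟩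
  · ext b
    exact G.commutes b
  · ext d
    exact Algebra.FormallySmooth.liftOfSurjective_apply gA πA hπ' hker d

/-- the trivial algebra is Frobenius-liftable -/
theorem isFLiftable_of_subsingleton (p : ℕ) [Fact p.Prime] (k : Type u) [Field k] [CharP k p]
    (C : Type v) [CommRing C] [Algebra k C] [Subsingleton C] : FrobAlg.IsFLiftable p k C := by
  refine ⟨C, inferInstance, (algebraMap k C).comp (FrobAlg.res p k), RingHom.id C, RingHom.id C,
    ⟨⟨?_, Function.surjective_id, Subsingleton.elim _ _, rfl⟩, ?_, fun _ => Subsingleton.elim _ _⟩⟩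
  · letI := ((algebraMap k C).comp (FrobAlg.res p k)).toAlgebra
    change Module.Flat (FrobAlg.W2 p k) C
    infer_instance
  · ext x
    exact Subsingleton.elim _ _

section main

variable (p : ℕ) [Fact p.Prime] (k : Type u) [Field k] [CharP k p] [PerfectRing k p]
  (A C : Type v) [CommRing A] [CommRing C] [Algebra k A] [Algebra k C]
  [Algebra A C] [IsScalarTower k A C] [Algebra.Etale A C]

theorem main (hA : FrobAlg.IsFLiftable p k A) : FrobAlg.IsFLiftable p k C := by
  rcases subsingleton_or_nontrivial C with hC | hC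
  · exact isFLiftable_of_subsingleton p k C
  haveI : CharP C p := charP_of_injective_algebraMap (algebraMap k C).injective p
  obtain ⟨B, iB, ι, π, Φ, h⟩ := hA
  have hL : FrobAlg.IsLift p k A B ι π := h.toIsLift
  -- `C` as an étale algebra over `B ⧸ ker π`
  let e₀ : B ⧸ RingHom.ker π ≃+* A := RingHom.quotientKerEquivOfSurjective hL.surj
  letI algQA : Algebra (B ⧸ RingHom.ker π) A := e₀.toRingHom.toAlgebra
  letI algQC : Algebra (B ⧸ RingHom.ker π) C := ((algebraMap A C).comp e₀.toRingHom).toAlgebra
  haveI twQAC : IsScalarTower (B ⧸ RingHom.ker π) A C := IsScalarTower.of_algebraMap_eq (fun _ => rfl)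
  haveI etQA : Algebra.Etale (B ⧸ RingHom.ker π) A :=
    Algebra.Etale.of_equiv (A := B ⧸ RingHom.ker π)
      ({ e₀ with commutes' := fun _ => rfl } : (B ⧸ RingHom.ker π) ≃ₐ[B ⧸ RingHom.ker π] A)
  haveI etQC : Algebra.Etale (B ⧸ RingHom.ker π) C := Algebra.Etale.comp (B ⧸ RingHom.ker π) A C
  obtain ⟨D, iD, algBD, etBD, ⟨e⟩⟩ :=
    Groth.Agent.H47.exists_etale_lift_quotient B (RingHom.ker π) C
  -- the projection `D → C`
  let q := Algebra.TensorProduct.quotIdealMapEquivQuotTensor D (RingHom.ker π)
  let eq : (D ⧸ (RingHom.ker π).map (algebraMap B D)) ≃+* C := q.toRingEquiv.trans e.toRingEquiv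
  let πD : D →+* C := eq.toRingHom.comp (Ideal.Quotient.mk _)
  have hπD_surj : Function.Surjective πD :=
    eq.surjective.comp Ideal.Quotient.mk_surjective
  have hπD_ker : RingHom.ker πD = (RingHom.ker π).map (algebraMap B D) := by
    ext d
    rw [RingHom.mem_ker]
    change eq (Ideal.Quotient.mk _ d) = 0 ↔ _
    rw [map_eq_zero_iff eq eq.injective, Ideal.Quotient.eq_zero_iff_mem]
  have hπD_alg : ∀ b : B, πD (algebraMap B D b) = algebraMap A C (π b) := by
    intro b
    change e (q (Ideal.Quotient.mk _ (algebraMap B D b))) = _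
    rw [Algebra.TensorProduct.quotIdealMapEquivQuotTensor_mk]
    have h1 : (1 : B ⧸ RingHom.ker π) ⊗ₜ[B] (algebraMap B D b) =
        algebraMap (B ⧸ RingHom.ker π) ((B ⧸ RingHom.ker π) ⊗[B] D)
          (Ideal.Quotient.mk (RingHom.ker π) b) := by
      rw [Algebra.TensorProduct.algebraMap_apply, Algebra.algebraMap_eq_smul_one,
        TensorProduct.tmul_smul, TensorProduct.smul_tmul']
      congr 1
      rw [Algebra.smul_def, mul_one]
      rfl
    rw [h1, e.commutes]
    rfl
  -- the lifting data
  let ιD : FrobAlg.W2 p k →+* D := (algebraMap B D).comp ι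
  have hker_span : RingHom.ker πD = Ideal.span {(p : D)} := by
    rw [hπD_ker, Groth.Agent.H65.W2B.IsLift.ker_eq_span hL, Ideal.map_span, Set.image_singleton,
      map_natCast]
  have hnil : IsNilpotent (RingHom.ker πD) := by
    refine ⟨2, ?_⟩
    rw [hker_span, Ideal.span_singleton_pow, pow_two,
      Groth.Agent.H65.W2B.p_mul_p_of_ringHom ιD]
    simp
  -- the Frobenius lift
  have hg : ((frobenius C p).comp πD).comp (algebraMap B D) =
      πD.comp ((algebraMap B D).comp Φ) := by
    ext b
    change (πD (algebraMap B D b)) ^ p = πD (algebraMap B D (Φ b))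
    rw [hπD_alg, hπD_alg, h.red, map_pow]
  obtain ⟨ΦD, hΦ1, hΦ2⟩ := exists_lift_ringHom (B := B) (D := D) ((algebraMap B D).comp Φ) πD
    hπD_surj hnil ((frobenius C p).comp πD) hg
  refine ⟨D, iD, ιD, πD, ΦD, ⟨⟨?_, hπD_surj, ?_, ?_⟩, ?_, ?_⟩⟩
  · refine RingHom.Flat.comp hL.flat ?_
    rw [RingHom.flat_algebraMap_iff]
    infer_instance
  · rw [hπD_ker, hL.ker_eq, Ideal.map_map]
  · ext w
    change πD (algebraMap B D (ι w)) = _
    rw [hπD_alg]
    have := RingHom.congr_fun hL.comm w
    change π (ι w) = _ at this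
    rw [this]
    change algebraMap A C (algebraMap k A _) = algebraMap k C _
    rw [← IsScalarTower.algebraMap_apply]
  · change ΦD.comp ((algebraMap B D).comp ι) = ((algebraMap B D).comp ι).comp (FrobAlg.sigma p k)
    rw [← RingHom.comp_assoc, hΦ1, RingHom.comp_assoc, h.semi, RingHom.comp_assoc]
  · intro d
    have := RingHom.congr_fun hΦ2 d
    exact this

end main

end Groth.Agent.H27.FLiftEtale
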