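import Groth.Agent.H27.Exists

set_option autoImplicit false

namespace Groth.Agent.H27

open RootD Finsupp RootPairing

variable {ι M N : Type*} [AddCommGroup M] [AddCommGroup N] {P : RootPairing ι ℤ M N}

lemma weyl_smul_sub_mem_span {g : P.Aut} (hg : g ∈ P.weylGroup) (m : M) :
    g • m - m ∈ Submodule.span ℤ (Set.range P.root) := by
  induction hg using RootPairing.weylGroup.induction generalizing m with
  | mem i =>
    rw [RootPairing.Equiv.reflection_smul, P.reflection_apply]
    have : m - (P.coroot' i) m • P.root i - m = (-(P.coroot' i) m) • P.root i := by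
      rw [neg_smul]; abel
    rw [this]
    exact Submodule.smul_mem _ _ (Submodule.subset_span (Set.mem_range_self i))
  | one => simp
  | mul x y _ _ hx hy =>
    have : (x * y) • m - m = (x • (y • m) - y • m) + (y • m - m) := by
      rw [mul_smul]; abel
    rw [this]
    exact add_mem (hx _) (hy _)

lemma pairing_smul_sub_eq_zero {g : P.Aut} (hg : ∀ i : ι, g • i = i) (m : M) (i : ι) :
    P.toLinearMap (g • m - m) (P.coroot i) = 0 := by
  rw [map_sub, LinearMap.sub_apply]
  conv_lhs => arg 1; rw [← hg i]
  rw [toLinearMap_smul_coroot_smul, sub_self]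

section Finite
variable [Finite ι]

lemma eq_zero_of_mem_span_of_pairing_eq_zero {x : M}
    (hx : x ∈ Submodule.span ℤ (Set.range P.root))
    (h : ∀ i, P.toLinearMap x (P.coroot i) = 0) : x = 0 := by
  have := Fintype.ofFinite ι
  apply P.eq_zero_of_mem_rootSpan_of_rootForm_self_eq_zero hx
  rw [P.rootForm_apply_apply]
  refine Finset.sum_eq_zero fun i _ => ?_
  have : (P.coroot' i) x = 0 := h i
  rw [this, mul_zero]

/-- an element of the Weyl group fixing all roots is trivial -/
lemma weyl_eq_one_of_fix {g : P.Aut} (hg : g ∈ P.weylGroup) (hfix : ∀ i : ι, g • i = i) : g = 1 := by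
  apply RootPairing.Equiv.weightHom_injective P
  ext m
  have h1 : g • m - m = 0 :=
    eq_zero_of_mem_span_of_pairing_eq_zero (weyl_smul_sub_mem_span hg m)
      (pairing_smul_sub_eq_zero hfix m)
  have h2 : g • m = m := sub_eq_zero.1 h1
  simpa using (show g.weightMap m = m from h2)

/-- S5452 core -/
lemma weylGroupToPerm_injective : Function.Injective P.weylGroupToPerm := by
  rw [injective_iff_map_eq_one]
  rintro ⟨g, hg⟩ h
  have hfix : ∀ i : ι, g • i = i := fun i => by
    have := DFunLike.congr_fun h i
    exact (by simpa using this : g.indexEquiv i = i)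
  have := weyl_eq_one_of_fix hg hfix
  exact Subtype.ext this

end Finite

end Groth.Agent.H27
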