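import Mathlib

set_option autoImplicit false
universe u v w

namespace Groth.Agent.H27.FibProdFT

open Function

theorem finiteType_pi {R : Type u} [CommRing R] {ι : Type v} [Fintype ι]
    (A : ι → Type w) [∀ i, CommRing (A i)] [∀ i, Algebra R (A i)]
    (h : ∀ i, Algebra.FiniteType R (A i)) : Algebra.FiniteType R (∀ i, A i) := by
  classical
  have h' : ∀ i, ∃ s : Finset (A i), Algebra.adjoin R (s : Set (A i)) = ⊤ := fun i => (h i).out
  choose s hs using h'
  let G : Set (∀ i, A i) := ⋃ i, (Pi.single i '' (insert 1 (s i : Set (A i))))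
  have hGfin : G.Finite :=
    Set.finite_iUnion fun i => ((s i).finite_toSet.insert 1).image _
  refine ⟨(Subalgebra.fg_def).mpr ⟨G, hGfin, ?_⟩⟩
  have claim : ∀ i (y : A i), Pi.single i y ∈ Algebra.adjoin R G := by
    intro i y
    have hy : y ∈ Algebra.adjoin R (s i : Set (A i)) := by rw [hs i]; trivial
    induction hy using Algebra.adjoin_induction with
    | mem x hx =>
      exact Algebra.subset_adjoin (Set.mem_iUnion.mpr ⟨i, Set.mem_image_of_mem _
        (Set.mem_insert_of_mem _ hx)⟩)
    | algebraMap r =>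
      have : (Pi.single i (algebraMap R (A i) r) : ∀ i, A i) =
          r • (Pi.single i (1 : A i) : ∀ i, A i) := by
        rw [Algebra.algebraMap_eq_smul_one, Pi.single_smul]
      rw [this]
      exact Subalgebra.smul_mem _ (Algebra.subset_adjoin (Set.mem_iUnion.mpr ⟨i,
        Set.mem_image_of_mem _ (Set.mem_insert _ _)⟩)) r
    | add x y _ _ hx hy =>
      rw [Pi.single_add]; exact add_mem hx hy
    | mul x y _ _ hx hy =>
      rw [Pi.single_mul]; exact mul_mem hx hy
  rw [eq_top_iff]
  intro a _
  rw [← Finset.univ_sum_single a]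
  exact sum_mem fun i _ => claim i (a i)

section main

variable (R : Type u) [CommRing R] [IsNoetherianRing R] {ι : Type u} [Fintype ι]
  (Q : Type u) [CommRing Q] [Algebra R Q] [Algebra.FiniteType R Q] (A B : ι → Type u)
  [∀ i, CommRing (A i)] [∀ i, CommRing (B i)] [∀ i, Algebra R (A i)] [∀ i, Algebra R (B i)]

theorem finiteType_equalizer (hA : ∀ i, Algebra.FiniteType R (A i))
    (φ : ∀ i, A i →ₐ[R] B i) (ψ : ∀ i, Q →ₐ[R] B i)
    (hφ : ∀ i, Function.Surjective (φ i)) (hψ : ∀ i, Function.Surjective (ψ i)) :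
    Algebra.FiniteType R ↥(AlgHom.equalizer ((AlgHom.pi ψ).comp (AlgHom.fst R Q (∀ i, A i)))
      ((AlgHom.pi fun i => (φ i).comp (Pi.evalAlgHom R A i)).comp (AlgHom.snd R Q (∀ i, A i)))) := by
  classical
  set P := AlgHom.equalizer ((AlgHom.pi ψ).comp (AlgHom.fst R Q (∀ i, A i)))
      ((AlgHom.pi fun i => (φ i).comp (Pi.evalAlgHom R A i)).comp (AlgHom.snd R Q (∀ i, A i)))
    with hP
  have hmem : ∀ x : Q × (∀ i, A i), x ∈ P ↔ ∀ i, ψ i x.1 = φ i (x.2 i) := by
    intro x
    rw [hP, AlgHom.mem_equalizer]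
    constructor
    · intro h i; exact congrFun h i
    · intro h; funext i; exact h i
  haveI : Algebra.FiniteType R (∀ i, A i) := finiteType_pi A hA
  have hAC : (⊤ : Subalgebra R (Q × (∀ i, A i))).FG :=
    (inferInstance : Algebra.FiniteType R (Q × (∀ i, A i))).out
  -- lifts
  have lift0 : ∀ q : Q, ∃ p : P, (p : Q × (∀ i, A i)).1 = q := by
    intro q
    choose a ha using fun i => hφ i (ψ i q)
    exact ⟨⟨(q, a), (hmem _).mpr fun i => (ha i).symm⟩, rfl⟩
  have lifti : ∀ (i : ι) (x : A i), ∃ p : P, (p : Q × (∀ i, A i)).2 i = x := by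
    intro i x
    obtain ⟨q, hq⟩ := hψ i (φ i x)
    choose a ha using fun j => hφ j (ψ j q)
    refine ⟨⟨(q, Function.update a i x), (hmem _).mpr fun j => ?_⟩, ?_⟩
    · by_cases hji : j = i
      · subst hji
        simp only [Function.update_self]
        exact hq
      · simp only [Function.update_of_ne hji]
        exact (ha j).symm
    · simp only [Function.update_self]
  have hBC : (⊤ : Submodule P (Q × (∀ i, A i))).FG := by
    let e0 : Q × (∀ i, A i) := (1, 0)
    let e : ι → Q × (∀ i, A i) := fun i => (0, Pi.single i 1)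
    refine ⟨insert e0 (Finset.univ.image e), ?_⟩
    rw [eq_top_iff]
    rintro ⟨q, a⟩ -
    obtain ⟨p0, hp0⟩ := lift0 q
    choose p hp using fun i => lifti i (a i)
    have hdecomp : ((q, a) : Q × (∀ i, A i)) = p0 • e0 + ∑ i, p i • e i := by
      refine Prod.ext ?_ ?_
      · simp only [Prod.fst_add, Prod.fst_sum, Subalgebra.smul_def, smul_eq_mul, Prod.fst_mul,
          e0, e, mul_one, mul_zero, Finset.sum_const_zero, add_zero]
        exact hp0.symm
      · simp only [Prod.snd_add, Prod.snd_sum, Subalgebra.smul_def, smul_eq_mul, Prod.snd_mul,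
          e0, e, mul_zero, zero_add]
        funext j
        rw [Finset.sum_apply]
        simp only [Pi.mul_apply]
        rw [Finset.sum_eq_single j]
        · simp only [Pi.single_eq_same, mul_one]
          exact (hp j).symm
        · intro i _ hij
          rw [Pi.single_eq_of_ne hij.symm, mul_zero]
        · intro h; exact absurd (Finset.mem_univ j) h
    rw [hdecomp]
    refine add_mem (Submodule.smul_mem _ _ (Submodule.subset_span ?_))
      (sum_mem fun i _ => Submodule.smul_mem _ _ (Submodule.subset_span ?_))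
    · simp
    · simp only [Finset.coe_insert, Finset.coe_image, Finset.coe_univ, Set.image_univ]
      exact Set.mem_insert_of_mem _ ⟨i, rfl⟩
  have hBCi : Function.Injective (algebraMap P (Q × (∀ i, A i))) := Subtype.coe_injective
  exact ⟨fg_of_fg_of_fg R P (Q × (∀ i, A i)) hAC hBC hBCi⟩

end main

end Groth.Agent.H27.FibProdFT
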