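import Groth.Agent.H4.SpectralFib
import Groth.Agent.H27.AdmIdem
import Mathlib.Topology.LocallyConstant.Algebra
import Mathlib.Topology.Separation.Profinite
import Mathlib.RingTheory.Localization.AtPrime.Basic

/-!
# The ring realizing `Spec A ×_{π₀ Spec A} T`

For a profinite space `T` and `g : T → π₀(Spec A)` continuous we let `B g` be the image of the
locally constant functions `T → A` in the product of the local rings `A_p` over the points
`(p, t)` of the fibre product.  We classify its primes.
-/

set_option autoImplicit false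
universe u

namespace Groth.Agent.H27.FibRing

open Groth.Agent.H4.SpectralFib

variable {A : Type u} [CommRing A] {T : Type u} [TopologicalSpace T]
variable (g : C(T, _root_.ConnectedComponents (PrimeSpectrum A)))

/-- the ambient product of local rings -/
abbrev ProdF : Type u := ∀ y : Y g, Localization.AtPrime y.1.1.asIdeal

/-- locally constant functions, evaluated in the local rings -/
noncomputable def Lam : LocallyConstant T A →ₐ[A] ProdF g :=
  AlgHom.pi (fun y : Y g => (Algebra.ofId A (Localization.AtPrime y.1.1.asIdeal)).comp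
    (LocallyConstant.evalₐ A y.1.2))

/-- the ring realizing the fibre product -/
noncomputable def B : Subalgebra A (ProdF g) := (Lam g).range

/-- the surjection from the locally constant functions -/
noncomputable def Lam' : LocallyConstant T A →ₐ[A] B g := (Lam g).rangeRestrict

theorem Lam'_surjective : Function.Surjective (Lam' g) := (Lam g).rangeRestrict_surjective

/-- evaluation at a point of the fibre product -/
noncomputable def ev (y : Y g) : B g →ₐ[A] Localization.AtPrime y.1.1.asIdeal :=
  (Pi.evalAlgHom A (fun y : Y g => Localization.AtPrime y.1.1.asIdeal) y).comp (B g).val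

theorem ev_Lam' (y : Y g) (h : LocallyConstant T A) :
    ev g y (Lam' g h) = algebraMap A (Localization.AtPrime y.1.1.asIdeal) (h y.1.2) := rfl

theorem ext_ev {x x' : B g} (h : ∀ y, ev g y x = ev g y x') : x = x' :=
  Subtype.ext (funext h)

open Classical in
/-- indicator functions of clopen subsets of `T` -/
noncomputable def ind (U : Set T) : B g :=
  if hU : IsClopen U then Lam' g (LocallyConstant.charFn A hU) else 0

open Classical in
theorem ev_ind {U : Set T} (hU : IsClopen U) (y : Y g) :
    ev g y (ind g U) = if y.1.2 ∈ U then 1 else 0 := by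
  rw [ind, dif_pos hU, ev_Lam', LocallyConstant.coe_charFn]
  by_cases h : y.1.2 ∈ U
  · rw [if_pos h, Set.indicator_of_mem h, Pi.one_apply, map_one]
  · rw [if_neg h, Set.indicator_of_notMem h, map_zero]

theorem ev_ind_of_mem {U : Set T} (hU : IsClopen U) (y : Y g) (h : y.1.2 ∈ U) :
    ev g y (ind g U) = 1 := by
  classical
  rw [ev_ind g hU, if_pos h]

theorem ev_ind_of_notMem {U : Set T} (hU : IsClopen U) (y : Y g) (h : y.1.2 ∉ U) :
    ev g y (ind g U) = 0 := by
  classical
  rw [ev_ind g hU, if_neg h]

theorem ind_empty : ind g (∅ : Set T) = 0 := by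
  apply ext_ev
  intro y
  rw [ev_ind_of_notMem g isClopen_empty y (Set.notMem_empty _), map_zero]

theorem ind_univ : ind g (Set.univ : Set T) = 1 := by
  apply ext_ev
  intro y
  rw [ev_ind_of_mem g isClopen_univ y (Set.mem_univ _), map_one]

theorem ind_inter {U V : Set T} (hU : IsClopen U) (hV : IsClopen V) :
    ind g (U ∩ V) = ind g U * ind g V := by
  classical
  apply ext_ev
  intro y
  rw [map_mul, ev_ind g (hU.inter hV), ev_ind g hU, ev_ind g hV]
  by_cases h1 : y.1.2 ∈ U
  · by_cases h2 : y.1.2 ∈ V
    · rw [if_pos h1, if_pos h2, if_pos ⟨h1, h2⟩, one_mul]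
    · rw [if_pos h1, if_neg h2, if_neg (fun h => h2 h.2), mul_zero]
  · rw [if_neg h1, if_neg (fun h => h1 h.1), zero_mul]

theorem ind_compl {U : Set T} (hU : IsClopen U) : ind g Uᶜ = 1 - ind g U := by
  classical
  apply ext_ev
  intro y
  rw [map_sub, map_one, ev_ind g hU.compl, ev_ind g hU]
  by_cases h1 : y.1.2 ∈ U
  · rw [if_pos h1, if_neg (fun h : y.1.2 ∈ Uᶜ => h h1), sub_self]
  · rw [if_neg h1, if_pos (show y.1.2 ∈ Uᶜ from h1), sub_zero]

/-- on the fibre of a locally constant function, the function is constant -/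
theorem ind_fiber_mul (h : LocallyConstant T A) (t : T) :
    ind g {s | h s = h t} * Lam' g h = ind g {s | h s = h t} * algebraMap A (B g) (h t) := by
  have hU : IsClopen {s | h s = h t} := h.isLocallyConstant.isClopen_fiber (h t)
  apply ext_ev
  intro y
  rw [map_mul, map_mul, AlgHom.commutes, ev_Lam']
  by_cases hy : y.1.2 ∈ {s | h s = h t}
  · rw [ev_ind_of_mem g hU y hy, one_mul, one_mul]
    rw [show h y.1.2 = h t from hy]
  · rw [ev_ind_of_notMem g hU y hy, zero_mul, zero_mul]

section Prime

variable [CompactSpace T] [T2Space T] [TotallyDisconnectedSpace T]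
variable (P : Ideal (B g)) [hP : P.IsPrime]

omit [T2Space T] [TotallyDisconnectedSpace T] in
/-- the point of `T` attached to a prime -/
theorem exists_pt : ∃ t : T, ∀ U : Set T, IsClopen U → (ind g U ∉ P ↔ t ∈ U) := by
  classical
  let ι := {U : Set T // IsClopen U ∧ ind g U ∉ P}
  have hfin : ∀ u : Finset ι, IsClopen (⋂ i ∈ u, (i.1 : Set T)) ∧
      ind g (⋂ i ∈ u, (i.1 : Set T)) ∉ P := by
    intro u
    induction u using Finset.induction_on with
    | empty =>
      simp only [Finset.notMem_empty, Set.iInter_of_empty, Set.iInter_univ]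
      refine ⟨isClopen_univ, ?_⟩
      rw [ind_univ]
      exact fun h => hP.ne_top ((Ideal.eq_top_iff_one _).mpr h)
    | insert i u _ ih =>
      rw [Finset.set_biInter_insert]
      refine ⟨i.2.1.inter ih.1, ?_⟩
      rw [ind_inter g i.2.1 ih.1]
      intro h
      rcases hP.mem_or_mem h with h | h
      · exact i.2.2 h
      · exact ih.2 h
  have hne : (Set.univ ∩ ⋂ i : ι, (i.1 : Set T)).Nonempty := by
    apply isCompact_univ.inter_iInter_nonempty (fun i : ι => (i.1 : Set T)) (fun i => i.2.1.isClosed)
    intro u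
    rw [Set.univ_inter]
    by_contra hem
    rw [Set.not_nonempty_iff_eq_empty] at hem
    have := (hfin u).2
    rw [hem, ind_empty] at this
    exact this P.zero_mem
  obtain ⟨t, -, ht⟩ := hne
  rw [Set.mem_iInter] at ht
  refine ⟨t, fun U hU => ⟨fun h => ht ⟨U, hU, h⟩, fun htU hmem => ?_⟩⟩
  have h1 : ind g Uᶜ ∉ P := by
    rw [ind_compl g hU]
    intro h
    apply hP.ne_top
    rw [Ideal.eq_top_iff_one]
    have := P.add_mem h hmem
    rwa [sub_add_cancel] at this
  exact ht ⟨Uᶜ, hU.compl, h1⟩ htU

/-- the point of `T` attached to a prime -/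
noncomputable def tOf : T := (exists_pt g P).choose

omit [T2Space T] [TotallyDisconnectedSpace T] in
theorem ind_notMem_iff {U : Set T} (hU : IsClopen U) : ind g U ∉ P ↔ tOf g P ∈ U :=
  (exists_pt g P).choose_spec U hU

theorem tOf_unique (t : T) (h : ∀ U : Set T, IsClopen U → (ind g U ∉ P ↔ t ∈ U)) :
    t = tOf g P := by
  by_contra hne
  obtain ⟨U, hU, h1, h2⟩ := exists_isClopen_of_totally_separated hne
  exact h2 ((ind_notMem_iff g P hU).mp ((h U hU).mpr h1))

/-- the prime of `A` under a prime of `B g` -/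
noncomputable def pOf : PrimeSpectrum A := ⟨P.comap (algebraMap A (B g)), inferInstance⟩

omit [CompactSpace T] [T2Space T] [TotallyDisconnectedSpace T] in
theorem algebraMap_idem_eq_ind {ε : A} (hε : IsIdempotentElem ε)
    {V : Set (_root_.ConnectedComponents (PrimeSpectrum A))}
    (hV : IsClopen V)
    (hεV : _root_.ConnectedComponents.mk ⁻¹' V = (PrimeSpectrum.basicOpen ε : Set (PrimeSpectrum A))) :
    algebraMap A (B g) ε = ind g (g ⁻¹' V) := by
  have hU : IsClopen (g ⁻¹' V) := hV.preimage g.continuous
  apply ext_ev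
  intro y
  rw [AlgHom.commutes]
  have hiff : y.1.2 ∈ g ⁻¹' V ↔ ε ∉ y.1.1.asIdeal := by
    rw [Set.mem_preimage, ← y.2]
    change y.1.1 ∈ _root_.ConnectedComponents.mk ⁻¹' V ↔ _
    rw [hεV]
    rfl
  by_cases hε' : ε ∈ y.1.1.asIdeal
  · rw [ev_ind_of_notMem g hU y (fun h => hiff.mp h hε')]
    exact Groth.Agent.H27.Adm.algebraMap_idem_eq_zero hε y.1.1.asIdeal hε'
  · rw [ev_ind_of_mem g hU y (hiff.mpr hε')]
    exact Groth.Agent.H27.Adm.algebraMap_idem_eq_one hε y.1.1.asIdeal hε'

theorem mk_pOf : _root_.ConnectedComponents.mk (pOf g P) = g (tOf g P) := by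
  haveI : T2Space (_root_.ConnectedComponents (PrimeSpectrum A)) :=
    Groth.Agent.H4.SpectralCC.t2Space_connectedComponents
  by_contra hne
  obtain ⟨V, hV, h1, h2⟩ := exists_isClopen_of_totally_separated hne
  have hW : IsClopen (_root_.ConnectedComponents.mk ⁻¹' V : Set (PrimeSpectrum A)) :=
    hV.preimage ConnectedComponents.continuous_coe
  obtain ⟨ε, hε, hWε⟩ := PrimeSpectrum.isClopen_iff.mp hW
  have heq := algebraMap_idem_eq_ind g hε hV hWε
  have hU : IsClopen (g ⁻¹' V) := hV.preimage g.continuous
  have h3 : ind g (g ⁻¹' V) ∈ P := by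
    by_contra hn
    exact h2 ((ind_notMem_iff g P hU).mp hn)
  rw [← heq] at h3
  have h4 : pOf g P ∈ (_root_.ConnectedComponents.mk ⁻¹' V : Set (PrimeSpectrum A)) := h1
  rw [hWε] at h4
  exact h4 h3

/-- the point of the fibre product attached to a prime -/
noncomputable def ptOf : Y g := ⟨(pOf g P, tOf g P), mk_pOf g P⟩

theorem mem_iff (x : B g) :
    x ∈ P ↔ ev g (ptOf g P) x ∈
      IsLocalRing.maximalIdeal (Localization.AtPrime (ptOf g P).1.1.asIdeal) := by
  obtain ⟨h, rfl⟩ := Lam'_surjective g x
  set t := tOf g P with ht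
  have hU : IsClopen {s | h s = h t} := h.isLocallyConstant.isClopen_fiber (h t)
  have hind : ind g {s | h s = h t} ∉ P := (ind_notMem_iff g P hU).mpr rfl
  have hmul := ind_fiber_mul g h t
  have h1 : Lam' g h ∈ P ↔ algebraMap A (B g) (h t) ∈ P := by
    constructor
    · intro hx
      have : ind g {s | h s = h t} * algebraMap A (B g) (h t) ∈ P := by
        rw [← hmul]; exact P.mul_mem_left _ hx
      rcases hP.mem_or_mem this with h' | h'
      · exact absurd h' hind
      · exact h'
    · intro hx
      have : ind g {s | h s = h t} * Lam' g h ∈ P := by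
        rw [hmul]; exact P.mul_mem_left _ hx
      rcases hP.mem_or_mem this with h' | h'
      · exact absurd h' hind
      · exact h'
  rw [h1, ev_Lam']
  change h t ∈ (ptOf g P).1.1.asIdeal ↔ _
  exact (IsLocalization.AtPrime.to_map_mem_maximal_iff _ (ptOf g P).1.1.asIdeal (h t)).symm

end Prime

/-- the prime of `B g` at a point of the fibre product -/
noncomputable def primeAt (y : Y g) : Ideal (B g) :=
  (IsLocalRing.maximalIdeal (Localization.AtPrime y.1.1.asIdeal)).comap (ev g y)

instance (y : Y g) : (primeAt g y).IsPrime := Ideal.comap_isPrime _ _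

theorem mem_primeAt {y : Y g} {x : B g} :
    x ∈ primeAt g y ↔ ev g y x ∈ IsLocalRing.maximalIdeal (Localization.AtPrime y.1.1.asIdeal) :=
  Iff.rfl

theorem comap_primeAt (y : Y g) : (primeAt g y).comap (algebraMap A (B g)) = y.1.1.asIdeal := by
  ext f
  rw [Ideal.mem_comap, mem_primeAt, AlgHom.commutes]
  exact IsLocalization.AtPrime.to_map_mem_maximal_iff _ y.1.1.asIdeal f

theorem ind_notMem_primeAt_iff (y : Y g) {U : Set T} (hU : IsClopen U) :
    ind g U ∉ primeAt g y ↔ y.1.2 ∈ U := by
  classical
  rw [mem_primeAt, ev_ind g hU]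
  by_cases h : y.1.2 ∈ U
  · rw [if_pos h]
    exact ⟨fun _ => h, fun _ h1 =>
      (Ideal.ne_top_iff_one _).mp (IsLocalRing.maximalIdeal.isMaximal _).ne_top h1⟩
  · rw [if_neg h]
    exact ⟨fun h1 => absurd (Ideal.zero_mem _) h1, fun h1 => absurd h1 h⟩

variable [CompactSpace T] [T2Space T] [TotallyDisconnectedSpace T]

theorem primeAt_ptOf (P : Ideal (B g)) [P.IsPrime] : primeAt g (ptOf g P) = P := by
  ext x
  rw [mem_primeAt, mem_iff g P x]

theorem ptOf_primeAt (y : Y g) : ptOf g (primeAt g y) = y := by
  apply Subtype.ext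
  apply Prod.ext
  · apply PrimeSpectrum.ext
    exact comap_primeAt g y
  · exact (tOf_unique g (primeAt g y) y.1.2 (fun U hU => ind_notMem_primeAt_iff g y hU)).symm

end Groth.Agent.H27.FibRing
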