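import Groth.Agent.H27.WLocal
import Groth.Agent.H27.AdmIdem
import Mathlib.RingTheory.LocalIso
import Mathlib.RingTheory.Spectrum.Maximal.Localization

/-!
# Auxiliary lemmas: idempotents killing elements near a closed union of connected components
-/

set_option autoImplicit false
universe u

namespace Groth.Agent.H27.FibRing

open Set

/-- a closed union of connected components inside an open set is inside a clopen subset of it -/
theorem exists_isClopen_between_of_saturated {X : Type u} [TopologicalSpace X] [SpectralSpace X]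
    {Z O : Set X} (hZ : IsClosed Z) (hsat : ∀ z ∈ Z, connectedComponent z ⊆ Z)
    (hO : IsOpen O) (hZO : Z ⊆ O) : ∃ W : Set X, IsClopen W ∧ Z ⊆ W ∧ W ⊆ O := by
  have key : ∀ z ∈ Z, ∃ W : Set X, IsClopen W ∧ z ∈ W ∧ W ⊆ O := fun z hz =>
    Groth.Agent.H27.WLocal.exists_isClopen_between z hO ((hsat z hz).trans hZO)
  choose! W hWc hzW hWO using key
  obtain ⟨t, htZ, htfin, ht⟩ := hZ.isCompact.elim_finite_subcover_image (b := Z) (c := W)
    (fun z hz => (hWc z hz).2) (fun z hz => Set.mem_biUnion hz (hzW z hz))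
  refine ⟨⋃ z ∈ t, W z, ?_, ht, ?_⟩
  · exact Set.Finite.isClopen_biUnion htfin fun z hz => hWc z (htZ hz)
  · exact Set.iUnion₂_subset fun z hz => hWO z (htZ hz)

variable {A : Type u} [CommRing A]

/-- the locus where an element vanishes in the local ring is open -/
theorem isOpen_setOf_algebraMap_eq_zero (a : A) :
    IsOpen {p : PrimeSpectrum A | algebraMap A (Localization.AtPrime p.asIdeal) a = 0} := by
  rw [isOpen_iff_forall_mem_open]
  intro p hp
  obtain ⟨m, hm⟩ := (IsLocalization.map_eq_zero_iff p.asIdeal.primeCompl _ a).mp hp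
  refine ⟨(PrimeSpectrum.basicOpen (m : A) : Set (PrimeSpectrum A)), ?_,
    (PrimeSpectrum.basicOpen (m : A)).isOpen, m.2⟩
  intro q hq
  exact (IsLocalization.map_eq_zero_iff q.asIdeal.primeCompl _ a).mpr ⟨⟨m.1, hq⟩, hm⟩

/-- an element vanishing in all local rings at maximal ideals vanishes -/
theorem eq_zero_of_forall_maximal (a : A)
    (h : ∀ m : Ideal A, ∀ _ : m.IsMaximal,
      algebraMap A (Localization.AtPrime m) a = 0) : a = 0 := by
  apply MaximalSpectrum.toPiLocalization_injective A
  funext m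
  rw [MaximalSpectrum.toPiLocalization_apply_apply, map_zero]
  exact h m.asIdeal m.isMaximal

/-- an idempotent, nonvanishing on a closed union of components, killing finitely many elements
which vanish locally there -/
theorem exists_idem_kill {Z : Set (PrimeSpectrum A)} (hZ : IsClosed Z)
    (hsat : ∀ z ∈ Z, connectedComponent z ⊆ Z) (G : Finset A)
    (hG : ∀ p ∈ Z, ∀ ρ ∈ G, algebraMap A (Localization.AtPrime p.asIdeal) ρ = 0) :
    ∃ ε : A, IsIdempotentElem ε ∧ (∀ p ∈ Z, ε ∉ p.asIdeal) ∧ ∀ ρ ∈ G, ε * ρ = 0 := by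
  let O : Set (PrimeSpectrum A) :=
    ⋂ ρ ∈ G, {p : PrimeSpectrum A | algebraMap A (Localization.AtPrime p.asIdeal) ρ = 0}
  have hO : IsOpen O := isOpen_biInter_finset fun ρ _ => isOpen_setOf_algebraMap_eq_zero ρ
  have hZO : Z ⊆ O := fun p hp => Set.mem_iInter₂.mpr fun ρ hρ => hG p hp ρ hρ
  obtain ⟨W, hW, hZW, hWO⟩ := exists_isClopen_between_of_saturated hZ hsat hO hZO
  obtain ⟨ε, hε, hWε⟩ := PrimeSpectrum.isClopen_iff.mp hW
  refine ⟨ε, hε, ?_, ?_⟩
  · intro p hp
    have : p ∈ W := hZW hp
    rw [hWε] at this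
    exact this
  · intro ρ hρ
    apply eq_zero_of_forall_maximal
    intro m hm
    haveI := hm.isPrime
    rw [map_mul]
    by_cases hεm : ε ∈ m
    · rw [Groth.Agent.H27.Adm.algebraMap_idem_eq_zero hε m hεm, zero_mul]
    · have : (⟨m, hm.isPrime⟩ : PrimeSpectrum A) ∈ W := by
        rw [hWε]; exact hεm
      have h2 := Set.mem_iInter₂.mp (hWO this) ρ hρ
      rw [show algebraMap A (Localization.AtPrime m) ρ = 0 from h2, mul_zero]

/-- the quotient by `1 - ε` for an idempotent `ε` is a local isomorphism -/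
theorem isLocalIso_quotient_idem {ε : A} (hε : IsIdempotentElem ε) :
    Algebra.IsLocalIso A (A ⧸ Ideal.span {1 - ε}) := by
  have hloc : IsLocalization.Away ε (A ⧸ Ideal.span {1 - ε}) :=
    IsLocalization.Away.quotient_of_isIdempotentElem hε
  haveI : Algebra.IsStandardOpenImmersion A (A ⧸ Ideal.span {1 - ε}) := ⟨⟨ε, hloc⟩⟩
  infer_instance

end Groth.Agent.H27.FibRing
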