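import Groth.Agent.H27.FibRing

/-!
# The spectrum of the ring realizing the fibre product is the fibre product
-/

set_option autoImplicit false
universe u

namespace Groth.Agent.H27.FibRing

open Groth.Agent.H4.SpectralFib

/-- a homeomorphism induces a homeomorphism on spaces of connected components -/
noncomputable def ccHomeo {X Z : Type*} [TopologicalSpace X] [TopologicalSpace Z] (e : X ≃ₜ Z) :
    _root_.ConnectedComponents X ≃ₜ _root_.ConnectedComponents Z where
  toFun := e.continuous.connectedComponentsMap
  invFun := e.symm.continuous.connectedComponentsMap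
  left_inv := by
    intro c
    obtain ⟨x, rfl⟩ := ConnectedComponents.surjective_coe c
    change _root_.ConnectedComponents.mk (e.symm (e x)) = _
    rw [e.symm_apply_apply]
  right_inv := by
    intro c
    obtain ⟨x, rfl⟩ := ConnectedComponents.surjective_coe c
    change _root_.ConnectedComponents.mk (e (e.symm x)) = _
    rw [e.apply_symm_apply]
  continuous_toFun := e.continuous.connectedComponentsMap_continuous
  continuous_invFun := e.symm.continuous.connectedComponentsMap_continuous

theorem ccHomeo_mk {X Z : Type*} [TopologicalSpace X] [TopologicalSpace Z] (e : X ≃ₜ Z) (x : X) :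
    ccHomeo e (_root_.ConnectedComponents.mk x) = _root_.ConnectedComponents.mk (e x) := rfl

variable {A : Type u} [CommRing A] {T : Type u} [TopologicalSpace T]
variable [CompactSpace T] [T2Space T] [TotallyDisconnectedSpace T]
variable (g : C(T, _root_.ConnectedComponents (PrimeSpectrum A)))

/-- the bijection between the spectrum of `B g` and the fibre product -/
noncomputable def specEquiv : PrimeSpectrum (B g) ≃ Y g where
  toFun P := ptOf g P.asIdeal
  invFun y := ⟨primeAt g y, inferInstance⟩
  left_inv P := PrimeSpectrum.ext (primeAt_ptOf g P.asIdeal)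
  right_inv y := ptOf_primeAt g y

theorem specEquiv_apply (P : PrimeSpectrum (B g)) :
    (specEquiv g P).1 = (PrimeSpectrum.comap (algebraMap A (B g)) P, tOf g P.asIdeal) := rfl

theorem continuous_specEquiv : Continuous (specEquiv g) := by
  apply Continuous.subtype_mk
  apply Continuous.prodMk
  · exact PrimeSpectrum.continuous_comap (algebraMap A (B g))
  · rw [isTopologicalBasis_isClopen.continuous_iff]
    intro U hU
    have : (fun P : PrimeSpectrum (B g) => tOf g P.asIdeal) ⁻¹' U =
        (PrimeSpectrum.basicOpen (ind g U) : Set (PrimeSpectrum (B g))) := by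
      ext P
      exact (ind_notMem_iff g P.asIdeal hU).symm
    rw [this]
    exact (PrimeSpectrum.basicOpen (ind g U)).isOpen

theorem continuous_specEquiv_symm : Continuous (specEquiv g).symm := by
  rw [PrimeSpectrum.isTopologicalBasis_basic_opens.continuous_iff]
  rintro _ ⟨x, rfl⟩
  obtain ⟨h, rfl⟩ := Lam'_surjective g x
  rw [isOpen_iff_forall_mem_open]
  intro y0 hy0
  have hy0' : h y0.1.2 ∉ y0.1.1.asIdeal := by
    intro hmem
    apply hy0
    change Lam' g h ∈ primeAt g y0
    rw [mem_primeAt, ev_Lam']
    exact (IsLocalization.AtPrime.to_map_mem_maximal_iff _ y0.1.1.asIdeal _).mpr hmem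
  have hU : IsClopen {s | h s = h y0.1.2} := h.isLocallyConstant.isClopen_fiber _
  refine ⟨{y : Y g | y.1.2 ∈ {s | h s = h y0.1.2} ∧
    y.1.1 ∈ (PrimeSpectrum.basicOpen (h y0.1.2) : Set (PrimeSpectrum A))}, ?_, ?_, ?_⟩
  · rintro y ⟨hy1, hy2⟩
    change Lam' g h ∉ primeAt g y
    rw [mem_primeAt, ev_Lam',
      IsLocalization.AtPrime.to_map_mem_maximal_iff _ y.1.1.asIdeal, show h y.1.2 = h y0.1.2 from hy1]
    exact hy2
  · apply IsOpen.inter
    · exact hU.isOpen.preimage (continuous_snd.comp continuous_subtype_val)
    · exact (PrimeSpectrum.basicOpen (h y0.1.2)).isOpen.preimage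
        (continuous_fst.comp continuous_subtype_val)
  · exact ⟨rfl, hy0'⟩

/-- the spectrum of `B g` is the fibre product -/
noncomputable def specHomeo : PrimeSpectrum (B g) ≃ₜ Y g where
  toEquiv := specEquiv g
  continuous_toFun := continuous_specEquiv g
  continuous_invFun := continuous_specEquiv_symm g

/-- the induced identification of the connected components with `T` -/
noncomputable def eHomeo : _root_.ConnectedComponents (PrimeSpectrum (B g)) ≃ₜ T :=
  (ccHomeo (specHomeo g)).trans (homeo g)

theorem eHomeo_mk (P : PrimeSpectrum (B g)) :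
    eHomeo g (_root_.ConnectedComponents.mk P) = tOf g P.asIdeal := by
  change homeo g (ccHomeo (specHomeo g) (_root_.ConnectedComponents.mk P)) = _
  rw [ccHomeo_mk, homeo_mk]
  rfl

theorem g_eHomeo (P : PrimeSpectrum (B g)) :
    g (eHomeo g (_root_.ConnectedComponents.mk P)) =
      _root_.ConnectedComponents.mk (PrimeSpectrum.comap (algebraMap A (B g)) P) := by
  rw [eHomeo_mk]
  exact (mk_pOf g P.asIdeal).symm

theorem isEmbedding_pair : Topology.IsEmbedding (fun P : PrimeSpectrum (B g) =>
    (PrimeSpectrum.comap (algebraMap A (B g)) P, eHomeo g (_root_.ConnectedComponents.mk P))) := by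
  have : (fun P : PrimeSpectrum (B g) =>
      (PrimeSpectrum.comap (algebraMap A (B g)) P, eHomeo g (_root_.ConnectedComponents.mk P))) =
      Subtype.val ∘ (specHomeo g) := by
    funext P
    rw [eHomeo_mk]
    rfl
  rw [this]
  exact Topology.IsEmbedding.subtypeVal.comp (specHomeo g).isEmbedding

theorem range_pair : Set.range (fun P : PrimeSpectrum (B g) =>
    (PrimeSpectrum.comap (algebraMap A (B g)) P, eHomeo g (_root_.ConnectedComponents.mk P))) =
      {p : PrimeSpectrum A × T | _root_.ConnectedComponents.mk p.1 = g p.2} := by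
  have : (fun P : PrimeSpectrum (B g) =>
      (PrimeSpectrum.comap (algebraMap A (B g)) P, eHomeo g (_root_.ConnectedComponents.mk P))) =
      Subtype.val ∘ (specHomeo g) := by
    funext P
    rw [eHomeo_mk]
    rfl
  rw [this, Set.range_comp, (specHomeo g).surjective.range_eq, Set.image_univ]
  exact Subtype.range_coe

end Groth.Agent.H27.FibRing
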