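import Groth.Agent.H27.FibRingTop
import Groth.Agent.H27.FibRingAux
import Groth.Agent.H27.IndZarK
import Groth.Agent.H27.CoverFactor
import Mathlib.RingTheory.FinitePresentation

/-!
# The ring realizing the fibre product is ind-Zariski
-/

set_option autoImplicit false
universe u

namespace Groth.Agent.H27.FibRing

open Groth.Agent.H4.SpectralFib

variable {A : Type u} [CommRing A] {T : Type u} [TopologicalSpace T]
variable [CompactSpace T] [T2Space T] [TotallyDisconnectedSpace T]
variable (g : C(T, _root_.ConnectedComponents (PrimeSpectrum A)))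

/-- the closed union of connected components lying under a subset of `T` -/
def Zof (V : Set T) : Set (PrimeSpectrum A) := _root_.ConnectedComponents.mk ⁻¹' (g '' V)

omit [T2Space T] [TotallyDisconnectedSpace T] in
theorem isClosed_Zof {V : Set T} (hV : IsClosed V) : IsClosed (Zof g V) := by
  haveI : T2Space (_root_.ConnectedComponents (PrimeSpectrum A)) :=
    Groth.Agent.H4.SpectralCC.t2Space_connectedComponents
  exact ((hV.isCompact.image g.continuous).isClosed).preimage ConnectedComponents.continuous_coe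

omit [CompactSpace T] [T2Space T] [TotallyDisconnectedSpace T] in
theorem Zof_saturated (V : Set T) : ∀ z ∈ Zof g V, connectedComponent z ⊆ Zof g V := by
  intro z hz y hy
  have : (_root_.ConnectedComponents.mk y : _root_.ConnectedComponents (PrimeSpectrum A)) =
      _root_.ConnectedComponents.mk z := ConnectedComponents.coe_eq_coe'.2 hy
  change _root_.ConnectedComponents.mk y ∈ g '' V
  rw [this]
  exact hz

omit [CompactSpace T] [T2Space T] [TotallyDisconnectedSpace T] in
theorem mem_Zof (y : Y g) {V : Set T} (hy : y.1.2 ∈ V) : y.1.1 ∈ Zof g V := by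
  change _root_.ConnectedComponents.mk y.1.1 ∈ g '' V
  rw [y.2]
  exact ⟨y.1.2, hy, rfl⟩

/-- **the factorization property** for the ring realizing the fibre product -/
theorem hasFactorZ : Groth.Agent.H27.IndZarK.HasFactorZ A (B g) := by
  classical
  apply Groth.Agent.H27.IndZarK.hasFactorZ_of_exists
  intro P _ _ _ ψ
  obtain ⟨n, f, hf, G, hG⟩ := Algebra.FinitePresentation.out (R := A) (A := P)
  choose h hh using fun k : Fin n => Lam'_surjective g (ψ (f (MvPolynomial.X k)))
  let Hfun : T → (Fin n → A) := fun t k => h k t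
  have hH : IsLocallyConstant Hfun := by
    rw [IsLocallyConstant.iff_exists_open]
    intro t
    refine ⟨⋂ k : Fin n, {s | h k s = h k t}, ?_, ?_, ?_⟩
    · exact isOpen_iInter_of_finite fun k =>
        ((h k).isLocallyConstant.isClopen_fiber (h k t)).isOpen
    · exact Set.mem_iInter.mpr fun k => rfl
    · intro s hs
      funext k
      exact Set.mem_iInter.mp hs k
  let H : LocallyConstant T (Fin n → A) := ⟨Hfun, hH⟩
  have hfin : (Set.range Hfun).Finite := H.range_finite
  haveI : Finite (Set.range Hfun) := hfin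
  -- the key evaluation formula
  have hev : ∀ (y : Y g) (r : MvPolynomial (Fin n) A), ev g y (ψ (f r)) =
      algebraMap A (Localization.AtPrime y.1.1.asIdeal) (MvPolynomial.aeval (Hfun y.1.2) r) := by
    intro y r
    have : (ev g y).comp (ψ.comp f) =
        (Algebra.ofId A (Localization.AtPrime y.1.1.asIdeal)).comp
          (MvPolynomial.aeval (Hfun y.1.2)) := by
      apply MvPolynomial.algHom_ext
      intro k
      change ev g y (ψ (f (MvPolynomial.X k))) =
        algebraMap A _ (MvPolynomial.aeval (Hfun y.1.2) (MvPolynomial.X k))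
      rw [← hh k, ev_Lam', MvPolynomial.aeval_X]
    exact congrArg (fun φ : MvPolynomial (Fin n) A →ₐ[A] Localization.AtPrime y.1.1.asIdeal => φ r)
      this
  have hGker : ∀ r ∈ G, f r = 0 := by
    intro r hr
    have : r ∈ RingHom.ker f.toRingHom := by
      rw [← hG]; exact Ideal.subset_span hr
    exact this
  -- the idempotents
  have key : ∀ v : Set.range Hfun, ∃ ε : A, IsIdempotentElem ε ∧
      (∀ p ∈ Zof g (Hfun ⁻¹' {v.1}), ε ∉ p.asIdeal) ∧
      ∀ r ∈ G, ε * MvPolynomial.aeval v.1 r = 0 := by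
    intro v
    have hV : IsClosed (Hfun ⁻¹' {v.1}) := (hH.isClopen_fiber v.1).isClosed
    obtain ⟨ε, hε, h1, h2⟩ := exists_idem_kill (isClosed_Zof g hV) (Zof_saturated g _)
      (G.image (fun r => MvPolynomial.aeval v.1 r)) (by
        intro p hp ρ hρ
        obtain ⟨r, hr, rfl⟩ := Finset.mem_image.mp hρ
        obtain ⟨t, ht, hgt⟩ := hp
        let y : Y g := ⟨(p, t), hgt.symm⟩
        have hyv : Hfun y.1.2 = v.1 := ht
        have := hev y r
        rw [hGker r hr, map_zero, map_zero, hyv] at this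
        exact this.symm)
    exact ⟨ε, hε, h1, fun r hr => h2 _ (Finset.mem_image_of_mem _ hr)⟩
  choose ε hε hεZ hεG using key
  haveI : ∀ v : Set.range Hfun, Algebra.IsLocalIso A (A ⧸ Ideal.span {1 - ε v}) :=
    fun v => isLocalIso_quotient_idem (hε v)
  haveI : Algebra.IsLocalIso A (∀ v : Set.range Hfun, A ⧸ Ideal.span {1 - ε v}) :=
    Algebra.IsLocalIso.pi_of_finite A (fun v : Set.range Hfun => A ⧸ Ideal.span {1 - ε v})
  -- the map from the polynomial ring
  let θ' : MvPolynomial (Fin n) A →ₐ[A] (∀ v : Set.range Hfun, A ⧸ Ideal.span {1 - ε v}) :=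
    AlgHom.pi (fun v => (Ideal.Quotient.mkₐ A (Ideal.span {1 - ε v})).comp
      (MvPolynomial.aeval v.1))
  have hθ'G : ∀ r ∈ G, θ' r = 0 := by
    intro r hr
    funext v
    change Ideal.Quotient.mk (Ideal.span {1 - ε v}) (MvPolynomial.aeval v.1 r) = 0
    rw [Ideal.Quotient.eq_zero_iff_mem, Ideal.mem_span_singleton']
    refine ⟨MvPolynomial.aeval v.1 r, ?_⟩
    have := hεG v r hr
    linear_combination (-1 : A) * this
  have hθ'ker : ∀ r, f r = 0 → θ' r = 0 := by
    intro r hr
    have h1 : r ∈ RingHom.ker f.toRingHom := hr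
    rw [← hG] at h1
    have h2 : Ideal.span (G : Set (MvPolynomial (Fin n) A)) ≤ RingHom.ker θ'.toRingHom := by
      rw [Ideal.span_le]
      intro r' hr'
      exact hθ'G r' hr'
    exact h2 h1
  obtain ⟨θ, hθ⟩ := Groth.Agent.H27.CoverFactor.exists_algHom_of_surjective f hf θ' hθ'ker
  -- the map to the product of local rings
  let vOf : Y g → Set.range Hfun := fun y => ⟨Hfun y.1.2, Set.mem_range_self _⟩
  have hloc : ∀ (y : Y g) (a : A), a ∈ Ideal.span {1 - ε (vOf y)} →
      (Algebra.ofId A (Localization.AtPrime y.1.1.asIdeal)) a = 0 := by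
    intro y a ha
    obtain ⟨c, rfl⟩ := Ideal.mem_span_singleton'.mp ha
    change algebraMap A _ (c * (1 - ε (vOf y))) = 0
    have hmem : y.1.1 ∈ Zof g (Hfun ⁻¹' {(vOf y).1}) := mem_Zof g y rfl
    rw [map_mul, map_sub, map_one,
      Groth.Agent.H27.Adm.algebraMap_idem_eq_one (hε (vOf y)) y.1.1.asIdeal
        (hεZ (vOf y) y.1.1 hmem), sub_self, mul_zero]
  let loc : ∀ y : Y g, (A ⧸ Ideal.span {1 - ε (vOf y)}) →ₐ[A] Localization.AtPrime y.1.1.asIdeal :=
    fun y => Ideal.Quotient.liftₐ (Ideal.span {1 - ε (vOf y)})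
      (Algebra.ofId A (Localization.AtPrime y.1.1.asIdeal)) (hloc y)
  let Θ0 : (∀ v : Set.range Hfun, A ⧸ Ideal.span {1 - ε v}) →ₐ[A] ProdF g :=
    AlgHom.pi (fun y => (loc y).comp
      (Pi.evalAlgHom A (fun v : Set.range Hfun => A ⧸ Ideal.span {1 - ε v}) (vOf y)))
  have hΘ0mem : ∀ c, Θ0 c ∈ B g := by
    intro c
    choose b hb using fun v => Ideal.Quotient.mk_surjective (c v)
    let hc : LocallyConstant T A :=
      H.map (fun w => if hw : w ∈ Set.range Hfun then b ⟨w, hw⟩ else 0)
    refine ⟨hc, ?_⟩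
    funext y
    change algebraMap A _ (hc y.1.2) = loc y (c (vOf y))
    have h1 : hc y.1.2 = b (vOf y) := by
      change (if hw : Hfun y.1.2 ∈ Set.range Hfun then b ⟨Hfun y.1.2, hw⟩ else 0) = _
      rw [dif_pos (Set.mem_range_self _)]
    rw [h1, ← hb (vOf y)]
    rfl
  let Θ : (∀ v : Set.range Hfun, A ⧸ Ideal.span {1 - ε v}) →ₐ[A] B g :=
    Θ0.codRestrict (B g) hΘ0mem
  refine ⟨_, inferInstance, inferInstance, inferInstance, θ, Θ, ?_⟩
  apply AlgHom.ext
  intro z
  obtain ⟨r, rfl⟩ := hf z
  apply ext_ev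
  intro y
  rw [hev y r]
  change loc y ((θ (f r)) (vOf y)) = _
  have h1 : θ (f r) = θ' r := congrArg (fun φ : MvPolynomial (Fin n) A →ₐ[A] _ => φ r) hθ
  rw [h1]
  rfl

/-- the ring realizing the fibre product is ind-Zariski -/
theorem isIndZariski : EtPBC.IsIndZariski A (B g) := (hasFactorZ g).isIndZariski

end Groth.Agent.H27.FibRing
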