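import Mathlib
import Groth.Agent.H27.CompLoc

set_option autoImplicit false
universe u

namespace Groth.Agent.H27.LengthSemilocal

open Function

variable {A B : Type u} [CommRing A] [IsLocalRing A] [CommRing B] [Algebra A B]

theorem length_quotient_eq_finrank (n : Ideal B) [n.IsMaximal]
    (h : n.comap (algebraMap A B) = IsLocalRing.maximalIdeal A)
    [Module.Finite (A ⧸ n.comap (algebraMap A B)) (B ⧸ n)] :
    Module.length A (B ⧸ n) = (Module.finrank (A ⧸ n.comap (algebraMap A B)) (B ⧸ n) : ℕ∞) := by
  haveI : (n.comap (algebraMap A B)).IsMaximal := h ▸ inferInstance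
  letI := Ideal.Quotient.field (n.comap (algebraMap A B))
  rw [Module.length_eq_of_surjective (S := A) (R := A ⧸ n.comap (algebraMap A B)) (M := B ⧸ n)
    Ideal.Quotient.mk_surjective]
  rw [Module.length_eq_finrank]

omit [IsLocalRing A] in
theorem length_covBy {M : Type u} [AddCommGroup M] [Module B M] [Module A M] [IsScalarTower A B M]
    {N N' : Submodule B M} (hcov : N ⋖ N') :
    ∃ (I : Ideal B) (_ : I.IsMaximal), N.colon (N' : Set M) = I ∧
      Module.length A N' = Module.length A N + Module.length A (B ⧸ I) := by
  let f : N →ₗ[B] N' := Submodule.inclusion hcov.le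
  have hsimple : IsSimpleModule B (N' ⧸ LinearMap.range f) := by
    rwa [Submodule.range_inclusion, ← covBy_iff_quot_is_simple hcov.le]
  obtain ⟨I, hI, ⟨e⟩⟩ := isSimpleModule_iff_quot_maximal.mp hsimple
  have hann : Module.annihilator B (N' ⧸ LinearMap.range f) = N.colon (N' : Set M) := by
    ext r
    rw [Module.mem_annihilator, Submodule.mem_colon]
    constructor
    · intro hr x hx
      have := hr (Submodule.Quotient.mk ⟨x, hx⟩)
      rw [← Submodule.Quotient.mk_smul, Submodule.Quotient.mk_eq_zero,
        Submodule.range_inclusion] at this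
      exact this
    · intro hr q
      obtain ⟨⟨x, hx⟩, rfl⟩ := Submodule.Quotient.mk_surjective _ q
      rw [← Submodule.Quotient.mk_smul, Submodule.Quotient.mk_eq_zero,
        Submodule.range_inclusion]
      exact hr x hx
  refine ⟨I, hI, ?_, ?_⟩
  · rw [← hann, e.annihilator_eq, I.annihilator_quotient]
  · let g : N' →ₗ[B] B ⧸ I := e.toLinearMap.comp (LinearMap.range f).mkQ
    have h1 : Function.Injective f := Submodule.inclusion_injective _
    have h2 : Function.Surjective g := e.surjective.comp (LinearMap.range f).mkQ_surjective
    have h3 : Function.Exact f g :=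
      LinearMap.exact_iff.mpr ((e.ker_comp (LinearMap.range f).mkQ).trans (LinearMap.range f).ker_mkQ)
    exact Module.length_eq_add_of_exact (f.restrictScalars A) (g.restrictScalars A)
      (by simpa) (by simpa) (by simpa)

variable [Finite (MaximalSpectrum B)]
  (hover : ∀ n : MaximalSpectrum B, n.asIdeal.comap (algebraMap A B) = IsLocalRing.maximalIdeal A)
  (hfin : ∀ n : MaximalSpectrum B,
    Module.Finite (A ⧸ n.asIdeal.comap (algebraMap A B)) (B ⧸ n.asIdeal))
  (M : Type u) [AddCommGroup M] [Module B M] [Module A M] [IsScalarTower A B M]

include hover hfin in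
theorem length_eq_finsum (hM : IsFiniteLength B M) :
    Module.length A M = ∑ᶠ n : MaximalSpectrum B,
      (Module.finrank (A ⧸ n.asIdeal.comap (algebraMap A B)) (B ⧸ n.asIdeal) : ℕ∞) *
        Module.length (Localization.AtPrime n.asIdeal)
          (LocalizedModule n.asIdeal.primeCompl M) := by
  classical
  haveI := Fintype.ofFinite (MaximalSpectrum B)
  obtain ⟨s, h0, h1⟩ := isFiniteLength_iff_exists_compositionSeries.mp hM
  rw [finsum_eq_sum_of_fintype]
  set d : MaximalSpectrum B → ℕ∞ := fun n =>
    (Module.finrank (A ⧸ n.asIdeal.comap (algebraMap A B)) (B ⧸ n.asIdeal) : ℕ∞) with hd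
  have key : ∀ k : Fin (s.length + 1),
      Module.length A (s k) = ∑ n : MaximalSpectrum B, d n *
        Module.length (Localization.AtPrime n.asIdeal)
          (LocalizedModule n.asIdeal.primeCompl (s k)) := by
    intro k
    induction k using Fin.induction with
    | zero =>
      have : s 0 = ⊥ := h0
      rw [this]
      have h2' : Module.length A (⊥ : Submodule B M) = 0 := by
        rw [Module.length_eq_zero_iff]
        infer_instance
      rw [h2']
      symm
      refine Finset.sum_eq_zero fun n _ => ?_
      have h2 : Module.length (Localization.AtPrime n.asIdeal)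
          (LocalizedModule n.asIdeal.primeCompl (⊥ : Submodule B M)) = 0 := by
        rw [Module.length_eq_zero_iff]
        infer_instance
      rw [h2, mul_zero]
    | succ i hi =>
      have hcov := s.step i
      set N := s i.castSucc with hN
      set N' := s i.succ with hN'
      obtain ⟨I, hI, hIcolon, hlen⟩ := length_covBy (A := A) hcov
      let ν : MaximalSpectrum B := ⟨I, hI⟩
      have hL : Module.length A N' = Module.length A N + d ν := by
        haveI := hfin ν
        rw [hlen, length_quotient_eq_finrank (A := A) I (hover ν)]
      rw [hL, hi]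
      have hR : ∀ n : MaximalSpectrum B,
          d n * Module.length (Localization.AtPrime n.asIdeal)
            (LocalizedModule n.asIdeal.primeCompl N') =
          d n * Module.length (Localization.AtPrime n.asIdeal)
            (LocalizedModule n.asIdeal.primeCompl N) + if n = ν then d n else 0 := by
        intro n
        haveI := n.isMaximal
        rw [CompLoc.step n.asIdeal hcov, mul_add, hIcolon]
        congr 1
        by_cases hn : n = ν
        · subst hn
          simp [ν]
        · have : ¬ I = n.asIdeal := fun h => hn (MaximalSpectrum.ext h.symm)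
          rw [if_neg this, if_neg hn, mul_zero]
      rw [Finset.sum_congr rfl fun n _ => hR n, Finset.sum_add_distrib]
      congr 1
      rw [Finset.sum_ite_eq' Finset.univ ν d, if_pos (Finset.mem_univ _)]
  have hlast := key (Fin.last s.length)
  have h3 : s (Fin.last s.length) = ⊤ := h1
  rw [h3] at hlast
  rw [← ((Submodule.topEquiv : (⊤ : Submodule B M) ≃ₗ[B] M).restrictScalars A).length_eq, hlast]
  refine Finset.sum_congr rfl fun n _ => ?_
  haveI := n.isMaximal
  congr 1
  exact CompLoc.length_eq_of_bijective n.asIdeal (⊤ : Submodule B M).subtype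
    ⟨Submodule.injective_subtype _, fun x => ⟨⟨x, trivial⟩, rfl⟩⟩

end Groth.Agent.H27.LengthSemilocal
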