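import Mathlib
import Groth.Agent.H27.LengthSemilocal
import Groth.Agent.H27.DVRModule

universe u

namespace Groth.Agent.H27.FibreLength

open TensorProduct

variable (A B : Type u) [CommRing A] [IsLocalRing A] [CommRing B] [Algebra A B]
  [Module.Free A B] [Module.Finite A B]

omit [Module.Free A B] in
theorem comap_eq (n : Ideal B) [n.IsMaximal] :
    n.comap (algebraMap A B) = IsLocalRing.maximalIdeal A := by
  haveI : Algebra.IsIntegral A B := Algebra.IsIntegral.of_finite A B
  haveI := Ideal.isMaximal_comap_of_isIntegral_of_isMaximal (R := A) n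
  exact IsLocalRing.eq_maximalIdeal inferInstance

omit [Module.Free A B] in
theorem map_le (n : Ideal B) [n.IsMaximal] :
    Ideal.map (algebraMap A B) (IsLocalRing.maximalIdeal A) ≤ n := by
  rw [Ideal.map_le_iff_le_comap, comap_eq]

theorem length_fibre :
    Module.length A (B ⧸ Ideal.map (algebraMap A B) (IsLocalRing.maximalIdeal A)) =
      (Module.finrank A B : ℕ∞) := by
  have h1 := DVRModule.finrank_residue_tensor_eq_length (R := A) B
  rw [Module.finrank_baseChange] at h1
  rw [h1]
  exact ((Submodule.quotEquivOfEq _ _ (Ideal.smul_top_eq_map (R := A) (S := B)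
    (IsLocalRing.maximalIdeal A))).trans
    (Submodule.Quotient.restrictScalarsEquiv A
      (Ideal.map (algebraMap A B) (IsLocalRing.maximalIdeal A)))).length_eq.symm

theorem isFiniteLength_fibre :
    IsFiniteLength A (B ⧸ Ideal.map (algebraMap A B) (IsLocalRing.maximalIdeal A)) := by
  rw [← Module.length_ne_top_iff, length_fibre]
  exact ENat.natCast_ne_top _

include A in
theorem finite_maxSpec : Finite (MaximalSpectrum B) := by
  have hA := isFiniteLength_fibre A B
  rw [isFiniteLength_iff_isNoetherian_isArtinian] at hA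
  haveI := hA.2
  haveI : IsArtinianRing (B ⧸ Ideal.map (algebraMap A B) (IsLocalRing.maximalIdeal A)) :=
    isArtinian_of_tower A inferInstance
  have hfin : (Set.range (PrimeSpectrum.comap (Ideal.Quotient.mk
      (Ideal.map (algebraMap A B) (IsLocalRing.maximalIdeal A))))).Finite := Set.finite_range _
  have hsub : Set.range (MaximalSpectrum.toPrimeSpectrum (R := B)) ⊆
      Set.range (PrimeSpectrum.comap (Ideal.Quotient.mk
        (Ideal.map (algebraMap A B) (IsLocalRing.maximalIdeal A)))) := by
    rintro _ ⟨n, rfl⟩
    rw [range_comap_of_surjective _ _ Ideal.Quotient.mk_surjective, Ideal.mk_ker]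
    exact map_le A B n.asIdeal
  haveI : Finite (Set.range (MaximalSpectrum.toPrimeSpectrum (R := B))) :=
    (hfin.subset hsub).to_subtype
  exact Finite.of_injective_finite_range MaximalSpectrum.toPrimeSpectrum_injective

theorem main (d : ℕ) (hd : Module.finrank A B = d)
    (hres : ∀ (n : Ideal B) [n.IsMaximal]
      (h : Ideal.map (algebraMap A B) (IsLocalRing.maximalIdeal A) ≤ n),
      Function.Bijective (Ideal.quotientMap n (algebraMap A B)
        (Ideal.map_le_iff_le_comap.mp h))) :
    finsum (fun n : {n : MaximalSpectrum B //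
        Ideal.map (algebraMap A B) (IsLocalRing.maximalIdeal A) ≤ n.asIdeal} =>
      Module.length (Localization.AtPrime n.1.asIdeal)
        (LocalizedModule n.1.asIdeal.primeCompl
          (B ⧸ Ideal.map (algebraMap A B) (IsLocalRing.maximalIdeal A)))) = (d : ℕ∞) := by
  haveI := finite_maxSpec A B
  have hover : ∀ n : MaximalSpectrum B,
      n.asIdeal.comap (algebraMap A B) = IsLocalRing.maximalIdeal A :=
    fun n => comap_eq A B n.asIdeal
  have hfin : ∀ n : MaximalSpectrum B,
      Module.Finite (A ⧸ n.asIdeal.comap (algebraMap A B)) (B ⧸ n.asIdeal) :=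
    fun n => Module.Finite.of_restrictScalars_finite A _ _
  have hFL : IsFiniteLength B
      (B ⧸ Ideal.map (algebraMap A B) (IsLocalRing.maximalIdeal A)) := by
    have hA := isFiniteLength_fibre A B
    rw [isFiniteLength_iff_isNoetherian_isArtinian] at hA ⊢
    exact hA.imp (isNoetherian_of_tower A) (isArtinian_of_tower A)
  have key := LengthSemilocal.length_eq_finsum hover hfin
    (B ⧸ Ideal.map (algebraMap A B) (IsLocalRing.maximalIdeal A)) hFL
  rw [length_fibre, hd] at key
  have h1 : ∀ n : MaximalSpectrum B,
      Module.finrank (A ⧸ n.asIdeal.comap (algebraMap A B)) (B ⧸ n.asIdeal) = 1 := by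
    intro n
    have hb := hres n.asIdeal (map_le A B n.asIdeal)
    have hsurj : Function.Surjective
        (Algebra.linearMap (A ⧸ n.asIdeal.comap (algebraMap A B)) (B ⧸ n.asIdeal)) := by
      intro b
      obtain ⟨a, ha⟩ := hb.2 b
      obtain ⟨a, rfl⟩ := Ideal.Quotient.mk_surjective a
      refine ⟨Ideal.Quotient.mk _ a, ?_⟩
      rw [← ha]
      rfl
    have hinj : Function.Injective
        (Algebra.linearMap (A ⧸ n.asIdeal.comap (algebraMap A B)) (B ⧸ n.asIdeal)) :=
      Ideal.quotientMap_injective
    rw [← (LinearEquiv.ofBijective _ ⟨hinj, hsurj⟩).finrank_eq, Module.finrank_self]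
  simp only [h1, Nat.cast_one, one_mul] at key
  rw [key]
  exact finsum_comp_equiv (Equiv.subtypeUnivEquiv (fun n : MaximalSpectrum B =>
    map_le A B n.asIdeal)) (f := fun n : MaximalSpectrum B =>
      Module.length (Localization.AtPrime n.asIdeal)
        (LocalizedModule n.asIdeal.primeCompl
          (B ⧸ Ideal.map (algebraMap A B) (IsLocalRing.maximalIdeal A))))

end Groth.Agent.H27.FibreLength
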