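import Mathlib
import Groth.Agent.Lead.Fitting

/-!
# Zeroth Fitting ideal of Kähler differentials of a global complete intersection

For `B = A[x₁..xₙ]/(f₁..fₙ)`, `Fitt₀(Ω_{B/A})` is generated by the image of the Jacobian
determinant.  Uses `Groth.Agent.Lead.fitt_ideal_eq_minorIdeal` and Mathlib's presentation of
`Ω[B⁄A]` from a presentation of `B`.
-/

namespace Groth.Agent.H27.FittKaehler

open MvPolynomial KaehlerDifferential Groth.Agent.Lead

universe u

theorem det_submatrix_mem {m : Type*} [Fintype m] [DecidableEq m] {R : Type*} [CommRing R]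
    (M : Matrix m m R) (s e : m → m) : (M.submatrix s e).det ∈ Ideal.span {M.det} := by
  by_cases hs : Function.Injective s
  · by_cases he : Function.Injective e
    · let σ : Equiv.Perm m := Equiv.ofBijective s (Finite.injective_iff_bijective.mp hs)
      let τ : Equiv.Perm m := Equiv.ofBijective e (Finite.injective_iff_bijective.mp he)
      have : M.submatrix s e = (M.submatrix σ id).submatrix id τ := by
        ext a b; rfl
      rw [this, Matrix.det_permute', Matrix.det_permute]
      exact Ideal.mul_mem_left _ _ (Ideal.mul_mem_left _ _ (Ideal.mem_span_singleton_self _))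
    · simp only [Function.Injective, not_forall] at he
      obtain ⟨a, b, hab, hne⟩ := he
      have h0 : (M.submatrix s e).det = 0 :=
        Matrix.det_zero_of_column_eq hne (fun k => by
          show M (s k) (e a) = M (s k) (e b)
          rw [hab])
      rw [h0]
      exact zero_mem _
  · simp only [Function.Injective, not_forall] at hs
    obtain ⟨a, b, hab, hne⟩ := hs
    have h0 : (M.submatrix s e).det = 0 :=
      Matrix.det_zero_of_row_eq hne (by
        ext k
        show M (s a) (e k) = M (s b) (e k)
        rw [hab])
    rw [h0]
    exact zero_mem _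

/-- relations among the generators of a presented module, in function form -/
theorem relations_of_isPresentation {B : Type*} [CommRing B] {M : Type*} [AddCommGroup M]
    [Module B M] (rel : Module.Relations B) (sol : rel.Solution M) (h : sol.IsPresentation)
    [Fintype rel.G] :
    relations B sol.var = Submodule.span B (Set.range fun r => ⇑(rel.relation r)) := by
  have h2 := ((Module.Relations.Solution.isPresentation_iff _).mp h).2
  let e := Finsupp.linearEquivFunOnFinite B B rel.G
  have hπ : ∀ v : rel.G →₀ B, sol.π v = Fintype.linearCombination B sol.var (e v) := by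
    intro v
    rw [Module.Relations.Solution.π, Finsupp.linearCombination_apply, Finsupp.sum_fintype _ _
      (by simp), Fintype.linearCombination_apply]
    rfl
  have hset : (Set.range fun r => ⇑(rel.relation r)) = e '' Set.range rel.relation := by
    ext v
    constructor
    · rintro ⟨r, rfl⟩
      exact ⟨_, ⟨r, rfl⟩, rfl⟩
    · rintro ⟨_, ⟨r, rfl⟩, rfl⟩
      exact ⟨r, rfl⟩
  ext v
  rw [relations_eq_ker, LinearMap.mem_ker]
  obtain ⟨w, rfl⟩ := e.surjective v
  rw [← hπ, ← LinearMap.mem_ker, h2, hset]
  have hmap : Submodule.span B (⇑e '' Set.range rel.relation) =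
      (Submodule.span B (Set.range rel.relation)).map (e : (rel.G →₀ B) →ₗ[B] (rel.G → B)) :=
    (Submodule.map_span _ _).symm
  rw [hmap]
  constructor
  · intro hw
    exact Submodule.mem_map_of_mem hw
  · rintro ⟨w', hw', hww'⟩
    rwa [← e.injective hww']

variable (A : Type u) [CommRing A] (n : ℕ) (f : Fin n → MvPolynomial (Fin n) A)

/-- the generators `d x̄ⱼ` -/
noncomputable def dx : Fin n → Ω[(MvPolynomial (Fin n) A ⧸ Ideal.span (Set.range f))⁄A] :=
  fun j => D A _ (Ideal.Quotient.mk (Ideal.span (Set.range f)) (X j))

/-- Jacobian rows modulo the ideal -/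
noncomputable def jrow (i : Fin n) : Fin n → (MvPolynomial (Fin n) A ⧸ Ideal.span (Set.range f)) :=
  fun j => Ideal.Quotient.mk (Ideal.span (Set.range f)) (pderiv j (f i))

theorem span_dx_and_relations :
    Submodule.span (MvPolynomial (Fin n) A ⧸ Ideal.span (Set.range f)) (Set.range (dx A n f)) = ⊤ ∧
    relations (MvPolynomial (Fin n) A ⧸ Ideal.span (Set.range f)) (dx A n f) =
      Submodule.span _ (Set.range (jrow A n f)) := by
  let pres : Algebra.Presentation A (MvPolynomial (Fin n) A ⧸ Ideal.span (Set.range f))
    (Fin n) (Fin n) := Algebra.Presentation.naive (v := f)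
  have hP := pres.differentialsSolution_isPresentation
  have h := (Module.Relations.Solution.isPresentation_iff _).mp hP
  refine ⟨h.1, ?_⟩
  letI : Fintype pres.differentialsRelations.G := inferInstanceAs (Fintype (Fin n))
  have key := relations_of_isPresentation pres.differentialsRelations pres.differentialsSolution hP
  have hj0 : ∀ (r : Fin n) (j : Fin n),
      (pres.differentialsRelations.relation r) j = jrow A n f r j := by
    intro r j
    have h1 : (pres.differentialsRelations.relation r) j = algebraMap pres.Ring _
        (((mvPolynomialBasis A (Fin n)).repr (D A (MvPolynomial (Fin n) A) (pres.relation r))) j) :=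
      rfl
    rw [h1, mvPolynomialBasis_repr_apply]
    rfl
  have hj : (fun r => ⇑(pres.differentialsRelations.relation r)) = jrow A n f :=
    funext fun r => funext fun j => hj0 r j
  rw [hj] at key
  exact key

theorem main : Fitt.ideal (MvPolynomial (Fin n) A ⧸ Ideal.span (Set.range f))
    (Ω[(MvPolynomial (Fin n) A ⧸ Ideal.span (Set.range f))⁄A]) 0 =
    Ideal.span {Ideal.Quotient.mk (Ideal.span (Set.range f))
      (Matrix.det (Matrix.of fun i j : Fin n => MvPolynomial.pderiv j (f i)))} := by
  obtain ⟨h1, h2⟩ := span_dx_and_relations A n f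
  rw [fitt_ideal_eq_minorIdeal (dx A n f) h1 0, h2, minorIdeal_span, Nat.sub_zero]
  set J : Matrix (Fin n) (Fin n) (MvPolynomial (Fin n) A ⧸ Ideal.span (Set.range f)) :=
    Matrix.of fun i j => jrow A n f i j with hJ
  have hdet : Ideal.Quotient.mk (Ideal.span (Set.range f))
      (Matrix.det (Matrix.of fun i j : Fin n => MvPolynomial.pderiv j (f i))) = J.det := by
    rw [RingHom.map_det]
    rfl
  rw [hdet]
  apply le_antisymm
  · rw [Ideal.span_le]
    rintro d ⟨z, e, hz, rfl⟩
    choose s hs using hz
    have : (Matrix.of fun a b => z b (e a)) = (J.submatrix s e).transpose := by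
      ext a b
      simp only [Matrix.of_apply, Matrix.transpose_apply, Matrix.submatrix_apply, hJ, ← hs]
    rw [this, Matrix.det_transpose]
    exact det_submatrix_mem J s e
  · rw [Ideal.span_le, Set.singleton_subset_iff]
    apply Ideal.subset_span
    refine ⟨jrow A n f, id, fun b => ⟨b, rfl⟩, ?_⟩
    rw [← Matrix.det_transpose]
    rfl

end Groth.Agent.H27.FittKaehler
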