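import Mathlib

set_option autoImplicit false

namespace Groth.Agent.H27.FlatDVR

open TensorProduct LinearMap

universe u

section
variable {A : Type u} [CommRing A] (a : A)

/-- If `M/aM` is flat over `A/a`, then tensoring with `M` over `A` preserves injectivity of maps
between `A/a`-modules. -/
lemma rTensor_injective_of_flat_quot
    (M : Type u) [AddCommGroup M] [Module A M]
    (h1 : Module.Flat (A ⧸ Ideal.span {a}) (M ⧸ (Ideal.span {a} • (⊤ : Submodule A M))))
    {X Y : Type u} [AddCommGroup X] [AddCommGroup Y] [Module A X] [Module A Y]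
    [Module (A ⧸ Ideal.span {a}) X] [Module (A ⧸ Ideal.span {a}) Y]
    [IsScalarTower A (A ⧸ Ideal.span {a}) X] [IsScalarTower A (A ⧸ Ideal.span {a}) Y]
    (f : X →ₗ[A] Y) (hf : Function.Injective f) :
    Function.Injective (f.rTensor M) := by
  have hsurj : Function.Surjective (algebraMap A (A ⧸ Ideal.span {a})) :=
    Ideal.Quotient.mk_surjective
  have e : ((A ⧸ Ideal.span {a}) ⊗[A] M) ≃ₗ[A ⧸ Ideal.span {a}]
      (M ⧸ (Ideal.span {a} • (⊤ : Submodule A M))) :=
    (quotTensorEquivQuotSMul M (Ideal.span {a})).extendScalarsOfSurjective hsurj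
  have hflat : Module.Flat (A ⧸ Ideal.span {a}) ((A ⧸ Ideal.span {a}) ⊗[A] M) :=
    Module.Flat.of_linearEquiv e
  let f' : X →ₗ[A ⧸ Ideal.span {a}] Y := f.extendScalarsOfSurjective hsurj
  have hinj : Function.Injective (f'.rTensor ((A ⧸ Ideal.span {a}) ⊗[A] M)) :=
    Module.Flat.rTensor_preserves_injective_linearMap f' hf
  let cX := AlgebraTensorModule.cancelBaseChange A (A ⧸ Ideal.span {a}) (A ⧸ Ideal.span {a}) X M
  let cY := AlgebraTensorModule.cancelBaseChange A (A ⧸ Ideal.span {a}) (A ⧸ Ideal.span {a}) Y M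
  have hcomm : ∀ t, cY (f'.rTensor ((A ⧸ Ideal.span {a}) ⊗[A] M) t) = f.rTensor M (cX t) := by
    intro t
    induction t using TensorProduct.induction_on with
    | zero => simp
    | tmul x y =>
      induction y using TensorProduct.induction_on with
      | zero => simp
      | tmul r m =>
        simp only [cX, cY, f', rTensor_tmul, AlgebraTensorModule.cancelBaseChange_tmul,
          LinearMap.extendScalarsOfSurjective_apply]
        obtain ⟨r, rfl⟩ := hsurj r
        rw [algebraMap_smul, algebraMap_smul, map_smul]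
      | add y1 y2 h1 h2 => simp only [tmul_add, map_add, h1, h2]
    | add t1 t2 h1 h2 => simp only [map_add, h1, h2]
  intro t1 t2 h
  have : cX.symm t1 = cX.symm t2 := by
    apply hinj
    apply cY.injective
    rw [hcomm, hcomm]
    simpa using h
  exact cX.symm.injective this

open Pointwise in
lemma tensor_torsionFree_aux
    (M : Type u) [AddCommGroup M] [Module A M]
    (hM : ∀ m : M, a • m = 0 → m = 0)
    (h1 : Module.Flat (A ⧸ Ideal.span {a}) (M ⧸ (Ideal.span {a} • (⊤ : Submodule A M))))
    (N : Type u) [AddCommGroup N] [Module A N] (hN : ∀ n : N, a • n = 0 → n = 0)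
    (F : Type u) [AddCommGroup F] [Module A F] [Module.Flat A F]
    (p : F →ₗ[A] N) (hp : Function.Surjective p)
    (x : N ⊗[A] M) (hx : a • x = 0) : x = 0 := by
  let ι : LinearMap.ker p →ₗ[A] F := (LinearMap.ker p).subtype
  have hex : Function.Exact ι p := LinearMap.exact_subtype_ker_map p
  have hexM : Function.Exact (ι.rTensor M) (p.rTensor M) := rTensor_exact M hex hp
  obtain ⟨z, rfl⟩ := rTensor_surjective M hp x
  have h2 : p.rTensor M (a • z) = 0 := by rw [map_smul]; exact hx
  obtain ⟨s, hs⟩ := (hexM (a • z)).1 h2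
  -- quotients mod a
  have hsmul : ∀ (L : Type u) [AddCommGroup L] [Module A L] (y : L),
      y ∈ (Ideal.span {a} • (⊤ : Submodule A L)) ↔ ∃ y', a • y' = y := by
    intro L _ _ y
    rw [Submodule.ideal_span_singleton_smul, Submodule.mem_smul_pointwise_iff_exists]
    simp
  have hle : (Ideal.span {a} • (⊤ : Submodule A (LinearMap.ker p))) ≤
      (Ideal.span {a} • (⊤ : Submodule A F)).comap ι := by
    intro y hy
    obtain ⟨y', rfl⟩ := (hsmul _ y).1 hy
    rw [Submodule.mem_comap, map_smul]
    exact (hsmul _ _).2 ⟨_, rfl⟩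
  let qS := (Ideal.span {a} • (⊤ : Submodule A (LinearMap.ker p))).mkQ
  let qF := (Ideal.span {a} • (⊤ : Submodule A F)).mkQ
  let ιbar := Submodule.mapQ _ _ ι hle
  have hιbar : Function.Injective ιbar := by
    rw [← LinearMap.ker_eq_bot, LinearMap.ker_eq_bot']
    intro y hy
    obtain ⟨y, rfl⟩ := Submodule.mkQ_surjective _ y
    rw [Submodule.mkQ_apply, Submodule.mapQ_apply, Submodule.Quotient.mk_eq_zero] at hy
    rw [Submodule.mkQ_apply, Submodule.Quotient.mk_eq_zero]
    obtain ⟨f, hf⟩ := (hsmul _ _).1 hy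
    have hpf : p f = 0 := by
      apply hN
      rw [← map_smul, hf]
      exact y.2
    exact (hsmul _ _).2 ⟨⟨f, hpf⟩, Subtype.ext hf⟩
  have hkill : ∀ t : (F ⧸ (Ideal.span {a} • (⊤ : Submodule A F))) ⊗[A] M,
      a • t = 0 := by
    intro t
    induction t using TensorProduct.induction_on with
    | zero => simp
    | tmul f m =>
      obtain ⟨f, rfl⟩ := Submodule.mkQ_surjective _ f
      rw [smul_tmul', ← map_smul, Submodule.mkQ_apply,
        (Submodule.Quotient.mk_eq_zero _).2 ((hsmul _ _).2 ⟨f, rfl⟩), zero_tmul]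
    | add t1 t2 h1 h2 => rw [smul_add, h1, h2, add_zero]
  have hsq : ιbar ∘ₗ qS = qF ∘ₗ ι := by
    ext y; rfl
  have h3 : (ιbar.rTensor M) ((qS.rTensor M) s) = 0 := by
    rw [← LinearMap.comp_apply, ← LinearMap.rTensor_comp, hsq, LinearMap.rTensor_comp,
      LinearMap.comp_apply, hs, map_smul]
    exact hkill _
  have h4 : qS.rTensor M s = 0 :=
    (rTensor_injective_of_flat_quot a M h1 ιbar hιbar) (by rw [h3, map_zero])
  -- exactness of multiplication by a
  have hexS : Function.Exact (a • (LinearMap.id : LinearMap.ker p →ₗ[A] LinearMap.ker p)) qS := by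
    intro y
    constructor
    · intro hy
      rw [Submodule.mkQ_apply, Submodule.Quotient.mk_eq_zero] at hy
      obtain ⟨y', hy'⟩ := (hsmul _ _).1 hy
      exact ⟨y', by simpa using hy'⟩
    · rintro ⟨y', rfl⟩
      rw [Submodule.mkQ_apply, Submodule.Quotient.mk_eq_zero]
      exact (hsmul _ _).2 ⟨y', by simp⟩
  have hexSM := rTensor_exact M hexS (Submodule.mkQ_surjective _)
  obtain ⟨s', hs'⟩ := (hexSM s).1 h4
  have hs'' : a • s' = s := by
    rw [← hs', LinearMap.rTensor_smul, LinearMap.rTensor_id]
    rfl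
  -- `a` is regular on the free side
  have hFM : ∀ t : F ⊗[A] M, a • t = 0 → t = 0 := by
    intro t ht
    have hinj : Function.Injective ((a • (LinearMap.id : M →ₗ[A] M)).lTensor F) :=
      Module.Flat.lTensor_preserves_injective_linearMap _ (fun m m' h => by
        have : a • (m - m') = 0 := by
          rw [smul_sub]; exact sub_eq_zero.2 (by simpa using h)
        exact sub_eq_zero.1 (hM _ this))
    apply hinj
    rw [map_zero, LinearMap.lTensor_smul, LinearMap.lTensor_id]
    exact ht
  have h5 : ι.rTensor M s' = z := by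
    have : a • (ι.rTensor M s' - z) = 0 := by
      rw [smul_sub, ← map_smul, hs'', hs, sub_self]
    exact sub_eq_zero.1 (hFM _ this)
  rw [← h5]
  exact hexM.apply_apply_eq_zero s'

/-- If `a` is regular on `M` and on `N`, and `M/aM` is flat over `A/a`, then `a` is regular on
`N ⊗ M`. -/
lemma tensor_torsionFree
    (M : Type u) [AddCommGroup M] [Module A M]
    (hM : ∀ m : M, a • m = 0 → m = 0)
    (h1 : Module.Flat (A ⧸ Ideal.span {a}) (M ⧸ (Ideal.span {a} • (⊤ : Submodule A M))))
    (N : Type u) [AddCommGroup N] [Module A N] (hN : ∀ n : N, a • n = 0 → n = 0)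
    (x : N ⊗[A] M) (hx : a • x = 0) : x = 0 :=
  tensor_torsionFree_aux a M hM h1 N hN (N →₀ A) (Finsupp.linearCombination A id)
    (Finsupp.linearCombination_id_surjective A N) x hx

/-- Flatness by fibres along a regular element: if `a` is regular on `A` and on `M`, `M/aM` is flat
over `A/a` and `M[1/a]` is flat over `A[1/a]`, then `M` is flat over `A`. -/
theorem flat_of_flat_quot_of_flat_away
    (M : Type u) [AddCommGroup M] [Module A M]
    (hA : ∀ x : A, a * x = 0 → x = 0)
    (hM : ∀ m : M, a • m = 0 → m = 0)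
    (h1 : Module.Flat (A ⧸ Ideal.span {a}) (M ⧸ (Ideal.span {a} • (⊤ : Submodule A M))))
    (h2 : Module.Flat (Localization.Away a) (LocalizedModule (Submonoid.powers a) M)) :
    Module.Flat A M := by
  rw [Module.Flat.iff_rTensor_injective']
  intro I
  rw [← LinearMap.ker_eq_bot, LinearMap.ker_eq_bot']
  intro x hx
  let ℓ : M →ₗ[A] LocalizedModule (Submonoid.powers a) M :=
    LocalizedModule.mkLinearMap (Submonoid.powers a) M
  have hfl0 : Module.Flat A (Localization.Away a) := IsLocalization.flat _ (Submonoid.powers a)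
  have hflat : Module.Flat A (LocalizedModule (Submonoid.powers a) M) :=
    Module.Flat.trans A (Localization.Away a) _
  have hinj := (Module.Flat.iff_rTensor_injective'.1 hflat) I
  have h3 : ℓ.lTensor I x = 0 := by
    apply hinj
    rw [map_zero, ← LinearMap.comp_apply, LinearMap.rTensor_comp_lTensor,
      ← LinearMap.lTensor_comp_rTensor, LinearMap.comp_apply, hx, map_zero]
  have h4 : (AlgebraTensorModule.rTensor A I ℓ) (TensorProduct.comm A I M x) = 0 := by
    have : ∀ y : I ⊗[A] M, (AlgebraTensorModule.rTensor A I ℓ) (TensorProduct.comm A I M y) =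
        TensorProduct.comm A I _ (ℓ.lTensor I y) := by
      intro y
      induction y using TensorProduct.induction_on with
      | zero => simp
      | tmul i m => simp
      | add y1 y2 h1 h2 => simp only [map_add, h1, h2]
    rw [this, h3, map_zero]
  obtain ⟨⟨_, n, rfl⟩, hc⟩ :=
    (IsLocalizedModule.eq_zero_iff (Submonoid.powers a) (AlgebraTensorModule.rTensor A I ℓ)).1 h4
  have hc' : a ^ n • x = 0 := by
    apply (TensorProduct.comm A I M).injective
    rw [map_smul, map_zero]
    exact hc
  have hI : ∀ y : I, a • y = 0 → y = 0 := fun y hy =>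
    Subtype.ext (hA _ (by simpa using congrArg Subtype.val hy))
  have key : ∀ n : ℕ, ∀ y : I ⊗[A] M, a ^ n • y = 0 → y = 0 := by
    intro n
    induction n with
    | zero => intro y hy; simpa using hy
    | succ n ih =>
      intro y hy
      apply ih
      apply tensor_torsionFree a M hM h1 I hI
      rw [smul_smul, ← pow_succ']
      exact hy
  exact key n x hc'

end

end Groth.Agent.H27.FlatDVR
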