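import Mathlib
import Groth.Agent.H27.NilpFin

set_option autoImplicit false
universe u

namespace Groth.Agent.H27.NilpBasis

open TensorProduct Groth.Agent.H27.NilpFin

section general

variable {R : Type*} [CommRing R]

/-- The multiplication map `I ⊗ F → F`. -/
noncomputable def mulMap (I : Ideal R) (F : Type*) [AddCommGroup F] [Module R F] :
    (I ⊗[R] F) →ₗ[R] F :=
  (TensorProduct.lid R F).toLinearMap ∘ₗ (Submodule.subtype I).rTensor F

@[simp] lemma mulMap_tmul (I : Ideal R) (F : Type*) [AddCommGroup F] [Module R F]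
    (i : I) (f : F) : mulMap I F (i ⊗ₜ f) = (i : R) • f := by
  simp [mulMap]

lemma exists_mulMap_eq (I : Ideal R) {F : Type*} [AddCommGroup F] [Module R F] {k : F}
    (hk : k ∈ I • (⊤ : Submodule R F)) : ∃ t : I ⊗[R] F, mulMap I F t = k := by
  refine Submodule.smul_induction_on hk ?_ ?_
  · intro r hr n _
    exact ⟨(⟨r, hr⟩ : I) ⊗ₜ n, by simp⟩
  · rintro x y ⟨t, rfl⟩ ⟨s, rfl⟩
    exact ⟨t + s, map_add _ _ _⟩

lemma mulMap_naturality (I : Ideal R) {F M : Type*} [AddCommGroup F] [Module R F]
    [AddCommGroup M] [Module R M] (φ : F →ₗ[R] M) (t : I ⊗[R] F) :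
    mulMap I M (φ.lTensor I t) = φ (mulMap I F t) := by
  induction t using TensorProduct.induction_on with
  | zero => simp
  | tmul i f => simp
  | add x y hx hy => simp [hx, hy]

/-- If `I ⊗ M → M` is injective (i.e. `Tor₁(R/I, M) = 0`) and `φ : F → M` is surjective,
then `ker φ ∩ IF = I (ker φ)`. -/
theorem mem_smul_ker_of_rTensor_injective {F M : Type*} [AddCommGroup F] [Module R F]
    [AddCommGroup M] [Module R M] (φ : F →ₗ[R] M) (hφ : Function.Surjective φ) (I : Ideal R)
    (htor : Function.Injective ((Submodule.subtype I).rTensor M)) {k : F} (hk : φ k = 0)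
    (hkI : k ∈ I • (⊤ : Submodule R F)) : k ∈ I • LinearMap.ker φ := by
  obtain ⟨t, rfl⟩ := exists_mulMap_eq I hkI
  have hinj : Function.Injective (mulMap I M) := by
    unfold mulMap
    exact (TensorProduct.lid R M).injective.comp htor
  have h0 : φ.lTensor I t = 0 := by
    apply hinj
    rw [mulMap_naturality, hk, map_zero]
  have hex : Function.Exact ((LinearMap.ker φ).subtype.lTensor I) (φ.lTensor I) :=
    lTensor_exact I (LinearMap.exact_subtype_ker_map φ) hφ
  obtain ⟨t', rfl⟩ := (hex t).mp h0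
  rw [mulMap_naturality]
  clear hk hkI h0
  induction t' using TensorProduct.induction_on with
  | zero => simp
  | tmul i k' =>
    simp only [mulMap_tmul, Submodule.subtype_apply]
    exact Submodule.smul_mem_smul i.2 k'.2
  | add x y hx hy =>
    rw [map_add, map_add]
    exact Submodule.add_mem _ hx hy

end general

section basis

variable (R : Type u) [CommRing R] (I : Ideal R) (M : Type u) [AddCommGroup M] [Module R M]

theorem one_tmul_eq_zero_iff (m : M) :
    ((1 : R ⧸ I) ⊗ₜ[R] m = 0) ↔ m ∈ I • (⊤ : Submodule R M) := by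
  rw [← (quotTensorEquivQuotSMul M I).map_eq_zero_iff, quotTensorEquivQuotSMul_mk_one_tmul,
    Submodule.Quotient.mk_eq_zero]

theorem span_eq_top_of_span_mod (hI : IsNilpotent I) {A : Type*} (x : A → M)
    (hsp : Submodule.span (R ⧸ I) (Set.range fun a => (1 : R ⧸ I) ⊗ₜ[R] x a) = ⊤) :
    Submodule.span R (Set.range x) = ⊤ := by
  rw [eq_top_iff]
  refine le_of_le_sup_smul_of_isNilpotent I hI _ _ ?_
  intro m _
  let q : M →ₗ[R] (R ⧸ I) ⊗[R] M := TensorProduct.mk R (R ⧸ I) M 1
  have h1 : q m ∈ (Submodule.span (R ⧸ I)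
      (Set.range fun a => (1 : R ⧸ I) ⊗ₜ[R] x a)).restrictScalars R := by
    rw [hsp]; trivial
  rw [Submodule.restrictScalars_span R (R ⧸ I) Ideal.Quotient.mk_surjective] at h1
  have h2 : (Set.range fun a => (1 : R ⧸ I) ⊗ₜ[R] x a) = q '' Set.range x := by
    rw [← Set.range_comp]; rfl
  rw [h2, ← Submodule.map_span] at h1
  obtain ⟨n, hn, hnm⟩ := h1
  have h3 : m - n ∈ I • (⊤ : Submodule R M) := by
    rw [← one_tmul_eq_zero_iff]
    change q (m - n) = 0
    rw [map_sub, hnm, sub_self]
  have : m = n + (m - n) := by abel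
  rw [this]
  exact Submodule.add_mem_sup hn h3

theorem basis_of_basis_mod_nilpotent (hI : IsNilpotent I)
    (htor : Function.Injective ((Submodule.subtype I).rTensor M)) {A : Type u} (x : A → M)
    (hli : LinearIndependent (R ⧸ I) (fun a => (1 : R ⧸ I) ⊗ₜ[R] x a))
    (hsp : Submodule.span (R ⧸ I) (Set.range fun a => (1 : R ⧸ I) ⊗ₜ[R] x a) = ⊤) :
    LinearIndependent R x ∧ Submodule.span R (Set.range x) = ⊤ := by
  classical
  have hspan := span_eq_top_of_span_mod R I M hI x hsp
  refine ⟨?_, hspan⟩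
  let φ : (A →₀ R) →ₗ[R] M := Finsupp.linearCombination R x
  have hφ : Function.Surjective φ := by
    rw [← LinearMap.range_eq_top, Finsupp.range_linearCombination, hspan]
  rw [linearIndependent_iff_ker]
  change LinearMap.ker φ = ⊥
  rw [eq_bot_iff]
  refine le_of_le_sup_smul_of_isNilpotent I hI _ _ ?_
  intro k hk
  have hk0 : φ k = 0 := hk
  refine Submodule.mem_sup_right ?_
  refine mem_smul_ker_of_rTensor_injective φ hφ I htor hk0 ?_
  -- all coefficients of `k` lie in `I`
  have hcoef : ∀ a, k a ∈ I := by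
    intro a
    have h1 : Finsupp.linearCombination (R ⧸ I) (fun a => (1 : R ⧸ I) ⊗ₜ[R] x a)
        (Finsupp.mapRange (Ideal.Quotient.mk I) (map_zero _) k) = 0 := by
      have hsm : ∀ (r : R) (m : M), (Ideal.Quotient.mk I r) • ((1 : R ⧸ I) ⊗ₜ[R] m) =
          (1 : R ⧸ I) ⊗ₜ[R] (r • m) := by
        intro r m
        rw [TensorProduct.smul_tmul', smul_eq_mul, mul_one, TensorProduct.tmul_smul,
          TensorProduct.smul_tmul', Algebra.smul_def, mul_one]
        rfl
      rw [Finsupp.linearCombination_apply, Finsupp.sum_mapRange_index (by simp)]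
      simp only [hsm]
      rw [Finsupp.sum, ← TensorProduct.tmul_sum]
      have : ∑ a ∈ k.support, k a • x a = φ k := by
        rw [Finsupp.linearCombination_apply, Finsupp.sum]
      rw [this, hk0, TensorProduct.tmul_zero]
    have h2 := (linearIndependent_iff.mp hli) _ h1
    have h3 := DFunLike.congr_fun h2 a
    rwa [Finsupp.mapRange_apply, Finsupp.zero_apply, Ideal.Quotient.eq_zero_iff_mem] at h3
  have : k = k.sum fun a r => r • Finsupp.single a (1 : R) := by
    conv_lhs => rw [← Finsupp.sum_single k]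
    simp
  rw [this]
  exact Submodule.sum_mem _ fun a _ => Submodule.smul_mem_smul (hcoef a) trivial

theorem basis_mod_of_basis {A : Type u} (x : A → M)
    (hli : LinearIndependent R x) (hsp : Submodule.span R (Set.range x) = ⊤) :
    LinearIndependent (R ⧸ I) (fun a => (1 : R ⧸ I) ⊗ₜ[R] x a) ∧
      Submodule.span (R ⧸ I) (Set.range fun a => (1 : R ⧸ I) ⊗ₜ[R] x a) = ⊤ := by
  let b : Module.Basis A R M := Module.Basis.mk hli hsp.ge
  let b' : Module.Basis A (R ⧸ I) ((R ⧸ I) ⊗[R] M) := b.baseChange (R ⧸ I)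
  have hb' : (fun a => (1 : R ⧸ I) ⊗ₜ[R] x a) = b' := by
    funext a
    simp [b', b, Module.Basis.baseChange_apply]
  rw [hb']
  exact ⟨b'.linearIndependent, b'.span_eq⟩

theorem basis_iff_basis_mod_maximalIdeal [IsLocalRing R]
    (hnil : IsNilpotent (IsLocalRing.maximalIdeal R)) [Module.Flat R M] {A : Type u} (x : A → M) :
    (LinearIndependent R x ∧ Submodule.span R (Set.range x) = ⊤) ↔
      (LinearIndependent (R ⧸ IsLocalRing.maximalIdeal R)
          (fun a => (1 : R ⧸ IsLocalRing.maximalIdeal R) ⊗ₜ[R] x a) ∧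
        Submodule.span (R ⧸ IsLocalRing.maximalIdeal R)
          (Set.range fun a => (1 : R ⧸ IsLocalRing.maximalIdeal R) ⊗ₜ[R] x a) = ⊤) := by
  constructor
  · rintro ⟨h1, h2⟩
    exact basis_mod_of_basis R _ M x h1 h2
  · rintro ⟨h1, h2⟩
    refine basis_of_basis_mod_nilpotent R _ M hnil ?_ x h1 h2
    exact Module.Flat.rTensor_preserves_injective_linearMap _ (Submodule.injective_subtype _)

end basis

end Groth.Agent.H27.NilpBasis
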