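import Mathlib
import Groth.Agent.H27.FlatNilp

set_option autoImplicit false
universe u

namespace Groth.Agent.H27.FlatPow

open TensorProduct
open Function (Injective Surjective Exact)
open Groth.Agent.H27.Tor1 Groth.Agent.H27.FlatNilp

variable {A : Type u} [CommRing A]

/-- If `a` is a nonzerodivisor on `M` and `M/aM` is flat over `A/a`, then `M/aⁿM` is flat over
`A/aⁿ` for all `n ≥ 1`. -/
theorem flat_mod_pow_of_flat_mod (a : A) (M : Type u) [AddCommGroup M] [Module A M]
    (hreg : IsSMulRegular M a)
    (h : Module.Flat (A ⧸ Ideal.span {a}) ((A ⧸ Ideal.span {a}) ⊗[A] M))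
    (n : ℕ) (hn : 1 ≤ n) :
    Module.Flat (A ⧸ (Ideal.span {a} ^ n)) ((A ⧸ (Ideal.span {a} ^ n)) ⊗[A] M) := by
  induction n, hn using Nat.le_induction with
  | base =>
    haveI := h
    exact flat_quotient_of_le M (pow_one (Ideal.span {a})).ge
  | succ n hn ih =>
    haveI := ih
    obtain ⟨K, F, _, _, _, _, _, i, p, -, -, hp⟩ := exists_flat_presentation (R := A) M
    have hJP : Ideal.span {a} ^ (n + 1) ≤ Ideal.span {a} ^ n :=
      Ideal.pow_le_pow_right (Nat.le_succ n)
    have hsq : Ideal.span {a} ^ n * Ideal.span {a} ^ n ≤ Ideal.span {a} ^ (n + 1) := by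
      rw [← pow_add]
      exact Ideal.pow_le_pow_right (by omega)
    refine flat_quotient_of_mem_smul_ker_sup p hp (Ideal.span {a} ^ n) (Ideal.span {a} ^ (n + 1))
      hJP hsq ?_
    intro k hk hkP
    refine Submodule.mem_sup_left ?_
    rw [Ideal.span_singleton_pow, Submodule.ideal_span_singleton_smul] at hkP
    obtain ⟨f, -, rfl⟩ := (Submodule.mem_smul_pointwise_iff_exists _ _ _).mp hkP
    rw [map_smul] at hk
    have hf : p f = 0 := by
      apply (hreg.pow n)
      change a ^ n • p f = a ^ n • 0
      rw [hk, smul_zero]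
    rw [Ideal.span_singleton_pow]
    exact Submodule.smul_mem_smul (Ideal.mem_span_singleton_self _) hf

end Groth.Agent.H27.FlatPow
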