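import Groth.Agent.H27.Basic

set_option autoImplicit false

namespace Groth.Agent.H27

open RootD Finsupp

variable {ι M N : Type*} [AddCommGroup M] [AddCommGroup N] (P : RootPairing ι ℤ M N)

section Form

variable [Fintype ι]

lemma rootForm_mul_pairing (i : ι) (x : M) :
    P.RootForm (P.root i) (P.root i) * P.toLinearMap x (P.coroot i) =
      2 * P.RootForm (P.root i) x := by
  have h := congrArg (P.toLinearMap x) (P.rootForm_self_smul_coroot i)
  rw [map_smul, map_nsmul, P.toLinearMap_apply_apply_Polarization] at h
  simpa using h

lemma rootForm_root_pos (i : ι) : 0 < P.RootForm (P.root i) (P.root i) :=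
  P.rootForm_pos_of_ne_zero (Submodule.subset_span (Set.mem_range_self i)) (P.ne_zero i)

lemma rootForm_comm (x y : M) : P.RootForm x y = P.RootForm y x :=
  (P.rootForm_symmetric.eq y x).symm

lemma rootForm_root_pos_iff (i : ι) (x : M) :
    0 < P.RootForm (P.root i) x ↔ 0 < P.toLinearMap x (P.coroot i) := by
  have h := rootForm_mul_pairing P i x
  have hp := rootForm_root_pos P i
  constructor
  · intro h1
    have : 0 < P.RootForm (P.root i) (P.root i) * P.toLinearMap x (P.coroot i) := by
      rw [h]; positivity
    exact (pos_iff_pos_of_mul_pos this).1 hp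
  · intro h1
    have : 0 < 2 * P.RootForm (P.root i) x := by
      rw [← h]; positivity
    linarith

lemma rootForm_root_nonpos_iff (i : ι) (x : M) :
    P.RootForm (P.root i) x ≤ 0 ↔ P.toLinearMap x (P.coroot i) ≤ 0 := by
  rw [← not_lt, ← not_lt, rootForm_root_pos_iff]

omit [Fintype ι] in
lemma linearCombination_mem_rootSpan (c : ι →₀ ℤ) :
    linearCombination ℤ P.root c ∈ P.rootSpan ℤ := by
  rw [Finsupp.linearCombination_apply, Finsupp.sum]
  exact Submodule.sum_mem _ fun i _ =>
    Submodule.smul_mem _ _ (Submodule.subset_span (Set.mem_range_self i))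

lemma rootForm_linearCombination_left (c : ι →₀ ℤ) (x : M) :
    P.RootForm (linearCombination ℤ P.root c) x = c.sum fun i a => a * P.RootForm (P.root i) x := by
  rw [Finsupp.linearCombination_apply, Finsupp.sum, map_sum, LinearMap.sum_apply, Finsupp.sum]
  refine Finset.sum_congr rfl fun i _ => ?_
  simp

end Form

section Acute

variable [Finite ι]

/-- A nonzero nonnegative combination of roots has positive pairing with one of the coroots
occurring in it. -/
lemma exists_pos_pairing_of_nonneg_comb (c : ι →₀ ℤ) (hc : ∀ i, 0 ≤ c i)
    (hx : linearCombination ℤ P.root c ≠ 0) :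
    ∃ j, 0 < c j ∧ 0 < P.toLinearMap (linearCombination ℤ P.root c) (P.coroot j) := by
  have := Fintype.ofFinite ι
  set x := linearCombination ℤ P.root c with hxdef
  have hpos : 0 < P.RootForm x x :=
    P.rootForm_pos_of_ne_zero (linearCombination_mem_rootSpan P c) hx
  have hsum : P.RootForm x x = c.sum fun i a => a * P.RootForm (P.root i) x := by
    conv_lhs => rw [hxdef]
    exact rootForm_linearCombination_left P c x
  by_contra hcon
  push Not at hcon
  have : P.RootForm x x ≤ 0 := by
    rw [hsum, Finsupp.sum]
    refine Finset.sum_nonpos fun i _ => ?_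
    rcases (hc i).lt_or_eq with h | h
    · have := hcon i h
      have h2 := (rootForm_root_nonpos_iff P i x).2 this
      exact mul_nonpos_of_nonneg_of_nonpos (hc i) h2
    · rw [← h]; simp
  linarith

end Acute

end Groth.Agent.H27
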