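import Groth.Agent.H27.Coxeter

set_option autoImplicit false

namespace Groth.Agent.H27

open RootD Finsupp RootPairing

variable {ι M N : Type*} [AddCommGroup M] [AddCommGroup N] {P : RootPairing ι ℤ M N}

section Finite
variable [Finite ι]

lemma refl_eq_of_root_eq_smul {i j : ι} {t : ℤ} (h : P.root j = t • P.root i) :
    refl P i = refl P j := by
  apply RootPairing.Equiv.weightHom_injective P
  rw [RootPairing.Equiv.weightHom_apply, RootPairing.Equiv.weightHom_apply,
    RootPairing.Equiv.reflection_weightEquiv, RootPairing.Equiv.reflection_weightEquiv]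
  exact reflection_eq_of_root_eq_smul h

lemma refl_ng (i : ι) : refl P (ng P i) = refl P i :=
  (refl_eq_of_root_eq_smul (t := -1) (by rw [root_ng]; simp)).symm

/-- the subgroup generated by the reflections in `Δ'` -/
noncomputable abbrev wsub (P : RootPairing ι ℤ M N) (Δ' : Set ι) : Subgroup P.Aut :=
  Subgroup.closure ((fun i : ι => RootPairing.Equiv.reflection P i) '' Δ')

omit [Finite ι] in
lemma refl_mem_wsub {Δ' : Set ι} {i : ι} (hi : i ∈ Δ') : refl P i ∈ wsub P Δ' :=
  Subgroup.subset_closure ⟨i, hi, rfl⟩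

lemma refl_mem_wsub_of_pos_indiv {Δ : Set ι} (hΔ : IsSimpleSys P Δ) :
    ∀ n : ℕ, ∀ (k : ι) (c : ι →₀ ℤ), (↑c.support ⊆ Δ) → (∀ i, 0 ≤ c i) →
      linearCombination ℤ P.root c = P.root k → csum c = n → IsIndiv P k →
      refl P k ∈ wsub P Δ := by
  intro n
  induction n using Nat.strong_induction_on with
  | _ n ih =>
    intro k c hc1 hc2 hc3 hn hind
    by_cases hkΔ : k ∈ Δ
    · exact refl_mem_wsub hkΔ
    · have hk : k ∈ posOf P Δ := mem_posOf_iff.2 ⟨c, hc1, hc2, hc3⟩
      obtain ⟨i, hiΔ, hip, hpos⟩ := exists_simple_pairing_pos hΔ hk hkΔ hind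
      obtain ⟨c', hc'1, hc'2, hc'3⟩ := mem_posOf_iff.1 hpos
      have hc' : c' = c - P.pairing k i • Finsupp.single i 1 := by
        apply coef_unique hΔ.linInd hc'1
          (support_sub_subset hc1 (support_smul_subset (support_single_subset hiΔ 1) _))
        rw [hc'3, root_reflectionPerm_eq, map_sub, map_smul, hc3,
          Finsupp.linearCombination_single, one_smul]
      have hcs : csum c' = csum c - P.pairing k i := by
        rw [hc', map_sub, map_smul, csum_single, smul_eq_mul, mul_one]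
      have hnn := csum_nonneg hc'2
      have hlt : (csum c').toNat < n := by
        have : ((csum c').toNat : ℤ) = csum c' := Int.toNat_of_nonneg hnn
        omega
      have h1 := ih _ hlt (P.reflectionPerm i k) c' hc'1 hc'2 hc'3
        (Int.toNat_of_nonneg hnn).symm (isIndiv_smul (refl P i) hind)
      have h2 : refl P (P.reflectionPerm i k) = refl P i * refl P k * (refl P i)⁻¹ :=
        refl_smul_eq (refl P i) k
      have h3 : refl P k = (refl P i)⁻¹ * refl P (P.reflectionPerm i k) * refl P i := by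
        rw [h2]; group
      rw [h3]
      exact mul_mem (mul_mem (inv_mem (refl_mem_wsub hiΔ)) h1) (refl_mem_wsub hiΔ)

lemma refl_mem_wsub_of_pos {Δ : Set ι} (hΔ : IsSimpleSys P Δ) {k : ι} (hk : k ∈ posOf P Δ) :
    refl P k ∈ wsub P Δ := by
  classical
  have htf := torsionFree P
  obtain ⟨c, hc1, hc2, hc3⟩ := mem_posOf_iff.1 hk
  by_cases hind : IsIndiv P k
  · exact refl_mem_wsub_of_pos_indiv hΔ _ k c hc1 hc2 hc3
      (Int.toNat_of_nonneg (csum_nonneg hc2)).symm hind
  · unfold IsIndiv at hind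
    push Not at hind
    obtain ⟨j, hj⟩ := hind
    have hjk : refl P j = refl P k := refl_eq_of_root_eq_smul (t := 2) hj.symm
    rw [← hjk]
    obtain ⟨d, hd1, _, hd3⟩ := exists_coef hΔ j
    have hcd : (2 : ℤ) • d = c := by
      apply coef_unique hΔ.linInd (support_smul_subset hd1 _) hc1
      rw [map_smul, hd3, hj, hc3]
    have hc0 : c ≠ 0 := by
      rintro rfl
      rw [map_zero] at hc3
      exact P.ne_zero k hc3.symm
    obtain ⟨l, hl⟩ : ∃ l, c l ≠ 0 := by
      by_contra hcon
      push Not at hcon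
      exact hc0 (Finsupp.ext hcon)
    have hlpos : 0 < c l := lt_of_le_of_ne (hc2 l) (Ne.symm hl)
    have hdl : 0 < d l := by
      have := DFunLike.congr_fun hcd l
      simp only [Finsupp.smul_apply, smul_eq_mul] at this
      omega
    have hjpos : j ∈ posOf P Δ := mem_posOf_of_coef_pos hΔ hd1 hd3 hdl
    obtain ⟨d', hd'1, hd'2, hd'3⟩ := mem_posOf_iff.1 hjpos
    have hjind : IsIndiv P j := by
      intro j' hj'
      have : P.root k = (4 : ℤ) • P.root j' := by
        rw [← hj, ← hj', smul_smul]; norm_num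
      have := eq_of_root_eq_zsmul this
      omega
    exact refl_mem_wsub_of_pos_indiv hΔ _ j d' hd'1 hd'2 hd'3
      (Int.toNat_of_nonneg (csum_nonneg hd'2)).symm hjind

lemma refl_mem_wsub_simple {Δ : Set ι} (hΔ : IsSimpleSys P Δ) (k : ι) :
    refl P k ∈ wsub P Δ := by
  by_cases hk : k ∈ posOf P Δ
  · exact refl_mem_wsub_of_pos hΔ hk
  · rw [← refl_ng]
    exact refl_mem_wsub_of_pos hΔ ((ng_mem_posOf_iff hΔ k).2 hk)

/-- the Weyl group is generated by the simple reflections -/
lemma weylGroup_eq_wsub {Δ : Set ι} (hΔ : IsSimpleSys P Δ) : P.weylGroup = wsub P Δ := by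
  apply le_antisymm
  · unfold RootPairing.weylGroup
    rw [Subgroup.closure_le]
    rintro _ ⟨k, rfl⟩
    exact refl_mem_wsub_simple hΔ k
  · apply Subgroup.closure_mono
    rintro _ ⟨i, _, rfl⟩
    exact ⟨i, rfl⟩

/-- simple transitivity -/
lemma weyl_eq_one_of_maps_pos {Δ : Set ι} (hΔ : IsSimpleSys P Δ) {g : P.Aut}
    (hg : g ∈ P.weylGroup) (hpos : ∀ a ∈ Δ, g • a ∈ posOf P Δ) : g = 1 := by
  rw [weylGroup_eq_wsub hΔ] at hg
  exact eq_one_of_mem_closure_of_maps_pos hΔ hg hpos

/-- S5479 core -/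
lemma aut_existsUnique_weyl {Δ : Set ι} (hΔ : IsSimpleSys P Δ) (u : P.Aut) :
    ∃! w : P.weylGroup, (fun i : ι => ((w : P.Aut)⁻¹ * u) • i) '' Δ = Δ := by
  obtain ⟨g, hgW, hg⟩ := weyl_transitive_simpleSys hΔ (isSimpleSys_smul P u hΔ)
  have himg : ∀ (a b : P.Aut) (S : Set ι), (fun i : ι => (a * b) • i) '' S =
      (fun i : ι => a • i) '' ((fun i : ι => b • i) '' S) := by
    intro a b S
    rw [Set.image_image]
    simp only [mul_smul]
  refine ⟨⟨g, hgW⟩, ?_, ?_⟩
  · change (fun i : ι => (g⁻¹ * u) • i) '' Δ = Δ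
    rw [himg, ← hg, image_inv_image]
  · rintro ⟨w, hwW⟩ hw
    change (fun i : ι => (w⁻¹ * u) • i) '' Δ = Δ at hw
    have h1 : (fun i : ι => (g⁻¹ * w) • i) '' Δ = Δ := by
      conv_lhs => rw [← hw]
      rw [← himg]
      have : g⁻¹ * w * (w⁻¹ * u) = g⁻¹ * u := by group
      rw [this, himg, ← hg, image_inv_image]
    have h2 : g⁻¹ * w = 1 := by
      apply weyl_eq_one_of_maps_pos hΔ (mul_mem (inv_mem hgW) hwW)
      intro a ha
      apply subset_posOf Δ
      rw [← h1]
      exact ⟨a, ha, rfl⟩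
    apply Subtype.ext
    exact (inv_mul_eq_one.1 h2).symm

end Finite

end Groth.Agent.H27
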