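import Mathlib

set_option autoImplicit false

namespace Groth.Agent.H27.HopfEpi

open TensorProduct Coalgebra Bialgebra WithConv

universe u v w

section
variable {k : Type u} [CommRing k] {A : Type v} {B : Type w}
  [CommRing A] [HopfAlgebra k A] [CommRing B] [Bialgebra k B]

/-- `id * antipode = 1` in the convolution monoid of algebra endomorphisms. -/
lemma id_antipode_cancel :
    toConv (AlgHom.id k A) * toConv (HopfAlgebra.antipodeAlgHom k A) = 1 := by
  apply WithConv.ofConv_injective
  apply AlgHom.toLinearMap_injective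
  apply WithConv.toConv_injective
  rw [AlgHom.toLinearMap_convMul, AlgHom.toLinearMap_convOne]
  simp [LinearMap.id_mul_antipode]

/-- Two algebra maps out of a commutative Hopf algebra `A` that agree on the image of a bialgebra
map `f : B → A` with `f(B⁺)A = A⁺` are equal. -/
theorem algHom_eq_of_comp_eq {C : Type*} [CommRing C] [Algebra k C]
    (f : B →ₐc[k] A)
    (hker : Ideal.map f (RingHom.ker (counitAlgHom k B)) = RingHom.ker (counitAlgHom k A))
    (j₁ j₂ : A →ₐ[k] C) (h : j₁.comp (f : B →ₐ[k] A) = j₂.comp (f : B →ₐ[k] A)) : j₁ = j₂ := by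
  let S := HopfAlgebra.antipodeAlgHom k A
  let J₁ : WithConv (A →ₐ[k] C) := toConv j₁
  let J₂ : WithConv (A →ₐ[k] C) := toConv j₂
  let J₁' : WithConv (A →ₐ[k] C) := toConv (j₁.comp S)
  have hone : ∀ j : A →ₐ[k] C, j.comp (1 : WithConv (A →ₐ[k] A)).ofConv =
      (1 : WithConv (A →ₐ[k] C)).ofConv := by
    intro j
    ext a
    simp [AlgHom.convOne_def]
  have h1 : J₁' * J₁ = 1 := by
    have := AlgHom.comp_convMul_distrib j₁ (toConv S) (toConv (AlgHom.id k A))
    rw [AlgHom.antipode_id_cancel, hone] at this
    apply WithConv.ofConv_injective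
    rw [this]
    rfl
  have h1' : J₁ * J₁' = 1 := by
    have := AlgHom.comp_convMul_distrib j₁ (toConv (AlgHom.id k A)) (toConv S)
    rw [id_antipode_cancel, hone] at this
    apply WithConv.ofConv_injective
    rw [this]
    rfl
  -- T = J₁' * J₂ is trivial
  have hT : J₁' * J₂ = 1 := by
    have h2 : (J₁' * J₂).ofConv.comp (f : B →ₐ[k] A) =
        (1 : WithConv (A →ₐ[k] C)).ofConv.comp (f : B →ₐ[k] A) := by
      rw [AlgHom.convMul_comp_bialgHom_distrib, ← h1, AlgHom.convMul_comp_bialgHom_distrib]
      simp only [J₁, J₂]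
      rw [h]
    have h3 : RingHom.ker (counitAlgHom k A) ≤ RingHom.ker ((J₁' * J₂).ofConv : A →+* C) := by
      rw [← hker, Ideal.map_le_iff_le_comap]
      intro b hb
      rw [Ideal.mem_comap, RingHom.mem_ker]
      have := AlgHom.congr_fun h2 b
      simp only [AlgHom.comp_apply] at this
      change (J₁' * J₂).ofConv (f b) = 0
      refine this.trans ?_
      change algebraMap k C (counit (R := k) (f b)) = 0
      have hfb : counit (R := k) (f b) = counit (R := k) b := by
        exact CoalgHomClass.counit_comp_apply f b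
      rw [hfb]
      have : counit (R := k) b = 0 := hb
      rw [this, map_zero]
    apply WithConv.ofConv_injective
    ext y
    have hy : y - algebraMap k A (counit (R := k) y) ∈ RingHom.ker (counitAlgHom k A) := by
      rw [RingHom.mem_ker, map_sub]
      simp
    have := h3 hy
    rw [RingHom.mem_ker, map_sub, sub_eq_zero] at this
    change (J₁' * J₂).ofConv y = _ at this
    rw [this]
    change (J₁' * J₂).ofConv (algebraMap k A (counit (R := k) y)) = algebraMap k C (counit (R := k) y)
    rw [AlgHom.commutes]
  have : J₁ = J₂ := by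
    calc J₁ = J₁ * (J₁' * J₂) := by rw [hT, mul_one]
      _ = (J₁ * J₁') * J₂ := (mul_assoc _ _ _).symm
      _ = J₂ := by rw [h1', one_mul]
  exact congrArg WithConv.ofConv this

/-- A bialgebra map `f : B → A` into a commutative Hopf algebra finite over the base, with
`f(B⁺)A = A⁺` (trivial kernel), is surjective (a closed immersion). -/
theorem surjective_of_ker_trivial [Module.Finite k A]
    (f : B →ₐc[k] A)
    (hker : Ideal.map f (RingHom.ker (counitAlgHom k B)) = RingHom.ker (counitAlgHom k A)) :
    Function.Surjective f := by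
  let _ : Algebra B A := (f : B →+* A).toAlgebra
  have : IsScalarTower k B A := IsScalarTower.of_algebraMap_eq (fun r => ((f : B →ₐ[k] A).commutes r).symm)
  have : Module.Finite B A := Module.Finite.of_restrictScalars_finite k B A
  have hepi : Algebra.IsEpi B A := by
    rw [Algebra.isEpi_iff_forall_one_tmul_eq]
    intro a
    let j₁ : A →ₐ[k] A ⊗[B] A :=
      (Algebra.TensorProduct.includeLeft : A →ₐ[B] A ⊗[B] A).restrictScalars k
    let j₂ : A →ₐ[k] A ⊗[B] A :=
      (Algebra.TensorProduct.includeRight : A →ₐ[B] A ⊗[B] A).restrictScalars k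
    have h : j₁.comp (f : B →ₐ[k] A) = j₂.comp (f : B →ₐ[k] A) := by
      ext b
      change (f b) ⊗ₜ[B] (1 : A) = (1 : A) ⊗ₜ[B] (f b)
      have hfb : f b = b • (1 : A) := by
        rw [Algebra.smul_def, mul_one]; rfl
      rw [hfb, TensorProduct.smul_tmul]
    have := algHom_eq_of_comp_eq f hker j₁ j₂ h
    exact (AlgHom.congr_fun this a).symm
  exact (Algebra.isEpi_iff_surjective_algebraMap_of_finite).1 hepi

end

end Groth.Agent.H27.HopfEpi
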