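import Mathlib
import Groth.Agent.H27.HopfKaehlerR

set_option autoImplicit false

namespace Groth.Agent.H27.HopfEtale

open TensorProduct Coalgebra Bialgebra HopfAlgebra Groth.Agent.H27.HopfKaehlerR

universe u v

variable (R : Type u) [CommRing R] (A : Type v) [CommRing A] [HopfAlgebra R A]

theorem subsingleton_V_iff :
    Subsingleton (V R A) ↔ augI R A ^ 2 = augI R A := by
  rw [Submodule.Quotient.subsingleton_iff]
  constructor
  · intro h
    refine le_antisymm (Ideal.pow_le_self two_ne_zero) ?_
    intro x hx
    have hxW : x ∈ W R A := h ▸ Submodule.mem_top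
    obtain ⟨y, hy, z, hz, rfl⟩ := Submodule.mem_sup.mp hxW
    obtain ⟨r, rfl⟩ := Submodule.mem_span_singleton.mp hy
    have hz' : z ∈ augI R A ^ 2 := hz
    have hzI : z ∈ augI R A := Ideal.pow_le_self two_ne_zero hz'
    have h1 : counitAlgHom R A (r • (1 : A) + z) = 0 := hx
    rw [map_add, RingHom.mem_ker.mp hzI, add_zero, map_smul, map_one, smul_eq_mul, mul_one] at h1
    rw [h1, zero_smul, zero_add]
    exact hz'
  · intro h
    rw [eq_top_iff]
    intro x _
    have : x = algebraMap R A (counit (R := R) x) + (x - algebraMap R A (counit (R := R) x)) := by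
      ring
    rw [this]
    refine Submodule.add_mem_sup ?_ ?_
    · rw [Algebra.algebraMap_eq_smul_one]
      exact Submodule.smul_mem _ _ (Submodule.mem_span_singleton_self 1)
    · change _ ∈ augI R A ^ 2
      rw [h]
      exact sub_counit_mem x

theorem subsingleton_kaehler_iff :
    Subsingleton (Ω[A⁄R]) ↔ Subsingleton (V R A) := by
  constructor
  · intro h
    have h1 : Subsingleton (A ⊗[R] V R A) := (kaehlerEquiv R A).symm.injective.subsingleton
    -- `V → A ⊗ V → R ⊗ V ≃ V` is the identity
    let f : V R A →ₗ[R] A ⊗[R] V R A := (TensorProduct.mk R A (V R A)) 1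
    let g : A ⊗[R] V R A →ₗ[R] V R A :=
      (TensorProduct.lid R (V R A)).toLinearMap ∘ₗ (counit (R := R) (A := A)).rTensor (V R A)
    have hgf : ∀ v, g (f v) = v := by
      intro v
      simp [f, g]
    refine ⟨fun a b => ?_⟩
    rw [← hgf a, ← hgf b, Subsingleton.elim (f a) (f b)]
  · intro h
    have h1 : Subsingleton (A ⊗[R] V R A) := by
      refine ⟨fun a b => ?_⟩
      have : ∀ t : A ⊗[R] V R A, t = 0 := by
        intro t
        induction t using TensorProduct.induction_on with
        | zero => rfl
        | tmul a v => rw [Subsingleton.elim v 0, tmul_zero]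
        | add x y hx hy => rw [hx, hy, add_zero]
      rw [this a, this b]
    exact (kaehlerEquiv R A).injective.subsingleton

theorem etale_iff [Module.Finite R A] [Module.Projective R A] :
    Algebra.Etale R A ↔
      RingHom.ker (Bialgebra.counitAlgHom R A) ^ 2 = RingHom.ker (Bialgebra.counitAlgHom R A) := by
  rw [← subsingleton_V_iff, ← subsingleton_kaehler_iff]
  constructor
  · intro h
    infer_instance
  · intro h
    haveI : Algebra.FormallyUnramified R A := ⟨h⟩
    haveI : Module.FinitePresentation R A := Module.finitePresentation_of_projective R A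
    haveI : Algebra.FinitePresentation R A := inferInstance
    exact Algebra.Etale.of_formallyUnramified_of_flat

end Groth.Agent.H27.HopfEtale
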