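import Mathlib

set_option autoImplicit false

namespace Groth.Agent.H27.HopfKaehler

open TensorProduct Coalgebra Bialgebra HopfAlgebra

universe u v

variable (K : Type u) [Field K] (B : Type v) [CommRing B] [HopfAlgebra K B]

/-- the augmentation ideal -/
abbrev augI : Ideal B := RingHom.ker (counitAlgHom K B)

/-- `K·1 + I²` -/
def W : Submodule K B := Submodule.span K {1} ⊔ ((augI K B) ^ 2).restrictScalars K

/-- the cotangent space at the unit, as `B / (K·1 + I²)` -/
abbrev V := B ⧸ W K B

/-- the projection -/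
def pbar : B →ₗ[K] V K B := (W K B).mkQ

variable {K B}

lemma sub_counit_mem (x : B) : x - algebraMap K B (counit (R := K) x) ∈ augI K B := by
  rw [RingHom.mem_ker, map_sub]
  simp

lemma pbar_mul (x y : B) :
    pbar K B (x * y) = counit (R := K) x • pbar K B y + counit (R := K) y • pbar K B x := by
  rw [← sub_eq_zero, ← map_smul, ← map_smul, ← map_add, ← map_sub]
  unfold pbar
  rw [Submodule.mkQ_apply, Submodule.Quotient.mk_eq_zero]
  have h : x * y - (counit (R := K) x • y + counit (R := K) y • x) =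
      (-(counit (R := K) x * counit (R := K) y)) • (1 : B) +
        (x - algebraMap K B (counit (R := K) x)) * (y - algebraMap K B (counit (R := K) y)) := by
    simp only [Algebra.smul_def, map_neg, map_mul]
    ring
  rw [h]
  refine Submodule.add_mem_sup (Submodule.smul_mem _ _ (Submodule.subset_span rfl)) ?_
  rw [Submodule.restrictScalars_mem, pow_two]
  exact Ideal.mul_mem_mul (sub_counit_mem x) (sub_counit_mem y)

/-- `(id ⊗ pbar)` is a "derivation along the counit" -/
lemma lTensor_pbar_mul (s t : B ⊗[K] B) :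
    (pbar K B).lTensor B (s * t) =
      (TensorProduct.rid K B ((counit (R := K) (A := B)).lTensor B s)) • (pbar K B).lTensor B t +
        (TensorProduct.rid K B ((counit (R := K) (A := B)).lTensor B t)) • (pbar K B).lTensor B s := by
  induction s using TensorProduct.induction_on with
  | zero => simp
  | add s₁ s₂ h₁ h₂ =>
    rw [add_mul, map_add, h₁, h₂]
    simp only [map_add, add_smul, smul_add]
    abel
  | tmul a x =>
    induction t using TensorProduct.induction_on with
    | zero => simp
    | add t₁ t₂ h₁ h₂ =>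
      rw [mul_add, map_add, h₁, h₂]
      simp only [map_add, add_smul, smul_add]
      abel
    | tmul b y =>
      simp only [Algebra.TensorProduct.tmul_mul_tmul, LinearMap.lTensor_tmul, pbar_mul,
        TensorProduct.rid_tmul, tmul_add, tmul_smul, TensorProduct.smul_tmul', smul_eq_mul]
      congr 1
      · rw [smul_mul_assoc]
      · rw [smul_mul_assoc, mul_comm]

variable (K B) in
/-- the derivation `b ↦ Σ b₁ ⊗ [b₂]` -/
noncomputable def dT : Derivation K B (B ⊗[K] V K B) :=
  Derivation.mk' ((pbar K B).lTensor B ∘ₗ comul) (by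
    intro a b
    simp only [LinearMap.comp_apply, Bialgebra.comul_mul]
    rw [lTensor_pbar_mul, Coalgebra.lTensor_counit_comul, Coalgebra.lTensor_counit_comul]
    simp only [TensorProduct.rid_tmul, one_smul])

lemma dT_apply (b : B) : dT K B b = (pbar K B).lTensor B (comul (R := K) b) := rfl

variable (K B) in
/-- `a ⊗ b ↦ S(a) • D b` -/
noncomputable def mΩ : B ⊗[K] B →ₗ[K] Ω[B⁄K] :=
  TensorProduct.lift (LinearMap.mk₂ K (fun a b => antipode K a • KaehlerDifferential.D K B b)
    (fun a a' b => by rw [map_add, add_smul])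
    (fun c a b => by rw [map_smul, smul_assoc])
    (fun a b b' => by rw [map_add, smul_add])
    (fun c a b => by rw [Derivation.map_smul, smul_comm]))

@[simp] lemma mΩ_tmul (a b : B) :
    mΩ K B (a ⊗ₜ b) = antipode K a • KaehlerDifferential.D K B b := rfl

lemma mΩ_mul (s t : B ⊗[K] B) :
    mΩ K B (s * t) =
      (LinearMap.mul' K B ((antipode K).rTensor B s)) • mΩ K B t +
        (LinearMap.mul' K B ((antipode K).rTensor B t)) • mΩ K B s := by
  induction s using TensorProduct.induction_on with
  | zero => simp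
  | add s₁ s₂ h₁ h₂ =>
    rw [add_mul, map_add, h₁, h₂]
    simp only [map_add, add_smul, smul_add]
    abel
  | tmul a b =>
    induction t using TensorProduct.induction_on with
    | zero => simp
    | add t₁ t₂ h₁ h₂ =>
      rw [mul_add, map_add, h₁, h₂]
      simp only [map_add, add_smul, smul_add]
      abel
    | tmul c e =>
      simp only [Algebra.TensorProduct.tmul_mul_tmul, mΩ_tmul, LinearMap.rTensor_tmul,
        LinearMap.mul'_apply, antipode_mul_distrib, Derivation.leibniz, smul_add, smul_smul]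
      congr 1
      · congr 1; ring
      · congr 1; ring

variable (K B) in
/-- the invariant differential `x ↦ Σ S(x₁) D(x₂)` -/
noncomputable def ω : B →ₗ[K] Ω[B⁄K] := mΩ K B ∘ₗ comul

lemma ω_mul (x y : B) :
    ω K B (x * y) = counit (R := K) x • ω K B y + counit (R := K) y • ω K B x := by
  simp only [ω, LinearMap.comp_apply, Bialgebra.comul_mul]
  rw [mΩ_mul, mul_antipode_rTensor_comul_apply, mul_antipode_rTensor_comul_apply,
    algebraMap_smul, algebraMap_smul]

lemma ω_one : ω K B 1 = 0 := by
  simp [ω, Bialgebra.comul_one, Algebra.TensorProduct.one_def]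

lemma W_le_ker_ω : W K B ≤ LinearMap.ker (ω K B) := by
  unfold W
  refine sup_le ?_ ?_
  · rw [Submodule.span_le]
    rintro _ rfl
    exact ω_one
  · intro z hz
    rw [Submodule.restrictScalars_mem, pow_two] at hz
    rw [LinearMap.mem_ker]
    refine Submodule.mul_induction_on hz ?_ ?_
    · intro x hx y hy
      have hx' : counit (R := K) x = 0 := hx
      have hy' : counit (R := K) y = 0 := hy
      rw [ω_mul, hx', hy', zero_smul, zero_smul, add_zero]
    · intro x y hx hy
      rw [map_add, hx, hy, add_zero]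

variable (K B) in
/-- `V → Ω` -/
noncomputable def φ₀ : V K B →ₗ[K] Ω[B⁄K] := (W K B).liftQ (ω K B) W_le_ker_ω

lemma φ₀_pbar (x : B) : φ₀ K B (pbar K B x) = ω K B x := rfl

variable (K B) in
/-- `B ⊗ V → Ω` -/
noncomputable def φ : B ⊗[K] V K B →ₗ[B] Ω[B⁄K] := (φ₀ K B).liftBaseChange B

variable (K B) in
/-- `Ω → B ⊗ V` -/
noncomputable def ψ : Ω[B⁄K] →ₗ[B] B ⊗[K] V K B := (dT K B).liftKaehlerDifferential

lemma ψ_D (b : B) : ψ K B (KaehlerDifferential.D K B b) = dT K B b :=
  Derivation.liftKaehlerDifferential_comp_D _ _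

variable (K B) in
/-- `a ⊗ s ↦ a • mΩ s` -/
noncomputable def T3 : B ⊗[K] (B ⊗[K] B) →ₗ[K] Ω[B⁄K] :=
  TensorProduct.lift (LinearMap.mk₂ K (fun a s => a • mΩ K B s)
    (fun a a' s => by rw [add_smul])
    (fun c a s => by rw [smul_assoc])
    (fun a s s' => by rw [map_add, smul_add])
    (fun c a s => by rw [map_smul, smul_comm]))

@[simp] lemma T3_tmul (a : B) (s : B ⊗[K] B) : T3 K B (a ⊗ₜ s) = a • mΩ K B s := rfl

lemma T3_assoc_tmul (s : B ⊗[K] B) (c : B) :
    T3 K B (TensorProduct.assoc K B B B (s ⊗ₜ c)) =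
      (LinearMap.mul' K B ((antipode K).lTensor B s)) • KaehlerDifferential.D K B c := by
  induction s using TensorProduct.induction_on with
  | zero => simp
  | add s₁ s₂ h₁ h₂ => simp only [add_tmul, map_add, h₁, h₂, add_smul]
  | tmul a b =>
    simp only [TensorProduct.assoc_tmul, T3_tmul, mΩ_tmul, LinearMap.lTensor_tmul,
      LinearMap.mul'_apply, smul_smul]

lemma φ_lTensor_pbar (t : B ⊗[K] B) :
    φ K B ((pbar K B).lTensor B t) = T3 K B ((comul (R := K) (A := B)).lTensor B t) := by
  induction t using TensorProduct.induction_on with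
  | zero => simp
  | add t₁ t₂ h₁ h₂ => simp only [map_add, h₁, h₂]
  | tmul a x =>
    simp only [LinearMap.lTensor_tmul, T3_tmul]
    rw [φ, LinearMap.liftBaseChange_tmul, φ₀_pbar]
    rfl

lemma T3_assoc_rTensor (t : B ⊗[K] B) :
    T3 K B (TensorProduct.assoc K B B B ((comul (R := K) (A := B)).rTensor B t)) =
      KaehlerDifferential.D K B (TensorProduct.lid K B ((counit (R := K) (A := B)).rTensor B t)) := by
  induction t using TensorProduct.induction_on with
  | zero => simp
  | add t₁ t₂ h₁ h₂ => simp only [map_add, h₁, h₂]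
  | tmul x c =>
    rw [LinearMap.rTensor_tmul, T3_assoc_tmul, mul_antipode_lTensor_comul_apply,
      LinearMap.rTensor_tmul, TensorProduct.lid_tmul, Derivation.map_smul, algebraMap_smul]

lemma φ_dT (b : B) : φ K B (dT K B b) = KaehlerDifferential.D K B b := by
  rw [dT_apply, φ_lTensor_pbar, ← Coalgebra.coassoc_apply, T3_assoc_rTensor,
    Coalgebra.rTensor_counit_comul, TensorProduct.lid_tmul, one_smul]

lemma φ_comp_ψ : φ K B ∘ₗ ψ K B = LinearMap.id := by
  apply Derivation.liftKaehlerDifferential_unique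
  ext b
  change φ K B (ψ K B (KaehlerDifferential.D K B b)) = KaehlerDifferential.D K B b
  rw [ψ_D, φ_dT]

variable (K B) in
/-- `a ⊗ s ↦ S(a) • (id ⊗ pbar) s` -/
noncomputable def U3 : B ⊗[K] (B ⊗[K] B) →ₗ[K] B ⊗[K] V K B :=
  TensorProduct.lift (LinearMap.mk₂ K (fun a s => antipode K a • (pbar K B).lTensor B s)
    (fun a a' s => by rw [map_add, add_smul])
    (fun c a s => by rw [map_smul, smul_assoc])
    (fun a s s' => by rw [map_add, smul_add])
    (fun c a s => by rw [map_smul, smul_comm]))

@[simp] lemma U3_tmul (a : B) (s : B ⊗[K] B) :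
    U3 K B (a ⊗ₜ s) = antipode K a • (pbar K B).lTensor B s := rfl

lemma U3_assoc_tmul (s : B ⊗[K] B) (c : B) :
    U3 K B (TensorProduct.assoc K B B B (s ⊗ₜ c)) =
      (LinearMap.mul' K B ((antipode K).rTensor B s)) ⊗ₜ[K] pbar K B c := by
  induction s using TensorProduct.induction_on with
  | zero => simp
  | add s₁ s₂ h₁ h₂ => simp only [add_tmul, map_add, h₁, h₂]
  | tmul a b =>
    simp only [TensorProduct.assoc_tmul, U3_tmul, LinearMap.lTensor_tmul, LinearMap.rTensor_tmul,
      LinearMap.mul'_apply, TensorProduct.smul_tmul', smul_eq_mul]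

lemma ψ_mΩ (t : B ⊗[K] B) :
    ψ K B (mΩ K B t) = U3 K B ((comul (R := K) (A := B)).lTensor B t) := by
  induction t using TensorProduct.induction_on with
  | zero => simp
  | add t₁ t₂ h₁ h₂ => simp only [map_add, h₁, h₂]
  | tmul a b =>
    simp only [mΩ_tmul, map_smul, ψ_D, dT_apply, LinearMap.lTensor_tmul, U3_tmul]

lemma U3_assoc_rTensor (t : B ⊗[K] B) :
    U3 K B (TensorProduct.assoc K B B B ((comul (R := K) (A := B)).rTensor B t)) =
      (1 : B) ⊗ₜ[K] pbar K B (TensorProduct.lid K B ((counit (R := K) (A := B)).rTensor B t)) := by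
  induction t using TensorProduct.induction_on with
  | zero => simp
  | add t₁ t₂ h₁ h₂ => simp only [map_add, tmul_add, h₁, h₂]
  | tmul x c =>
    rw [LinearMap.rTensor_tmul, U3_assoc_tmul, mul_antipode_rTensor_comul_apply,
      LinearMap.rTensor_tmul, TensorProduct.lid_tmul, map_smul, Algebra.algebraMap_eq_smul_one,
      TensorProduct.smul_tmul]

lemma ψ_ω (x : B) : ψ K B (ω K B x) = (1 : B) ⊗ₜ[K] pbar K B x := by
  rw [ω, LinearMap.comp_apply, ψ_mΩ, ← Coalgebra.coassoc_apply, U3_assoc_rTensor,
    Coalgebra.rTensor_counit_comul, TensorProduct.lid_tmul, one_smul]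

lemma ψ_comp_φ : ψ K B ∘ₗ φ K B = LinearMap.id := by
  apply LinearMap.ext
  intro t
  induction t using TensorProduct.induction_on with
  | zero => simp
  | add t₁ t₂ h₁ h₂ => simp only [map_add, h₁, h₂]
  | tmul a v =>
    obtain ⟨x, rfl⟩ := (W K B).mkQ_surjective v
    change ψ K B (φ K B (a ⊗ₜ pbar K B x)) = a ⊗ₜ pbar K B x
    rw [φ, LinearMap.liftBaseChange_tmul, φ₀_pbar, map_smul, ψ_ω, TensorProduct.smul_tmul',
      smul_eq_mul, mul_one]

variable (K B) in
/-- `Ω_{B/K} ≃ B ⊗ (I/I²)` -/
noncomputable def kaehlerEquiv : Ω[B⁄K] ≃ₗ[B] B ⊗[K] V K B :=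
  LinearEquiv.ofLinearMap (ψ K B) (φ K B) ψ_comp_φ φ_comp_ψ

variable (K B) in
theorem free_kaehler : Module.Free B (Ω[B⁄K]) :=
  Module.Free.of_equiv (kaehlerEquiv K B).symm

end Groth.Agent.H27.HopfKaehler
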