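import Mathlib
import Groth.Prelude.Def_SGA3
import Groth.Agent.S8220
import Groth.Agent.H83.Antipode
import Groth.Agent.H74.HopfTrace

set_option autoImplicit false

namespace Groth.Agent.H27

open TensorProduct Coalgebra Bialgebra HopfAlgebra

universe u

variable (k : Type u) [Field k] (A : Type u) [CommRing A] [HopfAlgebra k A]

/-- S5375 core -/
theorem exists_fg_hopfSubalgebra (x : A) :
    ∃ B : Subalgebra k A, x ∈ B ∧ B.FG ∧ SGA3.IsHopfSubalgebra k A B := by
  classical
  obtain ⟨B₀, hfin, hx, hB₀⟩ := Groth.Agent.S8220.result (k := k) (A := A) {x}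
  have hxB₀ : x ∈ B₀ := hx (by simp)
  obtain ⟨G, hG⟩ := (Module.Finite.iff_fg.1 hfin)
  let S : A →ₐ[k] A := antipodeAlgHom k A
  have hS : ∀ a, S a = antipode k a := fun a => rfl
  -- the generating set
  let gens : Set A := (↑G : Set A) ∪ S '' (↑G : Set A)
  let B : Subalgebra k A := Algebra.adjoin k gens
  have hGB : (↑G : Set A) ⊆ B := fun g hg => Algebra.subset_adjoin (Or.inl hg)
  have hSGB : S '' (↑G : Set A) ⊆ B := fun g hg => Algebra.subset_adjoin (Or.inr hg)
  have hB₀B : B₀ ≤ Subalgebra.toSubmodule B := by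
    rw [← hG, Submodule.span_le]
    exact hGB
  have hSB₀B : ∀ b ∈ B₀, antipode k b ∈ B := by
    intro b hb
    rw [← hG] at hb
    induction hb using Submodule.span_induction with
    | mem b hb => exact hSGB ⟨b, hb, rfl⟩
    | zero => rw [map_zero]; exact zero_mem _
    | add a b _ _ ha hb => rw [map_add]; exact add_mem ha hb
    | smul c a _ ha => rw [map_smul]; exact Subalgebra.smul_mem _ ha c
  refine ⟨B, hB₀B hxB₀, ⟨G ∪ G.image S, by
    simp only [Finset.coe_union, Finset.coe_image]; rfl⟩, ?_, ?_⟩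
  · -- comultiplication
    let R : Subalgebra k (A ⊗[k] A) := (Algebra.TensorProduct.map B.val B.val).range
    have hR : ∀ t : A ⊗[k] A, t ∈ R ↔
        t ∈ LinearMap.range (TensorProduct.map B.val.toLinearMap B.val.toLinearMap) := by
      intro t
      constructor
      · rintro ⟨s, rfl⟩; exact ⟨s, rfl⟩
      · rintro ⟨s, rfl⟩; exact ⟨s, rfl⟩
    let T : Subalgebra k A := R.comap (comulAlgHom k A)
    have hgen : gens ⊆ T := by
      have F1 : ∀ s : ↥B₀ ⊗[k] ↥B₀, TensorProduct.map B₀.subtype B₀.subtype s ∈ R := by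
        intro s
        induction s using TensorProduct.induction_on with
        | zero => rw [map_zero]; exact zero_mem _
        | tmul p q =>
          exact ⟨(⟨p.1, hB₀B p.2⟩ : B) ⊗ₜ[k] (⟨q.1, hB₀B q.2⟩ : B), rfl⟩
        | add s t hs ht => rw [map_add]; exact add_mem hs ht
      have F2 : ∀ s : ↥B₀ ⊗[k] ↥B₀, TensorProduct.map (antipode k) (antipode k)
          (TensorProduct.comm k A A (TensorProduct.map B₀.subtype B₀.subtype s)) ∈ R := by
        intro s
        induction s using TensorProduct.induction_on with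
        | zero => simp only [map_zero]; exact zero_mem _
        | tmul p q =>
          exact ⟨(⟨antipode k q.1, hSB₀B _ q.2⟩ : B) ⊗ₜ[k] (⟨antipode k p.1, hSB₀B _ p.2⟩ : B), rfl⟩
        | add s t hs ht => simp only [map_add]; exact add_mem hs ht
      have key : ∀ b ∈ B₀, comul (R := k) b ∈ R ∧ comul (R := k) (antipode k b) ∈ R := by
        intro b hb
        obtain ⟨s, hs⟩ := hB₀ b hb
        constructor
        · rw [← hs]; exact F1 s
        · rw [Groth.Agent.H83.comul_antipode, ← hs]; exact F2 s
      have hGB₀ : ∀ g ∈ G, g ∈ B₀ := fun g hg => by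
        rw [← hG]; exact Submodule.subset_span hg
      rintro g (hg | ⟨g', hg', rfl⟩)
      · exact (key g (hGB₀ g hg)).1
      · exact (key g' (hGB₀ g' hg')).2
    intro b hb
    have hbT : b ∈ T := Algebra.adjoin_le hgen hb
    exact (hR _).1 hbT
  · -- antipode
    intro b hb
    have : B.map S ≤ B := by
      rw [show B = Algebra.adjoin k gens from rfl, AlgHom.map_adjoin]
      apply Algebra.adjoin_le
      rintro _ ⟨g, hg | hg, rfl⟩
      · exact hSGB ⟨g, hg, rfl⟩
      · obtain ⟨g', hg', rfl⟩ := hg
        rw [hS, hS, Groth.Agent.H74.HopfTrace.antipode_antipode_apply]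
        exact hGB hg'
    exact this ⟨b, hb, rfl⟩

end Groth.Agent.H27
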