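import Groth.Agent.H27.IndZarLoc
import Groth.Agent.H27.AdmLocal

/-!
# Identifying local rings can be checked at maximal ideals
-/

set_option autoImplicit false
universe u

namespace Groth.Agent.H27.IdLocMax

open Groth.Agent.H27.Adm

variable {A E : Type*} [CommRing A] [CommRing E] [Algebra A E]

/-- converse of `ElemId.bijective` -/
theorem elemId_of_bijective (q : Ideal E) [q.IsPrime]
    (h : Function.Bijective
      (Localization.localRingHom (q.comap (algebraMap A E)) q (algebraMap A E) rfl)) :
    ElemId A E q := by
  constructor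
  · intro x
    obtain ⟨z, hz⟩ := h.2 (algebraMap E (Localization.AtPrime q) x)
    obtain ⟨⟨a, d⟩, rfl⟩ := IsLocalization.mk'_surjective (q.comap (algebraMap A E)).primeCompl z
    rw [Localization.localRingHom_mk', IsLocalization.mk'_eq_iff_eq_mul] at hz
    rw [← map_mul] at hz
    obtain ⟨u, hu⟩ := (IsLocalization.eq_iff_exists q.primeCompl _).mp hz
    refine ⟨a, d.1, u.1, d.2, u.2, ?_⟩
    rw [hu]
    ring
  · intro a u hu hua
    have h0 : algebraMap E (Localization.AtPrime q) (algebraMap A E a) = 0 := by
      have h1 : algebraMap E (Localization.AtPrime q) u *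
          algebraMap E (Localization.AtPrime q) (algebraMap A E a) = 0 := by
        rw [← map_mul, hua, map_zero]
      have hunit : IsUnit (algebraMap E (Localization.AtPrime q) u) :=
        IsLocalization.map_units _ (⟨u, hu⟩ : q.primeCompl)
      exact hunit.mul_right_eq_zero.mp h1
    have h2 : Localization.localRingHom (q.comap (algebraMap A E)) q (algebraMap A E) rfl
        (algebraMap A _ a) = 0 := by
      rw [Localization.localRingHom_to_map, h0]
    have h3 : algebraMap A (Localization.AtPrime (q.comap (algebraMap A E))) a = 0 :=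
      h.1 (by rw [h2, map_zero])
    obtain ⟨s, hs⟩ := (IsLocalization.map_eq_zero_iff (q.comap (algebraMap A E)).primeCompl _ _).mp h3
    exact ⟨s.1, s.2, hs⟩

/-- the element form passes to smaller primes -/
theorem elemId_of_le (m q : Ideal E) [hm : m.IsPrime] [hq : q.IsPrime] (hle : q ≤ m)
    (h : ElemId A E m) : ElemId A E q := by
  constructor
  · intro x
    obtain ⟨a, d, u, hd, hu, hx⟩ := h.1 x
    exact ⟨a, d, u, fun hd' => hd (hle hd'), fun hu' => hu (hle hu'), hx⟩
  · intro a u hu hua
    obtain ⟨a', d, u', hd, hu', hx⟩ := h.1 u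
    have h1 : u' * algebraMap A E (a' * a) = 0 := by
      rw [map_mul, ← mul_assoc, ← hx]
      calc u' * (algebraMap A E d * u) * algebraMap A E a
          = u' * algebraMap A E d * (u * algebraMap A E a) := by ring
        _ = 0 := by rw [hua, mul_zero]
    obtain ⟨s, hs, hsa⟩ := h.2 (a' * a) u' hu' h1
    refine ⟨s * a', ?_, by rw [mul_assoc]; exact hsa⟩
    intro hmem
    rcases (Ideal.comap_isPrime (algebraMap A E) q).mem_or_mem hmem with h2 | h2
    · exact hs (hle h2)
    · have h3 : u' * algebraMap A E a' ∈ q := q.mul_mem_left _ h2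
      rw [← hx] at h3
      rcases hq.mem_or_mem h3 with h4 | h4
      · exact hu' (hle h4)
      · rcases hq.mem_or_mem h4 with h5 | h5
        · exact hd (hle h5)
        · exact hu h5

end Groth.Agent.H27.IdLocMax

namespace Groth.Agent.H27.IdLocMax

open Groth.Agent.H27.Adm

/-- identifying local rings may be checked at maximal ideals -/
theorem identifiesLocalRings_of_maximal (A E : Type u) [CommRing A] [CommRing E] [Algebra A E]
    (h : ∀ (m : Ideal E) [m.IsMaximal], Function.Bijective
      (Localization.localRingHom (m.comap (algebraMap A E)) m (algebraMap A E) rfl)) :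
    EtPBC.IdentifiesLocalRings A E := by
  intro q
  obtain ⟨m, hm, hle⟩ := Ideal.exists_le_maximal q.asIdeal q.2.ne_top
  haveI := hm
  exact (elemId_of_le m q.asIdeal hle (elemId_of_bijective m (h m))).bijective

end Groth.Agent.H27.IdLocMax
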