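import Groth.Agent.S0499
import Mathlib.RingTheory.IntegralClosure.IsIntegral.Basic
import Mathlib.RingTheory.LocalRing.RingHom.Basic

/-!
# An integral domain over a henselian local ring is local
-/

set_option autoImplicit false
universe u

namespace Groth.Agent.H27.Olivier

/-- a domain isomorphic to a finite product of local rings is local -/
theorem isLocalRing_of_equiv_pi {S : Type u} [CommRing S] [IsDomain S] {ι : Type u} [Fintype ι]
    (A : ι → Type u) [∀ i, CommRing (A i)] [∀ i, IsLocalRing (A i)] (φ : S ≃+* (∀ i, A i)) :
    IsLocalRing S := by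
  classical
  have hsub : ∀ i j : ι, i = j := by
    intro i j
    by_contra hij
    have h0 : φ.symm (Pi.single i 1) * φ.symm (Pi.single j 1) = 0 := by
      rw [← map_mul, ← Pi.single_mul_left, ← map_zero φ.symm]
      congr 1
      ext l
      by_cases hl : l = i
      · subst hl
        simp [Pi.single_apply, Ne.symm hij]
      · simp [Pi.single_apply, hl]
    rcases mul_eq_zero.mp h0 with h | h
    · have h1 : (Pi.single i (1 : A i) : ∀ l, A l) = 0 := by
        rw [← φ.apply_symm_apply (Pi.single i 1), h, map_zero]
      have := congrFun h1 i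
      simp at this
    · have h1 : (Pi.single j (1 : A j) : ∀ l, A l) = 0 := by
        rw [← φ.apply_symm_apply (Pi.single j 1), h, map_zero]
      have := congrFun h1 j
      simp at this
  have hne : Nonempty ι := by
    by_contra hemp
    rw [not_nonempty_iff] at hemp
    have : (1 : S) = 0 := φ.injective (Subsingleton.elim _ _)
    exact one_ne_zero this
  obtain ⟨i₀⟩ := hne
  haveI : Unique ι := ⟨⟨i₀⟩, fun j => hsub j i₀⟩
  exact (φ.trans (RingEquiv.piUnique A)).symm.isLocalRing

/-- an integral domain over a henselian local ring is a local ring -/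
theorem isLocalRing_of_isIntegral_of_isDomain (A : Type u) [CommRing A] [HenselianLocalRing A]
    (A' : Type u) [CommRing A'] [IsDomain A'] [Algebra A A'] [Algebra.IsIntegral A A'] :
    IsLocalRing A' := by
  apply IsLocalRing.of_isUnit_or_isUnit_one_sub_self
  intro x
  haveI : Module.Finite A (Algebra.adjoin A {x}) :=
    Algebra.finite_adjoin_simple_of_isIntegral (Algebra.IsIntegral.isIntegral x)
  obtain ⟨ι, _, Ai, _, hloc, ⟨φ⟩⟩ := Groth.Agent.S0499.result A (Algebra.adjoin A {x})
  haveI := hloc
  haveI : IsLocalRing (Algebra.adjoin A {x}) := isLocalRing_of_equiv_pi Ai φ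
  let x₀ : Algebra.adjoin A {x} := ⟨x, Algebra.subset_adjoin (Set.mem_singleton x)⟩
  rcases IsLocalRing.isUnit_or_isUnit_one_sub_self x₀ with h | h
  · left
    exact h.map (Algebra.adjoin A {x}).val
  · right
    have := h.map (Algebra.adjoin A {x}).val
    simpa [x₀] using this

end Groth.Agent.H27.Olivier
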