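import Mathlib
import Groth.Agent.H27.OlivierIntLocal
import Groth.Agent.H10.WeaklyEtaleNormal2
import Groth.Agent.H78.TensorLocal.Tensor
import Groth.Agent.H78.HensInt.TwoMax

/-!
# Olivier's theorem, part 1: fibres of a local weakly étale algebra over a strictly henselian
local ring over "algebraic" field-valued points are fields
-/

set_option autoImplicit false
set_option linter.style.haveILetI false
universe u

open TensorProduct IsLocalRing

namespace Groth.Agent.H27.Olivier

section IntClosure

variable (A : Type u) [CommRing A] (L : Type u) [Field L] [Algebra A L]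

/-- concrete algebraicity of a field-valued point -/
def ConcAlg : Prop := ∀ x : L, ∃ s : A, algebraMap A L s ≠ 0 ∧ IsIntegral A (s • x)

theorem isFractionRing_integralClosure (h : ConcAlg A L) :
    IsFractionRing (integralClosure A L) L := by
  apply IsFractionRing.of_field
  intro z
  obtain ⟨s, hs, hint⟩ := h z
  refine ⟨⟨s • z, hint⟩, ⟨algebraMap A L s, isIntegral_algebraMap⟩, ?_⟩
  show z = (s • z) / algebraMap A L s
  rw [Algebra.smul_def, mul_comm, mul_div_assoc, div_self hs, mul_one]

theorem isIntegrallyClosed_integralClosure (h : ConcAlg A L) :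
    IsIntegrallyClosed (integralClosure A L) := by
  haveI := isFractionRing_integralClosure A L h
  rw [isIntegrallyClosed_iff_isIntegrallyClosedIn L]
  infer_instance

end IntClosure

section GFL

variable (A B : Type u) [CommRing A] [CommRing B] [HenselianLocalRing A] [IsLocalRing B]
  [IsSepClosed (ResidueField A)] [Algebra A B] [IsLocalHom (algebraMap A B)]
  [Algebra.WeaklyEtale A B]

/-- Step 1: for an integral extension `A'` which is a normal domain, `A' ⊗[A] B` is a
(local) domain -/
theorem isDomain_tensor (A' : Type u) [CommRing A'] [IsDomain A'] [IsIntegrallyClosed A']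
    [Algebra A A'] [Algebra.IsIntegral A A'] : IsDomain (A' ⊗[A] B) := by
  haveI : IsLocalRing A' := isLocalRing_of_isIntegral_of_isDomain A A'
  haveI : IsLocalHom (algebraMap A A') := Groth.Agent.H78.HensInt.isLocalHom_of_isIntegral A A'
  haveI : Algebra.IsAlgebraic (ResidueField A) (ResidueField A') := by
    constructor
    intro xbar
    obtain ⟨x, rfl⟩ := residue_surjective xbar
    have hx : IsIntegral A x := Algebra.IsIntegral.isIntegral x
    have := hx.map_of_comp_eq (residue A) (residue A') (by ext s; rfl)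
    exact this.isAlgebraic
  have hpi : IsPurelyInseparable (ResidueField A) (ResidueField A') := inferInstance
  obtain ⟨hloc, -, -⟩ :=
    Groth.Agent.H78.TensorLocal.tensor_isLocalRing (A := A) (B := B) (C := A') (Or.inl hpi)
  haveI : IsLocalRing (A' ⊗[A] B) :=
    (Algebra.TensorProduct.comm A B A').toRingEquiv.isLocalRing
  exact (Groth.Agent.H10.WEN.isDomain_isIntegrallyClosed_of_weaklyEtale_local A' (A' ⊗[A] B)).1

theorem fibre_isField_aux (A' : Type u) [CommRing A'] [IsDomain A'] [IsIntegrallyClosed A']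
    [Algebra A A'] [Algebra.IsIntegral A A'] (L : Type u) [Field L] [Algebra A L] [Algebra A' L]
    [IsScalarTower A A' L] [IsFractionRing A' L] : IsField (L ⊗[A] B) := by
  haveI hdom : IsDomain (A' ⊗[A] B) := isDomain_tensor A B A'
  haveI hlocz : IsLocalization (Algebra.algebraMapSubmonoid (A' ⊗[A] B) (nonZeroDivisors A'))
      ((A' ⊗[A] B) ⊗[A'] L) := IsLocalization.tensor L (nonZeroDivisors A')
  have hle : Algebra.algebraMapSubmonoid (A' ⊗[A] B) (nonZeroDivisors A') ≤
      nonZeroDivisors (A' ⊗[A] B) := by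
    rintro _ ⟨s, hs, rfl⟩
    have hreg : IsSMulRegular A' s := by
      intro x y hxy
      exact mul_left_cancel₀ (nonZeroDivisors.ne_zero hs) hxy
    have h2 : IsSMulRegular (A' ⊗[A] B) (algebraMap A' (A' ⊗[A] B) s) := hreg.of_flat
    rw [mem_nonZeroDivisors_iff_ne_zero]
    intro h0
    rw [h0] at h2
    have : (1 : A' ⊗[A] B) = 0 := h2 (by simp)
    exact one_ne_zero this
  haveI hdom2 : IsDomain ((A' ⊗[A] B) ⊗[A'] L) :=
    IsLocalization.isDomain_of_le_nonZeroDivisors _ hle
  have hVNR : Groth.Agent.H10.IsVNR (L ⊗[A'] (A' ⊗[A] B)) :=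
    Groth.Agent.H10.isVNR_of_weaklyEtale L (L ⊗[A'] (A' ⊗[A] B))
  have hVNR2 : Groth.Agent.H10.IsVNR ((A' ⊗[A] B) ⊗[A'] L) :=
    hVNR.of_surjective (Algebra.TensorProduct.comm A' L (A' ⊗[A] B)).toRingEquiv.toRingHom
      (Algebra.TensorProduct.comm A' L (A' ⊗[A] B)).surjective
  have hF : IsField ((A' ⊗[A] B) ⊗[A'] L) := by
    refine ⟨⟨0, 1, zero_ne_one⟩, mul_comm, ?_⟩
    intro c hc
    obtain ⟨t, ht⟩ := hVNR2 c
    refine ⟨t, ?_⟩
    have h0 : c * (1 - c * t) = 0 := by
      have : c * (1 - c * t) = c - c * c * t := by ring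
      rw [this, ← ht, sub_self]
    rcases mul_eq_zero.mp h0 with h | h
    · exact absurd h hc
    · exact (sub_eq_zero.mp h).symm
  have e₁ : ((A' ⊗[A] B) ⊗[A'] L) ≃+* (L ⊗[A'] (A' ⊗[A] B)) :=
    (Algebra.TensorProduct.comm A' (A' ⊗[A] B) L).toRingEquiv
  have e₂ : (L ⊗[A'] (A' ⊗[A] B)) ≃+* (L ⊗[A] B) :=
    (Algebra.TensorProduct.cancelBaseChange A A' A' L B).toRingEquiv
  exact (e₁.trans e₂).symm.toMulEquiv.isField hF

/-- **Fibres over algebraic field-valued points are fields.** -/
theorem fibre_isField (L : Type u) [Field L] [Algebra A L] (h : ConcAlg A L) :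
    IsField (L ⊗[A] B) := by
  haveI := isFractionRing_integralClosure A L h
  haveI := isIntegrallyClosed_integralClosure A L h
  exact fibre_isField_aux A B (integralClosure A L) L

end GFL

end Groth.Agent.H27.Olivier
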