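import Mathlib
import Groth.Agent.H27.OlivierFibre
import Groth.Agent.H10.WeaklyEtaleField

/-!
# Olivier's theorem, part 2
-/

set_option autoImplicit false
set_option linter.style.haveILetI false
universe u

open TensorProduct IsLocalRing

namespace Groth.Agent.H27.Olivier

section ConcAlg

variable (A : Type u) [CommRing A] (p : Ideal A) [p.IsPrime]

/-- integral over the residue field ⇒ concrete algebraicity -/
theorem concAlg_of_isIntegral (L : Type u) [Field L] [Algebra A L] [Algebra p.ResidueField L]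
    [IsScalarTower A p.ResidueField L] [Algebra.IsIntegral p.ResidueField L] : ConcAlg A L := by
  intro x
  have hx : IsIntegral p.ResidueField x := Algebra.IsIntegral.isIntegral x
  letI : Algebra (A ⧸ p) L :=
    ((algebraMap p.ResidueField L).comp (algebraMap (A ⧸ p) p.ResidueField)).toAlgebra
  haveI : IsScalarTower (A ⧸ p) p.ResidueField L := IsScalarTower.of_algebraMap_eq (fun _ => rfl)
  haveI : IsScalarTower A (A ⧸ p) L := IsScalarTower.of_algebraMap_eq (fun a => by
    show algebraMap A L a = algebraMap p.ResidueField L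
      (algebraMap (A ⧸ p) p.ResidueField (algebraMap A (A ⧸ p) a))
    rw [← IsScalarTower.algebraMap_apply A (A ⧸ p) p.ResidueField,
      ← IsScalarTower.algebraMap_apply A p.ResidueField L])
  obtain ⟨⟨m, hm⟩, hmx⟩ :=
    IsIntegral.exists_multiple_integral_of_isLocalization (nonZeroDivisors (A ⧸ p)) x hx
  obtain ⟨s, rfl⟩ := Ideal.Quotient.mk_surjective m
  haveI : Algebra.IsIntegral A (A ⧸ p) :=
    Algebra.isIntegral_of_surjective Ideal.Quotient.mk_surjective
  have hsx : (⟨Ideal.Quotient.mk p s, hm⟩ : nonZeroDivisors (A ⧸ p)) • x = s • x := by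
    show (Ideal.Quotient.mk p s) • x = s • x
    rw [← Ideal.Quotient.algebraMap_eq, algebraMap_smul]
  refine ⟨s, ?_, ?_⟩
  · have h1 : Ideal.Quotient.mk p s ≠ 0 := nonZeroDivisors.ne_zero hm
    rw [IsScalarTower.algebraMap_apply A (A ⧸ p) L]
    intro h0
    apply h1
    have hinj : Function.Injective (algebraMap (A ⧸ p) L) :=
      (algebraMap p.ResidueField L).injective.comp p.injective_algebraMap_quotient_residueField
    exact hinj (by rw [Ideal.Quotient.algebraMap_eq] at h0; rw [h0, map_zero])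
  · rw [← hsx]
    exact isIntegral_trans _ hmx

end ConcAlg

section F

variable (A B : Type u) [CommRing A] [CommRing B] [HenselianLocalRing A] [IsLocalRing B]
  [IsSepClosed (ResidueField A)] [Algebra A B] [IsLocalHom (algebraMap A B)]
  [Algebra.WeaklyEtale A B] (p : Ideal A) [p.IsPrime]

theorem exists_eq_tmul_aux (X : Type u) [Field X] [Algebra A X] [Algebra p.ResidueField X]
    [IsScalarTower A p.ResidueField X] [Algebra.IsIntegral p.ResidueField X] (i : B →ₐ[A] X)
    (b : B) : ∃ k : p.ResidueField, (1 : p.ResidueField) ⊗ₜ[A] b = k ⊗ₜ[A] (1 : B) := by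
  have hXB : IsField (X ⊗[A] B) := fibre_isField A B X (concAlg_of_isIntegral A p X)
  let m : X ⊗[A] B →ₐ[A] X := Algebra.TensorProduct.productMap (AlgHom.id A X) i
  have hm : ∀ z : X ⊗[A] B, m z = 0 → z = 0 := by
    intro z hz
    by_contra hne
    obtain ⟨y, hy⟩ := hXB.mul_inv_cancel hne
    have : m z * m y = 1 := by rw [← map_mul, hy, map_one]
    rw [hz, zero_mul] at this
    exact zero_ne_one this
  have h1 : (i b) ⊗ₜ[A] (1 : B) = (1 : X) ⊗ₜ[A] b := by
    rw [← sub_eq_zero]
    apply hm
    simp [m]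
  obtain ⟨lam, hlam⟩ : ∃ lam : X →ₗ[p.ResidueField] p.ResidueField, lam 1 = 1 := by
    obtain ⟨g, hg⟩ := LinearMap.exists_leftInverse_of_injective
      (Algebra.linearMap p.ResidueField X)
      (LinearMap.ker_eq_bot.mpr (algebraMap p.ResidueField X).injective)
    refine ⟨g, ?_⟩
    have := LinearMap.congr_fun hg 1
    simpa using this
  have h2 := congrArg ((lam.restrictScalars A).rTensor B) h1
  simp only [LinearMap.rTensor_tmul, LinearMap.coe_restrictScalars, hlam] at h2
  exact ⟨lam (i b), h2.symm⟩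

theorem exists_eq_tmul (b : B) :
    ∃ k : p.ResidueField, (1 : p.ResidueField) ⊗ₜ[A] b = k ⊗ₜ[A] (1 : B) := by
  haveI : Module.FaithfullyFlat A B := Module.FaithfullyFlat.of_flat_of_isLocalHom
  haveI : Nontrivial (p.ResidueField ⊗[A] B) := Module.FaithfullyFlat.rTensor_nontrivial A B _
  obtain ⟨M, hM⟩ := Ideal.exists_maximal (p.ResidueField ⊗[A] B)
  letI := Ideal.Quotient.field M
  haveI : Algebra.IsIntegral p.ResidueField (p.ResidueField ⊗[A] B) := inferInstance
  haveI : Algebra.IsIntegral p.ResidueField ((p.ResidueField ⊗[A] B) ⧸ M) :=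
    Algebra.IsIntegral.of_surjective (Ideal.Quotient.mkₐ p.ResidueField M)
      (Ideal.Quotient.mkₐ_surjective _ M)
  let i : B →ₐ[A] ((p.ResidueField ⊗[A] B) ⧸ M) :=
    (Ideal.Quotient.mkₐ A M).comp Algebra.TensorProduct.includeRight
  exact exists_eq_tmul_aux A B p _ i b

end F

section U

variable (A B : Type u) [CommRing A] [CommRing B] [HenselianLocalRing A] [IsLocalRing B]
  [IsSepClosed (ResidueField A)] [Algebra A B] [IsLocalHom (algebraMap A B)]
  [Algebra.WeaklyEtale A B]

theorem delta_mem_prime_aux (P : Ideal (B ⊗[A] B)) [P.IsPrime] (p : Ideal A) [p.IsPrime]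
    (hp : p = P.comap (algebraMap A (B ⊗[A] B))) (b : B) :
    b ⊗ₜ[A] (1 : B) - (1 : B) ⊗ₜ[A] b ∈ P := by
  obtain ⟨k, hk⟩ := exists_eq_tmul A B p b
  have hker : ∀ a : A, algebraMap A P.ResidueField a = 0 ↔ a ∈ p := by
    intro a
    rw [IsScalarTower.algebraMap_apply A (B ⊗[A] B) P.ResidueField,
      Ideal.algebraMap_residueField_eq_zero, hp, Ideal.mem_comap]
  let φ : p.ResidueField →+* P.ResidueField :=
    Ideal.ResidueField.lift (I := p) (algebraMap A P.ResidueField)
      (fun a ha => (hker a).mpr ha)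
      (fun a ha => by
        show IsUnit (algebraMap A P.ResidueField a)
        rw [isUnit_iff_ne_zero, Ne, hker a]
        exact ha)
  let φₐ : p.ResidueField →ₐ[A] P.ResidueField :=
    { φ with commutes' := fun a => Ideal.ResidueField.lift_algebraMap _ _ _ _ a }
  let i₁ : B →ₐ[A] P.ResidueField :=
    (IsScalarTower.toAlgHom A (B ⊗[A] B) P.ResidueField).comp Algebra.TensorProduct.includeLeft
  let i₂ : B →ₐ[A] P.ResidueField :=
    (IsScalarTower.toAlgHom A (B ⊗[A] B) P.ResidueField).comp Algebra.TensorProduct.includeRight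
  have e₁ := congrArg (Algebra.TensorProduct.productMap φₐ i₁) hk
  have e₂ := congrArg (Algebra.TensorProduct.productMap φₐ i₂) hk
  simp only [Algebra.TensorProduct.productMap_apply_tmul, map_one, one_mul, mul_one] at e₁ e₂
  have e₃ : i₁ b = i₂ b := e₁.trans e₂.symm
  rw [← Ideal.algebraMap_residueField_eq_zero, map_sub, sub_eq_zero]
  exact e₃

theorem delta_mem_prime (P : Ideal (B ⊗[A] B)) [P.IsPrime] (b : B) :
    b ⊗ₜ[A] (1 : B) - (1 : B) ⊗ₜ[A] b ∈ P :=
  delta_mem_prime_aux A B P (P.comap (algebraMap A (B ⊗[A] B))) rfl b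

theorem lmul'_injective : Function.Injective (Algebra.TensorProduct.lmul' A (S := B)) := by
  rw [injective_iff_map_eq_zero]
  intro x hx
  have hpure : (RingHom.ker (Algebra.TensorProduct.lmul' A (S := B)).toRingHom).Pure := by
    rw [← Groth.Agent.H10.flat_iff_pure_ker_of_surjective]
    · exact Algebra.WeaklyEtale.flat_lmul' A B
    · intro b
      exact ⟨b ⊗ₜ[A] 1, by simp⟩
  have hxk : x ∈ RingHom.ker (Algebra.TensorProduct.lmul' A (S := B)).toRingHom := hx
  obtain ⟨y, hy, hxy⟩ := (Groth.Agent.H10.pure_iff_forall_exists_eq_mul _).1 hpure x hxk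
  -- y is nilpotent
  have hynil : IsNilpotent y := by
    rw [← mem_nilradical, nilradical_eq_sInf, Ideal.mem_sInf]
    intro P hP
    haveI : P.IsPrime := hP
    have hle : KaehlerDifferential.ideal A B ≤ P := by
      rw [← KaehlerDifferential.span_range_eq_ideal, Ideal.span_le]
      rintro _ ⟨b, rfl⟩
      have := delta_mem_prime A B P b
      have h2 : (1 : B) ⊗ₜ[A] b - b ⊗ₜ[A] (1 : B) = -(b ⊗ₜ[A] (1 : B) - (1 : B) ⊗ₜ[A] b) := by
        ring
      show (1 : B) ⊗ₜ[A] b - b ⊗ₜ[A] (1 : B) ∈ P
      rw [h2]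
      exact P.neg_mem this
    exact hle hy
  have hu : IsUnit (1 - y) := hynil.isUnit_one_sub
  have h0 : x * (1 - y) = 0 := by
    rw [mul_sub, mul_one, ← hxy, sub_self]
  exact hu.mul_left_eq_zero.mp h0

/-- **Olivier's theorem** -/
theorem main : Function.Bijective (algebraMap A B) := by
  haveI : Module.FaithfullyFlat A B := Module.FaithfullyFlat.of_flat_of_isLocalHom
  have hinj : Function.Injective (algebraMap A B) := FaithfulSMul.algebraMap_injective A B
  refine ⟨hinj, ?_⟩
  have hL := lmul'_injective A B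
  have hs : Function.Surjective ((Algebra.linearMap A B).lTensor B) := by
    intro y
    refine ⟨(Algebra.TensorProduct.lmul' A (S := B) y) ⊗ₜ[A] (1 : A), ?_⟩
    apply hL
    simp
  exact (Module.FaithfullyFlat.lTensor_surjective_iff_surjective A B _).mp hs

end U

end Groth.Agent.H27.Olivier
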