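import Mathlib
import Groth.Prelude.Def_ProEtW
import Groth.Agent.H10.WeaklyEtaleField

/-!
# Weakly étale ring maps induce algebraic residue field extensions
-/

set_option autoImplicit false
universe u

open TensorProduct Polynomial

namespace Groth.Agent.H27.WEtAlgRes

theorem main (A B : Type u) [CommRing A] [CommRing B] [Algebra A B]
    [Algebra.WeaklyEtale A B] : ProEtW.AlgebraicResidueExtensions A B := by
  intro q hq
  constructor
  intro x
  obtain ⟨b, rfl⟩ := Ideal.Quotient.mk_surjective x
  have hker : ∀ a : A, algebraMap A q.ResidueField a = 0 ↔ a ∈ q.comap (algebraMap A B) := by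
    intro a
    rw [IsScalarTower.algebraMap_apply A B q.ResidueField,
      Ideal.algebraMap_residueField_eq_zero, Ideal.mem_comap]
  let φ : (q.comap (algebraMap A B)).ResidueField →+* q.ResidueField :=
    Ideal.ResidueField.lift (I := q.comap (algebraMap A B)) (algebraMap A q.ResidueField)
      (fun a ha => (hker a).mpr ha)
      (fun a ha => by
        show IsUnit (algebraMap A q.ResidueField a)
        rw [isUnit_iff_ne_zero, Ne, hker a]
        exact ha)
  let φₐ : (q.comap (algebraMap A B)).ResidueField →ₐ[A] q.ResidueField :=
    { φ with commutes' := fun a => Ideal.ResidueField.lift_algebraMap _ _ _ _ a }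
  let θ : (q.comap (algebraMap A B)).ResidueField ⊗[A] B →ₐ[A] q.ResidueField :=
    Algebra.TensorProduct.productMap φₐ (IsScalarTower.toAlgHom A B q.ResidueField)
  have hint : IsIntegral (q.comap (algebraMap A B)).ResidueField
      ((1 : (q.comap (algebraMap A B)).ResidueField) ⊗ₜ[A] b) :=
    Groth.Agent.H10.isIntegral_of_weaklyEtale _ _ _
  obtain ⟨f, hfm, hf⟩ := hint
  have h1 : eval₂ φ (algebraMap B q.ResidueField b) f = 0 := by
    have h2 := congrArg θ hf
    rw [map_zero, ← AlgHom.coe_toRingHom, Polynomial.hom_eval₂] at h2
    have h3 : (θ : _ →+* q.ResidueField).comp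
        (algebraMap (q.comap (algebraMap A B)).ResidueField
        ((q.comap (algebraMap A B)).ResidueField ⊗[A] B)) = φ := by
      refine RingHom.ext fun k => ?_
      show θ (algebraMap _ _ k) = φ k
      rw [Algebra.TensorProduct.algebraMap_apply, Algebra.algebraMap_self, RingHom.id_apply]
      show Algebra.TensorProduct.productMap φₐ (IsScalarTower.toAlgHom A B q.ResidueField)
        (k ⊗ₜ[A] (1 : B)) = φ k
      rw [Algebra.TensorProduct.productMap_apply_tmul, map_one, mul_one]
      rfl
    have h4 : (θ : _ →+* q.ResidueField) ((1 : (q.comap (algebraMap A B)).ResidueField) ⊗ₜ[A] b) =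
        algebraMap B q.ResidueField b := by
      show Algebra.TensorProduct.productMap φₐ (IsScalarTower.toAlgHom A B q.ResidueField)
        ((1 : (q.comap (algebraMap A B)).ResidueField) ⊗ₜ[A] b) = _
      rw [Algebra.TensorProduct.productMap_apply_tmul, map_one, one_mul]
      rfl
    rwa [h3, h4] at h2
  refine ⟨IsLocalization.integerNormalization (nonZeroDivisors (A ⧸ q.comap (algebraMap A B))) f,
    ?_, ?_⟩
  · rw [Ne, IsFractionRing.integerNormalization_eq_zero_iff]
    exact hfm.ne_zero
  · have h5 := IsLocalization.integerNormalization_eval₂_eq_zero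
      (nonZeroDivisors (A ⧸ q.comap (algebraMap A B))) φ f h1
    have h6 : φ.comp (algebraMap (A ⧸ q.comap (algebraMap A B))
        (q.comap (algebraMap A B)).ResidueField) =
        (algebraMap (B ⧸ q) q.ResidueField).comp
          (algebraMap (A ⧸ q.comap (algebraMap A B)) (B ⧸ q)) := by
      apply Ideal.Quotient.ringHom_ext
      ext a
      simp only [φ, ← IsScalarTower.algebraMap_apply, RingHom.comp_apply,
        Ideal.Quotient.mk_algebraMap]
      exact Ideal.ResidueField.lift_algebraMap _ _ _ _ a
    rw [h6] at h5
    have h7 : algebraMap B q.ResidueField b =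
        algebraMap (B ⧸ q) q.ResidueField (Ideal.Quotient.mk q b) := by
      simp
    rw [h7, ← Polynomial.hom_eval₂] at h5
    rw [Polynomial.aeval_def]
    exact Ideal.injective_algebraMap_quotient_residueField q (by rw [h5, map_zero])

end Groth.Agent.H27.WEtAlgRes
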