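import Groth.Agent.S0692
import Groth.Agent.S0736
import Groth.Agent.S7127
import Groth.Agent.H27.WEtAlgRes
import Groth.Agent.H27.IdLocMax
import Groth.Agent.H27.OlivierMain
import Groth.Agent.H27.IndZarWLocal
import Groth.Agent.H27.IndEtPrimes
import Groth.Agent.H27.IndEtTrans
import Groth.Agent.H10.WeaklyEtaleStalk

/-!
# Weakly étale algebras are ind-étale after a faithfully flat ind-étale extension
-/

set_option autoImplicit false
set_option linter.style.haveILetI false
universe u

namespace Groth.Agent.H27.WEtIndEt

/-- a weakly étale map of rings whose source has strictly henselian local rings at the maximal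
ideals, and which maps maximal ideals to maximal ideals, identifies local rings -/
theorem identifiesLocalRings_of_strictHens (C D : Type u) [CommRing C] [CommRing D] [Algebra C D]
    [Algebra.WeaklyEtale C D]
    (hmax : ∀ (m : Ideal D) [m.IsMaximal], (m.comap (algebraMap C D)).IsMaximal)
    (hSH : ∀ (m : Ideal C) [m.IsMaximal],
      EtCoh.IsStrictlyHenselianLocalRing (Localization.AtPrime m)) :
    EtPBC.IdentifiesLocalRings C D := by
  apply Groth.Agent.H27.IdLocMax.identifiesLocalRings_of_maximal
  intro m hm
  haveI hm' : (m.comap (algebraMap C D)).IsMaximal := hmax m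
  obtain ⟨hH, hS⟩ := hSH (m.comap (algebraMap C D))
  letI := (Localization.localRingHom (m.comap (algebraMap C D)) m (algebraMap C D) rfl).toAlgebra
  haveI : IsLocalHom (algebraMap (Localization.AtPrime (m.comap (algebraMap C D)))
      (Localization.AtPrime m)) :=
    Localization.isLocalHom_localRingHom _ _ _ rfl
  haveI : Algebra.WeaklyEtale (Localization.AtPrime (m.comap (algebraMap C D)))
      (Localization.AtPrime m) :=
    Groth.Agent.H10.weaklyEtale_localRingHom (algebraMap C D)
      (by convert (inferInstance : Algebra.WeaklyEtale C D); exact Algebra.algebra_ext _ _ (fun _ => rfl)) m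
  exact Groth.Agent.H27.Olivier.main _ _

theorem main (A B : Type u) [CommRing A] [CommRing B] [Algebra A B]
    [Algebra.WeaklyEtale A B] :
    ∃ (B' : Type u) (_ : CommRing B') (_ : Algebra B B') (_ : Algebra A B')
      (_ : IsScalarTower A B B'),
      Module.FaithfullyFlat B B' ∧ EtPBC.IsIndEtale B B' ∧ EtPBC.IsIndEtale A B' := by
  obtain ⟨C, D, iC, iD, iAC, iBD, iCD, iAD, iACD, iABD, hAC, hACind, hBD, hBDind, hWC, hWD, hWmap,
    hcl, hsurjC, hsurjD, hSH⟩ := Groth.Agent.S0692.result A B (Groth.Agent.H27.WEtAlgRes.main A B)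
  haveI : Algebra.WeaklyEtale A C := Groth.Agent.S0736.result A C hACind
  haveI : Algebra.WeaklyEtale B D := Groth.Agent.S0736.result B D hBDind
  haveI : Algebra.WeaklyEtale A D := Algebra.WeaklyEtale.trans A B D
  haveI : Algebra.WeaklyEtale C D := Groth.Agent.S7127.result A C D
  have hid : EtPBC.IdentifiesLocalRings C D := by
    apply identifiesLocalRings_of_strictHens C D _ hSH
    intro m hm
    have h1 : (⟨m, hm.isPrime⟩ : PrimeSpectrum D) ∈ ProEtW.closedPoints (PrimeSpectrum D) := by
      show IsClosed _
      rw [PrimeSpectrum.isClosed_singleton_iff_isMaximal]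
      exact hm
    rw [hcl] at h1
    have h2 : IsClosed ({PrimeSpectrum.comap (algebraMap C D) ⟨m, hm.isPrime⟩} :
        Set (PrimeSpectrum C)) := h1
    rw [PrimeSpectrum.isClosed_singleton_iff_isMaximal] at h2
    exact h2
  have hZ : EtPBC.IsIndZariski C D := Groth.Agent.H27.IndZarWLocal.main C D hid hWD
  have hE : EtPBC.IsIndEtale C D := Groth.Agent.H27.IndEtPrimes.isIndEtale_of_isIndZariski hZ
  exact ⟨D, iD, iBD, iAD, iABD, hBD, hBDind, Groth.Agent.H27.IndEtTrans.main A C D hACind hE⟩

end Groth.Agent.H27.WEtIndEt
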