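import Groth.Agent.H27.EtRetractCover
import Groth.Agent.H27.IndEtCancel
import Groth.Agent.H27.WEtIndEt

/-!
# The ind-étale hull is henselian along the kernel of its structure map

For an `R`-algebra `C`, the hull `H = Hull R C` (colimit of all étale `R`-algebras over `C`) has
`ker (H → C)` in its Jacobson radical, ind-étale `R`-algebras over `C` lift uniquely to `H`, and if
`C` is w-contractible then weakly étale `R`-algebras over `C` lift to `H` and `H` is w-contractible.
-/

set_option autoImplicit false
universe u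

open CategoryTheory CategoryTheory.Limits
open scoped TensorProduct

namespace Groth.Agent.H27.HullHens

open Groth.Agent.H3.IndEtCrit Groth.Agent.H27.IndEtK Groth.Agent.H27.IndEtHull

variable {R C : Type u} [CommRing R] [CommRing C] [Algebra R C]

/-- elements of the hull congruent to `1` modulo the kernel are units -/
theorem isUnit_add_one {h : Hull R C} (hh : π R C h = 0) : IsUnit (h + 1) := by
  obtain ⟨X, x, rfl⟩ := ι_surj h
  rw [π_ι] at hh
  set u : X.ring := x + 1 with hu
  have hφu : X.φ u = 1 := by rw [hu, map_add, hh, map_one, zero_add]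
  have hunit : IsUnit (X.φ.toRingHom u) := by
    change IsUnit (X.φ u)
    rw [hφu]
    exact isUnit_one
  let φ'r : Localization.Away u →+* C := IsLocalization.Away.lift u hunit
  have hφ'r : ∀ y : X.ring, φ'r (algebraMap X.ring (Localization.Away u) y) = X.φ y := fun y =>
    IsLocalization.Away.lift_eq u hunit y
  let φ' : Localization.Away u →ₐ[R] C :=
    { φ'r with
      commutes' := fun r => by
        change φ'r (algebraMap R (Localization.Away u) r) = _
        rw [IsScalarTower.algebraMap_apply R X.ring (Localization.Away u), hφ'r, AlgHom.commutes] }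
  obtain ⟨Y, e, he⟩ := exists_obj (Localization.Away u) φ'
  let inc : X.ring →ₐ[R] Localization.Away u := IsScalarTower.toAlgHom R X.ring _
  let m : X ⟶ Y := ⟨e.symm.toAlgHom.comp inc, by
    rw [← AlgHom.comp_assoc, ← he]
    ext y
    change φ' (e (e.symm (inc y))) = X.φ y
    rw [AlgEquiv.apply_symm_apply]
    exact hφ'r y⟩
  have h1 : ι R C X u = ι R C Y (m.f u) := (ι_comp m u).symm
  have h2 : IsUnit (m.f u) := by
    change IsUnit (e.symm (algebraMap X.ring (Localization.Away u) u))
    exact (IsLocalization.Away.algebraMap_isUnit u).map e.symm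
  have h3 : ι R C X x + 1 = ι R C X u := by rw [hu, map_add, map_one]
  rw [h3, h1]
  exact h2.map (ι R C Y)

/-- the kernel of the structure map of the hull lies in the Jacobson radical -/
theorem ker_le_jacobson :
    RingHom.ker (π R C).toRingHom ≤ Ideal.jacobson (⊥ : Ideal (Hull R C)) := by
  intro h hh
  rw [Ideal.mem_jacobson_bot]
  intro y
  apply isUnit_add_one
  have : π R C h = 0 := hh
  rw [map_mul, this, zero_mul]

/-- the object of `Obj R C` obtained by composing with a map `D → C` -/
noncomputable def push {D : Type u} [CommRing D] [Algebra R D] (ρ : D →ₐ[R] C) (X : Obj R D) : Obj R C :=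
  ⟨X.n, X.s, X.etale, ρ.comp X.φ⟩

/-- functoriality of `push` -/
noncomputable def pushHom {D : Type u} [CommRing D] [Algebra R D] (ρ : D →ₐ[R] C) {X Y : Obj R D} (g : X ⟶ Y) :
    push ρ X ⟶ push ρ Y :=
  ⟨g.f, by
    change (ρ.comp Y.φ).comp g.f = ρ.comp X.φ
    rw [AlgHom.comp_assoc, g.comm]⟩

/-- ind-étale algebras over `C` lift to the hull -/
theorem exists_lift_of_hasFactor {D : Type u} [CommRing D] [Algebra R D] (hD : HasFactor R D)
    (ρ : D →ₐ[R] C) : ∃ θ : D →ₐ[R] Hull R C, (π R C).comp θ = ρ := by
  obtain ⟨hc⟩ := hD.nonempty_isColimit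
  let s : Cocone (diagram (A := R) (B := D)) :=
    { pt := Under.mk (CommRingCat.ofHom (algebraMap R (Hull R C)))
      ι :=
        { app := fun X => Under.homMk (CommRingCat.ofHom (ι R C (push ρ X)).toRingHom) (by
            ext a
            exact (ι R C (push ρ X)).commutes a)
          naturality := fun X Y g => by
            ext x
            exact ι_comp (pushHom ρ g) x } }
  let d := hc.desc s
  have hd : ∀ (X : Obj R D) (x : X.ring), d.right.hom (X.φ x) = ι R C (push ρ X) x := by
    intro X x
    have := hc.fac s X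
    exact congrArg (fun φ : (diagram (A := R) (B := D)).obj X ⟶ s.pt => φ.right.hom x) this
  let θ : D →ₐ[R] Hull R C :=
    { d.right.hom with
      commutes' := fun a => by
        have := Under.w d
        exact congrArg (fun φ => φ.hom a) this }
  have hθ : ∀ (X : Obj R D) (x : X.ring), θ (X.φ x) = ι R C (push ρ X) x := hd
  refine ⟨θ, ?_⟩
  ext y
  obtain ⟨X, hX⟩ := IndEtCancel.exists_range hD {y} (Set.finite_singleton y)
  obtain ⟨x, rfl⟩ := hX (Set.mem_singleton y)
  change π R C (θ (X.φ x)) = ρ (X.φ x)
  rw [hθ]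
  exact π_ι (push ρ X) x

/-- lifts of ind-étale algebras to the hull are unique -/
theorem lift_unique_of_hasFactor {D : Type u} [CommRing D] [Algebra R D] (hD : HasFactor R D)
    (θ₁ θ₂ : D →ₐ[R] Hull R C) (h : (π R C).comp θ₁ = (π R C).comp θ₂) : θ₁ = θ₂ := by
  ext y
  obtain ⟨X, hX⟩ := IndEtCancel.exists_range hD {y} (Set.finite_singleton y)
  obtain ⟨x, rfl⟩ := hX (Set.mem_singleton y)
  have : θ₁.comp X.φ = θ₂.comp X.φ := by
    apply EtRetractCover.eq_of_π_comp_eq
    rw [← AlgHom.comp_assoc, ← AlgHom.comp_assoc, h]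
  exact congrArg (fun w : X.ring →ₐ[R] Hull R C => w x) this

/-- a ring map to a w-contractible ring extends along a faithfully flat weakly étale algebra -/
theorem exists_extend (hC : EtPBC.IsWContractible C) {D D' : Type u} [CommRing D] [CommRing D']
    [Algebra D D'] [Module.FaithfullyFlat D D'] [Algebra.WeaklyEtale D D'] (ρ : D →+* C) :
    ∃ ρ' : D' →+* C, ρ'.comp (algebraMap D D') = ρ := by
  letI : Algebra D C := ρ.toAlgebra
  obtain ⟨r⟩ := hC (C ⊗[D] D') inferInstance inferInstance
  let inc : D' →ₐ[D] C ⊗[D] D' := Algebra.TensorProduct.includeRight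
  refine ⟨(r : C ⊗[D] D' →+* C).comp (inc : D' →+* C ⊗[D] D'), ?_⟩
  ext d
  change r (inc (algebraMap D D' d)) = ρ d
  rw [AlgHom.commutes]
  have : algebraMap D (C ⊗[D] D') d = algebraMap C (C ⊗[D] D') (algebraMap D C d) := by
    rw [Algebra.TensorProduct.algebraMap_apply, Algebra.TensorProduct.algebraMap_apply]
    rfl
  rw [this, AlgHom.commutes]
  rfl

/-- weakly étale algebras over a w-contractible `C` lift to the hull -/
theorem exists_lift_of_weaklyEtale (hC : EtPBC.IsWContractible C) {D : Type u} [CommRing D]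
    [Algebra R D] [Algebra.WeaklyEtale R D] (ρ : D →ₐ[R] C) :
    ∃ θ : D →ₐ[R] Hull R C, (π R C).comp θ = ρ := by
  obtain ⟨D', _, _, _, _, hff, hDD', hRD'⟩ := WEtIndEt.main R D
  haveI := hff
  haveI : Algebra.WeaklyEtale D D' := Groth.Agent.S0736.result D D' hDD'
  obtain ⟨ρ', hρ'⟩ := exists_extend hC (D := D) (D' := D') ρ.toRingHom
  let ρ'a : D' →ₐ[R] C :=
    { ρ' with
      commutes' := fun a => by
        change ρ' (algebraMap R D' a) = algebraMap R C a
        rw [IsScalarTower.algebraMap_apply R D D']
        have := congrArg (fun w : D →+* C => w (algebraMap R D a)) hρ'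
        change ρ' (algebraMap D D' (algebraMap R D a)) = ρ (algebraMap R D a) at this
        rw [this, AlgHom.commutes] }
  obtain ⟨θ', hθ'⟩ := exists_lift_of_hasFactor (hasFactor_of_isIndEtale hRD') ρ'a
  refine ⟨θ'.comp (IsScalarTower.toAlgHom R D D'), ?_⟩
  rw [← AlgHom.comp_assoc, hθ']
  ext d
  exact congrArg (fun w : D →+* C => w d) hρ'

/-- the hull of a w-contractible algebra is w-contractible -/
theorem isWContractible (hC : EtPBC.IsWContractible C) : EtPBC.IsWContractible (Hull R C) := by
  intro D _ _ hff hwe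
  haveI := hff
  haveI := hwe
  letI : Algebra R D := ((algebraMap (Hull R C) D).comp (algebraMap R (Hull R C))).toAlgebra
  haveI : IsScalarTower R (Hull R C) D := IsScalarTower.of_algebraMap_eq (fun _ => rfl)
  haveI : Algebra.WeaklyEtale R (Hull R C) := Groth.Agent.S0736.result R (Hull R C) (isIndEtale R C)
  haveI : Algebra.WeaklyEtale R D := Algebra.WeaklyEtale.trans R (Hull R C) D
  obtain ⟨ρ, hρ⟩ := exists_extend hC (D := Hull R C) (D' := D) (π R C).toRingHom
  let ρa : D →ₐ[R] C :=
    { ρ with
      commutes' := fun a => by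
        change ρ (algebraMap (Hull R C) D (algebraMap R (Hull R C) a)) = algebraMap R C a
        have := congrArg (fun w : Hull R C →+* C => w (algebraMap R (Hull R C) a)) hρ
        change ρ (algebraMap (Hull R C) D (algebraMap R (Hull R C) a)) =
          π R C (algebraMap R (Hull R C) a) at this
        rw [this, AlgHom.commutes] }
  obtain ⟨θ, hθ⟩ := exists_lift_of_weaklyEtale hC ρa
  have hid : θ.comp (IsScalarTower.toAlgHom R (Hull R C) D) = AlgHom.id R (Hull R C) := by
    apply lift_unique_of_hasFactor (hasFactor R C)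
    rw [← AlgHom.comp_assoc, hθ, AlgHom.comp_id]
    ext h
    exact congrArg (fun w : Hull R C →+* C => w h) hρ
  refine ⟨{ (θ : D →+* Hull R C) with commutes' := fun h => ?_ }⟩
  exact congrArg (fun w : Hull R C →ₐ[R] Hull R C => w h) hid

end Groth.Agent.H27.HullHens
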