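import Mathlib

set_option autoImplicit false
universe u

namespace Groth.Agent.H27.IdemGlue

variable {A : Type u} [CommRing A]

/-- `V f x`: `x` dies in the localization at `f`. -/
def V {M : Type*} [AddCommGroup M] [Module A M] (f : A) (x : M) : Prop := ∃ j : ℕ, f ^ j • x = 0

section V

variable {M : Type*} [AddCommGroup M] [Module A M] {N : Type*} [AddCommGroup N] [Module A N]

theorem V.zero (f : A) : V f (0 : M) := ⟨0, by simp⟩

theorem V.of_eq_zero {f : A} {x : M} (h : x = 0) : V f x := h ▸ V.zero f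

theorem V.smul {f : A} {x : M} (h : V f x) (a : A) : V f (a • x) := by
  obtain ⟨j, hj⟩ := h
  exact ⟨j, by rw [smul_comm, hj, smul_zero]⟩

theorem V.add {f : A} {x y : M} (hx : V f x) (hy : V f y) : V f (x + y) := by
  obtain ⟨j, hj⟩ := hx
  obtain ⟨k, hk⟩ := hy
  refine ⟨j + k, ?_⟩
  have h1 : f ^ (j + k) • x = 0 := by rw [pow_add, mul_comm, mul_smul, hj, smul_zero]
  have h2 : f ^ (j + k) • y = 0 := by rw [pow_add, mul_smul, hk, smul_zero]
  rw [smul_add, h1, h2, add_zero]

theorem V.neg {f : A} {x : M} (hx : V f x) : V f (-x) := by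
  obtain ⟨j, hj⟩ := hx
  exact ⟨j, by rw [smul_neg, hj, neg_zero]⟩

theorem V.sub {f : A} {x y : M} (hx : V f x) (hy : V f y) : V f (x - y) := by
  rw [sub_eq_add_neg]
  exact hx.add hy.neg

theorem V.map {f : A} {x : M} (h : V f x) (u : M →ₗ[A] N) : V f (u x) := by
  obtain ⟨j, hj⟩ := h
  exact ⟨j, by rw [← map_smul, hj, map_zero]⟩

theorem V.mul_left {f : A} {x : M} (h : V f x) (g : A) : V (g * f) x := by
  obtain ⟨j, hj⟩ := h
  exact ⟨j, by rw [mul_pow, mul_smul, hj, smul_zero]⟩

theorem V.mul_right {f : A} {x : M} (h : V f x) (g : A) : V (f * g) x := by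
  rw [mul_comm]
  exact h.mul_left g

theorem V.of_pow_smul {f : A} {x : M} (k : ℕ) (h : V f (f ^ k • x)) : V f x := by
  obtain ⟨j, hj⟩ := h
  exact ⟨j + k, by rw [pow_add, mul_smul, hj]⟩

theorem V.of_mul_pow_smul {f g : A} {x : M} (k : ℕ) (h : V (f * g) (g ^ k • x)) : V (f * g) x := by
  have : V (f * g) ((f * g) ^ k • x) := by
    rw [mul_pow, mul_smul]
    exact h.smul _
  exact V.of_pow_smul k this

/-- The annihilator of an element, as an ideal. -/
def annIdeal (x : M) : Ideal A := LinearMap.ker (LinearMap.toSpanSingleton A M x)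

theorem V.iff_mem_radical {f : A} {x : M} :
    V f x ↔ f ∈ (annIdeal (A := A) x).radical := by
  constructor
  · rintro ⟨j, hj⟩
    refine ⟨j, ?_⟩
    change LinearMap.toSpanSingleton A M x (f ^ j) = 0
    rw [LinearMap.toSpanSingleton_apply, hj]
  · rintro ⟨j, hj⟩
    refine ⟨j, ?_⟩
    have : LinearMap.toSpanSingleton A M x (f ^ j) = 0 := hj
    rwa [LinearMap.toSpanSingleton_apply] at this

/-- Patching: if `g ∈ span S` and `x` dies at `g * s` for all `s ∈ S` then `x` dies at `g`. -/
theorem V.patch {S : Set A} {g : A} (hg : g ∈ Ideal.span S) {x : M}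
    (h : ∀ s ∈ S, V (g * s) x) : V g x := by
  set R := (annIdeal (A := A) x).radical with hR
  have h1 : ∀ y ∈ Ideal.span S, g * y ∈ R := by
    intro y hy
    induction hy using Submodule.span_induction with
    | mem s hs => exact V.iff_mem_radical.mp (h s hs)
    | zero => rw [mul_zero]; exact R.zero_mem
    | add y z _ _ hy hz => rw [mul_add]; exact R.add_mem hy hz
    | smul a y _ hy =>
      rw [smul_eq_mul, mul_left_comm]
      exact R.mul_mem_left a hy
  have h2 : g ∈ R.radical := ⟨2, by rw [pow_two]; exact h1 g hg⟩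
  rw [hR, Ideal.radical_idem] at h2
  exact V.iff_mem_radical.mpr h2

end V

section interface

/-- Elementwise criterion for `A_f → D_f` to be bijective. -/
theorem bijective_algebraMap_away {D : Type u} [CommRing D] [Algebra A D] (f : A)
    (hinj : ∀ a : A, V f (algebraMap A D a) → V f a)
    (hsurj : ∀ d : D, ∃ (a : A) (k : ℕ), V f (algebraMap A D a - f ^ k • d)) :
    Function.Bijective (algebraMap (Localization.Away f)
      (Localization (Algebra.algebraMapSubmonoid D (Submonoid.powers f)))) := by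
  constructor
  · rw [injective_iff_map_eq_zero]
    intro x hx
    obtain ⟨⟨a, s⟩, rfl⟩ := IsLocalization.mk'_surjective (Submonoid.powers f) x
    rw [IsLocalization.algebraMap_mk' D, IsLocalization.mk'_eq_zero_iff] at hx
    obtain ⟨⟨m, hm⟩, hm0⟩ := hx
    obtain ⟨y, ⟨j, rfl⟩, rfl⟩ := hm
    have h1 : V f (algebraMap A D a) := ⟨j, by rw [Algebra.smul_def]; exact hm0⟩
    obtain ⟨i, hi⟩ := hinj a h1
    rw [IsLocalization.mk'_eq_zero_iff]
    exact ⟨⟨f ^ i, i, rfl⟩, by simpa using hi⟩
  · intro z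
    obtain ⟨⟨d, ⟨s, hs⟩⟩, rfl⟩ := IsLocalization.mk'_surjective
      (Algebra.algebraMapSubmonoid D (Submonoid.powers f)) z
    obtain ⟨y, ⟨k0, rfl⟩, rfl⟩ := hs
    obtain ⟨a, k, j, hj⟩ := hsurj d
    refine ⟨IsLocalization.mk' _ a (⟨f ^ (k + k0), _, rfl⟩ : Submonoid.powers f), ?_⟩
    rw [IsLocalization.algebraMap_mk' D, IsLocalization.eq]
    refine ⟨⟨algebraMap A D (f ^ j), Algebra.mem_algebraMapSubmonoid_of_mem
      (⟨f ^ j, j, rfl⟩ : Submonoid.powers f)⟩, ?_⟩
    simp only
    rw [smul_sub, sub_eq_zero, Algebra.smul_def, Algebra.smul_def, Algebra.smul_def] at hj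
    rw [pow_add, map_mul]
    linear_combination (algebraMap A D (f ^ k0)) * hj

/-- `A_f`. -/
abbrev Af (f : A) := Localization.Away f

/-- `C_f`. -/
abbrev Cf (C : Type u) [CommRing C] [Algebra A C] (f : A) :=
  Localization (Algebra.algebraMapSubmonoid C (Submonoid.powers f))

/-- The elementwise data extracted from "`A_f → C_f` is the localization at an idempotent". -/
def IsData (C : Type u) [CommRing C] [Algebra A C] (f a : A) (n : ℕ) : Prop :=
  V f (a * (f ^ n - a)) ∧ (∀ a' : A, V f (algebraMap A C a') ↔ V f (a * a')) ∧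
    ∀ c : C, ∃ (a' : A) (k : ℕ), V f (algebraMap A C a' - f ^ k • c)

theorem exists_isData_of_away {C : Type u} [CommRing C] [Algebra A C] (f : A)
    (h : ∃ e : Localization.Away f, IsIdempotentElem e ∧
      IsLocalization.Away e (Localization (Algebra.algebraMapSubmonoid C (Submonoid.powers f)))) :
    ∃ (a : A) (n : ℕ), IsData C f a n := by
  obtain ⟨e, he, hloc⟩ := h
  haveI : IsLocalization.Away e (Cf C f) := hloc
  have f1 : algebraMap (Af f) (Cf C f) e = 1 := by
    have hu : IsUnit (algebraMap (Af f) (Cf C f) e) := IsLocalization.Away.algebraMap_isUnit e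
    have hi : algebraMap (Af f) (Cf C f) e * algebraMap (Af f) (Cf C f) e =
        algebraMap (Af f) (Cf C f) e := by
      rw [← map_mul, he.eq]
    exact hu.mul_eq_left.mp hi
  have f2 : ∀ x : Af f, algebraMap (Af f) (Cf C f) x = 0 ↔ e * x = 0 := by
    intro x
    rw [IsLocalization.map_eq_zero_iff (Submonoid.powers e) (Cf C f) x]
    constructor
    · rintro ⟨⟨m, k, hk⟩, hm⟩
      change m * x = 0 at hm
      change e ^ k = m at hk
      subst hk
      cases k with
      | zero => rw [pow_zero, one_mul] at hm; rw [hm, mul_zero]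
      | succ k => rwa [he.pow_succ_eq] at hm
    · intro hx
      exact ⟨⟨e, 1, pow_one e⟩, hx⟩
  have f3 : ∀ z : Cf C f, ∃ x : Af f, algebraMap (Af f) (Cf C f) x = z := by
    intro z
    obtain ⟨⟨x, ⟨m, k, hk⟩⟩, hx⟩ := IsLocalization.surj (Submonoid.powers e) z
    change z * algebraMap (Af f) (Cf C f) m = algebraMap (Af f) (Cf C f) x at hx
    change e ^ k = m at hk
    subst hk
    rw [map_pow, f1, one_pow, mul_one] at hx
    exact ⟨x, hx.symm⟩
  obtain ⟨⟨a, ⟨s, n, hn⟩⟩, hae⟩ := IsLocalization.mk'_surjective (Submonoid.powers f) e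
  simp only at hae hn
  refine ⟨a, n, ?_, ?_, ?_⟩
  · have h1 : IsLocalization.mk' (Af f) (a * a) ((⟨s, n, hn⟩ : Submonoid.powers f) * ⟨s, n, hn⟩) =
        IsLocalization.mk' (Af f) a (⟨s, n, hn⟩ : Submonoid.powers f) := by
      rw [IsLocalization.mk'_mul, hae, he.eq]
    rw [IsLocalization.eq] at h1
    obtain ⟨⟨c, j, rfl⟩, hc⟩ := h1
    simp only [Submonoid.coe_mul] at hc
    subst hn
    refine ⟨j + n, ?_⟩
    rw [smul_eq_mul, pow_add]
    linear_combination (-1 : A) * hc
  · intro a'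
    have h1 : V f (algebraMap A C a') ↔ algebraMap C (Cf C f) (algebraMap A C a') = 0 := by
      rw [IsLocalization.map_eq_zero_iff (Algebra.algebraMapSubmonoid C (Submonoid.powers f))
        (Cf C f)]
      constructor
      · rintro ⟨j, hj⟩
        refine ⟨⟨algebraMap A C (f ^ j), Algebra.mem_algebraMapSubmonoid_of_mem
          (⟨f ^ j, j, rfl⟩ : Submonoid.powers f)⟩, ?_⟩
        rw [Algebra.smul_def] at hj
        exact hj
      · rintro ⟨⟨m, y, ⟨j, rfl⟩, rfl⟩, hm⟩
        exact ⟨j, by rw [Algebra.smul_def]; exact hm⟩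
    have h2 : algebraMap C (Cf C f) (algebraMap A C a') =
        algebraMap (Af f) (Cf C f) (algebraMap A (Af f) a') := by
      rw [← IsScalarTower.algebraMap_apply A C (Cf C f),
        ← IsScalarTower.algebraMap_apply A (Af f) (Cf C f)]
    have h3 : e * algebraMap A (Af f) a' = 0 ↔ V f (a * a') := by
      rw [← hae, mul_comm, IsLocalization.mul_mk'_eq_mk'_of_mul, IsLocalization.mk'_eq_zero_iff]
      constructor
      · rintro ⟨⟨m, j, rfl⟩, hm⟩
        exact ⟨j, by rw [smul_eq_mul, mul_comm a a']; exact hm⟩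
      · rintro ⟨j, hj⟩
        exact ⟨⟨f ^ j, j, rfl⟩, by rw [mul_comm a' a]; exact hj⟩
    rw [h1, h2, f2, h3]
  · intro c
    obtain ⟨x, hx⟩ := f3 (algebraMap C (Cf C f) c)
    obtain ⟨⟨a', ⟨s', k, hk⟩⟩, rfl⟩ := IsLocalization.mk'_surjective (Submonoid.powers f) x
    refine ⟨a', k, ?_⟩
    rw [IsLocalization.algebraMap_mk' C, IsLocalization.mk'_eq_iff_eq_mul] at hx
    simp only at hx
    rw [← map_mul, IsLocalization.eq_iff_exists
      (Algebra.algebraMapSubmonoid C (Submonoid.powers f)) (Cf C f)] at hx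
    obtain ⟨⟨m, y, ⟨j, rfl⟩, rfl⟩, hm⟩ := hx
    subst hk
    refine ⟨j, ?_⟩
    simp only at hm
    rw [smul_sub, sub_eq_zero, Algebra.smul_def, Algebra.smul_def, Algebra.smul_def, hm]
    ring

end interface

section core

theorem exists_uniform {α : Type*} (T : Finset α) (P : ℕ → α → Prop)
    (mono : ∀ s m n, m ≤ n → P m s → P n s) (h : ∀ s ∈ T, ∃ N, P N s) :
    ∃ N, ∀ s ∈ T, P N s := by
  classical
  induction T using Finset.induction_on with
  | empty => exact ⟨0, fun s hs => absurd hs (Finset.notMem_empty s)⟩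
  | insert s T hs ih =>
    obtain ⟨N1, h1⟩ := ih fun t ht => h t (Finset.mem_insert_of_mem ht)
    obtain ⟨N2, h2⟩ := h s (Finset.mem_insert_self s T)
    refine ⟨max N1 N2, fun t ht => ?_⟩
    rcases Finset.mem_insert.mp ht with rfl | ht
    · exact mono _ _ _ (le_max_right _ _) h2
    · exact mono _ _ _ (le_max_left _ _) (h1 t ht)

theorem V.prod {M N : Type*} [AddCommGroup M] [Module A M] [AddCommGroup N] [Module A N]
    {f : A} {x : M} {y : N} (hx : V f x) (hy : V f y) : V f ((x, y) : M × N) := by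
  have h1 : V f ((x, 0) : M × N) := hx.map (LinearMap.inl A M N)
  have h2 : V f ((0, y) : M × N) := hy.map (LinearMap.inr A M N)
  have := h1.add h2
  simpa using this

variable {C : Type u} [CommRing C] [Algebra A C]

theorem IsData.V_b {f a : A} {n : ℕ} (h : IsData C f a n) : V f (algebraMap A C (f ^ n - a)) :=
  (h.2.1 _).mpr h.1

/-- Compatibility of the local idempotents. -/
theorem IsData.compat {f a : A} {n : ℕ} (hf : IsData C f a n) {g b : A} {m : ℕ}
    (hg : IsData C g b m) : V (f * g) (a * (g ^ m - b)) := by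
  obtain ⟨j, hj⟩ := hg.V_b
  have h1 : algebraMap A C (g ^ j * (g ^ m - b)) = 0 := by
    rw [map_mul, ← Algebra.smul_def]; exact hj
  have h2 : V f (a * (g ^ j * (g ^ m - b))) := (hf.2.1 _).mp (V.of_eq_zero h1)
  have h3 : V (f * g) (g ^ j • (a * (g ^ m - b))) := by
    rw [smul_eq_mul, mul_left_comm]
    exact h2.mul_right g
  exact V.of_mul_pow_smul j h3

theorem main (I : Ideal A) (hI : I.FG)
    (h : ∀ f ∈ I, ∃ (a : A) (n : ℕ), IsData C f a n) :
    ∃ K : Ideal A, ∀ f ∈ I,
      (∀ a : A, V f (algebraMap A (C × (A ⧸ K)) a) → V f a) ∧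
      (∀ d : C × (A ⧸ K), ∃ (a : A) (k : ℕ), V f (algebraMap A (C × (A ⧸ K)) a - f ^ k • d)) := by
  classical
  choose a n hd using h
  -- the ideal `K`
  let K : Ideal A :=
    { carrier := {x | ∀ g (hg : g ∈ I), V g (x * (g ^ n g hg - a g hg))}
      zero_mem' := fun g hg => by rw [zero_mul]; exact V.zero g
      add_mem' := fun {x y} hx hy g hg => by rw [add_mul]; exact (hx g hg).add (hy g hg)
      smul_mem' := fun c x hx g hg => by
        rw [smul_eq_mul, mul_assoc]
        exact (hx g hg).smul c }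
  have hKmem : ∀ x, x ∈ K ↔ ∀ g (hg : g ∈ I), V g (x * (g ^ n g hg - a g hg)) := fun x => Iff.rfl
  obtain ⟨G, hG⟩ := hI
  have hGI : ∀ s ∈ G, s ∈ I := fun s hs => hG ▸ Ideal.subset_span hs
  -- Claim A
  have claimA : ∀ f (hf : f ∈ I), ∃ N : ℕ, f ^ N * a f hf ∈ K := by
    intro f hf
    have hex : ∀ s ∈ G, ∃ N : ℕ, ∀ hs : s ∈ I,
        V s (f ^ N * (a f hf * (s ^ n s hs - a s hs))) := by
      intro s hsG
      have hs := hGI s hsG
      obtain ⟨j, hj⟩ := (hd f hf).compat (hd s hs)
      refine ⟨j, fun _ => ⟨j, ?_⟩⟩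
      rw [smul_eq_mul, ← mul_assoc, ← mul_pow, mul_comm s f]
      exact hj
    obtain ⟨N, hN⟩ := exists_uniform G
      (fun N s => ∀ hs : s ∈ I, V s (f ^ N * (a f hf * (s ^ n s hs - a s hs))))
      (fun s m k hmk hP hs => by
        have : f ^ k = f ^ (k - m) * f ^ m := by rw [← pow_add, Nat.sub_add_cancel hmk]
        rw [this, mul_assoc]
        exact (hP hs).smul _) hex
    refine ⟨N, ?_⟩
    rw [hKmem]
    intro g hg
    have hgG : g ∈ Ideal.span (G : Set A) := hG ▸ hg
    refine V.patch hgG fun s hsG => ?_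
    have hs := hGI s hsG
    -- x = f^N * a_f * b_g
    have h1 : V (g * s) (a s hs * (g ^ n g hg - a g hg)) := by
      rw [mul_comm g s]
      exact (hd s hs).compat (hd g hg)
    have h2 : V (g * s) (f ^ N * (a f hf * (s ^ n s hs - a s hs))) :=
      (hN s hsG hs).mul_left g
    have h3 : s ^ n s hs • (f ^ N * a f hf * (g ^ n g hg - a g hg)) =
        (f ^ N * a f hf) • (a s hs * (g ^ n g hg - a g hg)) +
          (g ^ n g hg - a g hg) • (f ^ N * (a f hf * (s ^ n s hs - a s hs))) := by
      simp only [smul_eq_mul]; ring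
    have h4 : V (g * s) (s ^ n s hs • (f ^ N * a f hf * (g ^ n g hg - a g hg))) := by
      rw [h3]
      exact (h1.smul _).add (h2.smul _)
    exact V.of_mul_pow_smul _ h4
  refine ⟨K, fun f hf => ⟨?_, ?_⟩⟩
  · intro a0 h0
    have h1 : V f (algebraMap A C a0) := h0.map (LinearMap.fst A C (A ⧸ K))
    have h2 : V f (Ideal.Quotient.mk K a0) := h0.map (LinearMap.snd A C (A ⧸ K))
    have h3 : V f (a f hf * a0) := ((hd f hf).2.1 a0).mp h1
    have h4 : V f (a0 * (f ^ n f hf - a f hf)) := by
      obtain ⟨j, hj⟩ := h2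
      have : f ^ j * a0 ∈ K := by
        rw [← Ideal.Quotient.eq_zero_iff_mem, map_mul]
        rw [Algebra.smul_def] at hj
        exact hj
      have := (hKmem _).mp this f hf
      rw [mul_assoc, ← smul_eq_mul] at this
      exact V.of_pow_smul j this
    have h5 : f ^ n f hf • a0 = a f hf * a0 + a0 * (f ^ n f hf - a f hf) := by
      rw [smul_eq_mul]; ring
    exact V.of_pow_smul (n f hf) (h5 ▸ h3.add h4)
  · rintro ⟨c, q⟩
    obtain ⟨a'', rfl⟩ := Ideal.Quotient.mk_surjective q
    obtain ⟨a', k, hk⟩ := (hd f hf).2.2 c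
    obtain ⟨N, hN⟩ := claimA f hf
    refine ⟨a f hf * a' + f ^ k * (f ^ n f hf - a f hf) * a'', n f hf + k, ?_⟩
    have hb := (hd f hf).V_b
    have e1 : algebraMap A (C × (A ⧸ K)) (a f hf * a' + f ^ k * (f ^ n f hf - a f hf) * a'') -
        f ^ (n f hf + k) • ((c, Ideal.Quotient.mk K a'') : C × (A ⧸ K)) =
        (f ^ n f hf • (algebraMap A C a' - f ^ k • c) +
          (f ^ k * a'' - a') • algebraMap A C (f ^ n f hf - a f hf),
          Ideal.Quotient.mk K (a f hf * (a' - f ^ k * a''))) := by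
      rw [Prod.algebraMap_apply]
      refine Prod.ext ?_ ?_
      · simp only [Prod.fst_sub, Prod.smul_mk]
        simp only [Algebra.smul_def, map_add, map_mul, map_sub, map_pow]
        ring
      · simp only [Prod.snd_sub, Prod.smul_mk]
        rw [Ideal.Quotient.algebraMap_eq, Algebra.smul_def, Ideal.Quotient.algebraMap_eq,
          ← map_mul, ← map_sub]
        congr 1
        ring
    rw [e1]
    refine V.prod ((hk.smul _).add (hb.smul _)) ⟨N, ?_⟩
    rw [Algebra.smul_def]
    change Ideal.Quotient.mk K _ * _ = 0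
    rw [← map_mul, Ideal.Quotient.eq_zero_iff_mem, ← mul_assoc]
    exact K.mul_mem_right _ hN

end core

end Groth.Agent.H27.IdemGlue
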