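import Groth.Agent.H27.IndEtK

/-!
# The ind-étale hull of an algebra

For an arbitrary `A`-algebra `B`, `Hull A B` is the (filtered) colimit of all presented étale
`A`-algebras over `B`.  It is ind-étale over `A` by construction and maps to `B`.
-/

set_option autoImplicit false
universe u

open CategoryTheory CategoryTheory.Limits

namespace Groth.Agent.H27.IndEtHull

open Groth.Agent.H3.IndEtCrit Groth.Agent.H27.IndEtK

variable (A B : Type u) [CommRing A] [CommRing B] [Algebra A B]

/-- the colimit cocone of all presented étale algebras over `B` -/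
noncomputable def hc : Cocone (diagram (A := A) (B := B)) := colimit.cocone _

/-- it is a colimit -/
noncomputable def hcIsColimit : IsColimit (hc A B) := colimit.isColimit _

/-- the hull -/
def Hull : Type u := (hc A B).pt.right

noncomputable instance : CommRing (Hull A B) := inferInstanceAs (CommRing ((hc A B).pt.right))

noncomputable instance : Algebra A (Hull A B) := ((hc A B).pt.hom.hom).toAlgebra

/-- the coprojections -/
noncomputable def ι (X : Obj A B) : X.ring →ₐ[A] Hull A B where
  __ := ((hc A B).ι.app X).right.hom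
  commutes' a := by
    have := Under.w ((hc A B).ι.app X)
    exact congrArg (fun φ => φ.hom a) this

/-- the map to `B` -/
noncomputable def π : Hull A B →ₐ[A] B where
  __ := ((hcIsColimit A B).desc (cocone (A := A) (B := B))).right.hom
  commutes' a := by
    have := Under.w ((hcIsColimit A B).desc (cocone (A := A) (B := B)))
    exact congrArg (fun φ => φ.hom a) this

variable {A B}

theorem ι_comp {X Y : Obj A B} (g : X ⟶ Y) (x : X.ring) : ι A B Y (g.f x) = ι A B X x := by
  have := (hc A B).w g
  exact congrArg (fun φ : (diagram (A := A) (B := B)).obj X ⟶ (hc A B).pt => φ.right.hom x) this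

theorem π_ι (X : Obj A B) (x : X.ring) : π A B (ι A B X x) = X.φ x := by
  have := (hcIsColimit A B).fac (cocone (A := A) (B := B)) X
  exact congrArg (fun φ : (diagram (A := A) (B := B)).obj X ⟶ (cocone (A := A) (B := B)).pt =>
    φ.right.hom x) this

theorem π_comp_ι (X : Obj A B) : (π A B).comp (ι A B X) = X.φ :=
  AlgHom.ext (π_ι X)

theorem ι_surj (h : Hull A B) : ∃ (X : Obj A B) (x : X.ring), ι A B X x = h := by
  haveI := isFiltered A B
  haveI : IsConnected (Obj A B) := IsFiltered.isConnected _
  have hc' : IsColimit ((Under.forget _).mapCocone (hc A B)) :=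
    isColimitOfPreserves (Under.forget _) (hcIsColimit A B)
  obtain ⟨X, y, hy⟩ := Concrete.isColimit_exists_rep
    (diagram (A := A) (B := B) ⋙ Under.forget _) hc' h
  exact ⟨X, y, hy⟩

theorem ι_inj (X : Obj A B) (x : X.ring) (hx : ι A B X x = 0) :
    ∃ (Y : Obj A B) (g : X ⟶ Y), g.f x = 0 := by
  haveI := isFiltered A B
  haveI : IsConnected (Obj A B) := IsFiltered.isConnected _
  have hc' : IsColimit ((Under.forget _).mapCocone (hc A B)) :=
    isColimitOfPreserves (Under.forget _) (hcIsColimit A B)
  have h3 : ((Under.forget _).mapCocone (hc A B)).ι.app X x =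
      ((Under.forget _).mapCocone (hc A B)).ι.app X (0 : X.ring) := by
    change ι A B X x = ι A B X 0
    rw [hx, map_zero]
  obtain ⟨Y, f, g, hfg⟩ := Concrete.isColimit_exists_of_rep_eq
    (diagram (A := A) (B := B) ⋙ Under.forget _) hc' x (0 : X.ring) h3
  refine ⟨Y, f, ?_⟩
  have h4 : f.f x = g.f 0 := hfg
  rw [h4, map_zero]

variable (A B) in
theorem isIndEtale : EtPBC.IsIndEtale A (Hull A B) :=
  ⟨Obj A B, inferInstance, isFiltered A B, diagram, hc A B, hcIsColimit A B, etale_diagram_obj,
    ⟨Under.isoMk (Iso.refl _) (by ext; rfl)⟩⟩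

variable (A B) in
theorem hasFactor : HasFactor A (Hull A B) := hasFactor_of_isIndEtale (isIndEtale A B)

/-- every étale algebra over `B` maps to the hull -/
theorem exists_lift (E : Type u) [CommRing E] [Algebra A E] [Algebra.Etale A E] (φ : E →ₐ[A] B) :
    ∃ θ : E →ₐ[A] Hull A B, (π A B).comp θ = φ := by
  obtain ⟨X, e, he⟩ := exists_obj E φ
  refine ⟨(ι A B X).comp e.symm.toAlgHom, ?_⟩
  rw [← AlgHom.comp_assoc, π_comp_ι, ← he]
  ext x
  change φ (e (e.symm x)) = φ x
  rw [AlgEquiv.apply_symm_apply]

/-- finitely presented algebras over the hull factor through a stage -/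
theorem exists_factor_stage (P : Type u) [CommRing P] [Algebra A P] [Algebra.FinitePresentation A P]
    (ψ : P →ₐ[A] Hull A B) : ∃ (X : Obj A B) (g : P →ₐ[A] X.ring), (ι A B X).comp g = ψ := by
  have hd : Groth.Agent.H4.DirFlat.Dir (ι A B) := by
    intro X Y
    obtain ⟨Z, f, g, -⟩ := exists_sup X Y
    exact ⟨Z, f.f, g.f, AlgHom.ext (ι_comp f), AlgHom.ext (ι_comp g)⟩
  have hs : Groth.Agent.H4.DirFlat.Surj (ι A B) := fun h => ι_surj h
  have hi : Groth.Agent.H4.DirFlat.Inj (ι A B) := by
    intro X x hx
    obtain ⟨Y, g, hg⟩ := ι_inj X x hx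
    exact ⟨Y, g.f, AlgHom.ext (ι_comp g), hg⟩
  exact CoverFactor.exists_factor hd hs hi P ψ

/-- a map from an étale algebra to the hull is the coprojection of the corresponding object -/
theorem eq_ι_of_etale (X : Obj A B) (θ : X.ring →ₐ[A] Hull A B) (hθ : (π A B).comp θ = X.φ) :
    θ = ι A B X := by
  obtain ⟨Y, g, hg⟩ := exists_factor_stage X.ring θ
  have hcomm : Y.φ.comp g = X.φ := by
    rw [← hθ, ← hg, ← AlgHom.comp_assoc, π_comp_ι]
  let m : X ⟶ Y := ⟨g, hcomm⟩
  rw [← hg]
  exact AlgHom.ext (ι_comp m)

end Groth.Agent.H27.IndEtHull
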