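import Groth.Agent.H3.IndEtCrit
import Groth.Agent.H4.IndCover
import Groth.Agent.H27.CoverFactor

/-!
# The factorization criterion for ind-étale algebras

For an arbitrary `A`-algebra `B`, the category `Obj A B` (helper3) of presented étale `A`-algebras
over `B` is filtered *unconditionally* (coequalizers via the unramified/smooth lifting argument).
`B` is ind-étale over `A` iff every map `P → B` from a finitely presented `A`-algebra factors through
an étale `A`-algebra.
-/

set_option autoImplicit false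
universe u

open CategoryTheory CategoryTheory.Limits
open scoped TensorProduct

namespace Groth.Agent.H27.IndEtK

open Groth.Agent.H3.IndEtCrit

variable {A B : Type u} [CommRing A] [CommRing B] [Algebra A B]

/-- quotient of an étale algebra by the coequalizer ideal of two maps from an unramified algebra is
étale -/
theorem etale_coeq {X Y : Type u} [CommRing X] [CommRing Y] [Algebra A X] [Algebra A Y]
    [Algebra.FormallyUnramified A X] [Algebra.Etale A Y] (f g : X →ₐ[A] Y) (t : Finset Y)
    (ht : (Ideal.Quotient.mkₐ A (Ideal.span (t : Set Y))).comp f =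
      (Ideal.Quotient.mkₐ A (Ideal.span (t : Set Y))).comp g)
    (ht' : ∀ y ∈ t, ∀ (R : Type u) [CommRing R] [Algebra A R] (v : Y →ₐ[A] R),
      v.comp f = v.comp g → v y = 0) :
    Algebra.Etale A (Y ⧸ Ideal.span (t : Set Y)) := by
  set I : Ideal Y := Ideal.span (t : Set Y) with hI
  let π : Y →ₐ[A] Y ⧸ I := Ideal.Quotient.mkₐ A I
  haveI : Algebra.FinitePresentation A (Y ⧸ I) := Algebra.FinitePresentation.quotient ⟨t, rfl⟩
  haveI : Algebra.FormallyUnramified A (Y ⧸ I) :=
    Algebra.FormallyUnramified.of_surjective π Ideal.Quotient.mk_surjective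
  haveI : Algebra.FormallySmooth A (Y ⧸ I) := by
    apply Algebra.FormallySmooth.of_comp_surjective
    intro R _ _ J hJ u
    obtain ⟨v, hv⟩ := Algebra.FormallySmooth.comp_surjective A Y J hJ (u.comp π)
    have h1 : v.comp f = v.comp g := by
      apply Algebra.FormallyUnramified.comp_injective J hJ
      rw [← AlgHom.comp_assoc, ← AlgHom.comp_assoc, hv, AlgHom.comp_assoc, AlgHom.comp_assoc, ht]
    have h2 : ∀ y ∈ I, v y = 0 := by
      have : I ≤ RingHom.ker v.toRingHom := by
        rw [hI, Ideal.span_le]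
        intro y hy
        exact ht' y hy R v h1
      exact fun y hy => this hy
    refine ⟨Ideal.Quotient.liftₐ I v h2, ?_⟩
    have hsurj : Function.Surjective π := Ideal.Quotient.mk_surjective
    rw [← AlgHom.cancel_right hsurj, AlgHom.comp_assoc]
    have : (Ideal.Quotient.liftₐ I v h2).comp π = v := by
      ext y; rfl
    rw [this, hv]
  haveI : Algebra.FormallyEtale A (Y ⧸ I) :=
    Algebra.FormallyEtale.iff_formallyUnramified_and_formallySmooth.mpr ⟨inferInstance, inferInstance⟩
  exact {}

/-- coequalizers in `Obj A B` -/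
theorem exists_coeq {X Y : Obj A B} (f g : X ⟶ Y) :
    ∃ (Z : Obj A B) (h : Y ⟶ Z), f ≫ h = g ≫ h := by
  classical
  let t : Finset Y.ring := Finset.univ.image fun i : Fin X.n =>
    f.f (Ideal.Quotient.mk _ (MvPolynomial.X i)) - g.f (Ideal.Quotient.mk _ (MvPolynomial.X i))
  set I : Ideal Y.ring := Ideal.span (t : Set Y.ring) with hI
  let π : Y.ring →ₐ[A] Y.ring ⧸ I := Ideal.Quotient.mkₐ A I
  have hsurjX : Function.Surjective (Ideal.Quotient.mkₐ A
      (Ideal.span (X.s : Set (MvPolynomial (Fin X.n) A)))) := Ideal.Quotient.mk_surjective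
  have hπ : π.comp f.f = π.comp g.f := by
    rw [← AlgHom.cancel_right hsurjX]
    apply MvPolynomial.algHom_ext
    intro i
    change π (f.f (Ideal.Quotient.mk _ (MvPolynomial.X i))) =
      π (g.f (Ideal.Quotient.mk _ (MvPolynomial.X i)))
    rw [← sub_eq_zero, ← map_sub]
    exact Ideal.Quotient.eq_zero_iff_mem.mpr
      (Ideal.subset_span (Finset.mem_image.mpr ⟨i, Finset.mem_univ _, rfl⟩))
  have hkill : ∀ y ∈ t, ∀ (R : Type u) [CommRing R] [Algebra A R] (v : Y.ring →ₐ[A] R),
      v.comp f.f = v.comp g.f → v y = 0 := by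
    intro y hy R _ _ v hv
    obtain ⟨i, -, rfl⟩ := Finset.mem_image.mp hy
    rw [map_sub, sub_eq_zero]
    exact congrArg (fun w : X.ring →ₐ[A] R => w (Ideal.Quotient.mk _ (MvPolynomial.X i))) hv
  haveI : Algebra.Etale A (Y.ring ⧸ I) := etale_coeq f.f g.f t hπ hkill
  have hφ : ∀ y ∈ I, Y.φ y = 0 := by
    have : I ≤ RingHom.ker Y.φ.toRingHom := by
      rw [hI, Ideal.span_le]
      intro y hy
      refine hkill y hy B Y.φ ?_
      rw [f.comm, g.comm]
    exact fun y hy => this hy
  let φZ : (Y.ring ⧸ I) →ₐ[A] B := Ideal.Quotient.liftₐ I Y.φ hφ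
  obtain ⟨Z, e, he⟩ := exists_obj (Y.ring ⧸ I) φZ
  refine ⟨Z, ⟨e.symm.toAlgHom.comp π, ?_⟩, ?_⟩
  · ext y
    change Z.φ (e.symm (π y)) = Y.φ y
    rw [← he]
    change φZ (e (e.symm (π y))) = _
    rw [AlgEquiv.apply_symm_apply]
    rfl
  · apply Hom.ext
    rw [comp_f, comp_f]
    change (e.symm.toAlgHom.comp π).comp f.f = (e.symm.toAlgHom.comp π).comp g.f
    rw [AlgHom.comp_assoc, AlgHom.comp_assoc, hπ]

/-- binary cocones in `Obj A B` -/
theorem exists_sup (X Y : Obj A B) : ∃ (Z : Obj A B) (_ : X ⟶ Z) (_ : Y ⟶ Z), True := by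
  haveI : Algebra.Etale A (TensorProduct A X.ring Y.ring) := Algebra.Etale.comp A X.ring _
  obtain ⟨Z, e, he⟩ := exists_obj (TensorProduct A X.ring Y.ring)
    (Algebra.TensorProduct.productMap X.φ Y.φ)
  let iL : X.ring →ₐ[A] TensorProduct A X.ring Y.ring := Algebra.TensorProduct.includeLeft
  let iR : Y.ring →ₐ[A] TensorProduct A X.ring Y.ring := Algebra.TensorProduct.includeRight
  refine ⟨Z, ⟨e.symm.toAlgHom.comp iL, ?_⟩, ⟨e.symm.toAlgHom.comp iR, ?_⟩, trivial⟩
  · ext x
    change Z.φ (e.symm (iL x)) = X.φ x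
    rw [← he]
    change Algebra.TensorProduct.productMap X.φ Y.φ (e (e.symm _)) = _
    rw [AlgEquiv.apply_symm_apply]
    change Algebra.TensorProduct.productMap X.φ Y.φ (x ⊗ₜ[A] 1) = _
    rw [Algebra.TensorProduct.productMap_apply_tmul, map_one, mul_one]
  · ext y
    change Z.φ (e.symm (iR y)) = Y.φ y
    rw [← he]
    change Algebra.TensorProduct.productMap X.φ Y.φ (e (e.symm _)) = _
    rw [AlgEquiv.apply_symm_apply]
    change Algebra.TensorProduct.productMap X.φ Y.φ (1 ⊗ₜ[A] y) = _
    rw [Algebra.TensorProduct.productMap_apply_tmul, map_one, one_mul]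

variable (A B) in
/-- `Obj A B` is filtered for every `A`-algebra `B` -/
theorem isFiltered : IsFiltered (Obj A B) := by
  haveI : Nonempty (Obj A B) := by
    obtain ⟨X, -, -⟩ := exists_obj (B := B) A (Algebra.ofId A B)
    exact ⟨X⟩
  exact { cocone_objs := exists_sup, cocone_maps := fun _ _ f g => exists_coeq f g }


variable (A B) in
/-- every map from a finitely presented `A`-algebra to `B` factors through an étale `A`-algebra -/
def HasFactor : Prop :=
  ∀ (P : Type u) [CommRing P] [Algebra A P] [Algebra.FinitePresentation A P] (ψ : P →ₐ[A] B),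
    ∃ (X : Obj A B) (g : P →ₐ[A] X.ring), X.φ.comp g = ψ

/-- unbundled form of a factorization -/
theorem hasFactor_of_exists
    (h : ∀ (P : Type u) [CommRing P] [Algebra A P] [Algebra.FinitePresentation A P]
      (ψ : P →ₐ[A] B), ∃ (E : Type u) (_ : CommRing E) (_ : Algebra A E) (_ : Algebra.Etale A E)
        (g : P →ₐ[A] E) (φ : E →ₐ[A] B), φ.comp g = ψ) : HasFactor A B := by
  intro P _ _ _ ψ
  obtain ⟨E, _, _, _, g, φ, hg⟩ := h P ψ
  obtain ⟨X, e, he⟩ := exists_obj E φ
  refine ⟨X, e.symm.toAlgHom.comp g, ?_⟩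
  rw [← hg, ← he]
  ext x
  change φ (e (e.symm (g x))) = φ (g x)
  rw [AlgEquiv.apply_symm_apply]

theorem HasFactor.exists_kill (h : HasFactor A B) (X : Obj A B) (x : X.ring) (hx : X.φ x = 0) :
    ∃ (Y : Obj A B) (g : X ⟶ Y), g.f x = 0 := by
  set I : Ideal X.ring := Ideal.span {x} with hI
  haveI : Algebra.FinitePresentation A (X.ring ⧸ I) :=
    Algebra.FinitePresentation.quotient ⟨{x}, by rw [Finset.coe_singleton]⟩
  have hφ : ∀ y ∈ I, X.φ y = 0 := by
    have : I ≤ RingHom.ker X.φ.toRingHom := by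
      rw [hI, Ideal.span_le]
      intro y hy
      rw [Set.mem_singleton_iff.mp hy]
      exact hx
    exact fun y hy => this hy
  obtain ⟨Y, g, hg⟩ := h (X.ring ⧸ I) (Ideal.Quotient.liftₐ I X.φ hφ)
  refine ⟨Y, ⟨g.comp (Ideal.Quotient.mkₐ A I), ?_⟩, ?_⟩
  · rw [← AlgHom.comp_assoc, hg]
    ext y; rfl
  · change g (Ideal.Quotient.mk I x) = 0
    have : Ideal.Quotient.mk I x = 0 :=
      Ideal.Quotient.eq_zero_iff_mem.mpr (Ideal.subset_span (Set.mem_singleton x))
    rw [this, map_zero]

/-- the canonical cocone is a colimit when `B` has the factorization property -/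
theorem HasFactor.nonempty_isColimit (h : HasFactor A B) :
    Nonempty (IsColimit (cocone (A := A) (B := B))) := by
  classical
  haveI := isFiltered A B
  haveI : IsConnected (Obj A B) := IsFiltered.isConnected _
  have hT : IsColimit ((forget CommRingCat).mapCocone
      ((Under.forget (CommRingCat.of A)).mapCocone (cocone (A := A) (B := B)))) := by
    apply Types.FilteredColimit.isColimitOf'
    · intro (b : B)
      obtain ⟨X, g, hg⟩ := h (MvPolynomial (Fin 1) A) (MvPolynomial.aeval fun _ => b)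
      refine ⟨X, g (MvPolynomial.X 0), ?_⟩
      change b = X.φ (g (MvPolynomial.X 0))
      have := congrArg (fun w : MvPolynomial (Fin 1) A →ₐ[A] B => w (MvPolynomial.X 0)) hg
      simp only [AlgHom.comp_apply] at this
      rw [MvPolynomial.aeval_X] at this
      exact this.symm
    · intro X (x : X.ring) (y : X.ring) hxy
      have hxy' : X.φ x = X.φ y := hxy
      have h0 : X.φ (x - y) = 0 := by rw [map_sub, hxy', sub_self]
      obtain ⟨Y, g, hg⟩ := h.exists_kill X (x - y) h0
      refine ⟨Y, g, ?_⟩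
      change g.f x = g.f y
      rwa [map_sub, sub_eq_zero] at hg
  haveI : ReflectsColimit (diagram (A := A) (B := B) ⋙ Under.forget (CommRingCat.of A))
      (forget CommRingCat) := reflectsColimit_of_reflectsIsomorphisms _ _
  have hR := isColimitOfReflects (forget CommRingCat) hT
  exact ⟨isColimitOfReflects (Under.forget (CommRingCat.of A)) hR⟩

theorem etale_diagram_obj (X : Obj A B) :
    letI := ((diagram (A := A) (B := B)).obj X).hom.hom.toAlgebra
    Algebra.Etale A ((diagram (A := A) (B := B)).obj X).right := by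
  have h3 : (((diagram (A := A) (B := B)).obj X).hom.hom.toAlgebra : Algebra A X.ring) =
      Ideal.Quotient.algebra A := by
    apply Algebra.algebra_ext
    intro r
    rfl
  change @Algebra.Etale A X.ring _ _ (((diagram (A := A) (B := B)).obj X).hom.hom.toAlgebra)
  rw [h3]
  exact X.etale

/-- the factorization criterion -/
theorem HasFactor.isIndEtale (h : HasFactor A B) : EtPBC.IsIndEtale A B := by
  obtain ⟨hc⟩ := h.nonempty_isColimit
  exact ⟨Obj A B, inferInstance, isFiltered A B, diagram, cocone, hc, etale_diagram_obj,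
    ⟨Iso.refl _⟩⟩

/-- converse: ind-étale algebras have the factorization property -/
theorem hasFactor_of_isIndEtale (h : EtPBC.IsIndEtale A B) : HasFactor A B := by
  obtain ⟨J, _, _, D, c, hc, hD, ⟨e⟩⟩ := h
  apply hasFactor_of_exists
  intro P _ _ _ ψ
  letI := fun j => Groth.Agent.H4.IndCover.algStage D j
  obtain ⟨j, g, hg⟩ := CoverFactor.exists_factor (Groth.Agent.H4.IndCover.dir D c e)
    (Groth.Agent.H4.IndCover.surj D c hc e) (Groth.Agent.H4.IndCover.inj D c hc e) P ψ
  exact ⟨(D.obj j).right, inferInstance, inferInstance, hD j, g,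
    Groth.Agent.H4.IndCover.toB D c e j, hg⟩

theorem isIndEtale_iff_hasFactor : EtPBC.IsIndEtale A B ↔ HasFactor A B :=
  ⟨hasFactor_of_isIndEtale, HasFactor.isIndEtale⟩

/-- push an object forward along an algebra map -/
noncomputable def objMap {B' : Type u} [CommRing B'] [Algebra A B'] (X : Obj A B) (θ : B →ₐ[A] B') :
    Obj A B' := ⟨X.n, X.s, X.etale, θ.comp X.φ⟩

/-- the factorization property passes along a directed cover -/
theorem hasFactor_of_cover {J : Type u} {C : J → Type u} [∀ j, CommRing (C j)]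
    [∀ j, Algebra A (C j)] {ι : ∀ j, C j →ₐ[A] B} (hd : Groth.Agent.H4.DirFlat.Dir ι)
    (hs : Groth.Agent.H4.DirFlat.Surj ι) (hi : Groth.Agent.H4.DirFlat.Inj ι)
    (h : ∀ j, HasFactor A (C j)) : HasFactor A B := by
  intro P _ _ _ ψ
  obtain ⟨j, g, hg⟩ := CoverFactor.exists_factor hd hs hi P ψ
  obtain ⟨X, g', hg'⟩ := h j P g
  refine ⟨objMap X (ι j), g', ?_⟩
  change ((ι j).comp X.φ).comp g' = ψ
  rw [AlgHom.comp_assoc, hg', hg]

end Groth.Agent.H27.IndEtK
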