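import Groth.Agent.H27.AdmLocal
import Groth.Agent.H4.IndCover
import Mathlib.RingTheory.LocalIso

/-!
# Ind-Zariski algebras identify local rings
-/

set_option autoImplicit false
universe u
open CategoryTheory CategoryTheory.Limits

namespace Groth.Agent.H27.Adm

/-- the element form of "identifies local rings at `q`" -/
def ElemId (A E : Type*) [CommRing A] [CommRing E] [Algebra A E] (q : Ideal E) : Prop :=
  (∀ x : E, ∃ (a d : A) (u : E), d ∉ q.comap (algebraMap A E) ∧ u ∉ q ∧
      u * (algebraMap A E d * x) = u * algebraMap A E a) ∧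
  (∀ (a : A) (u : E), u ∉ q → u * algebraMap A E a = 0 →
      ∃ s : A, s ∉ q.comap (algebraMap A E) ∧ s * a = 0)

theorem ElemId.bijective {A E : Type*} [CommRing A] [CommRing E] [Algebra A E] {q : Ideal E}
    [q.IsPrime] (h : ElemId A E q) :
    Function.Bijective
      (Localization.localRingHom (q.comap (algebraMap A E)) q (algebraMap A E) rfl) :=
  bijective_localRingHom_of q h.1 h.2

/-- local isomorphisms identify local rings (element form) -/
theorem elemId_of_isLocalIso (A E : Type*) [CommRing A] [CommRing E] [Algebra A E]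
    [Algebra.IsLocalIso A E] (q : Ideal E) [hq : q.IsPrime] : ElemId A E q := by
  obtain ⟨s, hs, ⟨r, hr⟩⟩ := Algebra.IsLocalIso.exists_notMem_isStandardOpenImmersion (R := A) q
  have hpow : ∀ c ∈ Submonoid.powers s, c ∉ q := by
    rintro c ⟨k, rfl⟩ hc
    exact hs (hq.mem_of_pow_mem k hc)
  -- the first property
  have ha : ∀ x : E, ∃ (a : A) (n : ℕ) (u : E), u ∈ Submonoid.powers s ∧
      u * (algebraMap A E (r ^ n) * x) = u * algebraMap A E a := by
    intro x
    obtain ⟨n, a, hna⟩ := IsLocalization.Away.surj r (algebraMap E (Localization.Away s) x)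
    have h1 : algebraMap E (Localization.Away s) (algebraMap A E (r ^ n) * x) =
        algebraMap E (Localization.Away s) (algebraMap A E a) := by
      rw [map_mul, ← IsScalarTower.algebraMap_apply A E (Localization.Away s),
        ← IsScalarTower.algebraMap_apply A E (Localization.Away s), map_pow, mul_comm]
      exact hna
    obtain ⟨c, hc⟩ := (IsLocalization.eq_iff_exists (Submonoid.powers s) _).mp h1
    exact ⟨a, n, c.1, c.2, hc⟩
  -- `r` is not in the prime
  have hr' : algebraMap A E r ∉ q := by
    intro hrq
    obtain ⟨v, hv⟩ :=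
      (IsLocalization.Away.algebraMap_isUnit (S := Localization.Away s) r).exists_right_inv
    obtain ⟨⟨e, t⟩, het⟩ := IsLocalization.surj (Submonoid.powers s) v
    have h1 : algebraMap E (Localization.Away s) (algebraMap A E r * e) =
        algebraMap E (Localization.Away s) t.1 := by
      rw [map_mul, ← het, ← IsScalarTower.algebraMap_apply A E (Localization.Away s), ← mul_assoc,
        hv, one_mul]
    obtain ⟨c, hc⟩ := (IsLocalization.eq_iff_exists (Submonoid.powers s) _).mp h1
    have h2 : c.1 * t.1 ∈ q := by
      rw [← hc]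
      exact q.mul_mem_left _ (q.mul_mem_right _ hrq)
    rcases hq.mem_or_mem h2 with h3 | h3
    · exact hpow c.1 c.2 h3
    · exact hpow t.1 t.2 h3
  have hrn : ∀ n : ℕ, r ^ n ∉ q.comap (algebraMap A E) := by
    intro n hn
    rw [Ideal.mem_comap, map_pow] at hn
    exact hr' (hq.mem_of_pow_mem n hn)
  refine ⟨fun x => ?_, fun a u hu hua => ?_⟩
  · obtain ⟨a, n, u, hu, hua⟩ := ha x
    exact ⟨a, r ^ n, u, hrn n, hpow u hu, hua⟩
  · obtain ⟨b, n, c, hc, hcb⟩ := ha u
    have hb : b ∉ q.comap (algebraMap A E) := by
      intro hbq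
      have h1 : c * (algebraMap A E (r ^ n) * u) ∈ q := by
        rw [hcb]; exact q.mul_mem_left _ hbq
      rcases hq.mem_or_mem h1 with h2 | h2
      · exact hpow c hc h2
      · rcases hq.mem_or_mem h2 with h3 | h3
        · exact hrn n h3
        · exact hu h3
    have h0 : c * algebraMap A E (b * a) = 0 := by
      rw [map_mul, ← mul_assoc, ← hcb]
      have : c * (algebraMap A E (r ^ n) * u) * algebraMap A E a =
          c * algebraMap A E (r ^ n) * (u * algebraMap A E a) := by ring
      rw [this, hua, mul_zero]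
    have h1 : algebraMap A (Localization.Away s) (b * a) = 0 := by
      rw [IsScalarTower.algebraMap_apply A E (Localization.Away s)]
      have hcu : IsUnit (algebraMap E (Localization.Away s) c) :=
        IsLocalization.map_units _ (⟨c, hc⟩ : Submonoid.powers s)
      have h2 := congrArg (algebraMap E (Localization.Away s)) h0
      rw [map_mul, map_zero] at h2
      exact (hcu.mul_right_eq_zero).mp h2
    obtain ⟨m, hm⟩ := (IsLocalization.map_eq_zero_iff (Submonoid.powers r) _ _).mp h1
    obtain ⟨k, hk⟩ := m.2
    refine ⟨m.1 * b, ?_, ?_⟩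
    · intro hmem
      rcases (Ideal.comap_isPrime (algebraMap A E) q).mem_or_mem hmem with h' | h'
      · rw [← hk] at h'
        exact hrn k h'
      · exact hb h'
    · rw [mul_assoc]
      exact hm

/-- ind-Zariski algebras identify local rings -/
theorem identifiesLocalRings_of_isIndZariski {A B : Type u} [CommRing A] [CommRing B] [Algebra A B]
    (h : EtPBC.IsIndZariski A B) : EtPBC.IdentifiesLocalRings A B := by
  obtain ⟨J, _, _, D, c, hc, hD, ⟨e⟩⟩ := h
  letI := fun j => Groth.Agent.H4.IndCover.algStage D j
  have hs := Groth.Agent.H4.IndCover.surj D c hc e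
  have hi := Groth.Agent.H4.IndCover.inj D c hc e
  intro q
  have hcomap : ∀ j, (q.asIdeal.comap (Groth.Agent.H4.IndCover.toB D c e j).toRingHom).comap
      (algebraMap A (D.obj j).right) = q.asIdeal.comap (algebraMap A B) := by
    intro j
    rw [Ideal.comap_comap]
    congr 1
    ext a
    exact (Groth.Agent.H4.IndCover.toB D c e j).commutes a
  apply bijective_localRingHom_of
  · intro x
    obtain ⟨j, xj, rfl⟩ := hs x
    haveI : Algebra.IsLocalIso A (D.obj j).right := hD j
    obtain ⟨⟨h1, -⟩⟩ := PLift.up (elemId_of_isLocalIso A (D.obj j).right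
      (q.asIdeal.comap (Groth.Agent.H4.IndCover.toB D c e j).toRingHom))
    obtain ⟨a, d, u, hd, hu, hua⟩ := h1 xj
    refine ⟨a, d, Groth.Agent.H4.IndCover.toB D c e j u, ?_, hu, ?_⟩
    · rw [← hcomap j]; exact hd
    · have := congrArg (Groth.Agent.H4.IndCover.toB D c e j) hua
      rw [map_mul, map_mul, map_mul, AlgHom.commutes, AlgHom.commutes] at this
      exact this
  · intro a u hu hua
    obtain ⟨j, uj, rfl⟩ := hs u
    have h0 : Groth.Agent.H4.IndCover.toB D c e j (uj * algebraMap A (D.obj j).right a) = 0 := by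
      rw [map_mul, AlgHom.commutes]; exact hua
    obtain ⟨j', w, hw, hw0⟩ := hi j _ h0
    haveI : Algebra.IsLocalIso A (D.obj j').right := hD j'
    obtain ⟨⟨-, h2⟩⟩ := PLift.up (elemId_of_isLocalIso A (D.obj j').right
      (q.asIdeal.comap (Groth.Agent.H4.IndCover.toB D c e j').toRingHom))
    have hwu : w uj ∉ q.asIdeal.comap (Groth.Agent.H4.IndCover.toB D c e j').toRingHom := by
      intro hmem
      apply hu
      have : Groth.Agent.H4.IndCover.toB D c e j' (w uj) = Groth.Agent.H4.IndCover.toB D c e j uj :=
        congrArg (fun φ : (D.obj j).right →ₐ[A] B => φ uj) hw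
      rw [← this]
      exact hmem
    have hw0' : w uj * algebraMap A (D.obj j').right a = 0 := by
      rw [map_mul, AlgHom.commutes] at hw0
      exact hw0
    obtain ⟨s, hs', hsa⟩ := h2 a (w uj) hwu hw0'
    exact ⟨s, by rw [← hcomap j']; exact hs', hsa⟩

end Groth.Agent.H27.Adm
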