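import Groth.Agent.H27.QuotColim
import Groth.Agent.H27.WLocal
import Groth.Prelude.Def_PBC

/-!
# Closed unions of connected components of `Spec A` are spectra of ind-Zariski quotients
-/

namespace Groth.Agent.H27.IndZarQuot

open CategoryTheory Limits PrimeSpectrum

universe u

variable {A : Type u} [CommRing A]

/-- quotient by a directed nonempty family of ideals generated by idempotents is ind-Zariski -/
theorem isIndZariski_quotient_sSup (𝒥 : Set (Ideal A)) (hdir : DirectedOn (· ≤ ·) 𝒥)
    (hne : 𝒥.Nonempty) (hidem : ∀ I ∈ 𝒥, ∃ e : A, IsIdempotentElem e ∧ I = Ideal.span {e}) :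
    EtPBC.IsIndZariski A (A ⧸ sSup 𝒥) := by
  refine ⟨↥𝒥, inferInstance, QuotColim.isFiltered hdir hne, QuotColim.diag 𝒥, QuotColim.cocone 𝒥,
    QuotColim.isColimit hdir hne, ?_, ⟨Iso.refl _⟩⟩
  intro j
  obtain ⟨e, he, hje⟩ := hidem j.1 j.2
  letI := ((QuotColim.diag 𝒥).obj j).hom.hom.toAlgebra
  show Algebra.IsLocalIso A (A ⧸ j.1)
  have he' : IsIdempotentElem (1 - e) := he.one_sub
  have hloc : IsLocalization.Away (1 - e) (A ⧸ Ideal.span {1 - (1 - e)}) :=
    IsLocalization.Away.quotient_of_isIdempotentElem he'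
  rw [sub_sub_cancel, ← hje] at hloc
  haveI : Algebra.IsStandardOpenImmersion A (A ⧸ j.1) := ⟨⟨1 - e, hloc⟩⟩
  infer_instance

/-- a closed saturated set can be separated from outside points by clopens -/
theorem exists_isClopen_of_saturated {X : Type u} [TopologicalSpace X] [SpectralSpace X]
    {Z : Set X} (hZ : IsClosed Z)
    (hsat : ∀ z ∈ Z, connectedComponent z ⊆ Z) {x : X} (hx : x ∉ Z) :
    ∃ W : Set X, IsClopen W ∧ Z ⊆ W ∧ x ∉ W := by
  have key : ∀ z ∈ Z, ∃ W : Set X, IsClopen W ∧ z ∈ W ∧ x ∉ W := by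
    intro z hz
    have hxz : x ∉ connectedComponent z := fun h => hx (hsat z hz h)
    rw [WLocal.connectedComponent_eq_iInter_isClopen, Set.mem_iInter] at hxz
    push Not at hxz
    obtain ⟨W, hW⟩ := hxz
    exact ⟨W.1, W.2.1, W.2.2, hW⟩
  choose! W hWc hzW hxW using key
  obtain ⟨t, htZ, htfin, ht⟩ := hZ.isCompact.elim_finite_subcover_image (b := Z) (c := W)
    (fun z hz => (hWc z hz).2) (fun z hz => Set.mem_biUnion hz (hzW z hz))
  refine ⟨⋃ z ∈ t, W z, ?_, ht, ?_⟩
  · exact Set.Finite.isClopen_biUnion htfin fun z hz => hWc z (htZ hz)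
  · simp only [Set.mem_iUnion, not_exists]
    exact fun z hz => hxW z (htZ hz)

theorem main (T : Set (_root_.ConnectedComponents (PrimeSpectrum A))) (hT : IsClosed T) :
    ∃ (B : Type u) (_ : CommRing B) (_ : Algebra A B),
      EtPBC.IsIndZariski A B ∧ Function.Surjective (algebraMap A B) ∧
      Topology.IsEmbedding (PrimeSpectrum.comap (algebraMap A B)) ∧
      Set.range (PrimeSpectrum.comap (algebraMap A B)) = _root_.ConnectedComponents.mk ⁻¹' T := by
  set Z : Set (PrimeSpectrum A) := _root_.ConnectedComponents.mk ⁻¹' T with hZdef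
  have hZ : IsClosed Z := hT.preimage ConnectedComponents.continuous_coe
  have hsat : ∀ z ∈ Z, connectedComponent z ⊆ Z := by
    intro z hz y hy
    have : (_root_.ConnectedComponents.mk y : _root_.ConnectedComponents (PrimeSpectrum A)) =
        _root_.ConnectedComponents.mk z := ConnectedComponents.coe_eq_coe'.2 hy
    show _root_.ConnectedComponents.mk y ∈ T
    rw [this]
    exact hz
  let 𝒥 : Set (Ideal A) :=
    {I | ∃ e : A, IsIdempotentElem e ∧ Z ⊆ zeroLocus {e} ∧ I = Ideal.span {e}}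
  have hne : 𝒥.Nonempty := ⟨Ideal.span {0}, 0, IsIdempotentElem.zero, by simp, rfl⟩
  have hdir : DirectedOn (· ≤ ·) 𝒥 := by
    rintro _ ⟨e, he, hZe, rfl⟩ _ ⟨f, hf, hZf, rfl⟩
    -- upper bound: `e + f - e f`
    refine ⟨Ideal.span {e + f - e * f}, ⟨e + f - e * f, ?_, ?_, rfl⟩, ?_, ?_⟩
    · have h1 : e * e = e := he
      have h2 : f * f = f := hf
      show (e + f - e * f) * (e + f - e * f) = e + f - e * f
      linear_combination (1 - 2 * f + f * f) * h1 + (1 - e) * h2
    · intro z hz
      have hez := hZe hz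
      have hfz := hZf hz
      rw [mem_zeroLocus, Set.singleton_subset_iff] at hez hfz ⊢
      exact Ideal.sub_mem _ (Ideal.add_mem _ hez hfz) (Ideal.mul_mem_right _ _ hez)
    · show Ideal.span {e} ≤ Ideal.span {e + f - e * f}
      rw [Ideal.span_singleton_le_span_singleton]
      refine ⟨e, ?_⟩
      have h1 : e * e = e := he
      linear_combination (f - 1) * h1
    · show Ideal.span {f} ≤ Ideal.span {e + f - e * f}
      rw [Ideal.span_singleton_le_span_singleton]
      refine ⟨f, ?_⟩
      have h2 : f * f = f := hf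
      linear_combination (e - 1) * h2
  have hV : zeroLocus ((sSup 𝒥 : Ideal A) : Set A) = Z := by
    apply Set.Subset.antisymm
    · intro x hx
      by_contra hxZ
      obtain ⟨W, hW, hZW, hxW⟩ := exists_isClopen_of_saturated hZ hsat hxZ
      obtain ⟨e, he, rfl⟩ := isClopen_iff_zeroLocus.1 hW
      have hmem : Ideal.span {e} ∈ 𝒥 := ⟨e, he, hZW, rfl⟩
      apply hxW
      rw [mem_zeroLocus, Set.singleton_subset_iff]
      exact hx ((le_sSup hmem : Ideal.span {e} ≤ sSup 𝒥) (Ideal.mem_span_singleton_self e))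
    · intro z hz
      rw [mem_zeroLocus]
      intro a ha
      rw [SetLike.mem_coe, Submodule.mem_sSup_of_directed hne hdir] at ha
      obtain ⟨I, ⟨e, he, hZe, rfl⟩, haI⟩ := ha
      have hez := hZe hz
      rw [mem_zeroLocus, Set.singleton_subset_iff] at hez
      obtain ⟨c, rfl⟩ := Ideal.mem_span_singleton'.1 haI
      exact Ideal.mul_mem_left _ _ hez
  refine ⟨A ⧸ sSup 𝒥, inferInstance, inferInstance, ?_, Ideal.Quotient.mk_surjective, ?_, ?_⟩
  · exact isIndZariski_quotient_sSup 𝒥 hdir hne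
      (fun I ⟨e, he, _, hI⟩ => ⟨e, he, hI⟩)
  · exact (PrimeSpectrum.isClosedEmbedding_comap_of_surjective _ _
      Ideal.Quotient.mk_surjective).isEmbedding
  · have := range_comap_of_surjective _ (algebraMap A (A ⧸ sSup 𝒥)) Ideal.Quotient.mk_surjective
    rw [this, ← hV]
    congr 1
    exact congrArg _ Ideal.mk_ker

end Groth.Agent.H27.IndZarQuot
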