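import Groth.Agent.H27.Gen

set_option autoImplicit false

namespace Groth.Agent.H27

open RootD Finsupp RootPairing

variable {ι M N : Type*} [AddCommGroup M] [AddCommGroup N] {P : RootPairing ι ℤ M N}

lemma neg_mem_natSpan_ng {T : Set ι} {x : M} (hx : x ∈ natSpan P T) :
    -x ∈ natSpan P ((fun i => ng P i) '' T) := by
  unfold natSpan at hx
  induction hx using AddSubmonoid.closure_induction with
  | mem x hx =>
    obtain ⟨i, hi, rfl⟩ := hx
    rw [← root_ng]
    exact root_mem_natSpan P ⟨i, hi, rfl⟩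
  | zero => rw [neg_zero]; exact zero_mem _
  | add x y _ _ hx hy => rw [neg_add]; exact add_mem hx hy

lemma isSimpleSys_ng {Δ : Set ι} (hΔ : IsSimpleSys P Δ) :
    IsSimpleSys P ((fun i => ng P i) '' Δ) := by
  refine ⟨?_, ?_⟩
  · apply LinearIndepOn.image_of_comp
    have h1 : (⇑P.root ∘ fun i => ng P i) = (-(LinearMap.id : M →ₗ[ℤ] M)) ∘ ⇑P.root := by
      funext i
      simp only [Function.comp, LinearMap.neg_apply, LinearMap.id_apply]
      exact root_ng P i
    rw [h1]
    refine hΔ.linInd.map_injOn _ (Function.Injective.injOn ?_)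
    intro x y hxy
    simpa using hxy
  · intro k
    rcases hΔ.mem_or_neg_mem k with h | h
    · right; exact neg_mem_natSpan_ng h
    · left
      have := neg_mem_natSpan_ng h
      rwa [neg_neg] at this

lemma isIndiv_ng {i : ι} (hi : IsIndiv P i) : IsIndiv P (ng P i) := by
  intro j hj
  apply hi (ng P j)
  rw [root_ng, smul_neg, hj, root_ng, neg_neg]

section Finite
variable [Finite ι]

lemma exists_simpleSys_mem_of_pos_indiv {Δ₀ : Set ι} (hΔ₀ : IsSimpleSys P Δ₀) :
    ∀ n : ℕ, ∀ (k : ι) (c : ι →₀ ℤ), (↑c.support ⊆ Δ₀) → (∀ i, 0 ≤ c i) →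
      linearCombination ℤ P.root c = P.root k → csum c = n → IsIndiv P k →
      ∃ Δ : Set ι, IsSimpleSys P Δ ∧ k ∈ Δ := by
  intro n
  induction n using Nat.strong_induction_on with
  | _ n ih =>
    intro k c hc1 hc2 hc3 hn hind
    by_cases hkΔ : k ∈ Δ₀
    · exact ⟨Δ₀, hΔ₀, hkΔ⟩
    · have hk : k ∈ posOf P Δ₀ := mem_posOf_iff.2 ⟨c, hc1, hc2, hc3⟩
      obtain ⟨i, hiΔ, hip, hpos⟩ := exists_simple_pairing_pos hΔ₀ hk hkΔ hind
      obtain ⟨c', hc'1, hc'2, hc'3⟩ := mem_posOf_iff.1 hpos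
      have hc' : c' = c - P.pairing k i • Finsupp.single i 1 := by
        apply coef_unique hΔ₀.linInd hc'1
          (support_sub_subset hc1 (support_smul_subset (support_single_subset hiΔ 1) _))
        rw [hc'3, root_reflectionPerm_eq, map_sub, map_smul, hc3,
          Finsupp.linearCombination_single, one_smul]
      have hcs : csum c' = csum c - P.pairing k i := by
        rw [hc', map_sub, map_smul, csum_single, smul_eq_mul, mul_one]
      have hnn := csum_nonneg hc'2
      have hlt : (csum c').toNat < n := by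
        have : ((csum c').toNat : ℤ) = csum c' := Int.toNat_of_nonneg hnn
        omega
      obtain ⟨Δ', hΔ', hk'⟩ := ih _ hlt (P.reflectionPerm i k) c' hc'1 hc'2 hc'3
        (Int.toNat_of_nonneg hnn).symm (isIndiv_smul (refl P i) hind)
      refine ⟨_, isSimpleSys_smul P (refl P i) hΔ', ⟨_, hk', ?_⟩⟩
      change P.reflectionPerm i (P.reflectionPerm i k) = k
      exact P.reflectionPerm_self i k

/-- every indivisible root belongs to a system of simple roots -/
lemma exists_simpleSys_mem_of_indiv {i : ι} (hind : IsIndiv P i) :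
    ∃ Δ : Set ι, IsSimpleSys P Δ ∧ i ∈ Δ := by
  obtain ⟨Δ₀, hΔ₀⟩ := exists_isSimpleSys P
  by_cases hi : i ∈ posOf P Δ₀
  · obtain ⟨c, hc1, hc2, hc3⟩ := mem_posOf_iff.1 hi
    exact exists_simpleSys_mem_of_pos_indiv hΔ₀ _ i c hc1 hc2 hc3
      (Int.toNat_of_nonneg (csum_nonneg hc2)).symm hind
  · have hi' := (ng_mem_posOf_iff hΔ₀ i).2 hi
    obtain ⟨c, hc1, hc2, hc3⟩ := mem_posOf_iff.1 hi'
    obtain ⟨Δ, hΔ, hmem⟩ := exists_simpleSys_mem_of_pos_indiv hΔ₀ _ (ng P i) c hc1 hc2 hc3
      (Int.toNat_of_nonneg (csum_nonneg hc2)).symm (isIndiv_ng hind)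
    exact ⟨_, isSimpleSys_ng hΔ, ⟨_, hmem, ng_ng P i⟩⟩

lemma root_mem_span_simple {Δ : Set ι} (hΔ : IsSimpleSys P Δ) (k : ι) :
    P.root k ∈ Submodule.span ℤ (P.root '' Δ) := by
  rcases hΔ.mem_or_neg_mem k with h | h
  · exact natSpan_le_span P Δ h
  · have := natSpan_le_span P Δ h
    rwa [neg_mem_iff] at this

lemma span_root_simple {Δ : Set ι} (hΔ : IsSimpleSys P Δ) :
    Submodule.span ℤ (P.root '' Δ) = Submodule.span ℤ (Set.range P.root) := by
  apply le_antisymm (Submodule.span_mono (Set.image_subset_range _ _))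
  rw [Submodule.span_le]
  rintro _ ⟨k, rfl⟩
  exact root_mem_span_simple hΔ k

/-- S5475 core -/
lemma smul_eq_root_of_adjoint (had : Submodule.span ℤ (Set.range P.root) = ⊤)
    {i : ι} (hind : IsIndiv P i) (m : M) (n : ℤ) (h : n • m = P.root i) : n = 1 ∨ n = -1 := by
  obtain ⟨Δ, hΔ, hi⟩ := exists_simpleSys_mem_of_indiv hind
  have hm : m ∈ Submodule.span ℤ (P.root '' Δ) := by
    rw [span_root_simple hΔ, had]; exact Submodule.mem_top
  obtain ⟨c, hc1, hc2⟩ := (Finsupp.mem_span_image_iff_linearCombination ℤ).1 hm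
  have hc1' : ↑c.support ⊆ Δ := (Finsupp.mem_supported ℤ c).1 hc1
  have heq : n • c = Finsupp.single i 1 := by
    apply coef_unique hΔ.linInd (support_smul_subset hc1' _) (support_single_subset hi 1)
    rw [map_smul, hc2, h, Finsupp.linearCombination_single, one_smul]
  have h1 := DFunLike.congr_fun heq i
  simp only [Finsupp.smul_apply, Finsupp.single_eq_same, smul_eq_mul] at h1
  exact Int.isUnit_iff.1 (IsUnit.of_mul_eq_one _ h1)

end Finite

end Groth.Agent.H27
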