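import Groth.Agent.H27.Rank
import Mathlib.GroupTheory.FiniteAbelian.Basic
import Mathlib.LinearAlgebra.Dimension.Torsion.Finite

set_option autoImplicit false

namespace Groth.Agent.H27

open RootD RootPairing Module

variable {ι M N ι' M' N' : Type*} [AddCommGroup M] [AddCommGroup N] [AddCommGroup M'] [AddCommGroup N']
  (P : RootPairing ι ℤ M N) (P' : RootPairing ι' ℤ M' N')

lemma rootSpan_le_range (f : RootPairing.Hom P' P) :
    P.rootSpan ℤ ≤ LinearMap.range f.weightMap := by
  rw [Submodule.span_le]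
  rintro _ ⟨i, rfl⟩
  refine ⟨P'.root (f.indexEquiv.symm i), ?_⟩
  rw [Hom.root_weightMap_apply]; simp

lemma rootSpan_map_eq (f : RootPairing.Hom P' P) :
    (P'.rootSpan ℤ).map f.weightMap = P.rootSpan ℤ := by
  rw [Submodule.map_span]
  congr 1
  ext x; constructor
  · rintro ⟨_, ⟨i, rfl⟩, rfl⟩
    exact ⟨f.indexEquiv i, (Hom.root_weightMap_apply _ _ _ _).symm⟩
  · rintro ⟨i, rfl⟩
    refine ⟨_, ⟨f.indexEquiv.symm i, rfl⟩, ?_⟩
    rw [Hom.root_weightMap_apply]; simp

lemma corootSpan_map_eq (f : RootPairing.Hom P' P) :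
    (P.corootSpan ℤ).map f.coweightMap = P'.corootSpan ℤ := by
  rw [Submodule.map_span]
  congr 1
  ext x; constructor
  · rintro ⟨_, ⟨i, rfl⟩, rfl⟩
    exact ⟨f.indexEquiv.symm i, (Hom.coroot_coweightMap_apply _ _ _ _).symm⟩
  · rintro ⟨i, rfl⟩
    refine ⟨_, ⟨f.indexEquiv i, rfl⟩, ?_⟩
    rw [Hom.coroot_coweightMap_apply]; simp

lemma finrank_rootSpan_eq_of_hom [Finite ι] [Finite ι']
    [Module.Finite ℤ M] [Module.Finite ℤ N] [Module.Finite ℤ M'] [Module.Finite ℤ N']
    (f : RootPairing.Hom P' P) :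
    finrank ℤ (P'.rootSpan ℤ) = finrank ℤ (P.rootSpan ℤ) := by
  have := Fintype.ofFinite ι
  have := Fintype.ofFinite ι'
  apply le_antisymm
  · rw [← P'.finrank_corootSpan_eq', ← P.finrank_corootSpan_eq', ← corootSpan_map_eq P P' f]
    exact Submodule.finrank_map_le _ _
  · rw [← rootSpan_map_eq P P' f]
    exact Submodule.finrank_map_le _ _

theorem isogeny [Finite ι] [Finite ι']
    [Module.Finite ℤ M] [Module.Finite ℤ N] [Module.Finite ℤ M'] [Module.Finite ℤ N']
    (hss : finrank ℤ (P.rootSpan ℤ) = finrank ℤ M)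
    (hss' : finrank ℤ (P'.rootSpan ℤ) = finrank ℤ M')
    (f : RootPairing.Hom P' P) :
    Function.Injective f.weightMap ∧ Finite (M ⧸ LinearMap.range f.weightMap) := by
  have hrk : finrank ℤ M' = finrank ℤ M := by
    rw [← hss, ← hss']; exact finrank_rootSpan_eq_of_hom P P' f
  have hrange : finrank ℤ (LinearMap.range f.weightMap) = finrank ℤ M := by
    apply le_antisymm (Submodule.finrank_le _)
    rw [← hss]
    exact Submodule.finrank_mono (rootSpan_le_range P P' f)
  constructor
  · have t1 : IsAddTorsionFree M' := torsionFree P'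
    rw [← LinearMap.ker_eq_bot, ← Submodule.finrank_eq_zero (R := ℤ)]
    have h1 := Submodule.finrank_quotient_add_finrank (LinearMap.ker f.weightMap)
    rw [LinearEquiv.finrank_eq f.weightMap.quotKerEquivRange] at h1
    omega
  · apply Module.finite_of_fg_torsion
    rw [← Module.finrank_eq_zero_iff_isTorsion]
    have h1 := Submodule.finrank_quotient_add_finrank (LinearMap.range f.weightMap)
    omega

end Groth.Agent.H27
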