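import Groth.Agent.H27.LCStalk
import Mathlib.RingTheory.HopkinsLevitzki
import Groth.Prelude.Def_EtModW
import Groth.Prelude.Def_ARSys
import Mathlib.CategoryTheory.Linear.FunctorCategory

/-!
# Stalks of finite type locally constant torsion sheaves are artinian (helper27)
-/

set_option autoImplicit false
universe u
open CategoryTheory CategoryTheory.Limits AlgebraicGeometry Opposite

namespace Groth.Agent.H27.LCArt

section Algebra

variable {R : Type*} [CommRing R]

theorem isArtinianRing_quot_pow [IsNoetherianRing R] (I : Ideal R) [IsArtinianRing (R ⧸ I)] (k : ℕ) :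
    IsArtinianRing (R ⧸ I ^ k) := by
  rw [isArtinianRing_iff_krullDimLE_zero, Ring.krullDimLE_zero_iff]
  intro P hP
  set P' : Ideal R := P.comap (Ideal.Quotient.mk (I ^ k)) with hP'
  have hP'prime : P'.IsPrime := Ideal.comap_isPrime _ _
  have hJ : I ^ k ≤ P' := by
    intro a ha
    show Ideal.Quotient.mk (I ^ k) a ∈ P
    rw [Ideal.Quotient.eq_zero_iff_mem.2 ha]
    exact P.zero_mem
  have hI : I ≤ P' := Ideal.IsPrime.le_of_pow_le hJ
  have hker : RingHom.ker (Ideal.Quotient.mk I) ≤ P' := by rwa [Ideal.mk_ker]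
  have hQ : (P'.map (Ideal.Quotient.mk I)).IsPrime :=
    Ideal.map_isPrime_of_surjective Ideal.Quotient.mk_surjective hker
  have hQmax : (P'.map (Ideal.Quotient.mk I)).IsMaximal := IsArtinianRing.isMaximal_of_isPrime _
  have hP'max : P'.IsMaximal := by
    have h1 : (P'.map (Ideal.Quotient.mk I)).comap (Ideal.Quotient.mk I) = P' := by
      rw [Ideal.comap_map_of_surjective _ Ideal.Quotient.mk_surjective]
      apply le_antisymm
      · refine sup_le le_rfl ?_
        rw [← RingHom.ker_eq_comap_bot]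
        exact hker
      · exact le_sup_left
    rw [← h1]
    exact Ideal.comap_isMaximal_of_surjective _ Ideal.Quotient.mk_surjective
  have hPeq : P = P'.map (Ideal.Quotient.mk (I ^ k)) :=
    (Ideal.map_comap_of_surjective _ Ideal.Quotient.mk_surjective P).symm
  rcases Ideal.map_eq_top_or_isMaximal_of_surjective (Ideal.Quotient.mk (I ^ k))
    Ideal.Quotient.mk_surjective hP'max with h | h
  · exact (hP.ne_top (hPeq.trans h)).elim
  · rw [hPeq]
    exact h

theorem isArtinian_of_finite_of_killed [IsNoetherianRing R] (I : Ideal R) [IsArtinianRing (R ⧸ I)]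
    (k : ℕ) (N : Type*) [AddCommGroup N] [Module R N] [Module.Finite R N]
    (hN : ∀ a ∈ I ^ k, ∀ x : N, a • x = 0) : IsArtinian R N := by
  have hA : IsArtinianRing (R ⧸ I ^ k) := isArtinianRing_quot_pow I k
  have htors : Module.IsTorsionBySet R N (I ^ k : Ideal R) := by
    intro x a
    exact hN a.1 a.2 x
  letI : Module (R ⧸ I ^ k) N := htors.module
  haveI : IsScalarTower R (R ⧸ I ^ k) N := htors.isScalarTower
  haveI : Module.Finite (R ⧸ I ^ k) N := Module.Finite.of_restrictScalars_finite R (R ⧸ I ^ k) N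
  haveI : IsArtinian (R ⧸ I ^ k) N := isArtinian_of_fg_of_artinian' 
  exact isArtinian_of_surjective_algebraMap (R := R ⧸ I ^ k) (S := R) (M := N)
    Ideal.Quotient.mk_surjective

end Algebra

section Stalk

open Groth.Agent.H21.GenStalkMod Groth.Agent.H21.ModLocConst Groth.Agent.H4.Stalks
  Groth.Agent.H27.LCStalk

variable {Λ : Type (u + 1)} [CommRing Λ] {X : Scheme.{u}}

/-- trivialisations of a finite type locally constant sheaf, in terms of restrictions of
constant sheaves. -/
theorem exists_triv (G : EtModW.Mod Λ X) (hG : EtModW.IsFTLocConst Λ G) :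
    ∃ (ι : Type u) (U : ι → X.Etale), EtCoh.Covers U ∧ ∃ (M : ι → ModuleCat.{u + 1} Λ),
      (∀ i, Module.Finite Λ ↑(M i)) ∧ Nonempty (∀ i, G.over (U i) ≅ (cstM Λ X (M i)).over (U i)) := by
  obtain ⟨ι, U, hc, h⟩ := hG
  choose M i1 i2 i3 hM using h
  refine ⟨ι, U, hc, fun i => @ModuleCat.of Λ _ (M i) (i1 i) (i2 i), fun i => i3 i, ⟨fun i => ?_⟩⟩
  exact (hM i).some ≪≫ constOverIsoM (U i) _

variable {Ω : Type u} [Field Ω] [IsSepClosed Ω] (ξ : Spec (CommRingCat.of Ω) ⟶ X)

theorem stalk_smul_eq_zero (G : EtModW.Mod Λ X) (a : Λ) (ha : (a • 𝟙 G : G ⟶ G) = 0)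
    (t : (EtModW.stalk Λ ξ).obj G) : a • t = 0 := by
  obtain ⟨V, y, s, rfl⟩ := germM_surjective G t
  have h1 : a • s = 0 := by
    have := congrArg (fun k : G ⟶ G => (k.hom.app (op V)).hom s) ha
    exact this
  have h2 : a • (germM G y).hom s = 0 := by
    rw [← map_smul, h1, map_zero]
  exact h2

theorem finite_stalk (G : EtModW.Mod Λ X) (hG : EtModW.IsFTLocConst Λ G) :
    Module.Finite Λ ↑((EtModW.stalk Λ ξ).obj G) := by
  obtain ⟨ι, U, hc, M, hM, ⟨β⟩⟩ := exists_triv G hG
  obtain ⟨i, u, hu⟩ := hc (ξ default)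
  obtain ⟨x, -⟩ := Fib.exists_of_point (ξ := ξ) (U i) u hu
  haveI := hM i
  exact Module.Finite.of_surjective (toStalk G (β i) x) (toStalk_surjective G (β i) x)

theorem isArtinian_stalk [IsNoetherianRing Λ] (I : Ideal Λ) [IsArtinianRing (Λ ⧸ I)] (k : ℕ)
    (G : EtModW.Mod Λ X) (hG : EtModW.IsFTLocConst Λ G) (hk : ARSys.KilledBy (I ^ k) G) :
    IsArtinian Λ ↑((EtModW.stalk Λ ξ).obj G) := by
  haveI := finite_stalk ξ G hG
  exact isArtinian_of_finite_of_killed I k _
    (fun a ha t => stalk_smul_eq_zero ξ G a (hk a ha) t)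

end Stalk

end Groth.Agent.H27.LCArt
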