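import Groth.Agent.H27.LCStalk

/-!
# A locally constant sheaf with vanishing stalks at enough points is zero (helper27)
-/

set_option autoImplicit false
universe u
open CategoryTheory CategoryTheory.Limits AlgebraicGeometry Opposite

namespace Groth.Agent.H27.LCZero

open Groth.Agent.H21.GenStalkMod Groth.Agent.H21.ModLocConst Groth.Agent.H4.Stalks
  Groth.Agent.H21.ConstSec Groth.Agent.H27.LCStalk

variable {Λ : Type (u + 1)} [CommRing Λ] {X : Scheme.{u}}

lemma isZero_of_sections (K : EtModW.Mod Λ X) (h : ∀ (V : X.Etale) (s : SecM K V), s = 0) :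
    IsZero K := by
  rw [IsZero.iff_id_eq_zero]
  apply Sheaf.hom_ext
  ext V s
  exact (h V.unop _).trans (h V.unop _).symm

/-- sections of a constant sheaf with subsingleton value vanish. -/
lemma cst_section_eq_zero {M : ModuleCat.{u + 1} Λ} [Subsingleton ↑M] {V : X.Etale}
    (σ : SecM (cstM Λ X M) V) : σ = 0 := by
  obtain ⟨R, hR, h⟩ := etaM_locally_surjective M σ
  refine secM_ext _ R hR σ 0 ?_
  intro W g hg
  obtain ⟨m, hm⟩ := h g hg
  rw [← hm, Subsingleton.elim m 0, map_zero, map_zero]

/-- the terminal object of the small étale site. -/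
noncomputable abbrev top (X : Scheme.{u}) : X.Etale := Scheme.Etale.mk (𝟙 X)

noncomputable def toTop (V : X.Etale) : V ⟶ top X :=
  MorphismProperty.Over.homMk V.hom (Category.comp_id _) trivial

lemma toTop_left (V : X.Etale) (v : V.left) : (toTop V).left v = V.hom v := rfl

/-- A sheaf which is trivialised on a covering, and whose stalks vanish at a set of points meeting
every nonempty open subset, is zero. -/
theorem isZero_of_stalks (K : EtModW.Mod Λ X) {ι : Type u} (U : ι → X.Etale)
    (hc : EtCoh.Covers U) (M : ι → ModuleCat.{u + 1} Λ)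
    (β : ∀ i, K.over (U i) ≅ (cstM Λ X (M i)).over (U i))
    (S : Set X) (hS : ∀ O : Set X, IsOpen O → O.Nonempty → ∃ s ∈ S, s ∈ O)
    (h0 : ∀ s ∈ S, Subsingleton ((EtModW.stalk Λ (geomPt s)).obj K)) : IsZero K := by
  -- step 1: sections over objects mapping to some `U i` vanish
  have step1 : ∀ (i : ι) {V : X.Etale} (g : V ⟶ U i) (s : SecM K V), s = 0 := by
    intro i V g s
    by_cases hV : Nonempty V.left
    · obtain ⟨v⟩ := hV
      have hO : IsOpen (Set.range ((U i).hom : (U i).left ⟶ X)) :=
        ((U i).hom : (U i).left ⟶ X).isOpenMap.isOpen_range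
      obtain ⟨s₀, hs₀, u, hu⟩ := hS _ hO ⟨_, g.left v, rfl⟩
      obtain ⟨x, -⟩ := Fib.exists_of_point (ξ := geomPt s₀) (U i) u (hu.trans (geomPt_default s₀).symm)
      have hsub : Subsingleton ↑(M i) := by
        have := h0 s₀ hs₀
        exact (toStalk_injective K (β i) x).subsingleton
      have h1 : secHomM (β i).hom g s = 0 := cst_section_eq_zero _
      have h2 := congrArg (secHomM (β i).inv g) h1
      rw [secHomM_inv_hom, map_zero] at h2
      exact h2
    · have hE : IsEmpty V.left := not_nonempty_iff.1 hV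
      exact secM_ext K ⊥ (bot_mem_iff.2 hE) s 0 (fun W g hg => hg.elim)
  -- step 2: all sections vanish
  apply isZero_of_sections
  intro V s
  let R : Sieve V :=
    { arrows := fun W _ => ∃ i, Nonempty (W ⟶ U i)
      downward_closed := by
        rintro W W' g ⟨i, ⟨k⟩⟩ h
        exact ⟨i, ⟨h ≫ k⟩⟩ }
  have hR : R ∈ X.smallEtaleTopology V := by
    rw [mem_iff]
    intro v
    obtain ⟨i, u, hu⟩ := hc (V.hom v)
    obtain ⟨P, p, p', x, -, hx, -⟩ := exists_pullback_point (toTop V) (toTop (U i)) v u
      (by rw [toTop_left, toTop_left, hu])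
    exact ⟨P, p, x, ⟨i, ⟨p'⟩⟩, hx⟩
  refine secM_ext K R hR s 0 ?_
  rintro W g ⟨i, ⟨k⟩⟩
  rw [map_zero]
  exact step1 i k _

end Groth.Agent.H27.LCZero
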