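import Groth.Agent.H27.LCArt
import Groth.Agent.H27.LCZero
import Groth.Agent.S6646
import Mathlib.CategoryTheory.Abelian.Exact
import Mathlib.AlgebraicGeometry.Noetherian
import Mathlib.Topology.Sober

/-!
# Images of maps of finite type locally constant torsion sheaves stabilise (helper27)
-/

set_option autoImplicit false
universe u
open CategoryTheory CategoryTheory.Limits AlgebraicGeometry Opposite

namespace Groth.Agent.H27.LCML

open Groth.Agent.H21.GenStalkMod Groth.Agent.H21.ModLocConst Groth.Agent.H4.Stalks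
  Groth.Agent.H27.LCStalk Groth.Agent.H27.LCArt Groth.Agent.H27.LCZero

section Abelian

variable {C : Type*} [Category C] [Abelian C]

lemma imageSubobject_le_of_comp_cokernel {A B Y : C} (f : A ⟶ Y) (g : B ⟶ Y)
    (h : f ≫ cokernel.π g = 0) : imageSubobject f ≤ imageSubobject g := by
  have hex := (ShortComplex.exact_iff_image_eq_kernel _).1 (ShortComplex.exact_cokernel g)
  dsimp at hex
  rw [hex]
  exact imageSubobject_le f (factorThruKernelSubobject (cokernel.π g) f h) (by simp)

end Abelian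

variable {Λ : Type (u + 1)} [CommRing Λ] {X : Scheme.{u}}

instance ab5Mod : AB5OfSize.{u, u} (ModuleCat.{u + 1} Λ) :=
  AB5OfSize_of_univLE.{u, u, u + 1, u + 1} _

instance hasLimMod : HasLimitsOfSize.{u, u} (ModuleCat.{u + 1} Λ) :=
  hasLimitsOfSizeShrink.{u, u, u + 1, u + 1} _

section Exact

variable {Ω : Type u} [Field Ω] [IsSepClosed Ω] (ξ : Spec (CommRingCat.of Ω) ⟶ X)

instance : PreservesFiniteLimits (EtModW.stalk Λ ξ) := by
  unfold EtModW.stalk
  infer_instance

instance : PreservesFiniteColimits (EtModW.stalk Λ ξ) := by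
  unfold EtModW.stalk
  infer_instance

lemma stalk_map_surjective {F G : EtModW.Mod Λ X} (f : F ⟶ G) [Epi f] :
    Function.Surjective ((EtModW.stalk Λ ξ).map f) := by
  have : Epi ((EtModW.stalk Λ ξ).map f) := inferInstance
  exact (ModuleCat.epi_iff_surjective _).1 this

lemma stalk_map_injective {F G : EtModW.Mod Λ X} (f : F ⟶ G) [Mono f] :
    Function.Injective ((EtModW.stalk Λ ξ).map f) := by
  have : Mono ((EtModW.stalk Λ ξ).map f) := inferInstance
  exact (ModuleCat.mono_iff_injective _).1 this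

end Exact

section Main

variable [IsNoetherianRing Λ] (I : Ideal Λ) [IsArtinianRing (Λ ⧸ I)]

/-- the image of the stalk map, as a submodule. -/
noncomputable def stalkRange {Ω : Type u} [Field Ω] [IsSepClosed Ω] (ξ : Spec (CommRingCat.of Ω) ⟶ X)
    {P G : EtModW.Mod Λ X} (f : P ⟶ G) : Submodule Λ ↑((EtModW.stalk Λ ξ).obj G) :=
  LinearMap.range ((EtModW.stalk Λ ξ).map f).hom

omit [IsNoetherianRing Λ] in
lemma stalkRange_le {Ω : Type u} [Field Ω] [IsSepClosed Ω] (ξ : Spec (CommRingCat.of Ω) ⟶ X)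
    {P P' G : EtModW.Mod Λ X} (f : P ⟶ G) (f' : P' ⟶ G) (t : P' ⟶ P) (ht : t ≫ f = f') :
    stalkRange ξ f' ≤ stalkRange ξ f := by
  rintro _ ⟨p, rfl⟩
  refine ⟨(EtModW.stalk Λ ξ).map t p, ?_⟩
  subst ht
  rw [Functor.map_comp]
  rfl

/-- Stabilisation of stalkwise images at one point. -/
theorem exists_stalkRange_stable {Ω : Type u} [Field Ω] [IsSepClosed Ω]
    (ξ : Spec (CommRingCat.of Ω) ⟶ X) (k : ℕ)
    (G : EtModW.Mod Λ X) (hG : EtModW.IsFTLocConst Λ G) (hk : ARSys.KilledBy (I ^ k) G)
    (P : ℕ → EtModW.Mod Λ X) (f : ∀ s, P s ⟶ G)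
    (hf : ∀ s s', s ≤ s' → ∃ t : P s' ⟶ P s, t ≫ f s = f s') :
    ∃ r, ∀ s, r ≤ s → stalkRange ξ (f r) = stalkRange ξ (f s) := by
  haveI := isArtinian_stalk ξ I k G hG hk
  let N : ℕ →o (Submodule Λ ↑((EtModW.stalk Λ ξ).obj G))ᵒᵈ :=
    { toFun := fun s => OrderDual.toDual (stalkRange ξ (f s))
      monotone' := by
        intro s s' h
        obtain ⟨t, ht⟩ := hf s s' h
        exact stalkRange_le ξ (f s) (f s') t ht }
  obtain ⟨r, hr⟩ := IsArtinian.monotone_stabilizes N
  exact ⟨r, fun s hs => congrArg OrderDual.ofDual (hr s hs)⟩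

theorem exists_stable [IsNoetherian X] (k : ℕ)
    (G : EtModW.Mod Λ X) (hG : EtModW.IsFTLocConst Λ G) (hk : ARSys.KilledBy (I ^ k) G)
    (P : ℕ → EtModW.Mod Λ X) (hP : ∀ s, EtModW.IsFTLocConst Λ (P s)) (f : ∀ s, P s ⟶ G)
    (hf : ∀ s s', s ≤ s' → ∃ t : P s' ⟶ P s, t ≫ f s = f s') :
    ∃ r, ∀ s, r ≤ s → f r ≫ cokernel.π (f s) = 0 := by
  have hfin : (genericPoints X).Finite :=
    genericPoints.finite TopologicalSpace.NoetherianSpace.finite_irreducibleComponents
  have hS : ∀ O : Set X, IsOpen O → O.Nonempty → ∃ s ∈ genericPoints X, s ∈ O := by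
    intro O hO hne
    have hd : Dense (genericPoints X) := dense_iff_closure_eq.2 genericPoints.closure
    obtain ⟨s, hs1, hs2⟩ := hd.inter_open_nonempty O hO hne
    exact ⟨s, hs2, hs1⟩
  have hst : ∀ η : X, ∃ r, ∀ s, r ≤ s →
      stalkRange (geomPt η) (f r) = stalkRange (geomPt η) (f s) :=
    fun η => exists_stalkRange_stable I (geomPt η) k G hG hk P f hf
  choose r hr using hst
  refine ⟨hfin.toFinset.sup r, ?_⟩
  intro s hs
  set R := hfin.toFinset.sup r with hRdef
  set g : P R ⟶ cokernel (f s) := f R ≫ cokernel.π (f s) with hg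
  -- the image of `g` is finite type locally constant
  have hQ : EtModW.IsFTLocConst Λ (cokernel (f s)) :=
    ((Groth.Agent.S6646.result Λ X).1 _ _ (f s) (hP s) hG).2
  have hcg : EtModW.IsFTLocConst Λ (cokernel g) :=
    ((Groth.Agent.S6646.result Λ X).1 _ _ g (hP R) hQ).2
  have hK : EtModW.IsFTLocConst Λ (Abelian.image g) :=
    ((Groth.Agent.S6646.result Λ X).1 _ _ (cokernel.π g) hQ hcg).1
  -- its stalks at generic points vanish
  have h0 : ∀ η ∈ genericPoints X,
      Subsingleton ((EtModW.stalk Λ (geomPt η)).obj (Abelian.image g)) := by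
    intro η hη
    have hrη : r η ≤ R := Finset.le_sup (f := r) (hfin.mem_toFinset.2 hη)
    have heq : stalkRange (geomPt η) (f R) = stalkRange (geomPt η) (f s) :=
      (hr η R hrη).symm.trans (hr η s (hrη.trans hs))
    refine ⟨fun a b => ?_⟩
    have key : ∀ c : (EtModW.stalk Λ (geomPt η)).obj (Abelian.image g), c = 0 := by
      intro c
      obtain ⟨p, rfl⟩ := stalk_map_surjective (geomPt η) (Abelian.factorThruImage g) c
      apply stalk_map_injective (geomPt η) (Abelian.image.ι g)
      have h1 : (EtModW.stalk Λ (geomPt η)).map (Abelian.image.ι g)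
          ((EtModW.stalk Λ (geomPt η)).map (Abelian.factorThruImage g) p) =
          (EtModW.stalk Λ (geomPt η)).map (cokernel.π (f s))
            ((EtModW.stalk Λ (geomPt η)).map (f R) p) := by
        have e1 : (EtModW.stalk Λ (geomPt η)).map (Abelian.factorThruImage g) ≫
            (EtModW.stalk Λ (geomPt η)).map (Abelian.image.ι g) =
            (EtModW.stalk Λ (geomPt η)).map (f R) ≫
              (EtModW.stalk Λ (geomPt η)).map (cokernel.π (f s)) := by
          rw [← Functor.map_comp, ← Functor.map_comp, Abelian.image.fac]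
        exact congrArg (fun k => k.hom p) e1
      have h2 : (EtModW.stalk Λ (geomPt η)).map (f R) p ∈ stalkRange (geomPt η) (f s) := by
        rw [← heq]
        exact ⟨p, rfl⟩
      obtain ⟨p', hp'⟩ := h2
      have h3 : (EtModW.stalk Λ (geomPt η)).map (cokernel.π (f s))
          ((EtModW.stalk Λ (geomPt η)).map (f s) p') = 0 := by
        have e2 : (EtModW.stalk Λ (geomPt η)).map (f s) ≫
            (EtModW.stalk Λ (geomPt η)).map (cokernel.π (f s)) = 0 := by
          rw [← Functor.map_comp, cokernel.condition, Functor.map_zero]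
        exact congrArg (fun k => k.hom p') e2
      rw [h1, map_zero]
      have hp'' : (EtModW.stalk Λ (geomPt η)).map (f s) p' =
          (EtModW.stalk Λ (geomPt η)).map (f R) p := hp'
      rw [← hp'']
      exact h3
    rw [key a, key b]
  obtain ⟨ι, U, hc, M, -, ⟨β⟩⟩ := exists_triv (Abelian.image g) hK
  have hz : IsZero (Abelian.image g) :=
    isZero_of_stalks (Abelian.image g) U hc M β (genericPoints X) hS h0
  have h1 : Abelian.factorThruImage g = 0 := hz.eq_of_tgt _ _
  have h2 := Abelian.image.fac g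
  rw [h1, zero_comp] at h2
  exact h2.symm

end Main

end Groth.Agent.H27.LCML
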