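import Groth.Agent.H21.ModLocConst
import Groth.Agent.H21.ModExt

/-!
# Stalks of locally constant sheaves of modules (helper27)

If `F` restricted to an étale `U` is constant with value `M` and the geometric point `ξ`
lifts to `U`, the stalk `F_ξ` is `M`.
-/

set_option autoImplicit false
universe u
open CategoryTheory CategoryTheory.Limits AlgebraicGeometry Opposite

namespace Groth.Agent.H27.LCStalk

open Groth.Agent.H21.GenStalkMod Groth.Agent.H21.ModLocConst Groth.Agent.H4.Stalks
  Groth.Agent.H21.ConstSec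

variable {Λ : Type (u + 1)} [CommRing Λ] {X : Scheme.{u}}
variable {Ω : Type u} [Field Ω] [IsSepClosed Ω] {ξ : Spec (CommRingCat.of Ω) ⟶ X}

/-- the comparison map from the value of a trivialisation to the stalk. -/
noncomputable def toStalk (F : EtModW.Mod Λ X) {U : X.Etale} {M : ModuleCat.{u + 1} Λ}
    (β : F.over U ≅ (cstM Λ X M).over U) (x : Fib ξ U) :
    ↑M →ₗ[Λ] ↑((EtModW.stalk Λ ξ).obj F) :=
  (germM F x).hom ∘ₗ secHomM β.inv (𝟙 U) ∘ₗ etaM M U

lemma toStalk_apply (F : EtModW.Mod Λ X) {U : X.Etale} {M : ModuleCat.{u + 1} Λ}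
    (β : F.over U ≅ (cstM Λ X M).over U) (x : Fib ξ U) (m : ↑M) :
    toStalk F β x m = germM F x (secHomM β.inv (𝟙 U) (etaM M U m)) := rfl

lemma secHomM_inv_hom {F G : EtModW.Mod Λ X} {T : X.Etale} (β : F.over T ≅ G.over T)
    {S : X.Etale} (g : S ⟶ T) (s : SecM F S) :
    secHomM β.inv g (secHomM β.hom g s) = s := by
  rw [← secHomM_comp, β.hom_inv_id, secHomM_id]

lemma secHomM_hom_inv {F G : EtModW.Mod Λ X} {T : X.Etale} (β : F.over T ≅ G.over T)
    {S : X.Etale} (g : S ⟶ T) (s : SecM G S) :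
    secHomM β.hom g (secHomM β.inv g s) = s := by
  rw [← secHomM_comp, β.inv_hom_id, secHomM_id]

theorem toStalk_injective (F : EtModW.Mod Λ X) {U : X.Etale} {M : ModuleCat.{u + 1} Λ}
    (β : F.over U ≅ (cstM Λ X M).over U) (x : Fib ξ U) :
    Function.Injective (toStalk F β x) := by
  rw [← LinearMap.ker_eq_bot, LinearMap.ker_eq_bot']
  intro m hm
  rw [toStalk_apply] at hm
  have h0 : germM F x (secHomM β.inv (𝟙 U) (etaM M U m)) = germM F x 0 := by
    rw [hm, map_zero]
  obtain ⟨V, g, y, hy, hres⟩ := (germM_eq_iff F x _ _).1 h0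
  have h1 : resM F g (secHomM β.inv (𝟙 U) (etaM M U m)) = 0 := by
    have : resM F g (secHomM β.inv (𝟙 U) (etaM M U m)) = resM F g 0 := hres
    rw [this, map_zero]
  rw [← secHomM_res, resM_eta] at h1
  have h2 : etaM M V m = etaM M V 0 := by
    have := congrArg (secHomM β.hom (g ≫ 𝟙 U)) h1
    rw [secHomM_hom_inv, map_zero] at this
    rw [this, map_zero]
  rcases etaM_injective_or M _ _ h2 with h | h
  · exact h
  · exact ((bot_mem_iff.1 h).false y.pt).elim

theorem toStalk_surjective (F : EtModW.Mod Λ X) {U : X.Etale} {M : ModuleCat.{u + 1} Λ}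
    (β : F.over U ≅ (cstM Λ X M).over U) (x : Fib ξ U) :
    Function.Surjective (toStalk F β x) := by
  intro t
  obtain ⟨V, y, s, rfl⟩ := germM_surjective F t
  let e₁ : (Scheme.pointSmallEtale ξ).fiber.Elements := ⟨V, y⟩
  let e₂ : (Scheme.pointSmallEtale ξ).fiber.Elements := ⟨U, x⟩
  let Z := IsCofiltered.min e₁ e₂
  let p : Z ⟶ e₁ := IsCofiltered.minToLeft e₁ e₂
  let q : Z ⟶ e₂ := IsCofiltered.minToRight e₁ e₂
  let z : Fib ξ Z.1 := Z.2
  have hp : (Scheme.pointSmallEtale ξ).fiber.map p.1 z = y := p.2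
  have hq : (Scheme.pointSmallEtale ξ).fiber.map q.1 z = x := q.2
  obtain ⟨m, T, g, t₀, ht₀, hT⟩ := exists_isValM (secHomM β.hom q.1 (resM F p.1 s)) z.pt
  obtain ⟨y', hy', -⟩ := Fib.exists_lift g z t₀ ht₀
  refine ⟨m, ?_⟩
  rw [toStalk_apply]
  have e1 : germM F y s = germM F y' (resM F (g ≫ p.1) s) := by
    have := germM_res F (g ≫ p.1) y' s
    rw [Functor.map_comp] at this
    have h2 : ((Scheme.pointSmallEtale ξ).fiber.map g ≫ (Scheme.pointSmallEtale ξ).fiber.map p.1) y' = y := by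
      show (Scheme.pointSmallEtale ξ).fiber.map p.1 ((Scheme.pointSmallEtale ξ).fiber.map g y') = y
      rw [hy', hp]
    rw [h2] at this
    exact this.symm
  have e2 : germM F x (secHomM β.inv (𝟙 U) (etaM M U m)) =
      germM F y' (resM F (g ≫ q.1) (secHomM β.inv (𝟙 U) (etaM M U m))) := by
    have := germM_res F (g ≫ q.1) y' (secHomM β.inv (𝟙 U) (etaM M U m))
    rw [Functor.map_comp] at this
    have h2 : ((Scheme.pointSmallEtale ξ).fiber.map g ≫ (Scheme.pointSmallEtale ξ).fiber.map q.1) y' = x := by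
      show (Scheme.pointSmallEtale ξ).fiber.map q.1 ((Scheme.pointSmallEtale ξ).fiber.map g y') = x
      rw [hy', hq]
    rw [h2] at this
    exact this.symm
  rw [e1, e2]
  congr 1
  -- sections agree on `T`
  rw [← secHomM_res, resM_eta]
  have h3 : secHomM β.hom (g ≫ q.1) (resM F (g ≫ p.1) s) = etaM M T m := by
    rw [← resM_res, secHomM_res]
    exact hT
  have h4 := congrArg (secHomM β.inv (g ≫ q.1)) h3
  rw [secHomM_inv_hom] at h4
  rw [Category.comp_id]
  exact h4.symm

theorem toStalk_bijective (F : EtModW.Mod Λ X) {U : X.Etale} {M : ModuleCat.{u + 1} Λ}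
    (β : F.over U ≅ (cstM Λ X M).over U) (x : Fib ξ U) :
    Function.Bijective (toStalk F β x) :=
  ⟨toStalk_injective F β x, toStalk_surjective F β x⟩

end Groth.Agent.H27.LCStalk
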