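import Groth.Agent.H27.Indiv

set_option autoImplicit false

namespace Groth.Agent.H27

open RootD Finsupp RootPairing

variable {ι M N : Type*} [AddCommGroup M] [AddCommGroup N] (P : RootPairing ι ℤ M N)

/-- `R'` is stable under the reflections in its own roots -/
def ReflStable (R' : Set ι) : Prop := ∀ i ∈ R', ∀ j ∈ R', P.reflectionPerm i j ∈ R'

variable {P}

/-- the root pairing with the same weight and coweight lattices whose roots are those of `R'` -/
def sub (R' : Set ι) (h : ReflStable P R') : RootPairing ↥R' ℤ M N where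
  toLinearMap := P.toLinearMap
  isPerfPair_toLinearMap := P.isPerfPair_toLinearMap
  root := (Function.Embedding.subtype _).trans P.root
  coroot := (Function.Embedding.subtype _).trans P.coroot
  root_coroot_two i := P.root_coroot_two i
  reflectionPerm i := (P.reflectionPerm i).subtypeEquiv (fun j => ⟨h i i.2 j, fun hj => by
    have := h i i.2 _ hj
    rwa [P.reflectionPerm_self] at this⟩)
  reflectionPerm_root i j := P.reflectionPerm_root i j
  reflectionPerm_coroot i j := P.reflectionPerm_coroot i j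

section
variable {R' : Set ι} (h : ReflStable P R')

@[simp] lemma sub_root (k : ↥R') : (sub R' h).root k = P.root k := rfl
@[simp] lemma sub_coroot (k : ↥R') : (sub R' h).coroot k = P.coroot k := rfl
@[simp] lemma sub_toLinearMap : (sub R' h).toLinearMap = P.toLinearMap := rfl
@[simp] lemma sub_pairing (i j : ↥R') : (sub R' h).pairing i j = P.pairing i j := rfl
@[simp] lemma sub_reflectionPerm (i j : ↥R') :
    (((sub R' h).reflectionPerm i j : ↥R') : ι) = P.reflectionPerm i j := rfl

lemma sub_ng (i : ↥R') : ((ng (sub R' h) i : ↥R') : ι) = ng P i := rfl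

lemma natSpan_sub (T : Set ↥R') :
    natSpan (sub R' h) T = natSpan P (Subtype.val '' T) := by
  unfold natSpan
  congr 1
  ext x
  constructor
  · rintro ⟨k, hk, rfl⟩
    exact ⟨k.1, ⟨k, hk, rfl⟩, rfl⟩
  · rintro ⟨_, ⟨k, hk, rfl⟩, rfl⟩
    exact ⟨k, hk, rfl⟩

lemma image_val_preimage {Δ' : Set ι} (hΔ' : Δ' ⊆ R') :
    Subtype.val '' {k : ↥R' | k.1 ∈ Δ'} = Δ' := by
  ext x
  constructor
  · rintro ⟨k, hk, rfl⟩; exact hk
  · intro hx; exact ⟨⟨x, hΔ' hx⟩, hx, rfl⟩

lemma isIndiv_sub {i : ↥R'} (hi : IsIndiv P i.1) : IsIndiv (sub R' h) i :=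
  fun j hj => hi j.1 hj

/-- a "simple system of `R'`" in the sense of S5461 is a simple system of the sub-pairing -/
lemma isSimpleSys_sub {Δ' : Set ι} (hΔ' : Δ' ⊆ R') (hli : LinearIndepOn ℤ P.root Δ')
    (hgen : ∀ k ∈ R', P.root k ∈ natSpan P Δ' ∨ -P.root k ∈ natSpan P Δ') :
    IsSimpleSys (sub R' h) {k : ↥R' | k.1 ∈ Δ'} := by
  refine ⟨?_, ?_⟩
  · have h1 : LinearIndepOn ℤ P.root (Subtype.val '' {k : ↥R' | k.1 ∈ Δ'}) := by
      rw [image_val_preimage hΔ']; exact hli
    exact h1.comp_of_image Subtype.val_injective.injOn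
  · intro k
    rw [natSpan_sub, image_val_preimage hΔ']
    exact hgen k.1 k.2

lemma isSimpleSys_sub_image {T : Set ↥R'} (hT : IsSimpleSys (sub R' h) T) :
    LinearIndepOn ℤ P.root (Subtype.val '' T) ∧
      ∀ k ∈ R', P.root k ∈ natSpan P (Subtype.val '' T) ∨
        -P.root k ∈ natSpan P (Subtype.val '' T) := by
  refine ⟨?_, ?_⟩
  · have := hT.linInd
    exact LinearIndepOn.image_of_comp (f := Subtype.val) (g := P.root) this
  · intro k hk
    have := hT.mem_or_neg_mem ⟨k, hk⟩
    rwa [natSpan_sub] at this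

end

end Groth.Agent.H27
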