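import Groth.Agent.H27.ParaSub
import Groth.Agent.H27.SubPairing
import Groth.Agent.H27.RhoCheck
import Mathlib.Algebra.Order.Monoid.Prod

set_option autoImplicit false

namespace Groth.Agent.H27

open RootD Finsupp RootPairing

variable {ι M N : Type*} [AddCommGroup M] [AddCommGroup N] {P : RootPairing ι ℤ M N}

/-- saturated subsets: every root with a positive multiple in the span of `R'` lies in `R'` -/
def Sat (P : RootPairing ι ℤ M N) (R' : Set ι) : Prop :=
  ∀ k : ι, (∃ n : ℕ, 0 < n ∧ n • P.root k ∈ Submodule.span ℤ (P.root '' R')) → k ∈ R'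

lemma Sat.mem_of_mem_span {R' : Set ι} (hsat : Sat P R') {k : ι}
    (hk : P.root k ∈ Submodule.span ℤ (P.root '' R')) : k ∈ R' :=
  hsat k ⟨1, one_pos, by rwa [one_smul]⟩

lemma Sat.reflStable {R' : Set ι} (hsat : Sat P R') : ReflStable P R' := by
  intro i hi j hj
  apply hsat.mem_of_mem_span
  rw [P.root_reflectionPerm, P.reflection_apply_root]
  exact sub_mem (Submodule.subset_span ⟨j, hj, rfl⟩)
    (Submodule.smul_mem _ _ (Submodule.subset_span ⟨i, hi, rfl⟩))

section Finite
variable [Finite ι]

instance : Finite ↥P.weylGroup := Finite.of_injective _ (weylGroupToPerm_injective (P := P))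

omit [Finite ι] in
lemma wsub_le_weylGroup (R' : Set ι) : wsub P R' ≤ P.weylGroup := by
  rw [Subgroup.closure_le]
  rintro _ ⟨i, _, rfl⟩
  exact P.reflection_mem_weylGroup i

instance (R' : Set ι) : Finite ↥(wsub P R') :=
  Finite.of_injective _ (Subgroup.inclusion_injective (wsub_le_weylGroup R'))

/-- averaging over the group generated by the reflections in `R'` -/
lemma exists_avg (R' : Set ι) :
    ∃ (a : M →+ M) (c : ℕ), 0 < c ∧
      (∀ m, a m - c • m ∈ Submodule.span ℤ (P.root '' R')) ∧ ∀ r ∈ R', a (P.root r) = 0 := by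
  classical
  have := Fintype.ofFinite ↥(wsub P R')
  let a : M →+ M := ∑ w : ↥(wsub P R'), DistribSMul.toAddMonoidHom M (w : P.Aut)
  have ha : ∀ m, a m = ∑ w : ↥(wsub P R'), (w : P.Aut) • m := by
    intro m
    simp only [a, AddMonoidHom.finsetSum_apply, DistribSMul.toAddMonoidHom_apply]
  refine ⟨a, Fintype.card ↥(wsub P R'), Fintype.card_pos, ?_, ?_⟩
  · intro m
    have : a m - Fintype.card ↥(wsub P R') • m = ∑ w : ↥(wsub P R'), ((w : P.Aut) • m - m) := by
      rw [ha, Finset.sum_sub_distrib, Finset.sum_const, Finset.card_univ]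
    rw [this]
    refine Submodule.sum_mem _ fun w _ => ?_
    obtain ⟨L, hL, hw⟩ := mem_closure_iff_exists_list.1 w.2
    rw [← hw]
    exact lprod_smul_sub_mem_span L hL m
  · intro r hr
    have htf := torsionFree P
    let s : ↥(wsub P R') := ⟨refl P r, refl_mem_wsub hr⟩
    have h1 : a (P.root r) = - a (P.root r) := by
      conv_lhs => rw [ha, ← Equiv.sum_comp (Equiv.mulRight s)]
      rw [ha, ← Finset.sum_neg_distrib]
      refine Finset.sum_congr rfl fun w _ => ?_
      simp only [Equiv.coe_mulRight, Subgroup.coe_mul, mul_smul, s]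
      rw [RootPairing.Equiv.reflection_smul, P.reflection_apply_self, smul_neg]
    have h2 : (2 : ℕ) • a (P.root r) = (2 : ℕ) • (0 : M) := by
      rw [two_nsmul, smul_zero]
      nth_rewrite 1 [h1]
      exact neg_add_cancel _
    exact nsmul_right_injective (by norm_num) h2

/-- a homomorphism to an ordered group vanishing on exactly the roots of a saturated subset -/
lemma exists_levi_hom {R' : Set ι} (hsat : Sat P R') :
    ∃ φ₁ : M →+ Lex (Fin (Nat.card ι) → ℤ), ∀ k : ι, φ₁ (P.root k) = 0 ↔ k ∈ R' := by
  classical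
  obtain ⟨a, c, hc, ha1, ha2⟩ := exists_avg (P := P) R'
  let e : ι ≃ Fin (Nat.card ι) := Finite.equivFin ι
  let φ₁ : M →+ Lex (Fin (Nat.card ι) → ℤ) :=
    { toFun := fun m => toLex (fun x => P.toLinearMap (a m) (P.coroot (e.symm x)))
      map_zero' := by
        apply toLex.injective |>.eq_iff.2
        funext x; simp
      map_add' := fun x y => by
        apply toLex.injective |>.eq_iff.2
        funext x; simp }
  refine ⟨φ₁, fun k => ⟨fun h => ?_, fun h => ?_⟩⟩
  · have h0 : a (P.root k) = 0 := by
      apply eq_zero_of_mem_span_of_pairing_eq_zero (P := P)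
      · have h1 := ha1 (P.root k)
        have h2 : (c • P.root k) ∈ Submodule.span ℤ (Set.range P.root) :=
          Submodule.smul_of_tower_mem _ c (Submodule.subset_span (Set.mem_range_self k))
        have h3 : a (P.root k) - c • P.root k ∈ Submodule.span ℤ (Set.range P.root) :=
          Submodule.span_mono (Set.image_subset_range _ _) h1
        have := add_mem h3 h2
        rwa [sub_add_cancel] at this
      · intro i
        have h1 := congrArg (fun f : Lex (Fin (Nat.card ι) → ℤ) => (ofLex f : Fin (Nat.card ι) → ℤ) (e i)) h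
        simp only [φ₁] at h1
        change P.toLinearMap (a (P.root k)) (P.coroot (e.symm (e i))) = 0 at h1
        rwa [Equiv.symm_apply_apply] at h1
    refine hsat k ⟨c, hc, ?_⟩
    have h1 := ha1 (P.root k)
    rw [h0, zero_sub, neg_mem_iff] at h1
    exact h1
  · apply toLex.injective |>.eq_iff.2
    funext x
    change P.toLinearMap (a (P.root k)) (P.coroot (e.symm x)) = 0
    rw [ha2 k h]; simp

end Finite

end Groth.Agent.H27
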