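import Groth.Agent.H27.Levi

set_option autoImplicit false

namespace Groth.Agent.H27

open RootD Finsupp RootPairing

variable {ι M N : Type*} [AddCommGroup M] [AddCommGroup N] {P : RootPairing ι ℤ M N}

section Finite
variable [Finite ι]

/-- For a saturated `R'` and a homomorphism `φ₂` to an ordered group that does not vanish on the
roots of `R'`, there is a positive system `S` in which `R' ∩ S` is cut out by `φ₂` and is a "face". -/
lemma exists_posSys_levi {R' : Set ι} (hsat : Sat P R')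
    {G₂ : Type*} [AddCommGroup G₂] [LinearOrder G₂] [IsOrderedAddMonoid G₂] (φ₂ : M →+ G₂)
    (h₂ : ∀ k ∈ R', φ₂ (P.root k) ≠ 0) :
    ∃ S : Set ι, IsPosSys P S ∧ (∀ k ∈ R', k ∈ S ↔ 0 < φ₂ (P.root k)) ∧
      ∀ c : ι →₀ ℤ, (∀ i, 0 ≤ c i) → ↑c.support ⊆ S → ∀ k ∈ R',
        linearCombination ℤ P.root c = P.root k → ↑c.support ⊆ R' := by
  classical
  obtain ⟨φ₁, hφ₁⟩ := exists_levi_hom hsat
  let φ : M →+ (Lex (Fin (Nat.card ι) → ℤ)) ×ₗ G₂ :=
    { toFun := fun m => toLex (φ₁ m, φ₂ m)
      map_zero' := by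
        apply toLex.injective |>.eq_iff.2
        simp
      map_add' := fun x y => by
        rw [map_add, map_add, ← Prod.mk_add_mk, toLex_add] }
  have hφ : ∀ m, φ m = toLex (φ₁ m, φ₂ m) := fun m => rfl
  have hpos_iff : ∀ m, 0 < φ m ↔ 0 < φ₁ m ∨ (φ₁ m = 0 ∧ 0 < φ₂ m) := by
    intro m
    rw [hφ, Prod.Lex.lt_iff]
    simp only [ofLex_toLex, ofLex_zero, Prod.fst_zero, Prod.snd_zero]
    constructor
    · rintro (h | ⟨h1, h2⟩)
      · exact Or.inl h
      · exact Or.inr ⟨h1.symm, h2⟩
    · rintro (h | ⟨h1, h2⟩)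
      · exact Or.inl h
      · exact Or.inr ⟨h1.symm, h2⟩
  have hne : ∀ i : ι, φ (P.root i) ≠ 0 := by
    intro i h
    have h1 : (φ₁ (P.root i), φ₂ (P.root i)) = 0 := by
      have := congrArg ofLex h
      simpa [hφ] using this
    rw [Prod.mk_eq_zero] at h1
    exact h₂ i ((hφ₁ i).1 h1.1) h1.2
  refine ⟨{i : ι | 0 < φ (P.root i)}, isPosSys_of_orderedAddHom φ fun i => ?_, ?_, ?_⟩
  · rcases lt_or_gt_of_ne (hne i) with h | h
    · exact Or.inr h
    · exact Or.inl h
  · intro k hk
    have h0 : φ₁ (P.root k) = 0 := (hφ₁ k).2 hk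
    change 0 < φ (P.root k) ↔ _
    rw [hpos_iff, h0]
    constructor
    · rintro (h | ⟨_, h⟩)
      · exact absurd h (lt_irrefl _)
      · exact h
    · intro h
      exact Or.inr ⟨rfl, h⟩
  · intro c hc hcS k hk hck
    have h0 : φ₁ (P.root k) = 0 := (hφ₁ k).2 hk
    have hnn : ∀ s ∈ c.support, 0 ≤ c s • φ₁ (P.root s) := by
      intro s hs
      have h1 : 0 ≤ φ₁ (P.root s) := by
        have := (hpos_iff _).1 (hcS hs)
        rcases this with h | ⟨h, _⟩
        · exact h.le
        · exact h.ge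
      exact zsmul_nonneg h1 (hc s)
    have hsum : ∑ s ∈ c.support, c s • φ₁ (P.root s) = 0 := by
      rw [← h0, ← hck, Finsupp.linearCombination_apply, Finsupp.sum, map_sum]
      refine Finset.sum_congr rfl fun s _ => ?_
      rw [map_zsmul]
    rw [Finset.sum_eq_zero_iff_of_nonneg hnn] at hsum
    intro s hs
    have h1 := hsum s hs
    have hcs : 0 < c s := by
      have := hc s
      have : c s ≠ 0 := by simpa using hs
      omega
    apply (hφ₁ s).1
    by_contra hne0
    have h2 : 0 < φ₁ (P.root s) := by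
      have := (hpos_iff _).1 (hcS hs)
      rcases this with h | ⟨h, _⟩
      · exact h
      · exact absurd h hne0
    have := zsmul_pos h2 hcs
    rw [h1] at this
    exact lt_irrefl _ this

end Finite

end Groth.Agent.H27
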