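import Groth.Agent.H27.Levi2

set_option autoImplicit false

namespace Groth.Agent.H27

open RootD Finsupp RootPairing

variable {ι M N : Type*} [AddCommGroup M] [AddCommGroup N] {P : RootPairing ι ℤ M N}

section Finite
variable [Finite ι]

lemma exists_orderedHom_ne_zero :
    ∃ φ : M →+ Lex (Fin (Nat.card ι) → ℤ), ∀ i : ι, φ (P.root i) ≠ 0 := by
  classical
  let e : ι ≃ Fin (Nat.card ι) := Finite.equivFin ι
  let φ : M →+ Lex (Fin (Nat.card ι) → ℤ) :=
    { toFun := fun m => toLex (fun a => P.toLinearMap m (P.coroot (e.symm a)))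
      map_zero' := by
        apply toLex.injective |>.eq_iff.2
        funext a; simp
      map_add' := fun x y => by
        apply toLex.injective |>.eq_iff.2
        funext a; simp }
  refine ⟨φ, fun i h => ?_⟩
  have h1 := congrArg (fun f : Lex (Fin (Nat.card ι) → ℤ) => (ofLex f : Fin (Nat.card ι) → ℤ) (e i)) h
  simp only [φ] at h1
  change P.toLinearMap (P.root i) (P.coroot (e.symm (e i))) = 0 at h1
  rw [Equiv.symm_apply_apply] at h1
  change P.pairing i i = 0 at h1
  rw [P.pairing_same] at h1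
  norm_num at h1

/-- S5460 (→) -/
theorem exists_simpleSys_of_sat {R' : Set ι} (hsat : Sat P R') :
    ∃ Δ Δ' : Set ι, IsSimpleSys P Δ ∧ Δ' ⊆ Δ ∧ R' = inSpan P Δ' := by
  obtain ⟨φ₂, hφ₂⟩ := exists_orderedHom_ne_zero (P := P)
  obtain ⟨S, hS, _, hF⟩ := exists_posSys_levi hsat φ₂ (fun k _ => hφ₂ k)
  refine ⟨indec P S, indec P S ∩ R', isSimpleSys_indec hS, Set.inter_subset_left, ?_⟩
  have hst := hsat.reflStable
  have key : ∀ k ∈ R', k ∈ S → P.root k ∈ natSpan P (indec P S ∩ R') := by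
    intro k hk hkS
    obtain ⟨c, hc1, hc2, hc3⟩ := (mem_natSpan_iff P).1 (mem_natSpan_indec hS k hkS)
    have hc4 := hF c hc2 (hc1.trans (indec_subset S)) k hk hc3
    exact (mem_natSpan_iff P).2 ⟨c, fun i hi => ⟨hc1 hi, hc4 hi⟩, hc2, hc3⟩
  ext k; constructor
  · intro hk
    show P.root k ∈ Submodule.span ℤ (P.root '' (indec P S ∩ R'))
    rcases hS.cover k with h | h
    · exact natSpan_le_span P _ (key k hk h)
    · have hk' : P.reflectionPerm k k ∈ R' := hst k hk k hk
      have := natSpan_le_span P _ (key _ hk' h)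
      rw [show P.root (P.reflectionPerm k k) = - P.root k from root_ng P k, neg_mem_iff] at this
      exact this
  · intro hk
    apply hsat.mem_of_mem_span
    exact Submodule.span_mono (Set.image_mono Set.inter_subset_right) hk

omit [Finite ι] in
/-- S5460 (←) -/
theorem sat_inSpan {Δ Δ' : Set ι} (hΔ : IsSimpleSys P Δ) (hsub : Δ' ⊆ Δ) : Sat P (inSpan P Δ') := by
  rintro k ⟨n, hn, hk⟩
  have hle : Submodule.span ℤ (P.root '' inSpan P Δ') ≤ Submodule.span ℤ (P.root '' Δ') := by
    rw [Submodule.span_le]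
    rintro _ ⟨l, hl, rfl⟩
    exact hl
  obtain ⟨d, hd1, hd2⟩ := (Finsupp.mem_span_image_iff_linearCombination ℤ).1 (hle hk)
  have hd1' : ↑d.support ⊆ Δ' := (Finsupp.mem_supported ℤ d).1 hd1
  obtain ⟨c, hc1, _, hc3⟩ := exists_coef hΔ k
  have heq : (n : ℤ) • c = d := by
    apply coef_unique hΔ.linInd (support_smul_subset hc1 _) (hd1'.trans hsub)
    rw [map_smul, hc3, hd2, natCast_zsmul]
  have hc' : ↑c.support ⊆ Δ' := by
    intro i hi
    apply hd1'
    have hci : c i ≠ 0 := by simpa using hi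
    have : d i = (n : ℤ) * c i := by rw [← heq]; simp
    have hdi : d i ≠ 0 := by
      rw [this]; exact mul_ne_zero (by exact_mod_cast hn.ne') hci
    simpa using hdi
  show P.root k ∈ Submodule.span ℤ (P.root '' Δ')
  rw [← hc3]
  exact (Finsupp.mem_span_image_iff_linearCombination ℤ).2 ⟨c, (Finsupp.mem_supported ℤ c).2 hc', rfl⟩

/-- S5461 -/
theorem exists_simpleSys_extending {R' : Set ι} (hsat : Sat P R')
    (Δ' : Set ι) (hΔ'R : Δ' ⊆ R') (hli : LinearIndepOn ℤ P.root Δ')
    (hgen : ∀ k ∈ R', P.root k ∈ natSpan P Δ' ∨ -P.root k ∈ natSpan P Δ') :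
    ∃ Δ : Set ι, IsSimpleSys P Δ ∧ Δ' ⊆ Δ ∧ R' = inSpan P Δ' := by
  classical
  have hst := hsat.reflStable
  have hT := isSimpleSys_sub hst hΔ'R hli hgen
  set Q := sub R' hst with hQ
  set T : Set ↥R' := {k : ↥R' | k.1 ∈ Δ'} with hTdef
  obtain ⟨ρ, hρ⟩ := exists_coweight_pos hT
  let φ₂ : M →+ ℤ := (P.toLinearMap.flip ρ).toAddMonoidHom
  have hφ₂ : ∀ m, φ₂ m = P.toLinearMap m ρ := fun m => rfl
  have hpos : ∀ k : ↥R', k ∈ posOf Q T → 0 < φ₂ (P.root k) := fun k hk => hρ k hk
  have hneg : ∀ k : ↥R', k ∉ posOf Q T → φ₂ (P.root k) < 0 := by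
    intro k hk
    have h1 := (ng_mem_posOf_iff hT k).2 hk
    have h2 := hρ _ h1
    rw [root_ng] at h2
    have h3 : φ₂ (P.root k) = - (Q.toLinearMap (-Q.root k) ρ) := by
      rw [hφ₂]; simp [hQ]
    rw [h3]; omega
  obtain ⟨S, hS, hS2, hF⟩ := exists_posSys_levi hsat φ₂ (fun k hk => by
    by_cases h : (⟨k, hk⟩ : ↥R') ∈ posOf Q T
    · exact (hpos _ h).ne'
    · exact (hneg _ h).ne)
  refine ⟨indec P S, isSimpleSys_indec hS, ?_, ?_⟩
  · intro α hα
    have hαR := hΔ'R hα
    have hαT : (⟨α, hαR⟩ : ↥R') ∈ T := hα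
    have hαS : α ∈ S := (hS2 α hαR).2 (hpos _ (subset_posOf T hαT))
    refine ⟨hαS, ?_⟩
    rintro ⟨i, j, hi, hj, hij⟩
    have hsupp := hF (Finsupp.single i 1 + Finsupp.single j 1)
      (fun l => by
        simp only [Finsupp.add_apply, Finsupp.single_apply]
        split_ifs <;> norm_num)
      (support_add_subset (support_single_subset hi 1) (support_single_subset hj 1))
      α hαR (by simp [hij])
    have hiR : i ∈ R' := hsupp (by
      simp only [Finset.mem_coe, Finsupp.mem_support_iff, Finsupp.add_apply, Finsupp.single_apply]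
      split_ifs <;> norm_num)
    have hjR : j ∈ R' := hsupp (by
      simp only [Finset.mem_coe, Finsupp.mem_support_iff, Finsupp.add_apply, Finsupp.single_apply]
      split_ifs <;> norm_num)
    have hi' : (⟨i, hiR⟩ : ↥R') ∈ posOf Q T := by
      by_contra hcon
      have h1 := hneg _ hcon
      have h2 := (hS2 i hiR).1 hi
      exact lt_asymm h1 h2
    have hj' : (⟨j, hjR⟩ : ↥R') ∈ posOf Q T := by
      by_contra hcon
      have h1 := hneg _ hcon
      have h2 := (hS2 j hjR).1 hj
      exact lt_asymm h1 h2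
    exact (mem_simple_iff_indecomposable hT (subset_posOf T hαT)).1 hαT
      ⟨⟨i, hiR⟩, ⟨j, hjR⟩, hi', hj', hij⟩
  · ext k; constructor
    · intro hk
      show P.root k ∈ Submodule.span ℤ (P.root '' Δ')
      rcases hgen k hk with h | h
      · exact natSpan_le_span P _ h
      · have := natSpan_le_span P _ h
        rwa [neg_mem_iff] at this
    · intro hk
      exact hsat.mem_of_mem_span (Submodule.span_mono (Set.image_mono hΔ'R) hk)

end Finite

end Groth.Agent.H27
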