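import Groth.Agent.H27.LCML
import Groth.Prelude.Def_ARSys
import Mathlib.CategoryTheory.Limits.Preserves.Shapes.Kernels

/-!
# Transfer of the Mittag-Leffler condition along a right exact functor (helper27)
-/

set_option autoImplicit false
open CategoryTheory CategoryTheory.Limits Opposite

namespace Groth.Agent.H27.MLTransfer

variable {C D : Type*} [Category C] [Category D] [Abelian C] [Abelian D]

lemma shiftMap_comp (F : ARSys.PS C) (n r s : ℕ) (h : r ≤ s) :
    ARSys.shiftMap F s n =
      ARSys.tr F (Nat.add_le_add_left h n) ≫ ARSys.shiftMap F r n := by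
  exact (congrArg F.map (Subsingleton.elim _ _)).trans (F.map_comp _ _)

lemma imageSubobject_le_of_eq_comp {A B Y : D} {f : A ⟶ Y} {g : B ⟶ Y} (t : A ⟶ B)
    (h : f = t ≫ g) : imageSubobject f ≤ imageSubobject g := by
  subst h
  exact imageSubobject_comp_le _ _

theorem isML_comp_of_stable (G : C ⥤ D) [G.PreservesZeroMorphisms] [PreservesFiniteColimits G]
    (F : ARSys.PS C)
    (h : ∀ n, ∃ r, ∀ s, r ≤ s →
      ARSys.shiftMap F r n ≫ cokernel.π (ARSys.shiftMap F s n) = 0) :
    ARSys.IsML (F ⋙ G) := by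
  intro n
  obtain ⟨r, hr⟩ := h n
  refine ⟨r, fun s hs => le_antisymm ?_ ?_⟩
  · exact imageSubobject_le_of_eq_comp _ (shiftMap_comp (F ⋙ G) n r s hs)
  · apply Groth.Agent.H27.LCML.imageSubobject_le_of_comp_cokernel
    show G.map (ARSys.shiftMap F r n) ≫ cokernel.π (G.map (ARSys.shiftMap F s n)) = 0
    rw [← cancel_mono (cokernelComparison (ARSys.shiftMap F s n) G), Category.assoc,
      π_comp_cokernelComparison, ← G.map_comp, hr s hs, G.map_zero, zero_comp]

end Groth.Agent.H27.MLTransfer
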