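import Mathlib
import Groth.Prelude

set_option autoImplicit false
universe u

namespace Groth.Agent.H27.MinorInv

open Matrix

variable {R : Type u} [CommRing R]

/-- The determinant of `B * A` (`B : m × n`, `A : n × m`) is an `R`-combination of the `m × m`
minors of `A` (weak Cauchy–Binet). -/
theorem det_mul_mem_minorIdeal {n m : ℕ} (A : Matrix (Fin n) (Fin m) R)
    (B : Matrix (Fin m) (Fin n) R) : (B * A).det ∈ CAlgX.minorIdeal A m := by
  have h1 : (B * A) = fun i => ∑ k, B i k • A k := by
    ext i j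
    simp [Matrix.mul_apply, Finset.sum_apply]
  have h2 : (B * A).det = ∑ σ : Fin m → Fin n, (∏ i, B i (σ i)) • (A.submatrix σ id).det := by
    rw [h1]
    change (detRowAlternating : (Fin m → R) [⋀^Fin m]→ₗ[R] R).toMultilinearMap
      (fun i => ∑ k, B i k • A k) = _
    rw [MultilinearMap.map_sum]
    refine Finset.sum_congr rfl fun σ _ => ?_
    rw [MultilinearMap.map_smul_univ]
    rfl
  rw [h2]
  refine Ideal.sum_mem _ fun σ _ => ?_
  rw [smul_eq_mul]
  refine Ideal.mul_mem_left _ _ (Ideal.subset_span ⟨(σ, id), rfl⟩)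

theorem exists_left_inverse_of_mem_minorIdeal {n m : ℕ} (A : Matrix (Fin n) (Fin m) R) (f : R)
    (hf : f ∈ CAlgX.minorIdeal A m) :
    ∃ B : Matrix (Fin m) (Fin n) R, B * A = f • (1 : Matrix (Fin m) (Fin m) R) := by
  unfold CAlgX.minorIdeal at hf
  induction hf using Submodule.span_induction with
  | mem x hx =>
    obtain ⟨⟨g, h⟩, rfl⟩ := hx
    have e1 : A.submatrix g id = (1 : Matrix (Fin n) (Fin n) R).submatrix g id * A := by
      have := Matrix.submatrix_mul (1 : Matrix (Fin n) (Fin n) R) A g (id : Fin n → Fin n)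
        (id : Fin m → Fin m) Function.bijective_id
      rw [Matrix.one_mul, Matrix.submatrix_id_id] at this
      exact this
    have e2 : A.submatrix g h = A.submatrix g id * (1 : Matrix (Fin m) (Fin m) R).submatrix id h := by
      have := Matrix.submatrix_mul (A.submatrix g id) (1 : Matrix (Fin m) (Fin m) R) id
        (id : Fin m → Fin m) h Function.bijective_id
      rw [Matrix.mul_one, Matrix.submatrix_id_id] at this
      rw [← this]
      rfl
    refine ⟨((1 : Matrix (Fin m) (Fin m) R).submatrix id h).det •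
      ((A.submatrix g id).adjugate * (1 : Matrix (Fin n) (Fin n) R).submatrix g id), ?_⟩
    rw [Matrix.smul_mul, Matrix.mul_assoc, ← e1, Matrix.adjugate_mul, smul_smul]
    congr 1
    change _ = (A.submatrix g h).det
    rw [e2, Matrix.det_mul, mul_comm]
  | zero => exact ⟨0, by simp⟩
  | add x y _ _ hx hy =>
    obtain ⟨B, hB⟩ := hx
    obtain ⟨C, hC⟩ := hy
    exact ⟨B + C, by rw [Matrix.add_mul, hB, hC, add_smul]⟩
  | smul a x _ hx =>
    obtain ⟨B, hB⟩ := hx
    exact ⟨a • B, by rw [Matrix.smul_mul, hB, smul_smul, smul_eq_mul]⟩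

theorem pow_mem_minorIdeal_of_left_inverse {n m : ℕ} (A : Matrix (Fin n) (Fin m) R) (f : R)
    (B : Matrix (Fin m) (Fin n) R) (h : B * A = f • (1 : Matrix (Fin m) (Fin m) R)) :
    f ^ m ∈ CAlgX.minorIdeal A m := by
  have := det_mul_mem_minorIdeal A B
  rw [h, Matrix.det_smul, Matrix.det_one, mul_one, Fintype.card_fin] at this
  exact this

end Groth.Agent.H27.MinorInv
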