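import Groth.Agent.H27.Form

set_option autoImplicit false

namespace Groth.Agent.H27

open RootD Finsupp RootPairing

variable {ι M N ι' M' N' : Type*} [AddCommGroup M] [AddCommGroup N] [AddCommGroup M']
  [AddCommGroup N'] {P : RootPairing ι ℤ M N} {P' : RootPairing ι' ℤ M' N'}

section Finite
variable [Finite ι] [Finite ι']

/-- S5473 core -/
lemma coroot_correspond
    (f : M' →ₗ[ℤ] M) (g : N →ₗ[ℤ] N')
    (hfg : ∀ (m' : M') (n : N), P.toLinearMap (f m') n = P'.toLinearMap m' (g n))
    (e : ι' ≃ ι) (he : ∀ i' : ι', f (P'.root i') = P.root (e i'))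
    (e' : ι ≃ ι') (he' : ∀ i : ι, g (P.coroot i) = P'.coroot (e' i)) :
    ∀ i' : ι', g (P.coroot (e i')) = P'.coroot i' := by
  have := Fintype.ofFinite ι
  have := Fintype.ofFinite ι'
  have htf := torsionFree' P'
  intro i'
  have hpair : ∀ (x' : M') (j : ι), P'.toLinearMap x' (P'.coroot (e' j)) =
      P.toLinearMap (f x') (P.coroot j) := fun x' j => by rw [hfg, he']
  -- lengths agree
  have hlen : ∀ x' : M', P'.RootForm x' x' = P.RootForm (f x') (f x') := by
    intro x'
    rw [P'.rootForm_apply_apply, P.rootForm_apply_apply, ← Equiv.sum_comp e']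
    refine Finset.sum_congr rfl fun j _ => ?_
    change P'.toLinearMap x' (P'.coroot (e' j)) * P'.toLinearMap x' (P'.coroot (e' j)) =
      P.toLinearMap (f x') (P.coroot j) * P.toLinearMap (f x') (P.coroot j)
    rw [hpair]
  have hpol : ∀ x' : M', P'.Polarization x' = g (P.Polarization (f x')) := by
    intro x'
    rw [P'.Polarization_apply, P.Polarization_apply, map_sum, ← Equiv.sum_comp e']
    refine Finset.sum_congr rfl fun j _ => ?_
    rw [map_smul, he']
    congr 1
    exact hpair x' j
  have h1 := P'.rootForm_self_smul_coroot i'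
  have h2 := P.rootForm_self_smul_coroot (e i')
  rw [hpol, hlen, he, ← map_nsmul, ← h2, map_smul] at h1
  have hne : P.RootForm (P.root (e i')) (P.root (e i')) ≠ 0 := (rootForm_root_pos P (e i')).ne'
  exact (smul_right_injective N' hne h1).symm

end Finite

end Groth.Agent.H27
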