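import Mathlib
import Groth.Agent.H54.Dim

/-!
# Lifting a Noether normalization of the special fibre over a DVR
-/

namespace Groth.Agent.H27.NNLift

open MvPolynomial

universe u

section inj

variable {A B : Type*} [CommRing A] [IsDomain A] [IsNoetherianRing A] [CommRing B] [Algebra A B]
  [Module.Flat A B]

theorem injective_of_injective_mod {σ : Type*} (ϖ : A) (hϖ0 : ϖ ≠ 0)
    (hϖ : Ideal.span {ϖ} ≠ ⊤) (φ : MvPolynomial σ A →ₐ[A] B)
    (h : ∀ p : MvPolynomial σ A, φ p ∈ Ideal.map (algebraMap A B) (Ideal.span {ϖ}) →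
      p ∈ Ideal.map (C : A →+* MvPolynomial σ A) (Ideal.span {ϖ})) :
    Function.Injective φ := by
  have hreg : IsSMulRegular B (algebraMap A B ϖ) :=
    IsSMulRegular.of_flat (IsLeftRegular.isSMulRegular (IsRegular.of_ne_zero hϖ0).left)
  have step : ∀ p, φ p = 0 → ∃ p', p = C ϖ * p' ∧ φ p' = 0 := by
    intro p hp
    have hp' := h p (by rw [hp]; exact zero_mem _)
    rw [Ideal.map_span, Set.image_singleton] at hp'
    obtain ⟨a, ha⟩ := Ideal.mem_span_singleton'.mp hp'
    refine ⟨a, by rw [← ha, mul_comm], ?_⟩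
    have : algebraMap A B ϖ • φ a = 0 := by
      rw [smul_eq_mul, mul_comm, ← hp, ← ha, map_mul]
      congr 1
      rw [← algebraMap_eq, AlgHom.commutes]
    have h0 : algebraMap A B ϖ • φ a = algebraMap A B ϖ • (0 : B) := by rw [this, smul_zero]
    exact hreg h0
  have key : ∀ n : ℕ, ∀ p, φ p = 0 → ∀ m, coeff m p ∈ (Ideal.span {ϖ}) ^ n := by
    intro n
    induction n with
    | zero => intro p _ m; simp
    | succ n ih =>
      intro p hp m
      obtain ⟨p', rfl, hp'⟩ := step p hp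
      rw [coeff_C_mul, pow_succ']
      exact Ideal.mul_mem_mul (Ideal.mem_span_singleton_self ϖ) (ih p' hp' m)
  rw [injective_iff_map_eq_zero]
  intro p hp
  ext m
  have : coeff m p ∈ ⨅ n : ℕ, (Ideal.span {ϖ}) ^ n := by
    rw [Ideal.mem_iInf]
    exact fun n => key n p hp m
  rw [Ideal.iInf_pow_eq_bot_of_isDomain _ hϖ] at this
  simpa using this

end inj

theorem main (A : Type u) [CommRing A] [IsDomain A] [IsDiscreteValuationRing A] (B : Type u)
    [CommRing B] [Algebra A B] [Module.Flat A B] (d : ℕ)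
    [Algebra.FiniteType A (B ⧸ Ideal.map (algebraMap A B) (IsLocalRing.maximalIdeal A))]
    (hd : ringKrullDim (B ⧸ Ideal.map (algebraMap A B) (IsLocalRing.maximalIdeal A)) = d) :
    ∃ φ : MvPolynomial (Fin d) A →ₐ[A] B, Function.Injective φ ∧
      (Function.Injective (MvPolynomial.eval₂Hom
          (Ideal.quotientMap (Ideal.map (algebraMap A B) (IsLocalRing.maximalIdeal A)) (algebraMap A B)
            Ideal.le_comap_map)
          (fun i => Ideal.Quotient.mk (Ideal.map (algebraMap A B) (IsLocalRing.maximalIdeal A))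
            (φ (MvPolynomial.X i)))) ∧
        (MvPolynomial.eval₂Hom
          (Ideal.quotientMap (Ideal.map (algebraMap A B) (IsLocalRing.maximalIdeal A)) (algebraMap A B)
            Ideal.le_comap_map)
          (fun i => Ideal.Quotient.mk (Ideal.map (algebraMap A B) (IsLocalRing.maximalIdeal A))
            (φ (MvPolynomial.X i)))).Finite) := by
  classical
  set 𝔪 := IsLocalRing.maximalIdeal A with h𝔪
  set 𝔪B := Ideal.map (algebraMap A B) 𝔪 with h𝔪B
  set q : A ⧸ 𝔪 →+* B ⧸ 𝔪B := Ideal.quotientMap 𝔪B (algebraMap A B) Ideal.le_comap_map with hq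
  letI : Field (A ⧸ 𝔪) := Ideal.Quotient.field 𝔪
  letI : Algebra (A ⧸ 𝔪) (B ⧸ 𝔪B) := q.toAlgebra
  haveI : IsScalarTower A (A ⧸ 𝔪) (B ⧸ 𝔪B) := IsScalarTower.of_algebraMap_eq fun a => rfl
  haveI : Algebra.FiniteType (A ⧸ 𝔪) (B ⧸ 𝔪B) :=
    Algebra.FiniteType.of_restrictScalars_finiteType A (A ⧸ 𝔪) (B ⧸ 𝔪B)
  haveI : Nontrivial (B ⧸ 𝔪B) := by
    rw [← not_subsingleton_iff_nontrivial]
    intro hsub
    rw [ringKrullDim_eq_bot_of_subsingleton] at hd
    exact WithBot.bot_ne_coe hd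
  obtain ⟨s, g, hginj, hgfin⟩ := exists_finite_inj_algHom_of_fg (A ⧸ 𝔪) (B ⧸ 𝔪B)
  have hdim : ringKrullDim (MvPolynomial (Fin s) (A ⧸ 𝔪)) = ringKrullDim (B ⧸ 𝔪B) :=
    Groth.Agent.H54.ringKrullDim_eq_of_ringHom_isIntegral_of_injective g.toRingHom
      hgfin.to_isIntegral hginj
  rw [Groth.Agent.H54.ringKrullDim_mvPolynomial_fin_field, hd] at hdim
  have hsd : s = d := by exact_mod_cast hdim
  subst hsd
  choose b hb using fun i => Ideal.Quotient.mk_surjective (g (X i))
  let φ : MvPolynomial (Fin s) A →ₐ[A] B := aeval b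
  have hgq : ∀ a, g (C a) = q a := fun a => by
    rw [← algebraMap_eq, AlgHom.commutes]; rfl
  have heq : MvPolynomial.eval₂Hom q (fun i => Ideal.Quotient.mk 𝔪B (φ (X i))) = g.toRingHom := by
    apply MvPolynomial.ringHom_ext
    · intro a
      simp only [eval₂Hom_C]
      exact (hgq a).symm
    · intro i
      simp only [eval₂Hom_X']
      show Ideal.Quotient.mk 𝔪B (aeval b (X i)) = g (X i)
      rw [aeval_X, hb]
  have hrel : ∀ p : MvPolynomial (Fin s) A,
      Ideal.Quotient.mk 𝔪B (φ p) = g (MvPolynomial.map (Ideal.Quotient.mk 𝔪) p) := by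
    intro p
    have : (Ideal.Quotient.mk 𝔪B).comp φ.toRingHom =
        g.toRingHom.comp (MvPolynomial.map (Ideal.Quotient.mk 𝔪)) := by
      apply MvPolynomial.ringHom_ext
      · intro a
        show Ideal.Quotient.mk 𝔪B (φ (C a)) = g (MvPolynomial.map (Ideal.Quotient.mk 𝔪) (C a))
        rw [map_C, hgq, ← algebraMap_eq, AlgHom.commutes]
        rfl
      · intro i
        show Ideal.Quotient.mk 𝔪B (aeval b (X i)) = g (MvPolynomial.map (Ideal.Quotient.mk 𝔪) (X i))
        rw [aeval_X, map_X, hb]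
    exact RingHom.congr_fun this p
  refine ⟨φ, ?_, ?_⟩
  · obtain ⟨ϖ, hirr⟩ := IsDiscreteValuationRing.exists_irreducible A
    have hmax : 𝔪 = Ideal.span {ϖ} := hirr.maximalIdeal_eq
    have hne : Ideal.span {ϖ} ≠ ⊤ := by
      rw [← hmax]; exact (IsLocalRing.maximalIdeal.isMaximal A).ne_top
    refine injective_of_injective_mod ϖ hirr.ne_zero hne φ ?_
    intro p hp
    rw [← hmax] at hp ⊢
    have h0 : Ideal.Quotient.mk 𝔪B (φ p) = 0 := Ideal.Quotient.eq_zero_iff_mem.mpr hp
    rw [hrel] at h0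
    have h1 : MvPolynomial.map (Ideal.Quotient.mk 𝔪) p = 0 :=
      hginj (by rw [h0, map_zero])
    have h2 : p ∈ RingHom.ker (MvPolynomial.map (Ideal.Quotient.mk 𝔪) :
        MvPolynomial (Fin s) A →+* MvPolynomial (Fin s) (A ⧸ 𝔪)) := h1
    rwa [MvPolynomial.ker_map, Ideal.mk_ker] at h2
  · rw [heq]
    exact ⟨hginj, hgfin⟩

end Groth.Agent.H27.NNLift
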