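import Mathlib

universe u

namespace Groth.Agent.H27.NormalDVR

open TensorProduct

/-- If a localization `B` of the domain `A` at a submonoid of elements associated to powers of `ϖ`
is integrally closed and `A ⧸ ϖ` is reduced then `A` is integrally closed. -/
theorem isIntegrallyClosed_of_localization {A B : Type u} [CommRing A] [IsDomain A] [CommRing B]
    [IsDomain B] [Algebra A B]
    (S : Submonoid A) [IsLocalization S B] (hS : S ≤ nonZeroDivisors A) [IsIntegrallyClosed B]
    (ϖ : A) (hϖ : ϖ ≠ 0) (hS' : ∀ s ∈ S, ∃ n : ℕ, Associated s (ϖ ^ n))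
    (hrad : (Ideal.span {ϖ}).IsRadical) : IsIntegrallyClosed A := by
  have hinj : Function.Injective (algebraMap A B) := IsLocalization.injective B hS
  have claim : ∀ (c : B) (a : A), IsIntegral A c → algebraMap A B ϖ * c = algebraMap A B a →
      ∃ a', algebraMap A B a' = c := by
    rintro c a ⟨p, hp, hpc⟩ hca
    have hdvd := Polynomial.dvd_pow_natDegree_of_eval₂_eq_zero hinj hp ϖ a c hpc hca
    have hmem : a ∈ Ideal.span {ϖ} := hrad ⟨p.natDegree, Ideal.mem_span_singleton.mpr hdvd⟩
    obtain ⟨a', rfl⟩ := Ideal.mem_span_singleton.mp hmem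
    refine ⟨a', ?_⟩
    rw [map_mul] at hca
    exact (mul_left_cancel₀ ((map_ne_zero_iff _ hinj).mpr hϖ) hca).symm
  have claim2 : ∀ (n : ℕ) (c : B) (a : A), IsIntegral A c →
      algebraMap A B (ϖ ^ n) * c = algebraMap A B a → ∃ a', algebraMap A B a' = c := by
    intro n
    induction n with
    | zero => intro c a _ h; exact ⟨a, by simpa using h.symm⟩
    | succ n ih =>
      intro c a hc h
      have h1 : IsIntegral A (algebraMap A B (ϖ ^ n) * c) := isIntegral_algebraMap.mul hc
      obtain ⟨a', ha'⟩ := claim (algebraMap A B (ϖ ^ n) * c) a h1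
        (by rw [← h, pow_succ', map_mul, mul_assoc])
      exact ih c a' hc ha'.symm
  haveI : IsScalarTower A B (FractionRing B) := inferInstance
  haveI : IsFractionRing A (FractionRing B) := by
    have h := IsLocalization.localization_localization_isLocalization_of_has_all_units S
      (nonZeroDivisors B) (FractionRing B) (fun x hx => hx.mem_nonZeroDivisors)
    have heq : (nonZeroDivisors B).comap (algebraMap A B) = nonZeroDivisors A := by
      ext a
      simp [mem_nonZeroDivisors_iff_ne_zero, map_ne_zero_iff _ hinj]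
    rwa [heq] at h
  refine (isIntegrallyClosed_iff (FractionRing B)).mpr fun {x} hx => ?_
  obtain ⟨b, rfl⟩ := IsIntegrallyClosed.algebraMap_eq_of_integral (hx.tower_top (A := B))
  have hb : IsIntegral A b :=
    (isIntegral_algebraMap_iff (IsFractionRing.injective B (FractionRing B))).mp hx
  obtain ⟨⟨a, s⟩, hs⟩ := IsLocalization.surj S b
  obtain ⟨n, u, hu⟩ := hS' s s.2
  obtain ⟨a', ha'⟩ := claim2 n b (a * u) hb (by
    rw [← hu, map_mul, map_mul, ← hs]; ring)
  exact ⟨a', by rw [IsScalarTower.algebraMap_apply A B (FractionRing B), ha']⟩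

attribute [local instance] Algebra.TensorProduct.rightAlgebra

theorem main (R : Type u) [CommRing R] [IsDomain R] [IsDiscreteValuationRing R] (A : Type u)
    [CommRing A] [Algebra R A] [Module.Flat R A]
    [IsDomain (FractionRing R ⊗[R] A)] [IsIntegrallyClosed (FractionRing R ⊗[R] A)]
    (hred : IsReduced (A ⧸ Ideal.map (algebraMap R A) (IsLocalRing.maximalIdeal R))) :
    IsDomain A ∧ IsIntegrallyClosed A := by
  have hinj : Function.Injective (algebraMap A (FractionRing R ⊗[R] A)) :=
    Algebra.TensorProduct.includeRight_injective (IsFractionRing.injective R (FractionRing R))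
  haveI : IsDomain A := hinj.isDomain (algebraMap A (FractionRing R ⊗[R] A))
  refine ⟨inferInstance, ?_⟩
  obtain ⟨ϖ, hϖ⟩ := IsDiscreteValuationRing.exists_irreducible R
  haveI : IsLocalization (Algebra.algebraMapSubmonoid A (nonZeroDivisors R))
      (FractionRing R ⊗[R] A) := IsLocalization.tensorRight (FractionRing R) (nonZeroDivisors R)
  have h1 : Function.Injective (algebraMap R (FractionRing R ⊗[R] A)) := by
    rw [IsScalarTower.algebraMap_eq R (FractionRing R) (FractionRing R ⊗[R] A)]
    exact (algebraMap (FractionRing R) (FractionRing R ⊗[R] A)).injective.comp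
      (IsFractionRing.injective R (FractionRing R))
  have hRA : Function.Injective (algebraMap R A) := by
    rw [IsScalarTower.algebraMap_eq R A (FractionRing R ⊗[R] A), RingHom.coe_comp] at h1
    exact Function.Injective.of_comp h1
  refine isIntegrallyClosed_of_localization (B := FractionRing R ⊗[R] A)
    (Algebra.algebraMapSubmonoid A (nonZeroDivisors R)) ?_ (algebraMap R A ϖ) ?_ ?_ ?_
  · rintro _ ⟨r, hr, rfl⟩
    exact mem_nonZeroDivisors_of_ne_zero
      ((map_ne_zero_iff _ hRA).mpr (nonZeroDivisors.ne_zero hr))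
  · exact (map_ne_zero_iff _ hRA).mpr hϖ.ne_zero
  · rintro _ ⟨r, hr, rfl⟩
    obtain ⟨n, hn⟩ := IsDiscreteValuationRing.associated_pow_irreducible
      (nonZeroDivisors.ne_zero hr) hϖ
    exact ⟨n, by rw [← map_pow]; exact hn.map (algebraMap R A)⟩
  · have : Ideal.span {algebraMap R A ϖ} =
        Ideal.map (algebraMap R A) (IsLocalRing.maximalIdeal R) := by
      rw [hϖ.maximalIdeal_eq, Ideal.map_span, Set.image_singleton]
    rw [this]
    exact (Ideal.isRadical_iff_quotient_reduced _).mpr hred

end Groth.Agent.H27.NormalDVR
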