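import Mathlib
import Groth.Prelude.Def_HopfRep
import Groth.Agent.H40.Comod
import Groth.Agent.H59.Orbit

set_option autoImplicit false

namespace Groth.Agent.H27

open TensorProduct HopfRep Groth.Agent.H40

universe u

/-- S5376 core -/
theorem span_orbit_smallest (k : Type u) [Field k] [IsAlgClosed k] (A : Type u) [CommRing A] [HopfAlgebra k A]
    [Algebra.FiniteType k A] [IsReduced A] (V : Type u) [AddCommGroup V] [Module k V] [HopfRep.Comod k A V]
    (v : V) :
    HopfRep.IsSubcomod (k := k) (A := A)
        (Submodule.span k (Set.range fun g : A →ₐ[k] k => HopfRep.Comod.act k A V g v)) ∧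
      v ∈ Submodule.span k (Set.range fun g : A →ₐ[k] k => HopfRep.Comod.act k A V g v) ∧
      ∀ W : Submodule k V, HopfRep.IsSubcomod (k := k) (A := A) W → v ∈ W →
        Submodule.span k (Set.range fun g : A →ₐ[k] k => HopfRep.Comod.act k A V g v) ≤ W := by
  set E : Submodule k V :=
    Submodule.span k (Set.range fun g : A →ₐ[k] k => HopfRep.Comod.act k A V g v) with hEdef
  have hact : ∀ g : A →ₐ[k] k, HopfRep.Comod.act k A V g v = slice V g.toLinearMap (rho k A V v) :=
    fun g => rfl
  have hmin : ∀ W : Submodule k V, HopfRep.IsSubcomod (k := k) (A := A) W → v ∈ W → E ≤ W := by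
    intro W hW hv
    rw [Submodule.span_le]
    rintro _ ⟨g, rfl⟩
    show HopfRep.Comod.act k A V g v ∈ W
    rw [hact]
    exact (isSubcomod_iff_slice W).1 hW v hv _
  have hvE : v ∈ E := by
    apply Submodule.subset_span
    refine ⟨Bialgebra.counitAlgHom k A, ?_⟩
    show HopfRep.Comod.act k A V (Bialgebra.counitAlgHom k A) v = v
    rw [hact]
    exact slice_counit_rho v
  have hEcyc : E ≤ cyc k A v := hmin _ (isSubcomod_cyc v) (mem_cyc_self v)
  have hcycE : cyc k A v ≤ E := by
    intro w hw
    by_contra hwE
    obtain ⟨l, hl1, hl2⟩ := Submodule.exists_dual_map_eq_bot_of_notMem hwE inferInstance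
    have hlE : ∀ e ∈ E, l e = 0 := by
      intro e he
      have : l e ∈ E.map l := ⟨e, he, rfl⟩
      rw [hl2] at this
      exact (Submodule.mem_bot k).1 this
    -- the matrix coefficient
    set a : A := lslice A l (rho k A V v) with ha
    have ha0 : a = 0 := by
      have hnil : IsNilpotent a := by
        apply Groth.Agent.H59.Orbit.isNilpotent_of_forall_point (k := k)
        intro g
        have h1 : g a = l (slice V g.toLinearMap (rho k A V v)) :=
          apply_lslice_eq_apply_slice l g.toLinearMap (rho k A V v)
        rw [h1, ← hact]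
        exact hlE _ (Submodule.subset_span ⟨g, rfl⟩)
      exact hnil.eq_zero
    have hlcyc : ∀ x ∈ cyc k A v, l x = 0 := by
      intro x hx
      induction hx using Submodule.span_induction with
      | mem x hx =>
        obtain ⟨ψ, rfl⟩ := hx
        rw [← apply_lslice_eq_apply_slice, ← ha, ha0, map_zero]
      | zero => exact map_zero _
      | add x y _ _ hx hy => rw [map_add, hx, hy, add_zero]
      | smul c x _ hx => rw [map_smul, hx, smul_zero]
    exact hl1 (hlcyc w hw)
  have hE : E = cyc k A v := le_antisymm hEcyc hcycE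
  refine ⟨?_, hvE, hmin⟩
  rw [hE]
  exact isSubcomod_cyc v

end Groth.Agent.H27
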