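import Groth.Agent.H27.Faithful

set_option autoImplicit false

namespace Groth.Agent.H27

open RootD Finsupp RootPairing

section
variable {ι M N : Type*} [AddCommGroup M] [AddCommGroup N] (P : RootPairing ι ℤ M N)

/-- In a reduced root pairing, positively proportional roots are equal (with equal multipliers). -/
lemma eq_of_nsmul_root_eq [P.IsReduced] {k l : ι} {a b : ℕ} (ha : 0 < a) (hb : 0 < b)
    (h : a • P.root k = b • P.root l) : k = l ∧ a = b := by
  have := torsionFree P
  have hdep : ¬ LinearIndependent ℤ ![P.root k, P.root l] := by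
    rw [LinearIndependent.pair_iff]
    intro hli
    have := hli (a : ℤ) (-(b : ℤ)) (by
      rw [neg_smul, natCast_zsmul, natCast_zsmul, h]; abel)
    omega
  have hkl : k = l := by
    rcases IsReduced.eq_or_eq_neg (P := P) k l hdep with h1 | h1
    · exact P.root.injective h1
    · exfalso
      rw [h1, smul_neg] at h
      have h2 : (a + b) • P.root l = 0 := by
        rw [add_smul, ← h]; abel
      exact nsmul_root_ne_zero P l (by omega) h2
  refine ⟨hkl, ?_⟩
  subst hkl
  by_contra hne
  rcases Nat.lt_or_gt_of_ne hne with hlt | hlt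
  · have h2 : (b - a) • P.root k = 0 := by
      rw [sub_nsmul _ hlt.le, h]; abel
    exact nsmul_root_ne_zero P k (by omega) h2
  · have h2 : (a - b) • P.root k = 0 := by
      rw [sub_nsmul _ hlt.le, h]; abel
    exact nsmul_root_ne_zero P k (by omega) h2

end

section PM
variable {ι M N ι' M' N' : Type*} [AddCommGroup M] [AddCommGroup N] [AddCommGroup M'] [AddCommGroup N']
    (P : RootPairing ι ℤ M N) (P' : RootPairing ι' ℤ M' N')

/-- (a) of S5480 -/
lemma pmorph_reflectionPerm [P.IsReduced]
    (f : M' →ₗ[ℤ] M) (g : N →ₗ[ℤ] N')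
    (hfg : ∀ (m' : M') (n : N), P.toLinearMap (f m') n = P'.toLinearMap m' (g n))
    (u : ι ≃ ι') (q : ι → ℕ) (hq : ∀ i, 0 < q i)
    (hroot : ∀ i : ι, f (P'.root (u i)) = (q i : ℤ) • P.root i)
    (hcoroot : ∀ i : ι, g (P.coroot i) = (q i : ℤ) • P'.coroot (u i)) (i j : ι) :
    q (P.reflectionPerm i j) = q j ∧ u (P.reflectionPerm i j) = P'.reflectionPerm (u i) (u j) := by
  -- pairing relation
  have hpair : (q j : ℤ) * P.pairing j i = (q i : ℤ) * P'.pairing (u j) (u i) := by
    have := hfg (P'.root (u j)) (P.coroot i)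
    rw [hroot, hcoroot, map_smul, LinearMap.smul_apply, map_smul, smul_eq_mul, smul_eq_mul] at this
    exact this
  set k' := P'.reflectionPerm (u i) (u j) with hk'
  set k := u.symm k' with hk
  have huk : u k = k' := by simp [hk]
  have h1 : f (P'.root k') = (q j : ℤ) • P.root (P.reflectionPerm i j) := by
    rw [hk', P'.root_reflectionPerm, P'.reflection_apply_root, map_sub, map_smul, hroot, hroot,
      P.root_reflectionPerm, P.reflection_apply_root, smul_sub, smul_smul, smul_smul, hpair,
      mul_comm]
  have h2 : f (P'.root k') = (q k : ℤ) • P.root k := by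
    rw [← huk, hroot]
  have h3 : q k • P.root k = q j • P.root (P.reflectionPerm i j) := by
    rw [← natCast_zsmul, ← natCast_zsmul, ← h1, ← h2]
  obtain ⟨e1, e2⟩ := eq_of_nsmul_root_eq P (hq k) (hq j) h3
  constructor
  · rw [← e1, e2]
  · rw [← e1, huk]

/-- (b) of S5480 and the compatibility of `u` with the permutation representation. -/
lemma pmorph_weyl_invariant (q : ι → ℕ)
    (h : ∀ i j : ι, q (P.reflectionPerm i j) = q j)
    {w : P.Aut} (hw : w ∈ P.weylGroup) (i : ι) : q (w • i) = q i := by
  induction hw using RootPairing.weylGroup.induction generalizing i with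
  | mem i₀ => exact h i₀ i
  | one => simp
  | mul x y _ _ hx hy => rw [mul_smul, hx, hy]

/-- (c) of S5480: the isomorphism of Weyl groups induced by a bijection of roots compatible with
reflections. -/
lemma pmorph_weyl_iso [Finite ι] [Finite ι'] (u : ι ≃ ι')
    (hu : ∀ i j, u (P.reflectionPerm i j) = P'.reflectionPerm (u i) (u j)) :
    ∃ ubar : P.weylGroup ≃* P'.weylGroup, ∀ w : P.weylGroup,
      P'.weylGroupToPerm (ubar w) = u.permCongrHom (P.weylGroupToPerm w) := by
  have hc : ∀ i, u.permCongrHom (P.reflectionPerm i) = P'.reflectionPerm (u i) := by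
    intro i; ext j'
    simp [Equiv.permCongr_apply, hu]
  have hmap : (P.weylGroupToPerm.range).map (u.permCongrHom : Equiv.Perm ι →* Equiv.Perm ι') =
      P'.weylGroupToPerm.range := by
    rw [range_weylGroupToPerm, range_weylGroupToPerm, MonoidHom.map_closure]
    congr 1
    ext σ; constructor
    · rintro ⟨_, ⟨i, rfl⟩, rfl⟩
      exact ⟨u i, (hc i).symm⟩
    · rintro ⟨i', rfl⟩
      refine ⟨_, ⟨u.symm i', rfl⟩, ?_⟩
      rw [MonoidHom.coe_coe, hc]; simp
  let e1 := MonoidHom.ofInjective (weylGroupToPerm_injective (P := P))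
  let e1' := MonoidHom.ofInjective (weylGroupToPerm_injective (P := P'))
  let e2 := u.permCongrHom.subgroupMap P.weylGroupToPerm.range
  let e3 := MulEquiv.subgroupCongr hmap
  refine ⟨e1.trans (e2.trans (e3.trans e1'.symm)), fun w => ?_⟩
  simp only [MulEquiv.trans_apply]
  rw [MonoidHom.apply_ofInjective_symm]
  rfl

end PM

end Groth.Agent.H27
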