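import Groth.Agent.H27.PMorph
import Groth.Agent.H27.Criteria

set_option autoImplicit false

namespace Groth.Agent.H27

open RootD Finsupp RootPairing

section
variable {ι M N : Type*} [AddCommGroup M] [AddCommGroup N] (P : RootPairing ι ℤ M N)

/-- In a reduced root pairing every root is indivisible. -/
lemma isIndiv_of_isReduced [P.IsReduced] (i : ι) : IsIndiv P i := by
  intro j h
  have h2 : (2 : ℕ) • P.root j = 1 • P.root i := by
    rw [two_nsmul, one_smul, ← h, two_smul]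
  have := eq_of_nsmul_root_eq P (k := j) (l := i) (a := 2) (b := 1) (by norm_num) (by norm_num) h2
  omega

lemma natSpan_le_rootSpan (S : Set ι) {x : M} (hx : x ∈ natSpan P S) :
    x ∈ Submodule.span ℤ (Set.range P.root) :=
  Submodule.span_mono (Set.image_subset_range _ _) (natSpan_le_span P S hx)

end

section PM
variable {ι M N ι' M' N' : Type*} [AddCommGroup M] [AddCommGroup N] [AddCommGroup M'] [AddCommGroup N']

/-- The data of a `p`-morphism (without the prime-power condition on the multipliers). -/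
structure PMor (P : RootPairing ι ℤ M N) (P' : RootPairing ι' ℤ M' N') where
  f : M' →ₗ[ℤ] M
  g : N →ₗ[ℤ] N'
  hfg : ∀ (m' : M') (n : N), P.toLinearMap (f m') n = P'.toLinearMap m' (g n)
  u : ι ≃ ι'
  q : ι → ℕ
  hq : ∀ i, 0 < q i
  hroot : ∀ i : ι, f (P'.root (u i)) = (q i : ℤ) • P.root i
  hcoroot : ∀ i : ι, g (P.coroot i) = (q i : ℤ) • P'.coroot (u i)

namespace PMor

variable {P : RootPairing ι ℤ M N} {P' : RootPairing ι' ℤ M' N'} (φ : PMor P P')

lemma hroot' (i : ι) : φ.f (P'.root (φ.u i)) = φ.q i • P.root i := by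
  rw [φ.hroot, natCast_zsmul]

lemma u_ng [P.IsReduced] (i : ι) : φ.u (ng P i) = ng P' (φ.u i) :=
  (pmorph_reflectionPerm P P' φ.f φ.g φ.hfg φ.u φ.q φ.hq φ.hroot φ.hcoroot i i).2

lemma q_ng [P.IsReduced] (i : ι) : φ.q (ng P i) = φ.q i :=
  (pmorph_reflectionPerm P P' φ.f φ.g φ.hfg φ.u φ.q φ.hq φ.hroot φ.hcoroot i i).1

lemma eq_zero_of_f_eq_zero [Finite ι'] {x : M'}
    (hx : x ∈ Submodule.span ℤ (Set.range P'.root)) (h : φ.f x = 0) : x = 0 := by
  apply eq_zero_of_mem_span_of_pairing_eq_zero (P := P') hx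
  intro i'
  obtain ⟨i, rfl⟩ := φ.u.surjective i'
  have h1 := φ.hfg x (P.coroot i)
  rw [h, map_zero, LinearMap.zero_apply, φ.hcoroot, map_smul, smul_eq_mul] at h1
  have hq : (φ.q i : ℤ) ≠ 0 := by exact_mod_cast (φ.hq i).ne'
  rcases mul_eq_zero.1 h1.symm with h2 | h2
  · exact absurd h2 hq
  · exact h2

lemma eq_of_f_eq [Finite ι'] {x y : M'}
    (hx : x ∈ Submodule.span ℤ (Set.range P'.root))
    (hy : y ∈ Submodule.span ℤ (Set.range P'.root)) (h : φ.f x = φ.f y) : x = y := by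
  have := φ.eq_zero_of_f_eq_zero (sub_mem hx hy) (by rw [map_sub, h, sub_self])
  exact sub_eq_zero.1 this

lemma map_natSpan {S : Set ι} {x' : M'} (hx : x' ∈ natSpan P' (φ.u '' S)) :
    φ.f x' ∈ natSpan P S := by
  unfold natSpan at hx
  induction hx using AddSubmonoid.closure_induction with
  | mem x hx =>
    obtain ⟨_, ⟨i, hi, rfl⟩, rfl⟩ := hx
    rw [φ.hroot']
    exact AddSubmonoid.nsmul_mem _ (root_mem_natSpan P hi) _
  | zero => rw [map_zero]; exact zero_mem _
  | add x y _ _ hx hy => rw [map_add]; exact add_mem hx hy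

section Q
variable [Fintype ι]

/-- The product of all multipliers. -/
def Q : ℕ := ∏ i, φ.q i

lemma Q_pos : 0 < φ.Q := Finset.prod_pos fun i _ => φ.hq i

lemma q_dvd_Q (i : ι) : φ.q i ∣ φ.Q := Finset.dvd_prod_of_mem _ (Finset.mem_univ i)

lemma q_mul_div (i : ι) : φ.Q / φ.q i * φ.q i = φ.Q := Nat.div_mul_cancel (φ.q_dvd_Q i)

lemma div_pos (i : ι) : 0 < φ.Q / φ.q i :=
  Nat.div_pos (Nat.le_of_dvd φ.Q_pos (φ.q_dvd_Q i)) (φ.hq i)

lemma f_div_smul_root (i : ι) : φ.f ((φ.Q / φ.q i) • P'.root (φ.u i)) = φ.Q • P.root i := by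
  rw [map_nsmul, φ.hroot', ← mul_smul, φ.q_mul_div]

lemma exists_lift {S : Set ι} {x : M} (hx : x ∈ natSpan P S) :
    ∃ x' ∈ natSpan P' (φ.u '' S), φ.f x' = φ.Q • x := by
  unfold natSpan at hx
  induction hx using AddSubmonoid.closure_induction with
  | mem x hx =>
    obtain ⟨i, hi, rfl⟩ := hx
    exact ⟨(φ.Q / φ.q i) • P'.root (φ.u i),
      AddSubmonoid.nsmul_mem _ (root_mem_natSpan P' (Set.mem_image_of_mem φ.u hi)) _,
      φ.f_div_smul_root i⟩
  | zero => exact ⟨0, zero_mem _, by rw [map_zero, smul_zero]⟩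
  | add x y _ _ hx hy =>
    obtain ⟨x', hx', ex⟩ := hx
    obtain ⟨y', hy', ey⟩ := hy
    exact ⟨x' + y', add_mem hx' hy', by rw [map_add, ex, ey, smul_add]⟩

lemma nsmul_root_mem [Finite ι'] {S : Set ι} {k : ι} {n : ℕ}
    (h : n • P.root k ∈ natSpan P S) :
    (φ.Q / φ.q k * n) • P'.root (φ.u k) ∈ natSpan P' (φ.u '' S) := by
  obtain ⟨x', hx', ex⟩ := φ.exists_lift h
  have e2 : φ.f ((φ.Q / φ.q k * n) • P'.root (φ.u k)) = φ.Q • n • P.root k := by
    rw [mul_comm, mul_smul, map_nsmul, φ.f_div_smul_root, smul_comm]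
  have : x' = (φ.Q / φ.q k * n) • P'.root (φ.u k) := by
    apply φ.eq_of_f_eq (natSpan_le_rootSpan P' _ hx')
    · exact Submodule.smul_of_tower_mem _ _ (Submodule.subset_span ⟨_, rfl⟩)
    · rw [ex, e2]
  rwa [← this]

end Q

/-- `u` carries systems of positive roots to systems of positive roots, and back. -/
theorem isPosSys_iff [Finite ι] [Finite ι'] [P.IsReduced] (S : Set ι) :
    IsPosSys P S ↔ IsPosSys P' (φ.u '' S) := by
  have := Fintype.ofFinite ι
  have hmem : ∀ i, φ.u i ∈ φ.u '' S ↔ i ∈ S := fun i => φ.u.injective.mem_set_image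
  constructor
  · intro hS
    refine ⟨?_, ?_, ?_⟩
    · rintro _ ⟨i, hi, rfl⟩ h
      change ng P' (φ.u i) ∈ _ at h
      rw [← φ.u_ng, hmem] at h
      exact hS.disjoint hi h
    · intro i'
      obtain ⟨i, rfl⟩ := φ.u.surjective i'
      change _ ∨ ng P' (φ.u i) ∈ _
      rw [← φ.u_ng, hmem, hmem]
      exact hS.cover i
    · intro k' n hn h
      obtain ⟨k, rfl⟩ := φ.u.surjective k'
      rw [hmem]
      have := φ.map_natSpan h
      rw [map_nsmul, φ.hroot', ← mul_smul] at this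
      exact hS.sat _ (Nat.mul_pos hn (φ.hq k)) this
  · intro hS
    refine ⟨?_, ?_, ?_⟩
    · intro i hi h
      change ng P i ∈ S at h
      rw [← hmem, φ.u_ng] at h
      exact hS.disjoint ((hmem i).2 hi) h
    · intro i
      change _ ∨ ng P i ∈ S
      rw [← hmem, ← hmem (ng P i), φ.u_ng]
      exact hS.cover (φ.u i)
    · intro k n hn h
      rw [← hmem]
      exact hS.sat _ (Nat.mul_pos (φ.div_pos k) hn) (φ.nsmul_root_mem h)

/-- linear independence transfers along `u` (forward). -/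
lemma linearIndepOn_image {Δ : Set ι} (h : LinearIndepOn ℤ P.root Δ) :
    LinearIndepOn ℤ P'.root (φ.u '' Δ) := by
  apply LinearIndepOn.image_of_comp
  apply LinearIndepOn.of_comp φ.f
  rw [linearIndepOn_iff'] at h ⊢
  intro t c ht hsum i hi
  have h1 : ∑ i ∈ t, (c i * φ.q i) • P.root i = 0 := by
    rw [← hsum]
    refine Finset.sum_congr rfl fun i _ => ?_
    simp only [Function.comp_apply]
    rw [φ.hroot, smul_smul]
  have h2 := h t (fun i => c i * φ.q i) ht h1 i hi
  have hq : (φ.q i : ℤ) ≠ 0 := by exact_mod_cast (φ.hq i).ne'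
  rcases mul_eq_zero.1 h2 with h3 | h3
  · exact h3
  · exact absurd h3 hq

/-- linear independence transfers along `u` (backward). -/
lemma linearIndepOn_of_image [Finite ι] [Finite ι'] {Δ : Set ι}
    (h : LinearIndepOn ℤ P'.root (φ.u '' Δ)) : LinearIndepOn ℤ P.root Δ := by
  have := Fintype.ofFinite ι
  have h1 : LinearIndepOn ℤ (P'.root ∘ φ.u) Δ := h.comp_of_image φ.u.injective.injOn
  have h2 : LinearIndepOn ℤ (φ.f ∘ (P'.root ∘ φ.u)) Δ := by
    apply h1.map_injOn
    intro x hx y hy hxy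
    have hsub : Submodule.span ℤ ((P'.root ∘ φ.u) '' Δ) ≤ Submodule.span ℤ (Set.range P'.root) :=
      Submodule.span_mono (by rintro _ ⟨i, _, rfl⟩; exact ⟨_, rfl⟩)
    exact φ.eq_of_f_eq (hsub hx) (hsub hy) hxy
  rw [linearIndepOn_iff'] at h2 ⊢
  intro t c ht hsum i hi
  have h3 : ∑ i ∈ t, (c i * (φ.Q / φ.q i : ℕ)) • (φ.f ∘ (P'.root ∘ φ.u)) i = 0 := by
    have : ∑ i ∈ t, (c i * (φ.Q / φ.q i : ℕ)) • (φ.f ∘ (P'.root ∘ φ.u)) i
        = φ.Q • ∑ i ∈ t, c i • P.root i := by
      rw [Finset.smul_sum]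
      refine Finset.sum_congr rfl fun i _ => ?_
      simp only [Function.comp_apply]
      rw [φ.hroot, smul_smul, mul_assoc, ← Nat.cast_mul, φ.q_mul_div, ← natCast_zsmul, smul_smul,
        mul_comm]
    rw [this, hsum, smul_zero]
  have h4 := h2 t _ ht h3 i hi
  have hq : ((φ.Q / φ.q i : ℕ) : ℤ) ≠ 0 := by exact_mod_cast (φ.div_pos i).ne'
  rcases mul_eq_zero.1 h4 with h5 | h5
  · exact h5
  · exact absurd h5 hq

/-- `u` carries systems of simple roots to systems of simple roots, and back. -/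
theorem isSimpleSys_iff [Finite ι] [Finite ι'] [P.IsReduced] [P'.IsReduced] (Δ : Set ι) :
    IsSimpleSys P Δ ↔ IsSimpleSys P' (φ.u '' Δ) := by
  have := Fintype.ofFinite ι
  constructor
  · intro hΔ
    refine isSimpleSys_of_indiv_linIndep_cone (fun i _ => isIndiv_of_isReduced P' i)
      (φ.linearIndepOn_image hΔ.linInd) ?_
    intro k'
    obtain ⟨k, rfl⟩ := φ.u.surjective k'
    rcases hΔ.mem_or_neg_mem k with h | h
    · refine ⟨φ.Q / φ.q k * 1, Nat.mul_pos (φ.div_pos k) one_pos, Or.inl ?_⟩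
      apply φ.nsmul_root_mem
      rwa [one_smul]
    · refine ⟨φ.Q / φ.q (ng P k) * 1, Nat.mul_pos (φ.div_pos _) one_pos, Or.inr ?_⟩
      rw [← root_ng, ← φ.u_ng]
      apply φ.nsmul_root_mem
      rwa [one_smul, root_ng]
  · intro hΔ
    refine isSimpleSys_of_indiv_linIndep_cone (fun i _ => isIndiv_of_isReduced P i)
      (φ.linearIndepOn_of_image hΔ.linInd) ?_
    intro k
    rcases hΔ.mem_or_neg_mem (φ.u k) with h | h
    · refine ⟨φ.q k, φ.hq k, Or.inl ?_⟩
      rw [← φ.hroot']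
      exact φ.map_natSpan h
    · refine ⟨φ.q k, φ.hq k, Or.inr ?_⟩
      rw [smul_neg, ← φ.hroot', ← map_neg]
      exact φ.map_natSpan h

end PMor

end PM

end Groth.Agent.H27
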