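import Groth.Agent.H27.Gen

set_option autoImplicit false

namespace Groth.Agent.H27

open RootD Finsupp RootPairing

variable {ι M N : Type*} [AddCommGroup M] [AddCommGroup N] {P : RootPairing ι ℤ M N}

lemma lprod_smul_sub_mem_span {Δ' : Set ι} :
    ∀ (L : List ι), (∀ i ∈ L, i ∈ Δ') → ∀ x : M,
      lprod P L • x - x ∈ Submodule.span ℤ (P.root '' Δ') := by
  intro L
  induction L with
  | nil => intro _ x; simp
  | cons i L ih =>
    intro hL x
    have hi : i ∈ Δ' := hL i (by simp)
    have e : lprod P (i :: L) • x - x =
        (refl P i • (lprod P L • x) - lprod P L • x) + (lprod P L • x - x) := by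
      rw [lprod_cons, mul_smul]; abel
    rw [e]
    refine add_mem ?_ (ih (fun j hj => hL j (List.mem_cons_of_mem _ hj)) x)
    rw [RootPairing.Equiv.reflection_smul, P.reflection_apply]
    have : lprod P L • x - (P.coroot' i) (lprod P L • x) • P.root i - lprod P L • x =
        (-(P.coroot' i) (lprod P L • x)) • P.root i := by
      rw [neg_smul]; abel
    rw [this]
    exact Submodule.smul_mem _ _ (Submodule.subset_span ⟨i, hi, rfl⟩)

section Finite
variable [Finite ι]

/-- S5462 core -/
lemma wsub_mapsTo_pos_diff {Δ Δ' : Set ι} (hΔ : IsSimpleSys P Δ) (hsub : Δ' ⊆ Δ)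
    {g : P.Aut} (hg : g ∈ Subgroup.closure ((fun i : ι => RootPairing.Equiv.reflection P i) '' Δ'))
    {k : ι} (hk : k ∈ posOf P Δ) (hk' : k ∉ inSpan P Δ') :
    g • k ∈ posOf P Δ ∧ g • k ∉ inSpan P Δ' := by
  obtain ⟨L, hL, rfl⟩ := mem_closure_iff_exists_list.1 hg
  induction L with
  | nil => simpa using ⟨hk, hk'⟩
  | cons i L ih =>
    obtain ⟨h1, h2⟩ := ih (fun j hj => hL j (List.mem_cons_of_mem _ hj))
      (mem_closure_iff_exists_list.2 ⟨L, fun j hj => hL j (List.mem_cons_of_mem _ hj), rfl⟩)
    have hi : i ∈ Δ' := hL i (by simp)
    have hri : P.root i ∈ Submodule.span ℤ (P.root '' Δ') := Submodule.subset_span ⟨i, hi, rfl⟩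
    rw [lprod_cons, mul_smul]
    set k' := lprod P L • k with hk'def
    change P.reflectionPerm i k' ∈ posOf P Δ ∧ P.reflectionPerm i k' ∉ inSpan P Δ'
    constructor
    · rcases reflectionPerm_mem_posOf hΔ (hsub hi) h1 with h | h | h
      · exact h
      · exfalso
        apply h2
        show P.root k' ∈ Submodule.span ℤ (P.root '' Δ')
        rw [h]; exact hri
      · exfalso
        apply h2
        show P.root k' ∈ Submodule.span ℤ (P.root '' Δ')
        rw [h]
        exact Submodule.smul_mem _ _ hri
    · intro h3
      apply h2
      show P.root k' ∈ Submodule.span ℤ (P.root '' Δ')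
      have h4 : P.root (P.reflectionPerm i k') ∈ Submodule.span ℤ (P.root '' Δ') := h3
      rw [root_reflectionPerm_eq] at h4
      have : P.root k' = (P.root k' - P.pairing k' i • P.root i) + P.pairing k' i • P.root i := by
        abel
      rw [this]
      exact add_mem h4 (Submodule.smul_mem _ _ hri)

/-- S5463 core -/
lemma mem_wsub_iff {Δ Δ' : Set ι} (hΔ : IsSimpleSys P Δ) (hsub : Δ' ⊆ Δ) {g : P.Aut}
    (hg : g ∈ P.weylGroup) :
    g ∈ Subgroup.closure ((fun i : ι => RootPairing.Equiv.reflection P i) '' Δ') ↔
      ∀ k : ι, ∃ n : ℕ, 0 < n ∧
        n • (P.root (g • k) - P.root k) ∈ Submodule.span ℤ (P.root '' Δ') := by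
  classical
  constructor
  · intro hg' k
    obtain ⟨L, hL, rfl⟩ := mem_closure_iff_exists_list.1 hg'
    refine ⟨1, one_pos, ?_⟩
    rw [one_smul, smul_root]
    exact lprod_smul_sub_mem_span L hL _
  · have key : ∀ n : ℕ, ∀ g : P.Aut, g ∈ P.weylGroup →
        (∀ k : ι, ∃ n : ℕ, 0 < n ∧
          n • (P.root (g • k) - P.root k) ∈ Submodule.span ℤ (P.root '' Δ')) →
        ({k | k ∈ posOf P Δ ∧ g • k ∉ posOf P Δ} : Set ι).ncard = n →
        g ∈ Subgroup.closure ((fun i : ι => RootPairing.Equiv.reflection P i) '' Δ') := by
      intro n
      induction n using Nat.strong_induction_on with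
      | _ n ih =>
        intro g hgW hyp hn
        by_cases hall : ∀ a ∈ Δ, g • a ∈ posOf P Δ
        · rw [weyl_eq_one_of_maps_pos hΔ hgW hall]
          exact one_mem _
        · push Not at hall
          obtain ⟨a, haΔ, hga⟩ := hall
          have haΔ' : a ∈ Δ' := by
            by_contra hcon
            obtain ⟨m, hm, hmem⟩ := hyp a
            obtain ⟨e, he1, he2⟩ := (Finsupp.mem_span_image_iff_linearCombination ℤ).1 hmem
            have he1' : ↑e.support ⊆ Δ' := (Finsupp.mem_supported ℤ e).1 he1
            obtain ⟨c', hc'1, _, hc'3⟩ := exists_coef hΔ (g • a)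
            have heq : (m : ℤ) • c' - (m : ℤ) • Finsupp.single a 1 = e := by
              apply coef_unique hΔ.linInd
                (support_sub_subset (support_smul_subset hc'1 _)
                  (support_smul_subset (support_single_subset haΔ 1) _))
                (he1'.trans hsub)
              rw [he2, map_sub, map_smul, map_smul, hc'3, Finsupp.linearCombination_single,
                one_smul, ← smul_sub, natCast_zsmul]
            have h1 := DFunLike.congr_fun heq a
            have h2 : e a = 0 := by
              by_contra h
              exact hcon (pos_mem_of_support_subset he1' h)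
            simp only [Finsupp.sub_apply, Finsupp.smul_apply, Finsupp.single_eq_same, smul_eq_mul,
              mul_one, h2] at h1
            have hm' : (0 : ℤ) < m := by exact_mod_cast hm
            have h3 : c' a = 1 := by
              have : (m : ℤ) * (c' a - 1) = 0 := by ring_nf; ring_nf at h1; linarith
              rcases mul_eq_zero.1 this with h | h
              · omega
              · omega
            exact hga (mem_posOf_of_coef_pos hΔ hc'1 hc'3 (j := a) (by omega))
          set g' := g * refl P a with hg'def
          have hg'W : g' ∈ P.weylGroup := mul_mem hgW (P.reflection_mem_weylGroup a)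
          have hra : P.root a ∈ Submodule.span ℤ (P.root '' Δ') :=
            Submodule.subset_span ⟨a, haΔ', rfl⟩
          have hyp' : ∀ k : ι, ∃ n : ℕ, 0 < n ∧
              n • (P.root (g' • k) - P.root k) ∈ Submodule.span ℤ (P.root '' Δ') := by
            intro k
            obtain ⟨m, hm, hmem⟩ := hyp (P.reflectionPerm a k)
            refine ⟨m, hm, ?_⟩
            have e1 : P.root (g' • k) - P.root k =
                (P.root (g • P.reflectionPerm a k) - P.root (P.reflectionPerm a k)) +
                  (-(P.pairing k a)) • P.root a := by
              have e0 : g' • k = g • P.reflectionPerm a k := by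
                rw [hg'def, mul_smul]; rfl
              rw [e0, root_reflectionPerm_eq, neg_smul]; abel
            rw [e1, smul_add]
            exact add_mem hmem (Submodule.smul_of_tower_mem _ m (Submodule.smul_mem _ _ hra))
          have hgang : ng P (g • a) ∈ posOf P Δ := (ng_mem_posOf_iff hΔ _).2 hga
          have hlt : ({k | k ∈ posOf P Δ ∧ g' • k ∉ posOf P Δ} : Set ι).ncard < n := by
            rw [← hn]
            rw [← Set.ncard_image_of_injective _ (smul_idx_injective P (refl P a))]
            apply Set.ncard_lt_ncard _ (Set.toFinite _)
            refine ⟨?_, ?_⟩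
            · rintro _ ⟨k, ⟨hk1, hk2⟩, rfl⟩
              change P.reflectionPerm a k ∈ posOf P Δ ∧ g • P.reflectionPerm a k ∉ posOf P Δ
              have hk2' : g • P.reflectionPerm a k ∉ posOf P Δ := by
                rw [hg'def, mul_smul] at hk2; exact hk2
              refine ⟨?_, hk2'⟩
              rcases reflectionPerm_mem_posOf hΔ haΔ hk1 with h | h | h
              · exact h
              · exfalso
                apply hk2'
                rw [h]
                change g • ng P a ∈ _
                rwa [smul_ng]
              · exfalso
                apply hk2'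
                change P.root (g • P.reflectionPerm a k) ∈ natSpan P Δ
                have : P.root (g • P.reflectionPerm a k) = (2 : ℕ) • P.root (ng P (g • a)) := by
                  have hp : P.pairing k a = 4 := by
                    unfold RootPairing.pairing RootPairing.root'
                    rw [h, map_smul, LinearMap.smul_apply]
                    change (2:ℤ) • P.pairing a a = 4
                    rw [P.pairing_same]; norm_num
                  have h5 : P.root (P.reflectionPerm a k) = (2 : ℕ) • P.root (ng P a) := by
                    rw [root_reflectionPerm_eq, h, hp, root_ng]; module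
                  rw [smul_root, h5, smul_def, map_nsmul, ← smul_def, ← smul_root, smul_ng]
                rw [this]
                exact AddSubmonoid.nsmul_mem _ hgang 2
            · intro hcon
              have ha1 : a ∈ ({k | k ∈ posOf P Δ ∧ g • k ∉ posOf P Δ} : Set ι) :=
                ⟨subset_posOf Δ haΔ, hga⟩
              obtain ⟨k, ⟨hk1, _⟩, hk3⟩ := hcon ha1
              have : k = ng P a := by
                have h := congrArg (fun j => refl P a • j) hk3
                simp only at h
                rw [smul_smul, refl_mul_self, one_smul] at h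
                exact h
              rw [this] at hk1
              exact (ng_mem_posOf_iff hΔ a).1 hk1 (subset_posOf Δ haΔ)
          have h1 := ih _ hlt g' hg'W hyp' rfl
          have h2 : g = g' * refl P a := by
            rw [hg'def, mul_assoc, refl_mul_self, mul_one]
          rw [h2]
          exact mul_mem h1 (refl_mem_wsub haΔ')
    intro hyp
    exact key _ g hg hyp rfl

end Finite

end Groth.Agent.H27
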