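import Groth.Agent.H27.Chain

set_option autoImplicit false

namespace Groth.Agent.H27

open RootD Finsupp RootPairing

variable {ι M N : Type*} [AddCommGroup M] [AddCommGroup N] {P : RootPairing ι ℤ M N}

section Finite
variable [Finite ι]

/-- a root which is a nonnegative combination of roots of a closed set lies in that set -/
lemma mem_of_closed_of_mem_natSpan {P' : Set ι} (hcl : IsClosedSub P P') {T : Set ι}
    (hT : T ⊆ P') {k : ι} (hk : P.root k ∈ natSpan P T) : k ∈ P' := by
  classical
  obtain ⟨c, hc1, hc2, hc3⟩ := (mem_natSpan_iff P).1 hk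
  -- enumerate the support
  let s := c.support
  let e := s.equivFin
  let a : Fin s.card → ι := fun x => (e.symm x : ι)
  let m : Fin s.card → ℕ := fun x => (c (a x)).toNat
  have hsum : P.root k = ∑ x, m x • P.root (a x) := by
    rw [← hc3, Finsupp.linearCombination_apply, Finsupp.sum]
    rw [← Finset.sum_coe_sort s (fun i => c i • P.root i)]
    rw [← Equiv.sum_comp e.symm]
    refine Finset.sum_congr rfl fun x _ => ?_
    simp only [m, a]
    rw [← natCast_zsmul, Int.toNat_of_nonneg (hc2 _)]
  obtain ⟨l, b, _, hb1, hb2⟩ := exists_chain a _ m k rfl hsum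
  have haP : ∀ x, a x ∈ P' := fun x => hT (hc1 (Finset.mem_coe.2 (e.symm x).2))
  -- all partial sums are in P'
  have key : ∀ (t : ℕ) (ht : t < l) (j : ι),
      P.root j = ∑ q ∈ Finset.Iic (⟨t, ht⟩ : Fin l), P.root (a (b q)) → j ∈ P' := by
    intro t
    induction t with
    | zero =>
      intro ht j hj
      have : Finset.Iic (⟨0, ht⟩ : Fin l) = {⟨0, ht⟩} := by
        ext q
        simp only [Finset.mem_Iic, Finset.mem_singleton, Fin.le_def, Fin.ext_iff]
        omega
      rw [this, Finset.sum_singleton] at hj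
      rw [P.root.injective hj]
      exact haP _
    | succ t ih =>
      intro ht j hj
      have ht' : t < l := by omega
      obtain ⟨j', hj'⟩ := hb1 ⟨t, ht'⟩
      have hsplit : Finset.Iic (⟨t + 1, ht⟩ : Fin l) =
          insert (⟨t + 1, ht⟩ : Fin l) (Finset.Iic (⟨t, ht'⟩ : Fin l)) := by
        ext q
        simp only [Finset.mem_Iic, Finset.mem_insert, Fin.le_def, Fin.ext_iff]
        omega
      rw [hsplit, Finset.sum_insert (by simp [Fin.le_def]), ← hj'] at hj
      exact hcl (ih ht' j' hj') (haP _) (by rw [hj, add_comm])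
  have hl : 0 < l := by assumption
  have hlast : P.root k = ∑ q ∈ Finset.Iic (⟨l - 1, by omega⟩ : Fin l), P.root (a (b q)) := by
    rw [hb2]
    refine Finset.sum_congr ?_ fun _ _ => rfl
    ext q
    simp only [Finset.mem_univ, Finset.mem_Iic, Fin.le_def, true_iff]
    have := q.isLt
    omega
  exact key (l - 1) (by omega) k hlast

/-- S5458 core -/
lemma closed_superset_posSys_eq {S : Set ι} (hS : IsPosSys P S) {Δ : Set ι}
    (hΔ : IsSimpleSys P Δ) (hΔS : Δ ⊆ S) {P' : Set ι} (hcl : IsClosedSub P P') (hSP : S ⊆ P') :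
    P' = S ∪ {k : ι | -P.root k ∈ natSpan P {i : ι | i ∈ Δ ∧ P.reflectionPerm i i ∈ P'}} := by
  have hSeq : S = posOf P Δ := (subset_iff_eq_posOf hΔ hS).1 hΔS
  set Δ' : Set ι := {i : ι | i ∈ Δ ∧ P.reflectionPerm i i ∈ P'} with hΔ'
  apply Set.Subset.antisymm
  · intro k hk
    by_cases hkS : k ∈ S
    · exact Or.inl hkS
    · right
      have hng : ng P k ∈ posOf P Δ := hSeq ▸ (hS.cover k).resolve_left hkS
      have key : ∀ l ∈ posOf P Δ, ng P l ∈ P' → P.root l ∈ natSpan P Δ' := by
        refine posOf_induction hΔ (p := fun l => ng P l ∈ P' → P.root l ∈ natSpan P Δ') ?_ ?_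
        · intro i hi hi'
          exact root_mem_natSpan P ⟨hi, hi'⟩
        · intro k l j hl ihl hj hklj hk'
          have hl' : ng P l ∈ P' := by
            refine hcl hk' (hSP (hΔS hj)) ?_
            rw [root_ng, root_ng, hklj]; abel
          have hj' : ng P j ∈ P' := by
            refine hcl hk' (hSP (hSeq ▸ hl)) ?_
            rw [root_ng, root_ng, hklj]; abel
          rw [hklj]
          exact add_mem (ihl hl') (root_mem_natSpan P ⟨hj, hj'⟩)
      have := key _ hng (by rw [ng_ng]; exact hk)
      rw [root_ng] at this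
      exact this
  · rintro k (hk | hk)
    · exact hSP hk
    · have h1 : P.root (ng P k) ∈ natSpan P Δ' := by rw [root_ng]; exact hk
      -- root k is a nonnegative combination of the roots `ng i`, i ∈ Δ'
      have h2 : P.root k ∈ natSpan P ((fun i => ng P i) '' Δ') := by
        have hgen : ∀ x ∈ natSpan P Δ', -x ∈ natSpan P ((fun i => ng P i) '' Δ') := by
          intro x hx
          unfold natSpan at hx
          induction hx using AddSubmonoid.closure_induction with
          | mem x hx =>
            obtain ⟨i, hi, rfl⟩ := hx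
            rw [← root_ng]
            exact root_mem_natSpan P ⟨i, hi, rfl⟩
          | zero => rw [neg_zero]; exact zero_mem _
          | add x y _ _ hx hy => rw [neg_add]; exact add_mem hx hy
        have := hgen _ h1
        rwa [root_ng, neg_neg] at this
      refine mem_of_closed_of_mem_natSpan hcl ?_ h2
      rintro _ ⟨i, hi, rfl⟩
      exact hi.2

/-- S5459 core -/
lemma exists_simpleSys_of_closed_P2 {P' : Set ι}
    (hP2 : ∀ i : ι, i ∈ P' ∨ P.reflectionPerm i i ∈ P') (hcl : IsClosedSub P P') :
    ∃ Δ Δ' : Set ι, IsSimpleSys P Δ ∧ Δ' ⊆ Δ ∧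
      P' = posOf P Δ ∪ {k : ι | -P.root k ∈ natSpan P Δ'} := by
  obtain ⟨Δ₀, hΔ₀⟩ := exists_isSimpleSys P
  obtain ⟨g, _, hg⟩ := exists_weyl_image_posOf_subset hP2 hcl Δ₀ hΔ₀
  have hΔ := isSimpleSys_smul P g hΔ₀
  rw [← posOf_smul] at hg
  exact ⟨_, _, hΔ, fun i hi => hi.1,
    closed_superset_posSys_eq (isPosSys_posOf hΔ) hΔ (subset_posOf _) hcl hg⟩

end Finite

end Groth.Agent.H27
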