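import Mathlib

universe u

namespace Groth.Agent.H27.PowerInSubfield

open IntermediateField

section lemmaA
variable {k Ω : Type*} [Field k] [Field Ω] [Algebra k Ω]

/-- the ratio `(α' + c) / (α + c)` -/
noncomputable def om (α α' : Ω) (c : k) : Ω :=
  (α' + algebraMap k Ω c) / (α + algebraMap k Ω c)

variable {α α' : Ω}

theorem om_injective (hne : α ≠ α') (hnz : ∀ c : k, α + algebraMap k Ω c ≠ 0) :
    Function.Injective (om (k := k) α α') := by
  intro c d h
  unfold om at h
  rw [div_eq_div_iff (hnz c) (hnz d)] at h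
  have : (α' - α) * (algebraMap k Ω d - algebraMap k Ω c) = 0 := by linear_combination h
  rcases mul_eq_zero.mp this with h1 | h1
  · exact absurd (sub_eq_zero.mp h1).symm hne
  · exact ((algebraMap k Ω).injective (sub_eq_zero.mp h1)).symm

theorem om_eq (hnz : ∀ c : k, α + algebraMap k Ω c ≠ 0) (c : k) :
    α' + algebraMap k Ω c = om α α' c * (α + algebraMap k Ω c) := by
  unfold om
  rw [div_mul_cancel₀ _ (hnz c)]

theorem om_pow (hnz : ∀ c : k, α + algebraMap k Ω c ≠ 0) (c : k) {n : ℕ}
    (h : (α' + algebraMap k Ω c) ^ n = (α + algebraMap k Ω c) ^ n) : om α α' c ^ n = 1 := by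
  unfold om
  rw [div_pow, h, div_self (pow_ne_zero _ (hnz c))]

theorem om_ne_one (hne : α ≠ α') (hnz : ∀ c : k, α + algebraMap k Ω c ≠ 0) (c : k) :
    om α α' c ≠ 1 := by
  intro h
  unfold om at h
  rw [div_eq_one_iff_eq (hnz c)] at h
  exact hne (add_right_cancel h).symm

theorem isAlgebraic_of_conj (F : Type*) [Field F] [Algebra F Ω] (hne : α ≠ α')
    (hnz : ∀ c : k, α + algebraMap k Ω c ≠ 0)
    (hpow : ∀ c : k, ∃ n : ℕ, 0 < n ∧
      (α' + algebraMap k Ω c) ^ n = (α + algebraMap k Ω c) ^ n) :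
    IsAlgebraic F α ∧ IsAlgebraic F α' ∧ ∀ c : k, IsAlgebraic F (algebraMap k Ω c) := by
  have hω : ∀ c : k, om α α' c ∈ algebraicClosure F Ω := by
    intro c
    obtain ⟨n, hn, h⟩ := hpow c
    rw [mem_algebraicClosure_iff]
    refine IsAlgebraic.of_pow hn ?_
    rw [om_pow hnz c h]
    exact isAlgebraic_one
  have h01 : om α α' (0 : k) ≠ om α α' (1 : k) :=
    fun h => zero_ne_one (om_injective hne hnz h)
  have e0 := om_eq (α' := α') hnz (0 : k)
  have e1 := om_eq (α' := α') hnz (1 : k)
  simp only [map_zero, add_zero, map_one] at e0 e1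
  have hα : α = (om α α' (1 : k) - 1) / (om α α' (0 : k) - om α α' (1 : k)) := by
    rw [eq_div_iff (sub_ne_zero.mpr h01)]
    linear_combination e1 - e0
  have hαA : α ∈ algebraicClosure F Ω := by
    rw [hα]
    exact div_mem (sub_mem (hω 1) (one_mem _)) (sub_mem (hω 0) (hω 1))
  have hα'A : α' ∈ algebraicClosure F Ω := by
    rw [e0]
    exact mul_mem (hω 0) hαA
  refine ⟨mem_algebraicClosure_iff.mp hαA, mem_algebraicClosure_iff.mp hα'A, fun c => ?_⟩
  rw [← mem_algebraicClosure_iff]
  have : algebraMap k Ω c = (om α α' c * α - α') / (1 - om α α' c) := by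
    rw [eq_div_iff (sub_ne_zero.mpr (om_ne_one hne hnz c).symm)]
    linear_combination om_eq (α' := α') hnz c
  rw [this]
  exact div_mem (sub_mem (mul_mem (hω c) hαA) hα'A) (sub_mem (one_mem _) (hω c))

theorem false_of_charZero [CharZero Ω] (hne : α ≠ α')
    (hnz : ∀ c : k, α + algebraMap k Ω c ≠ 0)
    (hpow : ∀ c : k, ∃ n : ℕ, 0 < n ∧
      (α' + algebraMap k Ω c) ^ n = (α + algebraMap k Ω c) ^ n) : False := by
  obtain ⟨hα, hα', -⟩ := isAlgebraic_of_conj ℚ hne hnz hpow
  haveI : CharZero k := (algebraMap k Ω).charZero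
  haveI : FiniteDimensional ℚ ↥(IntermediateField.adjoin ℚ {α, α'}) :=
    IntermediateField.finiteDimensional_adjoin_pair hα.isIntegral hα'.isIntegral
  haveI : NumberField ↥(IntermediateField.adjoin ℚ {α, α'}) := {}
  have hαE : α ∈ IntermediateField.adjoin ℚ {α, α'} :=
    IntermediateField.subset_adjoin _ _ (by simp)
  have hα'E : α' ∈ IntermediateField.adjoin ℚ {α, α'} :=
    IntermediateField.subset_adjoin _ _ (by simp)
  have hfin := NumberField.Embeddings.finite_of_norm_le
    ↥(IntermediateField.adjoin ℚ {α, α'}) ℂ 1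
  have hfin' := hfin.image (fun x : ↥(IntermediateField.adjoin ℚ {α, α'}) => (x : Ω))
  have hmem : ∀ m : ℕ, om α α' (m : k) ∈
      (fun x : ↥(IntermediateField.adjoin ℚ {α, α'}) => (x : Ω)) ''
        {x | IsIntegral ℤ x ∧ ∀ φ : ↥(IntermediateField.adjoin ℚ {α, α'}) →+* ℂ, ‖φ x‖ ≤ 1} := by
    intro m
    obtain ⟨n, hn, h⟩ := hpow (m : k)
    have hmemE : om α α' (m : k) ∈ IntermediateField.adjoin ℚ {α, α'} := by
      unfold om
      rw [map_natCast]
      exact div_mem (add_mem hα'E (_root_.natCast_mem _ m)) (add_mem hαE (_root_.natCast_mem _ m))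
    have hu : (⟨om α α' (m : k), hmemE⟩ : ↥(IntermediateField.adjoin ℚ {α, α'})) ^ n = 1 :=
      Subtype.ext (by simpa using om_pow hnz (m : k) h)
    refine ⟨⟨om α α' (m : k), hmemE⟩, ⟨IsIntegral.of_pow hn (hu ▸ isIntegral_one), fun φ => ?_⟩,
      rfl⟩
    exact (Complex.norm_eq_one_of_pow_eq_one (by rw [← map_pow, hu, map_one]) hn.ne').le
  have hinj : Function.Injective fun m : ℕ => om α α' (m : k) :=
    (om_injective hne hnz).comp Nat.cast_injective
  exact Set.infinite_of_injective_forall_mem hinj hmem hfin'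

end lemmaA

section main
variable {k k' : Type u} [Field k] [Field k'] [Algebra k k']

open Polynomial in
/-- the conjugate data from a separable element outside `k` -/
theorem exists_conj (hP : ∀ x : k', ∃ n : ℕ, 0 < n ∧ x ^ n ∈ Set.range (algebraMap k k'))
    (a : k') (hsep : IsSeparable k a) (ha : a ∉ (algebraMap k k').range) :
    ∃ α α' : AlgebraicClosure k', α ≠ α' ∧
      (∀ c : k, α + algebraMap k (AlgebraicClosure k') c ≠ 0) ∧
      (∀ c : k, ∃ n : ℕ, 0 < n ∧ (α' + algebraMap k (AlgebraicClosure k') c) ^ n =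
        (α + algebraMap k (AlgebraicClosure k') c) ^ n) := by
  classical
  have hint : IsIntegral k a := by
    obtain ⟨n, hn, d, hd⟩ := hP a
    exact IsIntegral.of_pow hn (hd ▸ isIntegral_algebraMap)
  have hinj : Function.Injective (algebraMap k' (AlgebraicClosure k')) :=
    (algebraMap k' (AlgebraicClosure k')).injective
  have hdeg : 2 ≤ (minpoly k a).natDegree := (minpoly.two_le_natDegree_iff hint).mpr ha
  have hsplit : ((minpoly k a).map (algebraMap k (AlgebraicClosure k'))).Splits :=
    IsAlgClosed.splits _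
  have hcard : ((minpoly k a).map (algebraMap k (AlgebraicClosure k'))).roots.card =
      (minpoly k a).natDegree := by
    rw [← hsplit.natDegree_eq_card_roots, natDegree_map]
  have hnodup : ((minpoly k a).map (algebraMap k (AlgebraicClosure k'))).roots.Nodup :=
    nodup_roots (Separable.map hsep)
  obtain ⟨α', hα'mem, hα'ne⟩ := Finset.exists_mem_ne
    (s := ((minpoly k a).map (algebraMap k (AlgebraicClosure k'))).roots.toFinset)
    (by rw [Multiset.toFinset_card_of_nodup hnodup, hcard]; omega)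
    (algebraMap k' (AlgebraicClosure k') a)
  rw [Multiset.mem_toFinset] at hα'mem
  let σ : k⟮a⟯ →ₐ[k] AlgebraicClosure k' :=
    (IntermediateField.algHomAdjoinIntegralEquiv k hint).symm ⟨α', hα'mem⟩
  have hσ : σ (IntermediateField.AdjoinSimple.gen k a) = α' :=
    IntermediateField.algHomAdjoinIntegralEquiv_symm_apply_gen k hint ⟨α', hα'mem⟩
  refine ⟨algebraMap k' (AlgebraicClosure k') a, α', hα'ne.symm, ?_, ?_⟩
  · intro c hc
    apply ha
    refine ⟨-c, hinj ?_⟩
    rw [← IsScalarTower.algebraMap_apply k k' (AlgebraicClosure k'), map_neg]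
    exact (eq_neg_of_add_eq_zero_left hc).symm
  · intro c
    obtain ⟨n, hn, d, hd⟩ := hP (a + algebraMap k k' c)
    refine ⟨n, hn, ?_⟩
    have h1 : (IntermediateField.AdjoinSimple.gen k a + algebraMap k k⟮a⟯ c) ^ n =
        algebraMap k k⟮a⟯ d := by
      apply Subtype.ext
      simpa using hd.symm
    have h2 := congrArg σ h1
    rw [map_pow, map_add, hσ, AlgHom.commutes, AlgHom.commutes] at h2
    rw [h2, IsScalarTower.algebraMap_apply k k' (AlgebraicClosure k') c, ← map_add, ← map_pow,
      ← hd, ← IsScalarTower.algebraMap_apply k k' (AlgebraicClosure k')]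

theorem forward (hP : ∀ x : k', ∃ n : ℕ, 0 < n ∧ x ^ n ∈ Set.range (algebraMap k k')) :
    Function.Surjective (algebraMap k k') ∨
        ∃ p : ℕ, p.Prime ∧ CharP k' p ∧
          (IsPurelyInseparable k k' ∨ Algebra.IsAlgebraic (⊥ : Subfield k') k') := by
  have hint : ∀ x : k', IsIntegral k x := by
    intro x
    obtain ⟨n, hn, d, hd⟩ := hP x
    exact IsIntegral.of_pow hn (hd ▸ isIntegral_algebraMap)
  obtain ⟨p, hp⟩ := CharP.exists k'
  by_cases hPI : IsPurelyInseparable k k'
  · rcases CharP.char_is_prime_or_zero k' p with hpp | hp0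
    · exact Or.inr ⟨p, hpp, hp, Or.inl hPI⟩
    · subst hp0
      haveI : CharZero k' := CharP.charP_to_charZero k'
      haveI : CharZero k := (algebraMap k k').charZero
      haveI : Algebra.IsAlgebraic k k' := ⟨fun x => (hint x).isAlgebraic⟩
      exact Or.inl (IsPurelyInseparable.surjective_algebraMap_of_isSeparable k k')
  · right
    rw [isPurelyInseparable_iff] at hPI
    push Not at hPI
    obtain ⟨a, ha⟩ := hPI
    obtain ⟨hasep, harange⟩ := ha (hint a)
    obtain ⟨α, α', hne, hnz, hpow⟩ := exists_conj hP a hasep harange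
    rcases CharP.char_is_prime_or_zero k' p with hpp | hp0
    · refine ⟨p, hpp, hp, Or.inr ⟨fun x => ?_⟩⟩
      obtain ⟨-, -, halg⟩ := isAlgebraic_of_conj ↥(⊥ : Subfield k') hne hnz hpow
      obtain ⟨n, hn, d, hd⟩ := hP x
      have h1 : IsAlgebraic ↥(⊥ : Subfield k') (algebraMap k' (AlgebraicClosure k') x ^ n) := by
        rw [← map_pow, ← hd, ← IsScalarTower.algebraMap_apply k k' (AlgebraicClosure k')]
        exact halg d
      exact (isAlgebraic_algebraMap_iff (algebraMap k' (AlgebraicClosure k')).injective).mp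
        (IsAlgebraic.of_pow hn h1)
    · subst hp0
      haveI : CharZero k' := CharP.charP_to_charZero k'
      haveI : CharZero (AlgebraicClosure k') :=
        charZero_of_injective_algebraMap (algebraMap k' (AlgebraicClosure k')).injective
      exact (false_of_charZero hne hnz hpow).elim

theorem backward (h : Function.Surjective (algebraMap k k') ∨
        ∃ p : ℕ, p.Prime ∧ CharP k' p ∧
          (IsPurelyInseparable k k' ∨ Algebra.IsAlgebraic (⊥ : Subfield k') k')) :
    ∀ x : k', ∃ n : ℕ, 0 < n ∧ x ^ n ∈ Set.range (algebraMap k k') := by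
  intro x
  rcases h with h | ⟨p, hpp, hp, h | h⟩
  · obtain ⟨y, rfl⟩ := h x
    exact ⟨1, one_pos, y, by simp⟩
  · haveI : CharP k p := RingHom.charP (algebraMap k k') (algebraMap k k').injective p
    haveI : Fact p.Prime := ⟨hpp⟩
    haveI : ExpChar k p := ExpChar.prime hpp
    obtain ⟨n, y, hy⟩ := IsPurelyInseparable.pow_mem k p x
    exact ⟨p ^ n, pow_pos hpp.pos n, y, hy⟩
  · by_cases hx : x = 0
    · exact ⟨1, one_pos, 0, by simp [hx]⟩
    · haveI : Fact p.Prime := ⟨hpp⟩
      letI : Algebra (ZMod p) k' := ZMod.algebra k' p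
      haveI : Finite ↥(⊥ : Subfield k') := by
        have h1 : ((⊥ : Subfield k') : Set k') = Set.range (algebraMap (ZMod p) k') := by
          rw [Subfield.bot_eq_of_zMod_algebra p, RingHom.coe_fieldRange]
        have h2 : (Set.range (algebraMap (ZMod p) k')).Finite := Set.finite_range _
        rw [← h1] at h2
        exact h2.to_subtype
      have hxint : IsIntegral ↥(⊥ : Subfield k') x := (h.isAlgebraic x).isIntegral
      haveI : FiniteDimensional ↥(⊥ : Subfield k') ↥(↥(⊥ : Subfield k'))⟮x⟯ :=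
        IntermediateField.adjoin.finiteDimensional hxint
      haveI : Finite ↥(↥(⊥ : Subfield k'))⟮x⟯ := Module.finite_of_finite ↥(⊥ : Subfield k')
      have hx' : (IntermediateField.AdjoinSimple.gen ↥(⊥ : Subfield k') x) ≠ 0 := by
        intro h0
        exact hx (by simpa using congrArg Subtype.val h0)
      obtain ⟨n, hn, hn1⟩ := isOfFinOrder_iff_pow_eq_one.mp (isOfFinOrder_of_finite (Units.mk0 _ hx'))
      refine ⟨n, hn, 1, ?_⟩
      have := congrArg (fun u : (↥(↥(⊥ : Subfield k'))⟮x⟯)ˣ => ((u : ↥(↥(⊥ : Subfield k'))⟮x⟯) : k')) hn1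
      simpa using this.symm

end main

end Groth.Agent.H27.PowerInSubfield
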