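import Groth.Agent.H27.EpsG

/-!
# Weakly contractible covers of affine objects of the small pro-étale site, presented as
limits of étale objects over them (helper27)
-/

set_option autoImplicit false
set_option linter.style.haveILetI false
set_option linter.unusedSectionVars false
open CategoryTheory CategoryTheory.Limits AlgebraicGeometry Opposite
universe u

namespace Groth.Agent.H27.PresP

open EpsPres

variable {X : Scheme.{u}}

/-- the terminal object of the small étale site of a scheme -/
noncomputable abbrev topEt (S : Scheme.{u}) : S.Etale := Scheme.Etale.mk (𝟙 S)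

variable (Y : X.ProEt) (p : Pres (topEt Y.left))

/-- the structure maps of the stages, with target `Y.left` -/
noncomputable def tS (i : p.I) : p.D.obj i ⟶ Y.left := p.t.app i

/-- the structure map of the limit, with target `Y.left` -/
noncomputable def tWS : p.c.pt ⟶ Y.left := p.tW

instance (i : p.I) : Etale (tS Y p i) := p.et i

instance : WeaklyEtale (tWS Y p) := p.we

theorem tS_naturality {i j : p.I} (f : i ⟶ j) : p.D.map f ≫ tS Y p j = tS Y p i :=
  p.t_naturality f

theorem π_tS (i : p.I) : p.c.π.app i ≫ tS Y p i = tWS Y p := p.htW i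

instance (i : p.I) : WeaklyEtale (tS Y p i ≫ Y.hom) := inferInstance

instance : WeaklyEtale (tWS Y p ≫ Y.hom) := inferInstance

/-- the stages as objects of the small pro-étale site of `X` -/
noncomputable def Zd : p.I ⥤ X.ProEt where
  obj i := Scheme.ProEt.mk (tS Y p i ≫ Y.hom)
  map {i j} f := MorphismProperty.Over.homMk (p.D.map f) (by
    show p.D.map f ≫ tS Y p j ≫ Y.hom = tS Y p i ≫ Y.hom
    rw [← Category.assoc, tS_naturality])
  map_id i := by
    apply MorphismProperty.Over.Hom.ext
    exact p.D.map_id i
  map_comp f g := by
    apply MorphismProperty.Over.Hom.ext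
    exact p.D.map_comp f g

/-- the limit as an object of the small pro-étale site of `X` -/
noncomputable def Zpt : X.ProEt := Scheme.ProEt.mk (tWS Y p ≫ Y.hom)

/-- the cone -/
noncomputable def Zc : Cone (Zd Y p) where
  pt := Zpt Y p
  π :=
    { app := fun i => MorphismProperty.Over.homMk (p.c.π.app i) (by
        show p.c.π.app i ≫ tS Y p i ≫ Y.hom = tWS Y p ≫ Y.hom
        rw [← Category.assoc, π_tS])
      naturality := fun i j f => by
        apply MorphismProperty.Over.Hom.ext
        exact p.c.π.naturality f }

/-- the cone is a limit cone of schemes -/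
noncomputable def hZc :
    IsLimit ((Scheme.ProEt.forget X ⋙ Over.forget X).mapCone (Zc Y p)) :=
  p.hc

/-- the structure map of the limit -/
noncomputable def toY : Zpt Y p ⟶ Y := MorphismProperty.Over.homMk (tWS Y p) rfl

/-- the structure maps of the stages -/
noncomputable def stageToY (i : p.I) : (Zd Y p).obj i ⟶ Y :=
  MorphismProperty.Over.homMk (tS Y p i) rfl

theorem π_stageToY (i : p.I) : (Zc Y p).π.app i ≫ stageToY Y p i = toY Y p := by
  apply MorphismProperty.Over.Hom.ext
  exact π_tS Y p i

theorem map_stageToY {i j : p.I} (f : i ⟶ j) :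
    (Zd Y p).map f ≫ stageToY Y p j = stageToY Y p i := by
  apply MorphismProperty.Over.Hom.ext
  exact tS_naturality Y p f

instance : IsAffine (Zpt Y p).left := inferInstanceAs (IsAffine p.c.pt)

instance (i : p.I) : IsAffine ((Zd Y p).obj i).left := inferInstanceAs (IsAffine (p.D.obj i))

theorem wc : EtPBC.IsWContractible ↥Γ((Zpt Y p).left, ⊤) := p.wc

theorem toY_surjective : Function.Surjective (toY Y p).left.base := p.surj

theorem stageToY_surjective (i : p.I) : Function.Surjective (stageToY Y p i).left.base := by
  intro x
  obtain ⟨w, hw⟩ := toY_surjective Y p x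
  refine ⟨(p.c.π.app i).base w, ?_⟩
  have h := congrArg (fun m : p.c.pt ⟶ Y.left => m.base w) (π_tS Y p i)
  exact h.trans hw

/-- the structure maps to `X` -/
noncomputable def tX : p.D ⟶ (Functor.const p.I).obj X where
  app i := tS Y p i ≫ Y.hom
  naturality i j f := by
    exact (Category.assoc _ _ _).symm.trans
      ((congrArg (fun k => k ≫ Y.hom) (tS_naturality Y p f)).trans (Category.comp_id _).symm)

set_option backward.isDefEq.respectTransparency.types false in
/-- every morphism from the limit to an étale `X`-scheme factors through a stage -/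
theorem exists_factor (E' : X.Etale) (a : Zpt Y p ⟶ (ProEtS.eps X).obj E') :
    ∃ (i : p.I) (g : (Zd Y p).obj i ⟶ (ProEtS.eps X).obj E'), (Zc Y p).π.app i ≫ g = a := by
  obtain ⟨i, g, hg1, hg2⟩ := Scheme.exists_π_app_comp_eq_of_locallyOfFinitePresentation p.D
    (tX Y p) E'.hom p.c p.hc a.left (by
      ext i : 2
      show p.c.π.app i ≫ tS Y p i ≫ Y.hom = a.left ≫ E'.hom
      rw [← Category.assoc, π_tS]
      exact (MorphismProperty.Over.w a).symm)
  refine ⟨i, MorphismProperty.Over.homMk g hg2, ?_⟩
  apply MorphismProperty.Over.Hom.ext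
  exact hg1

/-- existence of presentations -/
theorem nonempty_pres [IsAffine Y.left] : Nonempty (Pres (topEt Y.left)) :=
  haveI : IsAffine (topEt Y.left).left := inferInstanceAs (IsAffine Y.left)
  EpsPresExists.nonempty_pres (topEt Y.left)

end Groth.Agent.H27.PresP
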