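import Groth.Agent.H27.PresP
import Groth.Agent.H24.LimitBaseChange

/-!
# Base change of a cofiltered limit in the small pro-étale site along a morphism to a stage
(helper27)
-/

set_option autoImplicit false
set_option linter.style.haveILetI false
set_option linter.unusedSectionVars false
set_option backward.isDefEq.respectTransparency.types false
open CategoryTheory CategoryTheory.Limits AlgebraicGeometry Opposite
universe u

namespace Groth.Agent.H27.ProEtBC

variable {X : Scheme.{u}}

/-- morphisms of the small pro-étale site are weakly étale -/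
theorem weaklyEtale_left {A B : X.ProEt} (k : A ⟶ B) : WeaklyEtale k.left := by
  haveI : WeaklyEtale (k.left ≫ B.hom) := by
    rw [MorphismProperty.Over.w k]
    infer_instance
  exact WeaklyEtale.of_comp k.left B.hom

variable {J : Type u} [SmallCategory J] (Z : J ⥤ X.ProEt) (c : Cone Z)

/-- the underlying diagram of schemes -/
noncomputable abbrev DS : J ⥤ Scheme.{u} := Z ⋙ Scheme.ProEt.forget X ⋙ Over.forget X

/-- the underlying cone of schemes -/
noncomputable abbrev cS : Cone (DS Z) := (Scheme.ProEt.forget X ⋙ Over.forget X).mapCone c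

variable (j0 : J) {R : X.ProEt} (q : R ⟶ Z.obj j0)

instance (φ : Over j0) : WeaklyEtale (pullback.snd ((DS Z).map φ.hom) q.left ≫ R.hom) := by
  haveI : WeaklyEtale ((DS Z).map φ.hom) := weaklyEtale_left (Z.map φ.hom)
  infer_instance

instance : WeaklyEtale (pullback.snd ((cS Z c).π.app j0) q.left ≫ R.hom) := by
  haveI : WeaklyEtale ((cS Z c).π.app j0) := weaklyEtale_left (c.π.app j0)
  infer_instance

/-- the stages of the base-changed system -/
noncomputable def bcObj (φ : Over j0) : X.ProEt :=
  Scheme.ProEt.mk (pullback.snd ((DS Z).map φ.hom) q.left ≫ R.hom)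

/-- the projection to `R` -/
noncomputable def bcSnd (φ : Over j0) : bcObj Z j0 q φ ⟶ R :=
  MorphismProperty.Over.homMk (pullback.snd ((DS Z).map φ.hom) q.left) rfl

/-- the projection to the stage -/
noncomputable def bcFst (φ : Over j0) : bcObj Z j0 q φ ⟶ Z.obj φ.left :=
  MorphismProperty.Over.homMk (pullback.fst ((DS Z).map φ.hom) q.left) (by
    show pullback.fst ((DS Z).map φ.hom) q.left ≫ (Z.obj φ.left).hom =
      pullback.snd ((DS Z).map φ.hom) q.left ≫ R.hom
    have h1 : (DS Z).map φ.hom ≫ (Z.obj j0).hom = (Z.obj φ.left).hom :=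
      MorphismProperty.Over.w (Z.map φ.hom)
    have h2 : q.left ≫ (Z.obj j0).hom = R.hom := MorphismProperty.Over.w q
    rw [← h1, ← h2, ← Category.assoc, ← Category.assoc, pullback.condition]
    rfl)

theorem bcFst_map (φ : Over j0) : bcFst Z j0 q φ ≫ Z.map φ.hom = bcSnd Z j0 q φ ≫ q := by
  apply MorphismProperty.Over.Hom.ext
  exact pullback.condition

/-- the transition maps -/
noncomputable def bcMap {φ ψ : Over j0} (f : φ ⟶ ψ) : bcObj Z j0 q φ ⟶ bcObj Z j0 q ψ :=
  MorphismProperty.Over.homMk ((Groth.Agent.H24.pullbackDiagram (DS Z) j0 q.left).map f) (by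
    show (Groth.Agent.H24.pullbackDiagram (DS Z) j0 q.left).map f ≫
      pullback.snd ((DS Z).map ψ.hom) q.left ≫ R.hom =
      pullback.snd ((DS Z).map φ.hom) q.left ≫ R.hom
    rw [← Category.assoc, Groth.Agent.H24.pullbackDiagram_map_snd]
    rfl)

/-- the base-changed system -/
noncomputable def bcD : Over j0 ⥤ X.ProEt where
  obj φ := bcObj Z j0 q φ
  map f := bcMap Z j0 q f
  map_id φ := by
    apply MorphismProperty.Over.Hom.ext
    exact (Groth.Agent.H24.pullbackDiagram (DS Z) j0 q.left).map_id φ
  map_comp f g := by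
    apply MorphismProperty.Over.Hom.ext
    exact (Groth.Agent.H24.pullbackDiagram (DS Z) j0 q.left).map_comp f g

theorem bcMap_snd {φ ψ : Over j0} (f : φ ⟶ ψ) :
    (bcD Z j0 q).map f ≫ bcSnd Z j0 q ψ = bcSnd Z j0 q φ := by
  apply MorphismProperty.Over.Hom.ext
  exact Groth.Agent.H24.pullbackDiagram_map_snd (DS Z) j0 q.left f

theorem bcMap_fst {φ ψ : Over j0} (f : φ ⟶ ψ) :
    (bcD Z j0 q).map f ≫ bcFst Z j0 q ψ = bcFst Z j0 q φ ≫ Z.map f.left := by
  apply MorphismProperty.Over.Hom.ext
  exact Groth.Agent.H24.pullbackDiagram_map_fst (DS Z) j0 q.left f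

/-- the apex of the base-changed cone -/
noncomputable def bcPt : X.ProEt :=
  Scheme.ProEt.mk (pullback.snd ((cS Z c).π.app j0) q.left ≫ R.hom)

/-- the projection of the apex to `R` -/
noncomputable def bcPtSnd : bcPt Z c j0 q ⟶ R :=
  MorphismProperty.Over.homMk (pullback.snd ((cS Z c).π.app j0) q.left) rfl

/-- the projection of the apex to the apex -/
noncomputable def bcPtFst : bcPt Z c j0 q ⟶ c.pt :=
  MorphismProperty.Over.homMk (pullback.fst ((cS Z c).π.app j0) q.left) (by
    show pullback.fst ((cS Z c).π.app j0) q.left ≫ c.pt.hom =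
      pullback.snd ((cS Z c).π.app j0) q.left ≫ R.hom
    have h1 : (cS Z c).π.app j0 ≫ (Z.obj j0).hom = c.pt.hom :=
      MorphismProperty.Over.w (c.π.app j0)
    have h2 : q.left ≫ (Z.obj j0).hom = R.hom := MorphismProperty.Over.w q
    rw [← h1, ← h2, ← Category.assoc, ← Category.assoc, pullback.condition]
    rfl)

theorem bcPtFst_π : bcPtFst Z c j0 q ≫ c.π.app j0 = bcPtSnd Z c j0 q ≫ q := by
  apply MorphismProperty.Over.Hom.ext
  exact pullback.condition

/-- the base-changed cone -/
noncomputable def bcCone : Cone (bcD Z j0 q) where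
  pt := bcPt Z c j0 q
  π :=
    { app := fun φ => MorphismProperty.Over.homMk
        ((Groth.Agent.H24.pullbackCone (DS Z) (cS Z c) j0 q.left).π.app φ) (by
          show (Groth.Agent.H24.pullbackCone (DS Z) (cS Z c) j0 q.left).π.app φ ≫
            pullback.snd ((DS Z).map φ.hom) q.left ≫ R.hom =
            pullback.snd ((cS Z c).π.app j0) q.left ≫ R.hom
          rw [← Category.assoc, Groth.Agent.H24.pullbackCone_π_snd]
          rfl)
      naturality := fun φ ψ f => by
        apply MorphismProperty.Over.Hom.ext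
        exact (Groth.Agent.H24.pullbackCone (DS Z) (cS Z c) j0 q.left).π.naturality f }

theorem bcCone_π_snd (φ : Over j0) :
    (bcCone Z c j0 q).π.app φ ≫ bcSnd Z j0 q φ = bcPtSnd Z c j0 q := by
  apply MorphismProperty.Over.Hom.ext
  exact Groth.Agent.H24.pullbackCone_π_snd (DS Z) (cS Z c) j0 q.left φ

theorem bcCone_π_fst (φ : Over j0) :
    (bcCone Z c j0 q).π.app φ ≫ bcFst Z j0 q φ = bcPtFst Z c j0 q ≫ c.π.app φ.left := by
  apply MorphismProperty.Over.Hom.ext
  exact Groth.Agent.H24.pullbackCone_π_fst (DS Z) (cS Z c) j0 q.left φ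

/-- the base-changed cone is a limit cone of schemes -/
noncomputable def hbc [IsCofiltered J] (hc : IsLimit (cS Z c)) :
    IsLimit ((Scheme.ProEt.forget X ⋙ Over.forget X).mapCone (bcCone Z c j0 q)) :=
  Groth.Agent.H24.isLimitPullbackCone (DS Z) (cS Z c) j0 q.left hc

end Groth.Agent.H27.ProEtBC
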