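import Groth.Agent.H27.ProEtBC

/-!
# Universal properties of the base-changed system, and rebasing (helper27)
-/

set_option autoImplicit false
set_option linter.style.haveILetI false
set_option linter.unusedSectionVars false
set_option backward.isDefEq.respectTransparency.types false
open CategoryTheory CategoryTheory.Limits AlgebraicGeometry Opposite
universe u

namespace Groth.Agent.H27.ProEtBC

variable {X : Scheme.{u}}
variable {J : Type u} [SmallCategory J] (Z : J ⥤ X.ProEt) (c : Cone Z)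
variable (k : J) {T : X.ProEt} (qT : T ⟶ Z.obj k)

section Lift

variable {M : X.ProEt}

/-- the universal property of the apex -/
noncomputable def bcPtLift (a : M ⟶ c.pt) (b : M ⟶ T) (h : a ≫ c.π.app k = b ≫ qT) :
    M ⟶ bcPt Z c k qT :=
  MorphismProperty.Over.homMk (pullback.lift a.left b.left (congrArg (fun m => m.left) h)) (by
    show pullback.lift a.left b.left _ ≫ pullback.snd ((cS Z c).π.app k) qT.left ≫ T.hom = M.hom
    exact (Category.assoc _ _ _).symm.trans
      ((congrArg (fun m => m ≫ T.hom) (pullback.lift_snd _ _ _)).trans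
        (MorphismProperty.Over.w b)))

theorem bcPtLift_fst (a : M ⟶ c.pt) (b : M ⟶ T) (h : a ≫ c.π.app k = b ≫ qT) :
    bcPtLift Z c k qT a b h ≫ bcPtFst Z c k qT = a := by
  apply MorphismProperty.Over.Hom.ext
  exact pullback.lift_fst _ _ _

theorem bcPtLift_snd (a : M ⟶ c.pt) (b : M ⟶ T) (h : a ≫ c.π.app k = b ≫ qT) :
    bcPtLift Z c k qT a b h ≫ bcPtSnd Z c k qT = b := by
  apply MorphismProperty.Over.Hom.ext
  exact pullback.lift_snd _ _ _

/-- the universal property of the stages -/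
noncomputable def bcObjLift (φ : Over k) (a : M ⟶ Z.obj φ.left) (b : M ⟶ T)
    (h : a ≫ Z.map φ.hom = b ≫ qT) : M ⟶ bcObj Z k qT φ :=
  MorphismProperty.Over.homMk (pullback.lift a.left b.left (congrArg (fun m => m.left) h)) (by
    show pullback.lift a.left b.left _ ≫ pullback.snd ((DS Z).map φ.hom) qT.left ≫ T.hom = M.hom
    exact (Category.assoc _ _ _).symm.trans
      ((congrArg (fun m => m ≫ T.hom) (pullback.lift_snd _ _ _)).trans
        (MorphismProperty.Over.w b)))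

theorem bcObjLift_fst (φ : Over k) (a : M ⟶ Z.obj φ.left) (b : M ⟶ T)
    (h : a ≫ Z.map φ.hom = b ≫ qT) : bcObjLift Z k qT φ a b h ≫ bcFst Z k qT φ = a := by
  apply MorphismProperty.Over.Hom.ext
  exact pullback.lift_fst _ _ _

theorem bcObjLift_snd (φ : Over k) (a : M ⟶ Z.obj φ.left) (b : M ⟶ T)
    (h : a ≫ Z.map φ.hom = b ≫ qT) : bcObjLift Z k qT φ a b h ≫ bcSnd Z k qT φ = b := by
  apply MorphismProperty.Over.Hom.ext
  exact pullback.lift_snd _ _ _

theorem bcObj_hom_ext (φ : Over k) (m₁ m₂ : M ⟶ bcObj Z k qT φ)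
    (h1 : m₁ ≫ bcFst Z k qT φ = m₂ ≫ bcFst Z k qT φ)
    (h2 : m₁ ≫ bcSnd Z k qT φ = m₂ ≫ bcSnd Z k qT φ) : m₁ = m₂ := by
  apply MorphismProperty.Over.Hom.ext
  apply pullback.hom_ext
  · exact congrArg (fun m => m.left) h1
  · exact congrArg (fun m => m.left) h2

end Lift

section Rebase

variable (φ : Over k)

/-- the projection from the apex to a stage, with clean source -/
noncomputable def bcπ : bcPt Z c k qT ⟶ bcObj Z k qT φ := (bcCone Z c k qT).π.app φ

theorem bcπ_snd : bcπ Z c k qT φ ≫ bcSnd Z k qT φ = bcPtSnd Z c k qT :=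
  bcCone_π_snd Z c k qT φ

theorem bcπ_fst : bcπ Z c k qT φ ≫ bcFst Z k qT φ = bcPtFst Z c k qT ≫ c.π.app φ.left :=
  bcCone_π_fst Z c k qT φ

theorem bcπ_map {φ ψ : Over k} (f : φ ⟶ ψ) :
    bcπ Z c k qT φ ≫ (bcD Z k qT).map f = bcπ Z c k qT ψ :=
  (bcCone Z c k qT).w f

/-- the comparison from the rebased apex to the apex -/
noncomputable def rebaseρ :
    bcPt Z c φ.left (bcFst Z k qT φ) ⟶ bcPt Z c k qT :=
  bcPtLift Z c k qT (bcPtFst Z c φ.left (bcFst Z k qT φ))
    (bcPtSnd Z c φ.left (bcFst Z k qT φ) ≫ bcSnd Z k qT φ) (by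
      rw [Category.assoc, ← bcFst_map, ← Category.assoc, ← bcPtFst_π, Category.assoc, c.w])

theorem rebaseρ_fst : rebaseρ Z c k qT φ ≫ bcPtFst Z c k qT =
    bcPtFst Z c φ.left (bcFst Z k qT φ) := bcPtLift_fst _ _ _ _ _ _ _

theorem rebaseρ_snd : rebaseρ Z c k qT φ ≫ bcPtSnd Z c k qT =
    bcPtSnd Z c φ.left (bcFst Z k qT φ) ≫ bcSnd Z k qT φ := bcPtLift_snd _ _ _ _ _ _ _

theorem rebaseρ_π : rebaseρ Z c k qT φ ≫ bcπ Z c k qT φ =
    bcPtSnd Z c φ.left (bcFst Z k qT φ) := by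
  apply bcObj_hom_ext
  · rw [Category.assoc, bcπ_fst, ← Category.assoc, rebaseρ_fst, bcPtFst_π]
  · rw [Category.assoc, bcπ_snd, rebaseρ_snd]

/-- the comparison from the apex to the rebased apex -/
noncomputable def rebaseσ :
    bcPt Z c k qT ⟶ bcPt Z c φ.left (bcFst Z k qT φ) :=
  bcPtLift Z c φ.left (bcFst Z k qT φ) (bcPtFst Z c k qT) (bcπ Z c k qT φ)
    (bcπ_fst Z c k qT φ).symm

theorem rebaseσ_fst : rebaseσ Z c k qT φ ≫ bcPtFst Z c φ.left (bcFst Z k qT φ) =
    bcPtFst Z c k qT := bcPtLift_fst _ _ _ _ _ _ _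

end Rebase

end Groth.Agent.H27.ProEtBC
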