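import Groth.Agent.H27.WContrLoc
import Groth.Agent.H27.ProEtWCover

/-!
# Clopen pieces of affine schemes with w-contractible ring of functions
-/

set_option autoImplicit false
set_option linter.style.haveILetI false
open CategoryTheory CategoryTheory.Limits AlgebraicGeometry Opposite
universe u

namespace Groth.Agent.H27.ProEtClopenPiece

/-- a clopen subset of an affine scheme is the basic open of an idempotent global function -/
theorem exists_idempotent {W : Scheme.{u}} [IsAffine W] (T : W.Opens)
    (hT : IsClopen (T : Set W)) :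
    ∃ e : Γ(W, ⊤), IsIdempotentElem e ∧ T = W.basicOpen e := by
  let h : W ≃ₜ PrimeSpectrum Γ(W, ⊤) := W.isoSpec.hom.homeomorph
  have hs : IsClopen (h '' (T : Set W)) :=
    ⟨(h.isClosed_image).mpr hT.1, (h.isOpen_image).mpr hT.2⟩
  obtain ⟨e, he, hse⟩ := PrimeSpectrum.exists_idempotent_basicOpen_eq_of_isClopen hs
  refine ⟨e, he, ?_⟩
  rw [← Scheme.toSpecΓ_preimage_basicOpen]
  apply TopologicalSpace.Opens.ext
  show (T : Set W) = h ⁻¹' ((PrimeSpectrum.basicOpen e :
    TopologicalSpace.Opens (PrimeSpectrum Γ(W, ⊤))) : Set (PrimeSpectrum Γ(W, ⊤)))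
  rw [← hse]
  exact (h.injective.preimage_image _).symm

/-- localization of a w-contractible ring away from an idempotent is w-contractible -/
theorem isWContractible_away {A B : Type u} [CommRing A] [CommRing B] [Algebra A B] (e : A)
    (he : IsIdempotentElem e) [IsLocalization.Away e B] (h : EtPBC.IsWContractible A) :
    EtPBC.IsWContractible B := by
  intro B' _ _ hff hwe
  refine WContrLoc.main A B (Submonoid.powers e) {1 - e} ?_ h B' hff hwe
  rw [PrimeSpectrum.localization_away_comap_range B e]
  ext x
  simp only [SetLike.mem_coe, PrimeSpectrum.mem_basicOpen, Finset.coe_singleton,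
    PrimeSpectrum.mem_zeroLocus, Set.singleton_subset_iff, Set.mem_ofPred_eq]
  constructor
  · intro hx
    refine ⟨x, ?_, specializes_rfl⟩
    have h0 : e * (1 - e) ∈ x.asIdeal := by
      rw [mul_sub, mul_one, he.eq, sub_self]; exact zero_mem _
    exact (x.isPrime.mem_or_mem h0).resolve_left hx
  · rintro ⟨z, hz, hxz⟩ hx
    have hle : x.asIdeal ≤ z.asIdeal := (PrimeSpectrum.le_iff_specializes x z).mpr hxz
    have h1 : (1 : A) ∈ z.asIdeal := by
      have := add_mem (hle hx) hz
      rwa [add_sub_cancel] at this
    exact z.isPrime.ne_top ((Ideal.eq_top_iff_one _).mpr h1)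

/-- a clopen open subscheme of an affine scheme with w-contractible ring of functions is affine
with w-contractible ring of functions -/
theorem main {W : Scheme.{u}} [IsAffine W] (hW : EtPBC.IsWContractible ↥Γ(W, ⊤)) (T : W.Opens)
    (hT : IsClopen (T : Set W)) :
    IsAffine T.toScheme ∧ EtPBC.IsWContractible ↥Γ(T.toScheme, ⊤) := by
  obtain ⟨e, he, rfl⟩ := exists_idempotent T hT
  have haff : IsAffineOpen (W.basicOpen e) := (isAffineOpen_top W).basicOpen e
  refine ⟨haff, ?_⟩
  have h1 : EtPBC.IsWContractible ↥Γ(W, W.basicOpen e) := isWContractible_away e he hW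
  exact ProEtWCover.isWContractible_of_ringEquiv
    (W.basicOpen e).topIso.symm.commRingCatIsoToRingEquiv h1

end Groth.Agent.H27.ProEtClopenPiece
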