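import Groth.Agent.H4.ProEtCont
import Groth.Prelude.Def_ProEtS

/-!
# The unit of `f⁻¹ ⊣ f_*` on pro-étale abelian sheaves is locally injective up to base change
-/

set_option autoImplicit false
set_option linter.style.haveILetI false
open CategoryTheory CategoryTheory.Limits AlgebraicGeometry Opposite

namespace Groth.Agent.H27.ProEtPullUnit

section General

universe v₁ v₂ v₃ u₁ u₂ u₃

variable {C : Type u₂} [Category.{v₂} C] {D : Type u₃} [Category.{v₃} D] (G : C ⥤ D)
  (A : Type u₁) [Category.{v₁} A]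
  (J : GrothendieckTopology C) (K : GrothendieckTopology D)
  [Functor.IsContinuous G J K]
  [∀ (F : Cᵒᵖ ⥤ A), G.op.HasLeftKanExtension F] [HasWeakSheafify K A]

/-- the unit of the constructed pullback-pushforward adjunction -/
theorem unit_app (F : Sheaf J A) :
    ((Functor.sheafPullbackConstruction.sheafAdjunctionContinuous G A J K).unit.app F).hom =
      G.op.lanUnit.app F.obj ≫ Functor.whiskerLeft G.op (toSheafify K (G.op.lan.obj F.obj)) := by
  simp [Functor.sheafPullbackConstruction.sheafAdjunctionContinuous,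
    Adjunction.restrictFullyFaithful]
  rw [Adjunction.homEquiv_unit]
  simp [Functor.FullyFaithful.homEquiv, Functor.sheafPullbackConstruction.sheafPullback]
  change (G.op.lanUnit.app F.obj ≫ G.op.whiskerLeft (toSheafify K (G.op.lan.obj F.obj)) ≫ 𝟙 _) = _
  rw [Category.comp_id]

/-- the unit of the abstract adjunction, composed with the comparison isomorphism -/
theorem unit_app' [(G.sheafPushforwardContinuous A J K).IsRightAdjoint] (F : Sheaf J A) :
    ((G.sheafAdjunctionContinuous A J K).unit.app F).hom ≫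
      Functor.whiskerLeft G.op
        ((Functor.sheafPullbackConstruction.sheafPullbackIso G A J K).hom.app F).hom =
      G.op.lanUnit.app F.obj ≫ Functor.whiskerLeft G.op (toSheafify K (G.op.lan.obj F.obj)) := by
  rw [← unit_app]
  have h := Adjunction.unit_leftAdjointUniq_hom_app (G.sheafAdjunctionContinuous A J K)
    (Functor.sheafPullbackConstruction.sheafAdjunctionContinuous G A J K) F
  rw [← h]
  rfl

end General

universe u

instance preservesFilteredColimits_forget :
    PreservesFilteredColimitsOfSize.{u, u + 1} (forget AddCommGrpCat.{u + 1}) :=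
  preservesFilteredColimitsOfSize_shrink.{u + 1, u + 1, u, u + 1} _

section Lan

variable {X Y : Scheme.{u}} (f : X ⟶ Y) (F : Y.ProEtᵒᵖ ⥤ AddCommGrpCat.{u + 1})

/-- the left Kan extension presheaf -/
noncomputable abbrev P : X.ProEtᵒᵖ ⥤ AddCommGrpCat.{u + 1} := (ProEtS.bcP f).op.lan.obj F

/-- the unit -/
noncomputable abbrev unit : F ⟶ (ProEtS.bcP f).op ⋙ P f F :=
  (ProEtS.bcP f).op.leftKanExtensionUnit F

/-- the colimit property -/
noncomputable def isColimit (W : X.ProEt) :
    IsColimit ((Functor.LeftExtension.mk _ (unit f F)).coconeAt (op W)) :=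
  (ProEtS.bcP f).op.isPointwiseLeftKanExtensionLeftKanExtensionUnit F (op W)

/-- the element of the Kan extension represented by a triple -/
noncomputable def elt {W : X.ProEt} (V : Y.ProEt) (a : W ⟶ (ProEtS.bcP f).obj V)
    (s : F.obj (op V)) : (P f F).obj (op W) :=
  (P f F).map a.op ((unit f F).app (op V) s)

theorem exists_elt {W : X.ProEt} (x : (P f F).obj (op W)) :
    ∃ (V : Y.ProEt) (a : W ⟶ (ProEtS.bcP f).obj V) (s : F.obj (op V)), elt f F V a s = x := by
  obtain ⟨g, s, hs⟩ := Concrete.isColimit_exists_rep _ (isColimit f F W) x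
  exact ⟨g.left.unop, g.hom.unop, s, hs⟩

theorem elt_zero {W : X.ProEt} (V : Y.ProEt) (a : W ⟶ (ProEtS.bcP f).obj V) :
    elt f F V a 0 = 0 := by
  unfold elt
  rw [map_zero, map_zero]

theorem map_elt {W W' : X.ProEt} (k : W' ⟶ W) (V : Y.ProEt) (a : W ⟶ (ProEtS.bcP f).obj V)
    (s : F.obj (op V)) : (P f F).map k.op (elt f F V a s) = elt f F V (k ≫ a) s := by
  unfold elt
  rw [op_comp, Functor.map_comp]
  rfl

theorem elt_comp {W : X.ProEt} {V V' : Y.ProEt} (h : V' ⟶ V)
    (b : W ⟶ (ProEtS.bcP f).obj V') (s : F.obj (op V)) :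
    elt f F V (b ≫ (ProEtS.bcP f).map h) s = elt f F V' b (F.map h.op s) := by
  unfold elt
  have hnat := ConcreteCategory.congr_hom ((unit f F).naturality h.op) s
  rw [op_comp, Functor.map_comp]
  exact congrArg ((P f F).map b.op) hnat.symm

theorem exists_of_elt_eq {W : X.ProEt} {V V' : Y.ProEt} (a : W ⟶ (ProEtS.bcP f).obj V)
    (a' : W ⟶ (ProEtS.bcP f).obj V') (s : F.obj (op V)) (s' : F.obj (op V'))
    (h : elt f F V a s = elt f F V' a' s') :
    ∃ (V'' : Y.ProEt) (h : V'' ⟶ V) (h' : V'' ⟶ V') (b : W ⟶ (ProEtS.bcP f).obj V''),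
      b ≫ (ProEtS.bcP f).map h = a ∧ b ≫ (ProEtS.bcP f).map h' = a' ∧
        F.map h.op s = F.map h'.op s' := by
  let i : CostructuredArrow (ProEtS.bcP f).op (op W) := CostructuredArrow.mk (Y := op V) a.op
  let j : CostructuredArrow (ProEtS.bcP f).op (op W) := CostructuredArrow.mk (Y := op V') a'.op
  have h' : ((Functor.LeftExtension.mk _ (unit f F)).coconeAt (op W)).ι.app i s =
      ((Functor.LeftExtension.mk _ (unit f F)).coconeAt (op W)).ι.app j s' := h
  obtain ⟨k, φ, φ', hk⟩ := Concrete.isColimit_exists_of_rep_eq _ (isColimit f F W) _ _ h'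
  refine ⟨k.left.unop, φ.left.unop, φ'.left.unop, k.hom.unop, ?_, ?_, hk⟩
  · have := CostructuredArrow.w φ
    exact congrArg Quiver.Hom.unop this
  · have := CostructuredArrow.w φ'
    exact congrArg Quiver.Hom.unop this

theorem exists_of_elt_eq_zero {W : X.ProEt} {V : Y.ProEt} (a : W ⟶ (ProEtS.bcP f).obj V)
    (s : F.obj (op V)) (h : elt f F V a s = 0) :
    ∃ (V'' : Y.ProEt) (h : V'' ⟶ V) (b : W ⟶ (ProEtS.bcP f).obj V''),
      b ≫ (ProEtS.bcP f).map h = a ∧ F.map h.op s = 0 := by
  obtain ⟨V'', h1, h2, b, hb1, -, hs⟩ :=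
    exists_of_elt_eq f F a a s 0 (h.trans (elt_zero f F V a).symm)
  exact ⟨V'', h1, b, hb1, hs.trans (map_zero _)⟩

end Lan

section Unit

variable {X Y : Scheme.{u}} (f : X ⟶ Y) [ProEtS.PCont f] (F : ProEtS.AbP Y)

/-- the sieve of morphisms along which a section restricts to zero -/
def zeroSieve (T : Y.ProEt) (t : F.obj.obj (op T)) : Sieve T where
  arrows := fun _ u => F.obj.map u.op t = 0
  downward_closed := by
    intro T' T'' u hu v
    show F.obj.map (v ≫ u).op t = 0
    rw [op_comp, Functor.map_comp]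
    show F.obj.map v.op (F.obj.map u.op t) = 0
    rw [hu, map_zero]

/-- the comparison of `f⁻¹ F` with the sheafified Kan extension -/
noncomputable def cmp : (ProEtS.pullP f).obj F ≅
    (presheafToSheaf (Scheme.ProEt.topology X) AddCommGrpCat.{u + 1}).obj (P f F.obj) :=
  (Functor.sheafPullbackConstruction.sheafPullbackIso (ProEtS.bcP f) AddCommGrpCat.{u + 1}
    (Scheme.ProEt.topology Y) (Scheme.ProEt.topology X)).app F

theorem cmp_unit (T : Y.ProEt) (t : F.obj.obj (op T)) :
    (cmp f F).hom.hom.app (op ((ProEtS.bcP f).obj T))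
      (((ProEtS.pullPushAdjP f).unit.app F).hom.app (op T) t) =
    (toSheafify (Scheme.ProEt.topology X) (P f F.obj)).app (op ((ProEtS.bcP f).obj T))
      ((unit f F.obj).app (op T) t) := by
  have h := unit_app' (ProEtS.bcP f) AddCommGrpCat.{u + 1}
    (Scheme.ProEt.topology Y) (Scheme.ProEt.topology X) F
  have h2 := congrArg (fun φ => φ.app (op T)) h
  exact ConcreteCategory.congr_hom h2 t

/-- **Local injectivity of the unit.** If the unit `F ⟶ f_* f⁻¹ F` kills a section `t` over
`T`, then the base changes of the morphisms along which `t` restricts to zero cover the base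
change of `T`. -/
theorem functorPushforward_zeroSieve_mem (T : Y.ProEt) (t : F.obj.obj (op T))
    (h : ((ProEtS.pullPushAdjP f).unit.app F).hom.app (op T) t = 0) :
    (zeroSieve F T t).functorPushforward (ProEtS.bcP f) ∈
      Scheme.ProEt.topology X ((ProEtS.bcP f).obj T) := by
  have h1 := cmp_unit f F T t
  have h2 : (cmp f F).hom.hom.app (op ((ProEtS.bcP f).obj T))
      (((ProEtS.pullPushAdjP f).unit.app F).hom.app (op T) t) = 0 :=
    (congrArg (fun z => (cmp f F).hom.hom.app (op ((ProEtS.bcP f).obj T)) z) h).trans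
      (map_zero _)
  have hmem := Presheaf.equalizerSieve_mem (Scheme.ProEt.topology X)
    (toSheafify (Scheme.ProEt.topology X) (P f F.obj))
    (X := op ((ProEtS.bcP f).obj T)) ((unit f F.obj).app (op T) t) 0
    ((h1.symm.trans h2).trans (map_zero _).symm)
  refine (Scheme.ProEt.topology X).superset_covering ?_ hmem
  intro V a ha
  have ha' : elt f F.obj T a t = 0 := by
    have : (P f F.obj).map a.op ((unit f F.obj).app (op T) t) = (P f F.obj).map a.op 0 := ha
    exact this.trans (map_zero _)
  obtain ⟨T'', h, b, hb, hz⟩ := exists_of_elt_eq_zero f F.obj a t ha'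
  exact ⟨T'', h, b, hz, hb.symm⟩

end Unit

end Groth.Agent.H27.ProEtPullUnit
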