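import Groth.Agent.H27.ProEtFinCover
import Groth.Agent.H27.ProEtFinAff
import Groth.Agent.H27.ProEtCov
import Groth.Prelude.Def_ProEtS

/-!
# Sieves on objects local along a closed subscheme

If every point of an affine object `V` of `X_proet` specializes to a point over the closed
subscheme `Z`, then a sieve on `V` whose base change to `Z` is covering is itself covering.
-/

set_option autoImplicit false
set_option linter.style.haveILetI false
open CategoryTheory CategoryTheory.Limits AlgebraicGeometry Opposite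
universe u

namespace Groth.Agent.H27.ProEtZLocal

variable {Z X : Scheme.{u}} (i : Z ⟶ X) [IsClosedImmersion i]

instance isAffine_bcP (V : X.ProEt) [IsAffine V.left] : IsAffine ((ProEtS.bcP i).obj V).left := by
  show IsAffine (pullback V.hom i)
  haveI : IsAffine ((𝟭 Scheme).obj V.left) := inferInstanceAs (IsAffine V.left)
  exact isAffine_of_isAffineHom (pullback.fst V.hom i)

set_option backward.isDefEq.respectTransparency.types false in
theorem mem_of_functorPushforward_mem (V : X.ProEt) [IsAffine V.left]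
    (hV : ∀ v : ↥V.left, ∃ z : ↥V.left, V.hom.base z ∈ Set.range i.base ∧ v ⤳ z)
    (S : Sieve V)
    (hS : S.functorPushforward (ProEtS.bcP i) ∈
      Scheme.ProEt.topology Z ((ProEtS.bcP i).obj V)) :
    S ∈ Scheme.ProEt.topology X V := by
  haveI : CompactSpace ↥((ProEtS.bcP i).obj V).left := inferInstance
  obtain ⟨P, hP, hle⟩ := (ProEtCov.mem_topology_iff _ _).mp hS
  obtain ⟨n, Vk, g, W, hPg, hwe, hW, hcov⟩ := ProEtFinAff.main hP
  have hg : ∀ k, ∃ (T : X.ProEt) (u : T ⟶ V) (a : Vk k ⟶ (ProEtS.bcP i).obj T),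
      S u ∧ g k = a ≫ (ProEtS.bcP i).map u := fun k => hle _ _ (hPg k)
  choose T u a hu hga using hg
  let φ : ∀ k, (Vk k).left ⟶ (T k).left := fun k => (a k).left ≫ pullback.fst (T k).hom i
  have hfin : ∀ k, ∃ s : Finset (T k).left.affineOpens,
      (W k : Set (Vk k).left) ⊆ ⋃ O ∈ s, (((φ k) ⁻¹ᵁ O.1 : (Vk k).left.Opens) : Set (Vk k).left) := by
    intro k
    refine (hW k).isCompact.elim_finite_subcover
      (fun O : (T k).left.affineOpens => (((φ k) ⁻¹ᵁ O.1 : (Vk k).left.Opens) : Set (Vk k).left))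
      (fun O => ((φ k) ⁻¹ᵁ O.1).2) ?_
    intro w _
    obtain ⟨O, hO, hwO, -⟩ := TopologicalSpace.Opens.isBasis_iff_nbhd.mp
      (T k).left.isBasis_affineOpens (U := ⊤) (x := (φ k).base w) trivial
    exact Set.mem_iUnion.mpr ⟨⟨O, hO⟩, hwO⟩
  choose s hs using hfin
  let T' : (Σ k : Fin n, {O // O ∈ s k}) → X.ProEt :=
    fun p => Scheme.ProEt.mk (p.2.1.1.ι ≫ (T p.1).hom)
  let t' : ∀ p, T' p ⟶ V := fun p =>
    (MorphismProperty.Over.homMk p.2.1.1.ι : T' p ⟶ T p.1) ≫ u p.1
  have hmem : ∀ p, S (t' p) := fun p => S.downward_closed (hu p.1) _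
  haveI : ∀ p, IsAffine (T' p).left := fun p => p.2.1.2
  haveI : ∀ p, QuasiCompact (t' p).left := fun p => inferInstance
  have hcovK : Sieve.generate (Presieve.ofArrows T' t') ∈ Scheme.ProEt.topology X V := by
    apply ProEtFinCover.generate_ofArrows_mem
    intro v
    obtain ⟨z, hz, hvz⟩ := hV v
    obtain ⟨z', hz'⟩ : ∃ z' : ↥(pullback V.hom i), (pullback.fst V.hom i).base z' = z := by
      obtain ⟨y, hy⟩ := hz
      obtain ⟨z', h1, -⟩ := Scheme.Pullback.exists_preimage_pullback z y hy.symm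
      exact ⟨z', h1⟩
    obtain ⟨k, w, hw, hwz⟩ := hcov z'
    have hwφ := hs k hw
    obtain ⟨O, hwO⟩ := Set.mem_iUnion.mp hwφ
    obtain ⟨hO, hwO⟩ := Set.mem_iUnion.mp hwO
    refine ⟨⟨k, ⟨O, hO⟩⟩, ?_⟩
    have e1 : (g k).left ≫ pullback.fst V.hom i = φ k ≫ (u k).left := by
      rw [hga k]
      show ((a k).left ≫ ((ProEtS.bcP i).map (u k)).left) ≫ pullback.fst V.hom i =
        ((a k).left ≫ pullback.fst (T k).hom i) ≫ (u k).left
      rw [Category.assoc, Category.assoc]
      congr 1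
      exact pullback.lift_fst _ _ _
    have e2 : (u k).left.base ((φ k).base w) = z := by
      have h3 : (pullback.fst V.hom i).base ((g k).left.base w) =
          (u k).left.base ((φ k).base w) := congrArg (fun ψ => ψ.base w) e1
      have h4 : (pullback.fst V.hom i).base ((g k).left.base w) = z :=
        (congrArg (fun y => (pullback.fst V.hom i).base y) hwz).trans hz'
      exact h3.symm.trans h4
    have hyz : (t' ⟨k, ⟨O, hO⟩⟩).left.base ⟨(φ k).base w, hwO⟩ = z := e2
    haveI : WeaklyEtale (t' ⟨k, ⟨O, hO⟩⟩).left := by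
      haveI : WeaklyEtale ((t' ⟨k, ⟨O, hO⟩⟩).left ≫ V.hom) := by
        rw [MorphismProperty.Over.w (t' ⟨k, ⟨O, hO⟩⟩)]; infer_instance
      exact WeaklyEtale.of_comp (t' ⟨k, ⟨O, hO⟩⟩).left V.hom
    have hgen : GeneralizingMap (t' ⟨k, ⟨O, hO⟩⟩).left.base :=
      Flat.generalizingMap (t' ⟨k, ⟨O, hO⟩⟩).left
    have hvz' : v ⤳ (t' ⟨k, ⟨O, hO⟩⟩).left.base ⟨(φ k).base w, hwO⟩ := by
      rw [hyz]; exact hvz
    obtain ⟨w', -, hw'⟩ := hgen hvz'
    exact ⟨w', hw'⟩
  refine (Scheme.ProEt.topology X).superset_covering ?_ hcovK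
  rintro Y f ⟨Y', h, g', ⟨p⟩, rfl⟩
  exact S.downward_closed (hmem p) h

end Groth.Agent.H27.ProEtZLocal
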