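import Groth.Agent.H27.ProEtExtZeroLim
import Groth.Agent.H27.ProEtPullUnit
import Groth.Agent.H27.ProEtZLocal
import Groth.Agent.H27.ClosedDense

/-!
# Recollement for a closed immersion and its open complement on the pro-étale site
-/

set_option autoImplicit false
set_option linter.style.haveILetI false
set_option linter.unusedSectionVars false
open CategoryTheory CategoryTheory.Limits AlgebraicGeometry Opposite
universe u

namespace Groth.Agent.H27.ProEtRecoll

section Zero

variable {X : Scheme.{u}}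

/-- a sheaf all of whose groups of sections are trivial is a zero object -/
theorem isZero_of_subsingleton (G : ProEtS.AbP X)
    (h : ∀ V : X.ProEt, Subsingleton (G.obj.obj (op V))) : IsZero G := by
  rw [IsZero.iff_id_eq_zero]
  apply Sheaf.hom_ext
  apply NatTrans.ext
  funext V
  haveI := h V.unop
  apply ConcreteCategory.hom_ext
  intro x
  exact Subsingleton.elim _ _

/-- sections of a zero sheaf are trivial -/
theorem subsingleton_of_isZero (G : ProEtS.AbP X) (h : IsZero G) (V : X.ProEt) :
    Subsingleton (G.obj.obj (op V)) := by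
  have h0 : 𝟙 G = 0 := (IsZero.iff_id_eq_zero G).mp h
  refine ⟨fun a b => ?_⟩
  have h1 : ∀ x : G.obj.obj (op V), x = 0 := by
    intro x
    have := congrArg (fun φ : G ⟶ G => φ.hom.app (op V) x) h0
    exact this
  rw [h1 a, h1 b]

/-- a sheaf whose groups of sections over affine w-contractible objects are trivial is a zero
object -/
theorem isZero_of_subsingleton_wc (G : ProEtS.AbP X)
    (h : ∀ W : X.ProEt, IsAffine W.left → EtPBC.IsWContractible ↥Γ(W.left, ⊤) →
      Subsingleton (G.obj.obj (op W))) : IsZero G := by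
  haveI : IsIso (0 : G ⟶ G) := by
    apply ProEtIsoWC.isIso_of_isIso_app
    intro W hW1 hW2
    haveI := h W hW1 hW2
    rw [ConcreteCategory.isIso_iff_bijective]
    constructor
    · intro a b _
      exact Subsingleton.elim _ _
    · intro b
      exact ⟨b, Subsingleton.elim _ _⟩
  rw [IsZero.iff_id_eq_zero]
  have : (0 : G ⟶ G) ≫ inv (0 : G ⟶ G) = 𝟙 G := IsIso.hom_inv_id _
  rw [← this, zero_comp]

end Zero

variable {X Z U : Scheme.{u}} (i : Z ⟶ X) [IsClosedImmersion i]

/-- the unit `F ⟶ i_* i⁻¹ F` is injective on sections over affine objects all of whose points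
specialize into `Z` -/
theorem injective_unit [ProEtS.PCont i] (F : ProEtS.AbP X) (V : X.ProEt) [IsAffine V.left]
    (hV : ∀ v : ↥V.left, ∃ z : ↥V.left, V.hom.base z ∈ Set.range i.base ∧ v ⤳ z) :
    Function.Injective (((ProEtS.pullPushAdjP i).unit.app F).hom.app (op V)) := by
  rw [injective_iff_map_eq_zero (((ProEtS.pullPushAdjP i).unit.app F).hom.app (op V)).hom]
  intro t ht
  have h1 := ProEtPullUnit.functorPushforward_zeroSieve_mem i F V t ht
  have hcov := ProEtZLocal.mem_of_functorPushforward_mem i V hV _ h1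
  have hsep : Presieve.IsSheaf (Scheme.ProEt.topology X) (F.obj ⋙ forget AddCommGrpCat) :=
    (isSheaf_iff_isSheaf_of_type _ _).1
      ((Presheaf.isSheaf_iff_isSheaf_forget _ _ (forget AddCommGrpCat)).1 F.2)
  refine (hsep _ hcov).isSeparatedFor.ext ?_
  intro Y f hf
  show F.obj.map f.op t = F.obj.map f.op 0
  have hf' : F.obj.map f.op t = 0 := hf
  rw [hf', map_zero]

variable (j : U ⟶ X) [IsOpenImmersion j]

theorem isEmpty_bcP_compP (hc : Disjoint (Set.range j.base) (Set.range i.base)) (V : U.ProEt) :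
    IsEmpty ((ProEtS.bcP i).obj ((ProEtS.compP j).obj V)).left := by
  refine ⟨fun p => ?_⟩
  have hp : (V.hom ≫ j).base ((pullback.fst (V.hom ≫ j) i).base p) =
      i.base ((pullback.snd (V.hom ≫ j) i).base p) :=
    congrArg (fun ψ => ψ.base p) (pullback.condition (f := V.hom ≫ j) (g := i))
  refine Set.disjoint_iff.mp hc ⟨⟨V.hom.base ((pullback.fst (V.hom ≫ j) i).base p), ?_⟩,
    ⟨(pullback.snd (V.hom ≫ j) i).base p, rfl⟩⟩
  exact hp

/-- `j⁻¹ i_* = 0` -/
theorem isZero_restr_push [ProEtS.JPCont j] [ProEtS.PCont i]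
    (hc : Disjoint (Set.range j.base) (Set.range i.base)) (H : ProEtS.AbP Z) :
    IsZero ((ProEtS.restrP j).obj ((ProEtS.pushP i).obj H)) := by
  apply isZero_of_subsingleton
  intro V
  haveI := isEmpty_bcP_compP i j hc V
  exact ProEtSheafGlue.subsingleton_of_isEmpty
    ((sheafCompose (Scheme.ProEt.topology Z) (forget AddCommGrpCat.{u + 1})).obj H)
    ((ProEtS.bcP i).obj ((ProEtS.compP j).obj V))

/-- `i⁻¹ j_! = 0` -/
theorem isZero_pull_extZero [ProEtS.JPCont j] [ProEtS.PCont i]
    (hc : Disjoint (Set.range j.base) (Set.range i.base)) (G : ProEtS.AbP U) :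
    IsZero ((ProEtS.pullP i).obj ((ProEtS.extZeroP j).obj G)) := by
  rw [IsZero.iff_id_eq_zero]
  apply ((ProEtS.pullPushAdjP i).homEquiv _ _).injective
  apply ((ProEtS.extZeroPAdj j).homEquiv _ _).injective
  exact (isZero_restr_push i j hc _).eq_of_tgt _ _

section Conservative

variable [QuasiCompact j] [ProEtS.JPCont j] [ProEtS.PCont i]
  (hc : Set.range j.base = (Set.range i.base)ᶜ)

include hc in
theorem disjoint_range : Disjoint (Set.range j.base) (Set.range i.base) := by
  rw [hc]
  exact disjoint_compl_left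

include hc in
/-- the complementary clopen piece is local along `Z` -/
theorem zlocal_Wc (W : X.ProEt) (T : W.left.Opens) (hT : IsClopen (T : Set W.left))
    (hspec : ∀ x : W.left, x ∉ T → ∃ z : W.left, z ∉ W.hom ⁻¹ᵁ j.opensRange ∧ x ⤳ z)
    (v : ↥(ProEtExtZeroLim.Wc W T hT).left) :
    ∃ z : ↥(ProEtExtZeroLim.Wc W T hT).left,
      (ProEtExtZeroLim.Wc W T hT).hom.base z ∈ Set.range i.base ∧ v ⤳ z := by
  have hv : (ProEtExtZeroLim.Tc W T hT).ι.base v ∉ T := v.2
  obtain ⟨z, hz1, hz2⟩ := hspec _ hv
  have hzT : z ∉ T := fun h => hv (hz2.mem_open T.2 h)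
  refine ⟨⟨z, hzT⟩, ?_, ?_⟩
  · have hz3 : W.hom.base z ∉ Set.range j.base := hz1
    rw [hc] at hz3
    exact Set.notMem_compl_iff.mp hz3
  · exact (ProEtExtZeroLim.Tc W T hT).ι.isOpenEmbedding.isInducing.specializes_iff.mp hz2

include hc in
/-- a sheaf which vanishes after restriction to `U` and after pullback to `Z` vanishes -/
theorem isZero_of_pull_restr (G : ProEtS.AbP X) (h1 : IsZero ((ProEtS.pullP i).obj G))
    (h2 : IsZero ((ProEtS.restrP j).obj G)) : IsZero G := by
  apply isZero_of_subsingleton_wc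
  intro W hW1 hW2
  haveI := hW1
  obtain ⟨T, hT, hTO, hspec⟩ := WLocalScheme.exists_clopen W.left hW2
    (W.hom ⁻¹ᵁ j.opensRange) (ProEtExtZeroLim.isCompact_preimage j W)
  haveI : IsAffine (ProEtExtZeroLim.Wc W T hT).left :=
    (ProEtClopenPiece.main hW2 (ProEtExtZeroLim.Tc W T hT)
      (ProEtExtZeroLim.isClopen_Tc W T hT)).1
  have hGc : Subsingleton (G.obj.obj (op (ProEtExtZeroLim.Wc W T hT))) := by
    have hinj := injective_unit i G (ProEtExtZeroLim.Wc W T hT)
      (zlocal_Wc i j hc W T hT hspec)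
    have hsub : Subsingleton (((ProEtS.pullP i).obj G).obj.obj
        (op ((ProEtS.bcP i).obj (ProEtExtZeroLim.Wc W T hT)))) :=
      subsingleton_of_isZero _ h1 _
    exact @Function.Injective.subsingleton _ _ _ hinj hsub
  have hbij := ProEtExtZeroLim.bijective_res j W T hT hTO G hGc
  have hsub : Subsingleton (((ProEtS.restrP j).obj G).obj.obj
      (op (ProEtExtZeroLim.V0 j W T hTO))) := subsingleton_of_isZero _ h2 _
  exact @Function.Injective.subsingleton _ _ _ hbij.injective hsub

end Conservative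

end Groth.Agent.H27.ProEtRecoll
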