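import Groth.Agent.H27.CoverDensePair
import Groth.Agent.H27.ClosedDense
import Groth.Agent.H27.ProEtRecoll
import Groth.Agent.H27.ProEtWCrit
import Groth.Agent.H27.ProEtSheafGlue

/-!
# The unit `F ⟶ i_* i⁻¹ F` of a closed immersion on w-contractible objects local along `Z`

For a closed immersion `i : Z ⟶ X` and an affine object `W` of `X_proet` with w-contractible ring
of functions all of whose points specialize into `Z`, the unit `F(W) ⟶ (i⁻¹F)(W ×_X Z)` is
bijective for every abelian sheaf `F`.
-/

set_option autoImplicit false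
set_option linter.style.haveILetI false
set_option linter.unusedSectionVars false
open CategoryTheory CategoryTheory.Limits AlgebraicGeometry Opposite
universe u

namespace Groth.Agent.H27.ProEtClosedUnit

open Groth.Agent.H27.ProEtPullUnit

variable {X Z : Scheme.{u}} (i : Z ⟶ X) [ProEtS.PCont i] (F : ProEtS.AbP X)

/-- naturality of the unit on sections -/
theorem unit_naturality {T T' : X.ProEt} (m : T' ⟶ T) (t : F.obj.obj (op T)) :
    ((ProEtS.pullPushAdjP i).unit.app F).hom.app (op T') (F.obj.map m.op t) =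
      ((ProEtS.pullP i).obj F).obj.map ((ProEtS.bcP i).map m).op
        (((ProEtS.pullPushAdjP i).unit.app F).hom.app (op T) t) :=
  ConcreteCategory.congr_hom (((ProEtS.pullPushAdjP i).unit.app F).hom.naturality m.op) t

/-- the sieve of morphisms `T ⟶ W` over whose base change `s` comes from a section of `F` -/
def liftSieve (W : X.ProEt)
    (s : ((ProEtS.pullP i).obj F).obj.obj (op ((ProEtS.bcP i).obj W))) : Sieve W where
  arrows T g := ∃ t : F.obj.obj (op T),
    ((ProEtS.pullPushAdjP i).unit.app F).hom.app (op T) t =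
      ((ProEtS.pullP i).obj F).obj.map ((ProEtS.bcP i).map g).op s
  downward_closed := by
    rintro T T' g ⟨t, ht⟩ m
    refine ⟨F.obj.map m.op t, ?_⟩
    rw [unit_naturality, ht, Functor.map_comp, op_comp, Functor.map_comp]
    rfl

variable [IsClosedImmersion i]

set_option backward.isDefEq.respectTransparency.types false in
/-- the base change of the lifting sieve is covering -/
theorem functorPushforward_liftSieve_mem (W : X.ProEt)
    (s : ((ProEtS.pullP i).obj F).obj.obj (op ((ProEtS.bcP i).obj W))) :
    (liftSieve i F W s).functorPushforward (ProEtS.bcP i) ∈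
      Scheme.ProEt.topology Z ((ProEtS.bcP i).obj W) := by
  haveI := ClosedDense.isCoverDense i
  haveI := ClosedDense.isLocallyFull i
  set s' := (cmp i F).hom.hom.app (op ((ProEtS.bcP i).obj W)) s with hs'
  have hR := Presheaf.imageSieve_mem (Scheme.ProEt.topology Z)
    (toSheafify (Scheme.ProEt.topology Z) (P i F.obj)) s'
  apply (Scheme.ProEt.topology Z).transitive hR
  rintro V' h ⟨p, hp⟩
  obtain ⟨U, a, t, rfl⟩ := exists_elt i F.obj p
  refine (Scheme.ProEt.topology Z).superset_covering ?_
    (CoverDensePair.pairSieve_mem (ProEtS.bcP i) (Scheme.ProEt.topology Z) h a)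
  rintro Y k ⟨T, l, k', g, u, rfl, hg, hu⟩
  refine ⟨T, g, l, ⟨F.obj.map u.op t, ?_⟩, by rw [Category.assoc, ← hg]⟩
  -- compare after applying the comparison isomorphism
  have hinj : Function.Injective ((cmp i F).hom.hom.app (op ((ProEtS.bcP i).obj T))) := by
    have : IsIso ((cmp i F).hom.hom.app (op ((ProEtS.bcP i).obj T))) := inferInstance
    exact ((ConcreteCategory.isIso_iff_bijective _).mp this).1
  apply hinj
  rw [cmp_unit]
  have h1 : (unit i F.obj).app (op T) (F.obj.map u.op t) =
      elt i F.obj U ((ProEtS.bcP i).map u) t := by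
    have := elt_comp i F.obj u (𝟙 ((ProEtS.bcP i).obj T)) t
    rw [Category.id_comp] at this
    rw [this]
    unfold elt
    rw [op_id, CategoryTheory.Functor.map_id]
    rfl
  rw [h1, hu, ← map_elt]
  have hnat := ConcreteCategory.congr_hom
    ((toSheafify (Scheme.ProEt.topology Z) (P i F.obj)).naturality k'.op) (elt i F.obj U a t)
  refine hnat.trans ?_
  have hnat2 := ConcreteCategory.congr_hom ((cmp i F).hom.hom.naturality
    ((ProEtS.bcP i).map g).op) s
  refine Eq.trans ?_ hnat2.symm
  show _ = ((presheafToSheaf (Scheme.ProEt.topology Z) AddCommGrpCat.{u + 1}).obj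
    (P i F.obj)).obj.map ((ProEtS.bcP i).map g).op s'
  rw [hg, op_comp, Functor.map_comp]
  exact congrArg _ hp

set_option backward.isDefEq.respectTransparency.types false in
/-- the unit is surjective on sections over affine w-contractible objects all of whose points
specialize into `Z` -/
theorem surjective_unit (W : X.ProEt) [IsAffine W.left]
    (hwc : EtPBC.IsWContractible ↥Γ(W.left, ⊤))
    (hW : ∀ v : ↥W.left, ∃ z : ↥W.left, W.hom.base z ∈ Set.range i.base ∧ v ⤳ z) :
    Function.Surjective (((ProEtS.pullPushAdjP i).unit.app F).hom.app (op W)) := by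
  intro s
  have h1 := functorPushforward_liftSieve_mem i F W s
  have h2 := ProEtZLocal.mem_of_functorPushforward_mem i W hW _ h1
  obtain ⟨n, O, -, hdisj, hcov, hR⟩ := ProEtWCrit.forward W hwc _ h2
  choose t ht using hR
  let F' := (sheafCompose (Scheme.ProEt.topology X) (forget AddCommGrpCat.{u + 1})).obj F
  obtain ⟨x, hx, -⟩ := ProEtSheafGlue.existsUnique_glue W O hdisj hcov F' t
  refine ⟨x, ?_⟩
  let G' := (sheafCompose (Scheme.ProEt.topology Z) (forget AddCommGrpCat.{u + 1})).obj
    ((ProEtS.pullP i).obj F)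
  have hcovW := ProEtSheafGlue.generate_ofArrows_mem W O hcov
  have hcovZ := (Groth.Agent.H4.ProEtCont.coverPreserving_bcP i).cover_preserve hcovW
  have hsep : Presieve.IsSheaf (Scheme.ProEt.topology Z) G'.obj :=
    (isSheaf_iff_isSheaf_of_type _ _).1 G'.2
  refine (hsep _ hcovZ).isSeparatedFor.ext ?_
  rintro Y f ⟨T, m, l, ⟨T0, m', j, ⟨k⟩, rfl⟩, rfl⟩
  have hk : ((ProEtS.pullP i).obj F).obj.map ((ProEtS.bcP i).map
      (MorphismProperty.Over.homMk (O k).ι : Scheme.ProEt.mk ((O k).ι ≫ W.hom) ⟶ W)).op
        (((ProEtS.pullPushAdjP i).unit.app F).hom.app (op W) x) =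
      ((ProEtS.pullP i).obj F).obj.map ((ProEtS.bcP i).map
      (MorphismProperty.Over.homMk (O k).ι : Scheme.ProEt.mk ((O k).ι ≫ W.hom) ⟶ W)).op s := by
    rw [← unit_naturality]
    have hxk : F.obj.map (MorphismProperty.Over.homMk (O k).ι :
        Scheme.ProEt.mk ((O k).ι ≫ W.hom) ⟶ W).op x = t k := hx k
    exact (congrArg _ hxk).trans (ht k)
  have e : ∀ y : ((ProEtS.pullP i).obj F).obj.obj (op ((ProEtS.bcP i).obj W)),
      ((ProEtS.pullP i).obj F).obj.map (l ≫ (ProEtS.bcP i).map (m' ≫
        (MorphismProperty.Over.homMk (O k).ι : Scheme.ProEt.mk ((O k).ι ≫ W.hom) ⟶ W))).op y =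
      ((ProEtS.pullP i).obj F).obj.map (l ≫ (ProEtS.bcP i).map m').op
        (((ProEtS.pullP i).obj F).obj.map ((ProEtS.bcP i).map
          (MorphismProperty.Over.homMk (O k).ι : Scheme.ProEt.mk ((O k).ι ≫ W.hom) ⟶ W)).op y) := by
    intro y
    rw [Functor.map_comp, ← Category.assoc, op_comp, Functor.map_comp]
    rfl
  exact (e _).trans ((congrArg _ hk).trans (e s).symm)

/-- the unit is bijective on sections over affine w-contractible objects all of whose points
specialize into `Z` -/
theorem bijective_unit (W : X.ProEt) [IsAffine W.left]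
    (hwc : EtPBC.IsWContractible ↥Γ(W.left, ⊤))
    (hW : ∀ v : ↥W.left, ∃ z : ↥W.left, W.hom.base z ∈ Set.range i.base ∧ v ⤳ z) :
    Function.Bijective (((ProEtS.pullPushAdjP i).unit.app F).hom.app (op W)) :=
  ⟨ProEtRecoll.injective_unit i F W hW, surjective_unit i F W hwc hW⟩

end Groth.Agent.H27.ProEtClosedUnit
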