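import Groth.Agent.H27.ProEtWCover
import Groth.Prelude.Def_ProEtS

/-!
# Isomorphisms of pro-étale sheaves can be checked on affine w-contractible objects
-/

set_option autoImplicit false
set_option linter.style.haveILetI false
universe u

open CategoryTheory CategoryTheory.Limits AlgebraicGeometry Opposite

namespace Groth.Agent.H27.ProEtIsoWC

/-- the property of being affine with w-contractible ring of functions -/
def wcProp (X : Scheme.{u}) : ObjectProperty X.ProEt :=
  fun W => IsAffine W.left ∧ EtPBC.IsWContractible ↥Γ(W.left, ⊤)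

theorem isCoverDense (X : Scheme.{u}) :
    (wcProp X).ι.IsCoverDense (Scheme.ProEt.topology X) := by
  constructor
  intro U
  obtain ⟨ι, V, g, hcov, hV⟩ := ProEtWCover.main U
  refine (Scheme.ProEt.topology X).superset_covering ?_ hcov
  rintro T f ⟨Y, h, g', ⟨i⟩, rfl⟩
  exact ⟨⟨⟨V i, hV i⟩, h, g i, rfl⟩⟩

/-- a morphism of pro-étale sheaves which is an isomorphism on sections over all affine
w-contractible objects is an isomorphism -/
theorem isIso_of_isIso_app {X : Scheme.{u}} {A : Type*} [Category A]
    {F G : Sheaf (Scheme.ProEt.topology X) A} (φ : F ⟶ G)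
    (h : ∀ W : X.ProEt, IsAffine W.left → EtPBC.IsWContractible ↥Γ(W.left, ⊤) →
      IsIso (φ.hom.app (op W))) : IsIso φ := by
  haveI := isCoverDense X
  apply Functor.IsCoverDense.iso_of_restrict_iso (G := (wcProp X).ι) φ
  haveI : ∀ W : ((wcProp X).FullSubcategory)ᵒᵖ,
      IsIso ((Functor.whiskerLeft (wcProp X).ι.op φ.hom).app W) := by
    intro W
    exact h W.unop.obj W.unop.property.1 W.unop.property.2
  exact NatIso.isIso_of_isIso_app _

/-- evaluation of sheaves at an object -/
noncomputable abbrev ev {X : Scheme.{u}} (A : Type*) [Category A] (W : X.ProEt) :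
    Sheaf (Scheme.ProEt.topology X) A ⥤ A :=
  sheafToPresheaf _ _ ⋙ (evaluation _ _).obj (op W)

/-- a functor to pro-étale sheaves preserves limits of a given shape if its composites with
the evaluations at all affine w-contractible objects do -/
theorem preservesLimitsOfShape_of_sections {X : Scheme.{u}} {A : Type*} [Category A]
    {𝒜 : Type*} [Category 𝒜] (J : Type*) [Category J] [HasLimitsOfShape J 𝒜]
    [HasLimitsOfShape J A] (Φ : 𝒜 ⥤ Sheaf (Scheme.ProEt.topology X) A)
    (h : ∀ W : X.ProEt, IsAffine W.left → EtPBC.IsWContractible ↥Γ(W.left, ⊤) →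
      PreservesLimitsOfShape J (Φ ⋙ ev A W)) :
    PreservesLimitsOfShape J Φ := by
  constructor
  intro D
  haveI : IsIso (limit.post D Φ) := by
    apply isIso_of_isIso_app
    intro W hW1 hW2
    haveI := h W hW1 hW2
    have e := limit.post_post D Φ (ev A W)
    haveI : IsIso ((ev A W).map (limit.post D Φ) ≫ limit.post (D ⋙ Φ) (ev A W)) := by
      rw [e]
      infer_instance
    exact IsIso.of_isIso_comp_right ((ev A W).map (limit.post D Φ))
      (limit.post (D ⋙ Φ) (ev A W))
  exact preservesLimit_of_isIso_post Φ D

end Groth.Agent.H27.ProEtIsoWC
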