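import Groth.Agent.H27.ProEtClosedBasis
import Groth.Agent.H27.ProEtClosedUnit
import Groth.Agent.H27.ProEtIsoWC

/-!
# `i⁻¹` preserves limits for a closed immersion `i` (pro-étale abelian sheaves)
-/

set_option autoImplicit false
set_option linter.style.haveILetI false
set_option linter.unusedSectionVars false
open CategoryTheory CategoryTheory.Limits AlgebraicGeometry Opposite
universe u

namespace Groth.Agent.H27.ProEtClosedLimits

open Groth.Agent.H27.ProEtClosedBasis Groth.Agent.H27.ProEtIsoWC

variable {X Z : Scheme.{u}} (i : Z ⟶ X) [IsClosedImmersion i]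

/-- the base changes of nice objects -/
def imgProp : ObjectProperty Z.ProEt := fun V =>
  ∃ W : X.ProEt, niceProp i W ∧ V = (ProEtS.bcP i).obj W

theorem isCoverDense_img : (imgProp i).ι.IsCoverDense (Scheme.ProEt.topology Z) := by
  haveI := ProEtClosedBasis.isCoverDense i
  constructor
  intro V
  refine (Scheme.ProEt.topology Z).superset_covering ?_
    (((niceProp i).ι ⋙ ProEtS.bcP i).is_cover_of_isCoverDense (Scheme.ProEt.topology Z) V)
  rintro Y f ⟨⟨W, lift, map, fac⟩⟩
  exact ⟨⟨⟨(ProEtS.bcP i).obj W.obj, W.obj, W.property, rfl⟩, lift, map, fac⟩⟩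

/-- a morphism of sheaves on `Z_proet` which is an isomorphism on sections over the base changes
of nice objects is an isomorphism -/
theorem isIso_of_isIso_app {A : Type*} [Category A]
    {F G : Sheaf (Scheme.ProEt.topology Z) A} (φ : F ⟶ G)
    (h : ∀ W : X.ProEt, niceProp i W → IsIso (φ.hom.app (op ((ProEtS.bcP i).obj W)))) :
    IsIso φ := by
  haveI := isCoverDense_img i
  apply Functor.IsCoverDense.iso_of_restrict_iso (G := (imgProp i).ι) φ
  haveI : ∀ V : ((imgProp i).FullSubcategory)ᵒᵖ,
      IsIso ((Functor.whiskerLeft (imgProp i).ι.op φ.hom).app V) := by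
    intro V
    obtain ⟨W, hW, hVW⟩ := V.unop.property
    have := h W hW
    show IsIso (φ.hom.app (op V.unop.obj))
    rw [hVW]
    exact this
  exact NatIso.isIso_of_isIso_app _

/-- a functor to sheaves on `Z_proet` preserves limits of a given shape if its composites with
the evaluations at the base changes of nice objects do -/
theorem preservesLimitsOfShape_of_sections {A : Type*} [Category A]
    {𝒜 : Type*} [Category 𝒜] (J : Type*) [Category J] [HasLimitsOfShape J 𝒜]
    [HasLimitsOfShape J A] (Φ : 𝒜 ⥤ Sheaf (Scheme.ProEt.topology Z) A)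
    (h : ∀ W : X.ProEt, niceProp i W →
      PreservesLimitsOfShape J (Φ ⋙ ev A ((ProEtS.bcP i).obj W))) :
    PreservesLimitsOfShape J Φ := by
  constructor
  intro D
  haveI : IsIso (limit.post D Φ) := by
    apply isIso_of_isIso_app i
    intro W hW
    haveI := h W hW
    have e := limit.post_post D Φ (ev A ((ProEtS.bcP i).obj W))
    haveI : IsIso ((ev A ((ProEtS.bcP i).obj W)).map (limit.post D Φ) ≫
        limit.post (D ⋙ Φ) (ev A ((ProEtS.bcP i).obj W))) := by
      rw [e]
      infer_instance
    exact IsIso.of_isIso_comp_right ((ev A ((ProEtS.bcP i).obj W)).map (limit.post D Φ))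
      (limit.post (D ⋙ Φ) (ev A ((ProEtS.bcP i).obj W)))
  exact preservesLimit_of_isIso_post Φ D

variable [ProEtS.PCont i]

/-- the unit as a natural transformation between section functors -/
noncomputable def unitNat (W : X.ProEt) :
    ev AddCommGrpCat.{u + 1} W ⟶
      ProEtS.pullP i ⋙ ev AddCommGrpCat.{u + 1} ((ProEtS.bcP i).obj W) where
  app F := ((ProEtS.pullPushAdjP i).unit.app F).hom.app (op W)
  naturality F F' f := by
    have h := (ProEtS.pullPushAdjP i).unit.naturality f
    have h2 := congrArg (fun φ => φ.hom.app (op W)) h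
    exact h2

theorem isIso_unitNat (W : X.ProEt) (hW : niceProp i W) : IsIso (unitNat i W) := by
  haveI : ∀ F, IsIso ((unitNat i W).app F) := by
    intro F
    haveI := hW.1
    have hb := ProEtClosedUnit.bijective_unit i F W hW.2.1 hW.2.2
    exact (ConcreteCategory.isIso_iff_bijective _).mpr hb
  exact NatIso.isIso_of_isIso_app _

/-- **`i⁻¹` commutes with limits** for a closed immersion `i`. -/
theorem main (J : Type u) [SmallCategory J] : PreservesLimitsOfShape J (ProEtS.pullP i) := by
  apply preservesLimitsOfShape_of_sections i J (ProEtS.pullP i)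
  intro W hW
  haveI := isIso_unitNat i W hW
  exact preservesLimitsOfShape_of_natIso (asIso (unitNat i W))

end Groth.Agent.H27.ProEtClosedLimits
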