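import Groth.Agent.H27.ProEtClosedUnitSet
import Groth.Agent.H27.ProEtClosedLimits
import Groth.Agent.H27.DenseColimit
import Mathlib.CategoryTheory.Adjunction.PartialAdjoint

/-!
# `i⁻¹` on pro-étale sheaves of sets has a left adjoint for a closed immersion `i`
-/

set_option autoImplicit false
set_option linter.style.haveILetI false
set_option linter.unusedSectionVars false
open CategoryTheory CategoryTheory.Limits AlgebraicGeometry Opposite
universe u

namespace Groth.Agent.H27.ProEtClosedAdj

open Groth.Agent.H27.ProEtClosedBasis Groth.Agent.H27.ProEtClosedUnitSet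
  Groth.Agent.H27.ProEtClosedLimits

variable {X Z : Scheme.{u}} (i : Z ⟶ X) [IsClosedImmersion i] [ProEtS.PCont i]

/-- the partial left adjoint of `i⁻¹` is defined at the representable sheaves of base changes of
nice objects -/
theorem leftAdjointObjIsDefined_yoneda (W : X.ProEt) (hW : niceProp i W) :
    (Ψ i).leftAdjointObjIsDefined
      ((GrothendieckTopology.uliftYoneda.{u + 1} (Scheme.ProEt.topology Z)).obj
        ((ProEtS.bcP i).obj W)) := by
  haveI := hW.1
  let e : ∀ B : Sheaf (Scheme.ProEt.topology X) (Type (u + 1)),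
      ((GrothendieckTopology.uliftYoneda.{u + 1} (Scheme.ProEt.topology X)).obj W ⟶ B) ≃
        ((GrothendieckTopology.uliftYoneda.{u + 1} (Scheme.ProEt.topology Z)).obj
          ((ProEtS.bcP i).obj W) ⟶ (Ψ i).obj B) := fun B =>
    (GrothendieckTopology.uliftYonedaEquiv.{u + 1} (Scheme.ProEt.topology X)).trans
      ((Equiv.ofBijective _ (bijective_unit i B W hW.2.1 hW.2.2)).trans
        (GrothendieckTopology.uliftYonedaEquiv.{u + 1} (Scheme.ProEt.topology Z)).symm)
  refine Functor.CorepresentableBy.isCorepresentable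
    (X := (GrothendieckTopology.uliftYoneda.{u + 1} (Scheme.ProEt.topology X)).obj W)
    ⟨fun {B} => e B, ?_⟩
  intro B B' g f
  apply (GrothendieckTopology.uliftYonedaEquiv.{u + 1} (Scheme.ProEt.topology Z)).injective
  show (GrothendieckTopology.uliftYonedaEquiv.{u + 1} (Scheme.ProEt.topology Z))
      ((GrothendieckTopology.uliftYonedaEquiv.{u + 1} (Scheme.ProEt.topology Z)).symm
        (((adj i).unit.app B').hom.app (op W)
          (GrothendieckTopology.uliftYonedaEquiv.{u + 1} (Scheme.ProEt.topology X) (f ≫ g)))) =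
    (GrothendieckTopology.uliftYonedaEquiv.{u + 1} (Scheme.ProEt.topology Z))
      ((GrothendieckTopology.uliftYonedaEquiv.{u + 1} (Scheme.ProEt.topology Z)).symm
        (((adj i).unit.app B).hom.app (op W)
          (GrothendieckTopology.uliftYonedaEquiv.{u + 1} (Scheme.ProEt.topology X) f)) ≫
        (Ψ i).map g)
  refine (Equiv.apply_symm_apply _ _).trans ?_
  have e1 : (GrothendieckTopology.uliftYonedaEquiv.{u + 1} (Scheme.ProEt.topology Z))
      ((GrothendieckTopology.uliftYonedaEquiv.{u + 1} (Scheme.ProEt.topology Z)).symm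
        (((adj i).unit.app B).hom.app (op W)
          (GrothendieckTopology.uliftYonedaEquiv.{u + 1} (Scheme.ProEt.topology X) f)) ≫
        (Ψ i).map g) =
      ((Ψ i).map g).hom.app _ ((GrothendieckTopology.uliftYonedaEquiv.{u + 1}
        (Scheme.ProEt.topology Z))
        ((GrothendieckTopology.uliftYonedaEquiv.{u + 1} (Scheme.ProEt.topology Z)).symm
        (((adj i).unit.app B).hom.app (op W)
          (GrothendieckTopology.uliftYonedaEquiv.{u + 1} (Scheme.ProEt.topology X) f)))) := rfl
  refine Eq.trans ?_ e1.symm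
  refine Eq.trans ?_ (congrArg _ (Equiv.apply_symm_apply _ _).symm)
  have hnat := (adj i).unit.naturality g
  have h2 := congrArg (fun φ => φ.hom.app (op W)) hnat
  exact ConcreteCategory.congr_hom h2
    (GrothendieckTopology.uliftYonedaEquiv.{u + 1} (Scheme.ProEt.topology X) f)

/-- **`i⁻¹` has a left adjoint** on pro-étale sheaves of sets, for a closed immersion `i`. -/
theorem main : (Ψ i).IsRightAdjoint := by
  apply Functor.isRightAdjoint_of_leftAdjointObjIsDefined_eq_top
  ext A
  simp only [Pi.top_apply, Prop.top_eq_true, iff_true]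
  haveI := isCoverDense_img i
  have hc := DenseColimit.isColimit.{u, u + 1} (Scheme.ProEt.topology Z) (imgProp i) A
  refine Functor.leftAdjointObjIsDefined_of_isColimit hc ?_
  intro j
  obtain ⟨W, hW, hVW⟩ := j.unop.1.unop.property
  show (Ψ i).leftAdjointObjIsDefined
    ((GrothendieckTopology.uliftYoneda.{u + 1} (Scheme.ProEt.topology Z)).obj j.unop.1.unop.obj)
  rw [hVW]
  exact leftAdjointObjIsDefined_yoneda i W hW

end Groth.Agent.H27.ProEtClosedAdj
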