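import Groth.Agent.H27.ProEtCov

/-!
# Finite families of quasi-compact morphisms which are jointly surjective are coverings
-/

set_option autoImplicit false
set_option linter.style.haveILetI false
open CategoryTheory CategoryTheory.Limits AlgebraicGeometry Opposite
universe u w

namespace Groth.Agent.H27.ProEtFinCover

set_option backward.isDefEq.respectTransparency.types false in
theorem generate_ofArrows_mem {X : Scheme.{u}} {V : X.ProEt} {ι : Type w} [Finite ι]
    (T : ι → X.ProEt) (t : ∀ k, T k ⟶ V) [∀ k, QuasiCompact (t k).left]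
    (hsurj : ∀ v : V.left, ∃ k, v ∈ Set.range (t k).left.base) :
    Sieve.generate (Presieve.ofArrows T t) ∈ Scheme.ProEt.topology X V := by
  have hwe : ∀ k, WeaklyEtale (t k).left := fun k => by
    haveI : WeaklyEtale ((t k).left ≫ V.hom) := by
      rw [MorphismProperty.Over.w (t k)]; infer_instance
    exact WeaklyEtale.of_comp (t k).left V.hom
  apply Precoverage.generate_mem_toGrothendieck
  show Presieve.map (Scheme.ProEt.forget X ⋙ Over.forget X) (Presieve.ofArrows _ _) ∈
    Scheme.proetalePrecoverage V.left
  rw [Presieve.map_ofArrows]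
  have hmem : Presieve.ofArrows (fun k => (T k).left) (fun k => (t k).left) ∈
      Scheme.precoverage @WeaklyEtale V.left :=
    (Scheme.ofArrows_mem_precoverage_iff _).mpr ⟨hsurj, hwe⟩
  let 𝒰 : V.left.Cover (Scheme.precoverage @WeaklyEtale) :=
    { I₀ := ι, X := fun k => (T k).left, f := fun k => (t k).left, mem₀ := hmem }
  haveI : Finite 𝒰.I₀ := ‹Finite ι›
  haveI : ∀ k, QuasiCompact (𝒰.f k) := fun k => inferInstanceAs (QuasiCompact (t k).left)
  haveI : QuasiCompactCover 𝒰.toPreZeroHypercover := QuasiCompactCover.of_finite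
  exact ⟨Scheme.presieve₀_mem_qcPrecoverage_iff.mpr ‹_›, hmem⟩

end Groth.Agent.H27.ProEtFinCover
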