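import Groth.Agent.H27.HullHens
import Groth.Agent.H27.WContrCover
import Groth.Agent.H27.ProEtWCover3
import Groth.Agent.H27.ProEtFinCover
import Groth.Agent.H27.ClosedDense
import Groth.Agent.H27.ProEtSheafGlue
import Groth.Agent.H4.ProEtCont

/-!
# A basis of `Z_proet` by base changes of w-contractible objects of `X_proet` local along `Z`
-/

set_option autoImplicit false
set_option linter.style.haveILetI false
set_option linter.unusedSectionVars false
open CategoryTheory CategoryTheory.Limits AlgebraicGeometry Opposite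
universe u

namespace Groth.Agent.H27.ProEtClosedBasis

open Groth.Agent.H27.IndEtHull

variable {X Z : Scheme.{u}} (i : Z ⟶ X) [IsClosedImmersion i]

/-- affine objects with w-contractible ring of functions all of whose points specialize into
`Z` -/
def niceProp : ObjectProperty X.ProEt := fun W =>
  IsAffine W.left ∧ EtPBC.IsWContractible ↥Γ(W.left, ⊤) ∧
    ∀ v : ↥W.left, ∃ z : ↥W.left, W.hom.base z ∈ Set.range i.base ∧ v ⤳ z

set_option backward.isDefEq.respectTransparency.types false in
set_option maxHeartbeats 800000 in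
/-- every affine object of `X_proet` receives a map from a nice object whose base change to `Z`
is a covering -/
theorem exists_nice_of_isAffine (T : X.ProEt) [IsAffine T.left] :
    ∃ (W : X.ProEt) (g : W ⟶ T), niceProp i W ∧
      Sieve.generate (Presieve.singleton ((ProEtS.bcP i).map g)) ∈
        Scheme.ProEt.topology Z ((ProEtS.bcP i).obj T) := by
  let j : pullback T.hom i ⟶ T.left := pullback.fst T.hom i
  haveI : IsClosedImmersion j := inferInstanceAs (IsClosedImmersion (pullback.fst T.hom i))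
  obtain ⟨hPaff, hsurj⟩ := IsClosedImmersion.isAffine_surjective_of_isAffine j
  haveI : IsAffine (pullback T.hom i) := hPaff
  obtain ⟨Cb, _, _, hff, hie, hwc⟩ := WContrCover.main ↥Γ(pullback T.hom i, ⊤)
  letI algBC : Algebra ↥Γ(T.left, ⊤) Cb :=
    ((algebraMap ↥Γ(pullback T.hom i, ⊤) Cb).comp j.appTop.hom).toAlgebra
  -- the hull
  let φ : Γ(T.left, ⊤) ⟶ CommRingCat.of (Hull ↥Γ(T.left, ⊤) Cb) :=
    CommRingCat.ofHom (algebraMap ↥Γ(T.left, ⊤) (Hull ↥Γ(T.left, ⊤) Cb))
  let πc : CommRingCat.of (Hull ↥Γ(T.left, ⊤) Cb) ⟶ CommRingCat.of Cb :=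
    CommRingCat.ofHom (π ↥Γ(T.left, ⊤) Cb).toRingHom
  let φb : Γ(pullback T.hom i, ⊤) ⟶ CommRingCat.of Cb :=
    CommRingCat.ofHom (algebraMap ↥Γ(pullback T.hom i, ⊤) Cb)
  have hφπ : φ ≫ πc = j.appTop ≫ φb := by
    ext b
    exact (π ↥Γ(T.left, ⊤) Cb).commutes b
  haveI : Algebra.WeaklyEtale ↥Γ(T.left, ⊤) (Hull ↥Γ(T.left, ⊤) Cb) :=
    Groth.Agent.S0736.result _ _ (isIndEtale ↥Γ(T.left, ⊤) Cb)
  haveI hweφ : WeaklyEtale (Spec.map φ) :=
    (Groth.Agent.H10.weaklyEtale_SpecMap_algebraMap_iff _ _).mpr inferInstance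
  let fW : Spec (CommRingCat.of (Hull ↥Γ(T.left, ⊤) Cb)) ⟶ T.left :=
    Spec.map φ ≫ T.left.isoSpec.inv
  haveI : WeaklyEtale fW := inferInstanceAs (WeaklyEtale (Spec.map φ ≫ T.left.isoSpec.inv))
  haveI : WeaklyEtale (fW ≫ T.hom) := inferInstance
  let W : X.ProEt := Scheme.ProEt.mk (fW ≫ T.hom)
  let g : W ⟶ T := MorphismProperty.Over.homMk fW
  refine ⟨W, g, ⟨inferInstanceAs (IsAffine (Spec _)), ?_, ?_⟩, ?_⟩
  · -- w-contractible
    exact ProEtWCover.isWContractible_of_ringEquiv
      (Scheme.ΓSpecIso (CommRingCat.of (Hull ↥Γ(T.left, ⊤) Cb))).symm.commRingCatIsoToRingEquiv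
      (HullHens.isWContractible hwc)
  · -- local along `Z`
    intro v
    obtain ⟨m, hm, hvm⟩ := Ideal.exists_le_maximal v.asIdeal v.2.ne_top
    let z : ↥(Spec (CommRingCat.of (Hull ↥Γ(T.left, ⊤) Cb))) := ⟨m, hm.isPrime⟩
    refine ⟨z, ?_, (PrimeSpectrum.le_iff_specializes v z).mp hvm⟩
    -- the image of `z` in `Spec Γ(T)` contains the kernel of `j.appTop`
    let zP : PrimeSpectrum (Hull ↥Γ(T.left, ⊤) Cb) := ⟨m, hm.isPrime⟩
    have hker : PrimeSpectrum.comap φ.hom zP ∈
        PrimeSpectrum.zeroLocus (RingHom.ker j.appTop.hom : Set ↥Γ(T.left, ⊤)) := by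
      rw [PrimeSpectrum.mem_zeroLocus]
      intro b hb
      show algebraMap ↥Γ(T.left, ⊤) (Hull ↥Γ(T.left, ⊤) Cb) b ∈ m
      have h0 : π ↥Γ(T.left, ⊤) Cb (algebraMap ↥Γ(T.left, ⊤) (Hull ↥Γ(T.left, ⊤) Cb) b) = 0 := by
        rw [AlgHom.commutes]
        show algebraMap ↥Γ(pullback T.hom i, ⊤) Cb (j.appTop.hom b) = 0
        have : j.appTop.hom b = 0 := hb
        rw [this, map_zero]
      have h1 := HullHens.ker_le_jacobson (R := ↥Γ(T.left, ⊤)) (C := Cb) h0
      rw [Ideal.jacobson, Ideal.mem_sInf] at h1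
      exact h1 ⟨bot_le, hm⟩
    rw [← _root_.range_comap_of_surjective _ j.appTop.hom hsurj] at hker
    obtain ⟨q', hq'⟩ := hker
    have hnat := Scheme.isoSpec_inv_naturality j
    have hj : j.base ((pullback T.hom i).isoSpec.inv.base q') = fW.base z := by
      have h2 := congrArg (fun f => f.base q') hnat
      have h3 : (Spec.map j.appTop).base q' = (Spec.map φ).base z := hq'
      have h4 : T.left.isoSpec.inv.base ((Spec.map j.appTop).base q') =
          j.base ((pullback T.hom i).isoSpec.inv.base q') := h2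
      rw [← h4, h3]
      rfl
    have hcond := congrArg (fun f => f.base ((pullback T.hom i).isoSpec.inv.base q'))
      (pullback.condition (f := T.hom) (g := i))
    have hcond' : T.hom.base (j.base ((pullback T.hom i).isoSpec.inv.base q')) =
        i.base ((pullback.snd T.hom i).base ((pullback T.hom i).isoSpec.inv.base q')) := hcond
    refine ⟨(pullback.snd T.hom i).base ((pullback T.hom i).isoSpec.inv.base q'), ?_⟩
    rw [← hcond', hj]
    rfl
  · -- the base change is a covering
    let jW : pullback W.hom i ⟶ W.left := pullback.fst W.hom i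
    haveI : IsClosedImmersion jW := inferInstanceAs (IsClosedImmersion (pullback.fst W.hom i))
    haveI : IsAffine W.left := inferInstanceAs (IsAffine (Spec _))
    obtain ⟨hPWaff, -⟩ := IsClosedImmersion.isAffine_surjective_of_isAffine jW
    haveI : IsAffine (pullback W.hom i) := hPWaff
    have hkey : Spec.map πc ≫ fW = Spec.map φb ≫ (pullback T.hom i).isoSpec.inv ≫ j := by
      show Spec.map πc ≫ Spec.map φ ≫ T.left.isoSpec.inv = _
      rw [← Scheme.isoSpec_inv_naturality j, ← Category.assoc, ← Category.assoc, ← Spec.map_comp,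
        ← Spec.map_comp, hφπ]
    have hcond : Spec.map πc ≫ W.hom =
        (Spec.map φb ≫ (pullback T.hom i).isoSpec.inv ≫ pullback.snd T.hom i) ≫ i := by
      show Spec.map πc ≫ fW ≫ T.hom = _
      rw [← Category.assoc, hkey]
      simp only [Category.assoc]
      rw [pullback.condition]
    let σ : Spec (CommRingCat.of Cb) ⟶ pullback W.hom i :=
      pullback.lift (Spec.map πc)
        (Spec.map φb ≫ (pullback T.hom i).isoSpec.inv ≫ pullback.snd T.hom i) hcond
    have hσ : σ ≫ ((ProEtS.bcP i).map g).left =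
        Spec.map φb ≫ (pullback T.hom i).isoSpec.inv := by
      have e1 : ((ProEtS.bcP i).map g).left ≫ pullback.fst T.hom i =
          pullback.fst W.hom i ≫ g.left := pullback.lift_fst _ _ _
      have e2 : ((ProEtS.bcP i).map g).left ≫ pullback.snd T.hom i =
          pullback.snd W.hom i := pullback.lift_snd _ _ _
      have e3 : σ ≫ pullback.fst W.hom i = Spec.map πc := pullback.lift_fst _ _ _
      have e4 : σ ≫ pullback.snd W.hom i =
          Spec.map φb ≫ (pullback T.hom i).isoSpec.inv ≫ pullback.snd T.hom i :=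
        pullback.lift_snd _ _ _
      apply pullback.hom_ext
      · refine (Category.assoc _ _ _).trans ?_
        refine (congrArg (σ ≫ ·) e1).trans ?_
        refine (Category.assoc _ _ _).symm.trans ?_
        refine (congrArg (· ≫ g.left) e3).trans ?_
        refine (hkey : Spec.map πc ≫ g.left = _).trans ?_
        exact (Category.assoc _ _ _).symm
      · refine (Category.assoc _ _ _).trans ?_
        refine (congrArg (σ ≫ ·) e2).trans ?_
        refine e4.trans ?_
        exact (Category.assoc _ _ _).symm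
    haveI : Surjective (Spec.map φb) := by
      refine ((flat_and_surjective_SpecMap_iff φb).mpr ?_).2
      show (algebraMap ↥Γ(pullback T.hom i, ⊤) Cb).FaithfullyFlat
      rw [RingHom.faithfullyFlat_algebraMap_iff]
      exact hff
    haveI hs0 : Surjective (Spec.map φb ≫ (pullback T.hom i).isoSpec.inv) := inferInstance
    haveI : Surjective (σ ≫ ((ProEtS.bcP i).map g).left) := hσ ▸ hs0
    haveI hs : Surjective ((ProEtS.bcP i).map g).left := Surjective.of_comp σ _
    haveI : IsAffine ((ProEtS.bcP i).obj W).left := hPWaff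
    haveI : IsAffine ((ProEtS.bcP i).obj T).left := hPaff
    haveI : QuasiCompact ((ProEtS.bcP i).map g).left := inferInstance
    have hmem := ProEtFinCover.generate_ofArrows_mem
      (fun _ : PUnit.{1} => (ProEtS.bcP i).obj W) (fun _ => (ProEtS.bcP i).map g)
      (fun v => ⟨PUnit.unit, hs.surj v⟩)
    rwa [Presieve.ofArrows_pUnit] at hmem

set_option backward.isDefEq.respectTransparency.types false in
/-- the base changes of nice objects form a basis of `Z_proet` -/
theorem isCoverDense :
    ((niceProp i).ι ⋙ ProEtS.bcP i).IsCoverDense (Scheme.ProEt.topology Z) := by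
  haveI := ClosedDense.isCoverDense i
  constructor
  intro V
  apply (Scheme.ProEt.topology Z).transitive ((ProEtS.bcP i).is_cover_of_isCoverDense _ V)
  rintro Y c ⟨⟨T, lift, map, fac⟩⟩
  rw [← fac, Sieve.pullback_comp]
  apply (Scheme.ProEt.topology Z).pullback_stable
  let O : T.left.affineOpens → T.left.Opens := fun a => a.1
  have hcov : (⋃ a, (O a : Set ↥T.left)) = Set.univ := by
    have h := AlgebraicGeometry.iSup_affineOpens_eq_top T.left
    rw [Set.eq_univ_iff_forall]
    intro x
    have hx : x ∈ (⨆ a : T.left.affineOpens, (a : T.left.Opens)) := by rw [h]; trivial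
    obtain ⟨a, ha⟩ := TopologicalSpace.Opens.mem_iSup.mp hx
    exact Set.mem_iUnion.mpr ⟨a, ha⟩
  have hcovT := ProEtSheafGlue.generate_ofArrows_mem T O hcov
  have hcovZ := (Groth.Agent.H4.ProEtCont.coverPreserving_bcP i).cover_preserve hcovT
  apply (Scheme.ProEt.topology Z).transitive hcovZ
  rintro Y2 f ⟨T', m, l, ⟨T0, m', ja, ⟨a⟩, rfl⟩, rfl⟩
  rw [Functor.map_comp, ← Category.assoc, Sieve.pullback_comp]
  apply (Scheme.ProEt.topology Z).pullback_stable
  haveI : IsAffine (Scheme.ProEt.mk ((O a).ι ≫ T.hom)).left := a.2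
  obtain ⟨W, g, hW, hcovW⟩ := exists_nice_of_isAffine i (Scheme.ProEt.mk ((O a).ι ≫ T.hom))
  refine (Scheme.ProEt.topology Z).superset_covering ?_ hcovW
  rintro Y3 k ⟨Y4, h, g', ⟨⟩, rfl⟩
  exact ⟨⟨⟨W, hW⟩, h, (ProEtS.bcP i).map g ≫ (ProEtS.bcP i).map
    (MorphismProperty.Over.homMk (O a).ι : Scheme.ProEt.mk ((O a).ι ≫ T.hom) ⟶ T) ≫ map,
    by simp⟩⟩

end Groth.Agent.H27.ProEtClosedBasis
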