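import Groth.Agent.H27.WContrChar
import Groth.Agent.H27.SHTransport
import Groth.Agent.H27.EDLocal
import Groth.Agent.H3.Henselization
import Groth.Agent.H4.SpectralCC

/-!
# Quotients of w-contractible rings by ideals with quasi-compact open complement
-/

set_option autoImplicit false
universe u

namespace Groth.Agent.H27.WContrQuot

open Topology

section Top

variable {X : Type u} [TopologicalSpace X] [SpectralSpace X]

/-- the closed points of a w-local spectral space are homeomorphic to its connected components -/
noncomputable def closedPointsHomeo (hX : ProEtW.IsWLocal X) :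
    {x : X // IsClosed ({x} : Set X)} ≃ₜ _root_.ConnectedComponents X := by
  haveI : T2Space (_root_.ConnectedComponents X) :=
    Groth.Agent.H4.SpectralCC.t2Space_connectedComponents
  haveI : CompactSpace {x : X // IsClosed ({x} : Set X)} :=
    isCompact_iff_compactSpace.mp hX.2.1.isCompact
  exact Continuous.homeoOfEquivCompactToT2
    (f := Equiv.ofBijective _
      (Groth.Agent.H27.WLocal.bijective_of_unique_specialization X hX.2.1 hX.2.2))
    (ConnectedComponents.continuous_coe.comp continuous_subtype_val)

theorem t2Space_closedPoints (hX : ProEtW.IsWLocal X) :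
    T2Space {x : X // IsClosed ({x} : Set X)} := by
  haveI : T2Space (_root_.ConnectedComponents X) :=
    Groth.Agent.H4.SpectralCC.t2Space_connectedComponents
  exact (closedPointsHomeo hX).isEmbedding.t2Space

variable {Z : Type u} [TopologicalSpace Z] [SpectralSpace Z]

theorem extremallyDisconnected_of_isClosedEmbedding (f : Z → X) (hf : IsClosedEmbedding f)
    (hX : ProEtW.IsWLocal X) (hed : ExtremallyDisconnected (_root_.ConnectedComponents X))
    (hc : IsCompact (Set.range f)ᶜ) :
    ExtremallyDisconnected (_root_.ConnectedComponents Z) := by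
  have hZ : ProEtW.IsWLocal Z := Groth.Agent.H27.Adm.isWLocal_of_isClosedEmbedding f hf hX
  have hedX : ExtremallyDisconnected {x : X // IsClosed ({x} : Set X)} :=
    EDLocal.of_homeomorph (closedPointsHomeo hX) hed
  haveI := t2Space_closedPoints hX
  have hcl : ∀ z : Z, IsClosed ({z} : Set Z) → IsClosed ({f z} : Set X) := by
    intro z h
    have := hf.isClosedMap _ h
    rwa [Set.image_singleton] at this
  let g : {z : Z // IsClosed ({z} : Set Z)} → {x : X // IsClosed ({x} : Set X)} :=
    fun z => ⟨f z.1, hcl z.1 z.2⟩
  have hg : IsOpenEmbedding g := by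
    have hgc : Continuous g :=
      (hf.continuous.comp continuous_subtype_val).subtype_mk _
    have hgi : Function.Injective g := by
      intro a b hab
      exact Subtype.ext (hf.injective (congrArg Subtype.val hab))
    have hgemb : IsEmbedding g := by
      refine ⟨⟨?_⟩, hgi⟩
      have h1 : IsInducing (fun z : {z : Z // IsClosed ({z} : Set Z)} => f z.1) :=
        hf.isInducing.comp IsInducing.subtypeVal
      have h2 : (fun z : {z : Z // IsClosed ({z} : Set Z)} => f z.1) = Subtype.val ∘ g := rfl
      rw [h2] at h1
      have h3 := IsInducing.of_comp hgc continuous_subtype_val h1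
      exact h3.eq_induced
    refine ⟨hgemb, ?_⟩
    -- range g = closedPoints ∩ range f, whose complement is compact hence closed
    have hr : Set.range g = (Subtype.val ⁻¹' (Set.range f)ᶜ)ᶜ := by
      ext x
      simp only [Set.mem_range, Set.mem_compl_iff, Set.mem_preimage, not_not]
      constructor
      · rintro ⟨z, rfl⟩
        exact ⟨z.1, rfl⟩
      · rintro ⟨z, hz⟩
        have hzc : IsClosed ({z} : Set Z) := by
          have : ({z} : Set Z) = f ⁻¹' {f z} := by
            ext w
            simp only [Set.mem_singleton_iff, Set.mem_preimage]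
            exact ⟨fun h => by rw [h], fun h => hf.injective h⟩
          rw [this, hz]
          exact x.2.preimage hf.continuous
        exact ⟨⟨z, hzc⟩, Subtype.ext hz⟩
    rw [hr, isOpen_compl_iff]
    have hcomp : IsCompact ((Subtype.val : {x : X // IsClosed ({x} : Set X)} → X) ⁻¹'
        (Set.range f)ᶜ) := by
      have hemb : IsClosedEmbedding (Subtype.val : {x : X // IsClosed ({x} : Set X)} → X) :=
        hX.2.1.isClosedEmbedding_subtypeVal
      exact hemb.isCompact_preimage hc
    exact hcomp.isClosed
  have hedZ : ExtremallyDisconnected {z : Z // IsClosed ({z} : Set Z)} :=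
    EDLocal.of_isOpenEmbedding g hg hedX
  exact EDLocal.of_homeomorph (closedPointsHomeo hZ).symm hedZ

end Top

section Ring

theorem isStrictlyHenselian_of_surjective {R S : Type u} [CommRing R] [CommRing S] [Nontrivial S]
    (f : R →+* S) (hf : Function.Surjective f) (h : EtCoh.IsStrictlyHenselianLocalRing R) :
    EtCoh.IsStrictlyHenselianLocalRing S := by
  obtain ⟨hH, hS⟩ := h
  haveI := hH
  haveI := hS
  let e : (R ⧸ RingHom.ker f) ≃+* S := RingHom.quotientKerEquivOfSurjective hf
  have hne : RingHom.ker f ≠ ⊤ := RingHom.ker_ne_top f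
  haveI hq : HenselianLocalRing (R ⧸ RingHom.ker f) :=
    Groth.Agent.H3.henselianLocalRing_quotient R _ hne
  have hSH : EtCoh.IsStrictlyHenselianLocalRing (R ⧸ RingHom.ker f) := by
    refine ⟨hq, ?_⟩
    haveI : IsLocalHom (Ideal.Quotient.mk (RingHom.ker f)) :=
      IsLocalHom.of_surjective _ Ideal.Quotient.mk_surjective
    let ρ : IsLocalRing.ResidueField R →+* IsLocalRing.ResidueField (R ⧸ RingHom.ker f) :=
      IsLocalRing.ResidueField.map (Ideal.Quotient.mk _)
    have hρs : Function.Surjective ρ := by
      intro y
      obtain ⟨y, rfl⟩ := IsLocalRing.residue_surjective y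
      obtain ⟨x, rfl⟩ := Ideal.Quotient.mk_surjective y
      exact ⟨IsLocalRing.residue R x, IsLocalRing.ResidueField.map_residue _ x⟩
    exact SHTransport.isSepClosed_of_ringEquiv (RingEquiv.ofBijective ρ ⟨ρ.injective, hρs⟩)
  exact SHTransport.isStrictlyHenselian_of_ringEquiv e hSH

variable {A B : Type u} [CommRing A] [CommRing B]

theorem localRingHom_surjective (φ : A →+* B) (hφ : Function.Surjective φ) (n : Ideal B)
    [n.IsPrime] (m : Ideal A) [m.IsPrime] (hm : m = n.comap φ) :
    Function.Surjective (Localization.localRingHom m n φ hm) := by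
  intro y
  obtain ⟨b, s, rfl⟩ := IsLocalization.exists_mk'_eq n.primeCompl y
  obtain ⟨a, rfl⟩ := hφ b
  obtain ⟨t, ht⟩ := hφ s.1
  have htm : t ∈ m.primeCompl := by
    intro h
    rw [hm] at h
    have h' : φ t ∈ n := h
    rw [ht] at h'
    exact s.2 h'
  refine ⟨IsLocalization.mk' _ a ⟨t, htm⟩, ?_⟩
  rw [Localization.localRingHom_mk']
  congr 1
  exact Subtype.ext ht

/-- a quotient of a w-contractible ring by an ideal whose zero locus has quasi-compact complement
is w-contractible -/
theorem isWContractible_of_surjective (φ : A →+* B) (hφ : Function.Surjective φ)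
    (hA : EtPBC.IsWContractible A)
    (hc : IsCompact (PrimeSpectrum.zeroLocus (RingHom.ker φ : Set A))ᶜ) :
    EtPBC.IsWContractible B := by
  obtain ⟨hw, hed, hSH⟩ := (WContrChar.main A).mp hA
  rw [WContrChar.main B]
  have hemb : IsClosedEmbedding (PrimeSpectrum.comap φ) :=
    PrimeSpectrum.isClosedEmbedding_comap_of_surjective _ φ hφ
  have hrange : Set.range (PrimeSpectrum.comap φ) =
      PrimeSpectrum.zeroLocus (RingHom.ker φ : Set A) :=
    _root_.range_comap_of_surjective _ φ hφ
  refine ⟨Groth.Agent.H27.Adm.isWLocal_of_isClosedEmbedding _ hemb hw, ?_, ?_⟩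
  · exact extremallyDisconnected_of_isClosedEmbedding _ hemb hw hed (by rw [hrange]; exact hc)
  · intro n hn
    haveI hnp : n.IsPrime := hn.isPrime
    haveI hmmax : (n.comap φ).IsMaximal := Ideal.comap_isMaximal_of_surjective φ hφ
    haveI : (n.comap φ).IsPrime := hmmax.isPrime
    exact isStrictlyHenselian_of_surjective _
      (localRingHom_surjective φ hφ n (n.comap φ) rfl) (hSH (n.comap φ))

end Ring

end Groth.Agent.H27.WContrQuot
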