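import Groth.Agent.H27.ProEtPushExact
import Groth.Agent.H27.WContrQuot

/-!
# Base change of w-contractible affines along closed immersions with retrocompact complement
-/

set_option autoImplicit false
set_option linter.style.haveILetI false
open CategoryTheory CategoryTheory.Limits AlgebraicGeometry Opposite
universe u

namespace Groth.Agent.H27.ProEtClosedPush

theorem isCompact_compl_zeroLocus_ker_appTop {P W : Scheme.{u}} [IsAffine P] [IsAffine W]
    (j : P ⟶ W) (hs : Function.Surjective j.appTop.hom)
    (hc : IsCompact (Set.range j.base)ᶜ) :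
    IsCompact (PrimeSpectrum.zeroLocus (RingHom.ker j.appTop.hom : Set Γ(W, ⊤)))ᶜ := by
  rw [← _root_.range_comap_of_surjective _ j.appTop.hom hs]
  have hnat := Scheme.isoSpec_hom_naturality j
  let eW : W → PrimeSpectrum Γ(W, ⊤) := fun x => W.isoSpec.hom.base x
  let eP : P → PrimeSpectrum Γ(P, ⊤) := fun x => P.isoSpec.hom.base x
  have heWc : Continuous eW := W.isoSpec.hom.base.hom.continuous
  have heWb : Function.Bijective eW := ConcreteCategory.bijective_of_isIso W.isoSpec.hom.base
  have hePb : Function.Bijective eP := ConcreteCategory.bijective_of_isIso P.isoSpec.hom.base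
  have hpt : ∀ p : P, PrimeSpectrum.comap j.appTop.hom (eP p) = eW (j.base p) := by
    intro p
    have := congrArg (fun f : P ⟶ Spec Γ(W, ⊤) => f.base p) hnat
    exact this
  have hset : (Set.range (PrimeSpectrum.comap j.appTop.hom))ᶜ = eW '' (Set.range j.base)ᶜ := by
    ext x
    obtain ⟨w, rfl⟩ := heWb.2 x
    simp only [Set.mem_compl_iff, Set.mem_range, Set.mem_image]
    constructor
    · intro h
      refine ⟨w, ?_, rfl⟩
      rintro ⟨p, rfl⟩
      exact h ⟨eP p, hpt p⟩
    · rintro ⟨w', hw', hww'⟩ ⟨y, hy⟩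
      obtain rfl := heWb.1 hww'
      obtain ⟨p, rfl⟩ := hePb.2 y
      rw [hpt p] at hy
      exact hw' ⟨p, heWb.1 hy⟩
  rw [hset]
  exact hc.image heWc

variable {Z X : Scheme.{u}} (i : Z ⟶ X) [IsClosedImmersion i]

theorem isWC_bcP (hr : IsRetrocompact (Set.range i.base)ᶜ)
    (W : X.ProEt) (Y : Scheme.{u}) (a : W.left ⟶ Y) (b : Y ⟶ X) (hY : IsAffine Y)
    (hb : IsOpenImmersion b) (hab : a ≫ b = W.hom) (hW : IsAffine W.left)
    (hwc : EtPBC.IsWContractible ↥Γ(W.left, ⊤)) : ProEtS.IsWC ((ProEtS.bcP i).obj W) := by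
  let j : pullback W.hom i ⟶ W.left := pullback.fst W.hom i
  haveI : IsClosedImmersion j := inferInstanceAs (IsClosedImmersion (pullback.fst W.hom i))
  obtain ⟨hPaff, hsurj⟩ := IsClosedImmersion.isAffine_surjective_of_isAffine j
  haveI : IsAffine ((ProEtS.bcP i).obj W).left := hPaff
  apply ProEtIsWC.isWC_of_isWContractible
  refine WContrQuot.isWContractible_of_surjective (A := Γ(W.left, ⊤)) j.appTop.hom hsurj hwc ?_
  haveI : IsAffine (pullback W.hom i) := hPaff
  apply isCompact_compl_zeroLocus_ker_appTop j hsurj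
  -- the complement of the range of `j` is the preimage of the complement of `i(Z)`
  have h1 : Set.range j.base = W.hom.base ⁻¹' Set.range i.base := Scheme.Pullback.range_fst W.hom i
  rw [h1, ← Set.preimage_compl, ← hab, Scheme.Hom.comp_base, TopCat.coe_comp, Set.preimage_comp]
  -- `b⁻¹ (i(Z)ᶜ)` is a quasi-compact open of `Y`
  have hopen : IsOpen (b.base ⁻¹' (Set.range i.base)ᶜ) :=
    (i.isClosedEmbedding.isClosed_range.isOpen_compl).preimage b.base.hom.continuous
  have hcomp : IsCompact (b.base ⁻¹' (Set.range i.base)ᶜ) := by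
    have hrange : IsCompact (Set.range b.base) := isCompact_range b.base.hom.continuous
    have h2 : IsCompact ((Set.range i.base)ᶜ ∩ Set.range b.base) :=
      hr hrange b.isOpenEmbedding.isOpen_range
    have h3 := b.isOpenEmbedding.isInducing.isCompact_preimage_iff
      (K := (Set.range i.base)ᶜ ∩ Set.range b.base) Set.inter_subset_right
    rw [Set.preimage_inter, Set.preimage_range, Set.inter_univ] at h3
    exact h3.mpr h2
  haveI : QuasiCompact a := inferInstance
  exact QuasiCompact.isCompact_preimage (f := a) _ hopen hcomp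

end Groth.Agent.H27.ProEtClosedPush
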