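import Groth.Agent.H27.ProEtSigma2
import Groth.Agent.H27.ProEtCoprod
import Groth.Agent.H4.ProEtCont

/-!
# Elements of the left Kan extension of a presheaf along pro-étale base change
-/

set_option autoImplicit false
set_option linter.style.haveILetI false
open CategoryTheory CategoryTheory.Limits AlgebraicGeometry Opposite
universe u

namespace Groth.Agent.H27.ProEtLan

variable {X Y : Scheme.{u}} (f : X ⟶ Y) (F : Y.ProEtᵒᵖ ⥤ Type (u + 1))

/-- the left Kan extension presheaf -/
noncomputable abbrev P : X.ProEtᵒᵖ ⥤ Type (u + 1) := (ProEtS.bcP f).op.lan.obj F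

/-- the unit -/
noncomputable abbrev unit : F ⟶ (ProEtS.bcP f).op ⋙ P f F :=
  (ProEtS.bcP f).op.leftKanExtensionUnit F

/-- the colimit property -/
noncomputable def isColimit (W : X.ProEt) :
    IsColimit ((Functor.LeftExtension.mk _ (unit f F)).coconeAt (op W)) :=
  (ProEtS.bcP f).op.isPointwiseLeftKanExtensionLeftKanExtensionUnit F (op W)

/-- the element of the Kan extension represented by a triple -/
noncomputable def elt {W : X.ProEt} (V : Y.ProEt) (a : W ⟶ (ProEtS.bcP f).obj V)
    (s : F.obj (op V)) : (P f F).obj (op W) :=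
  (P f F).map a.op ((unit f F).app (op V) s)

theorem exists_elt {W : X.ProEt} (x : (P f F).obj (op W)) :
    ∃ (V : Y.ProEt) (a : W ⟶ (ProEtS.bcP f).obj V) (s : F.obj (op V)), elt f F V a s = x := by
  obtain ⟨g, s, hs⟩ := Types.jointly_surjective_of_isColimit (isColimit f F W) x
  exact ⟨g.left.unop, g.hom.unop, s, hs⟩

theorem map_elt {W W' : X.ProEt} (k : W' ⟶ W) (V : Y.ProEt) (a : W ⟶ (ProEtS.bcP f).obj V)
    (s : F.obj (op V)) : (P f F).map k.op (elt f F V a s) = elt f F V (k ≫ a) s := by
  unfold elt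
  rw [op_comp, Functor.map_comp]
  rfl

theorem elt_comp {W : X.ProEt} {V V' : Y.ProEt} (h : V' ⟶ V)
    (b : W ⟶ (ProEtS.bcP f).obj V') (s : F.obj (op V)) :
    elt f F V (b ≫ (ProEtS.bcP f).map h) s = elt f F V' b (F.map h.op s) := by
  unfold elt
  have hnat := ConcreteCategory.congr_hom ((unit f F).naturality h.op) s
  rw [op_comp, Functor.map_comp]
  exact congrArg ((P f F).map b.op) hnat.symm

theorem exists_of_elt_eq {W : X.ProEt} {V V' : Y.ProEt} (a : W ⟶ (ProEtS.bcP f).obj V)
    (a' : W ⟶ (ProEtS.bcP f).obj V') (s : F.obj (op V)) (s' : F.obj (op V'))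
    (h : elt f F V a s = elt f F V' a' s') :
    ∃ (V'' : Y.ProEt) (h : V'' ⟶ V) (h' : V'' ⟶ V') (b : W ⟶ (ProEtS.bcP f).obj V''),
      b ≫ (ProEtS.bcP f).map h = a ∧ b ≫ (ProEtS.bcP f).map h' = a' ∧
        F.map h.op s = F.map h'.op s' := by
  let i : CostructuredArrow (ProEtS.bcP f).op (op W) := CostructuredArrow.mk (Y := op V) a.op
  let j : CostructuredArrow (ProEtS.bcP f).op (op W) := CostructuredArrow.mk (Y := op V') a'.op
  have h' : ((Functor.LeftExtension.mk _ (unit f F)).coconeAt (op W)).ι.app i s =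
      ((Functor.LeftExtension.mk _ (unit f F)).coconeAt (op W)).ι.app j s' := h
  obtain ⟨k, φ, φ', hk⟩ := (Types.FilteredColimit.isColimit_eq_iff _ (isColimit f F W)).mp h'
  refine ⟨k.left.unop, φ.left.unop, φ'.left.unop, k.hom.unop, ?_, ?_, hk⟩
  · have := CostructuredArrow.w φ
    exact congrArg Quiver.Hom.unop this
  · have := CostructuredArrow.w φ'
    exact congrArg Quiver.Hom.unop this

set_option backward.isDefEq.respectTransparency.types false in
/-- the left Kan extension of a sheaf along base change glues uniquely over finite disjoint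
open decompositions -/
theorem existsUnique_glue (G : Sheaf (Scheme.ProEt.topology Y) (Type (u + 1))) (U : X.ProEt)
    {n : ℕ} (O : Fin n → U.left.Opens)
    (hdisj : Pairwise (fun k l => Disjoint (O k : Set ↥U.left) (O l)))
    (hcov : (⋃ k, (O k : Set ↥U.left)) = Set.univ)
    (t : ∀ k, (P f G.obj).obj (op (ProEtCoprod.piece U O k))) :
    ∃! x : (P f G.obj).obj (op U), ∀ k, (P f G.obj).map (ProEtCoprod.incl U O k).op x = t k := by
  have hc := ProEtCoprod.isColimit U O hdisj hcov
  have hfac : ∀ {T : X.ProEt} (g : ∀ k, ProEtCoprod.piece U O k ⟶ T), ∃ aa : U ⟶ T,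
      ∀ k, ProEtCoprod.incl U O k ≫ aa = g k := fun g =>
    ⟨Cofan.IsColimit.desc hc g, fun k => Cofan.IsColimit.fac hc g k⟩
  have hext : ∀ {T : X.ProEt} (a b : U ⟶ T),
      (∀ k, ProEtCoprod.incl U O k ≫ a = ProEtCoprod.incl U O k ≫ b) → a = b := fun a b h =>
    Cofan.IsColimit.hom_ext hc a b h
  refine existsUnique_of_exists_of_unique ?_ ?_
  · choose V a s hs using fun k => exists_elt f G.obj (t k)
    obtain ⟨ss, hss, -⟩ := ProEtSigma.existsUnique_section V G s
    obtain ⟨aa, haa⟩ := hfac (fun k => a k ≫ (ProEtS.bcP f).map (ProEtSigma.sigmaι V k))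
    refine ⟨elt f G.obj (ProEtSigma.sigmaObj V) aa ss, fun k => ?_⟩
    rw [map_elt, haa k, elt_comp, hss k, hs k]
  · intro x x' hx hx'
    obtain ⟨V, a, s, rfl⟩ := exists_elt f G.obj x
    obtain ⟨V', a', s', rfl⟩ := exists_elt f G.obj x'
    have hk : ∀ k, elt f G.obj V (ProEtCoprod.incl U O k ≫ a) s =
        elt f G.obj V' (ProEtCoprod.incl U O k ≫ a') s' := by
      intro k
      rw [← map_elt, ← map_elt, hx k, hx' k]
    choose V'' h h' b hb hb' hss using fun k => exists_of_elt_eq f G.obj _ _ _ _ (hk k)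
    obtain ⟨bb, hbb⟩ := hfac (fun k => b k ≫ (ProEtS.bcP f).map (ProEtSigma.sigmaι V'' k))
    have h1 : bb ≫ (ProEtS.bcP f).map (ProEtSigma.sigmaDesc V'' h) = a := by
      apply hext
      intro k
      rw [← Category.assoc, hbb k, Category.assoc, ← Functor.map_comp, ProEtSigma.ι_desc, hb k]
    have h2 : bb ≫ (ProEtS.bcP f).map (ProEtSigma.sigmaDesc V'' h') = a' := by
      apply hext
      intro k
      rw [← Category.assoc, hbb k, Category.assoc, ← Functor.map_comp, ProEtSigma.ι_desc, hb' k]
    have h3 : G.obj.map (ProEtSigma.sigmaDesc V'' h).op s =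
        G.obj.map (ProEtSigma.sigmaDesc V'' h').op s' := by
      obtain ⟨y, -, hy⟩ := ProEtSigma.existsUnique_section V'' G
        (fun k => G.obj.map (h k).op s)
      have e1 : G.obj.map (ProEtSigma.sigmaDesc V'' h).op s = y := by
        apply hy
        intro k
        rw [← Functor.map_comp_apply, ← op_comp, ProEtSigma.ι_desc]
      have e2 : G.obj.map (ProEtSigma.sigmaDesc V'' h').op s' = y := by
        apply hy
        intro k
        rw [← Functor.map_comp_apply, ← op_comp, ProEtSigma.ι_desc]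
        exact (hss k).symm
      rw [e1, e2]
    rw [← h1, ← h2, elt_comp, elt_comp, h3]

end Groth.Agent.H27.ProEtLan
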