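import Groth.Agent.H27.CoverDensePair
import Groth.Agent.H27.ClosedDense
import Groth.Agent.H27.ProEtLan
import Groth.Agent.H27.ProEtPullUnit
import Groth.Agent.H27.ProEtZLocal
import Groth.Agent.H27.ProEtWCrit
import Groth.Agent.H27.ProEtSheafGlue

/-!
# The unit `F ⟶ i_* i⁻¹ F` of a closed immersion for pro-étale sheaves of sets

Set-valued version of `ProEtClosedUnit`: for an affine object `W` of `X_proet` with w-contractible
ring of functions all of whose points specialize into `Z`, the unit `F(W) ⟶ (i⁻¹F)(W ×_X Z)` is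
bijective for every sheaf of sets `F`.
-/

set_option autoImplicit false
set_option linter.style.haveILetI false
set_option linter.unusedSectionVars false
open CategoryTheory CategoryTheory.Limits AlgebraicGeometry Opposite
universe u

namespace Groth.Agent.H27.ProEtClosedUnitSet

open Groth.Agent.H27.ProEtLan

variable {X Z : Scheme.{u}} (i : Z ⟶ X) [ProEtS.PCont i]

/-- the inverse image functor on sheaves of sets -/
noncomputable abbrev Ψ : Sheaf (Scheme.ProEt.topology X) (Type (u + 1)) ⥤
    Sheaf (Scheme.ProEt.topology Z) (Type (u + 1)) :=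
  (ProEtS.bcP i).sheafPullback (Type (u + 1)) (Scheme.ProEt.topology X) (Scheme.ProEt.topology Z)

/-- the direct image functor on sheaves of sets -/
noncomputable abbrev Φ : Sheaf (Scheme.ProEt.topology Z) (Type (u + 1)) ⥤
    Sheaf (Scheme.ProEt.topology X) (Type (u + 1)) :=
  (ProEtS.bcP i).sheafPushforwardContinuous (Type (u + 1)) (Scheme.ProEt.topology X)
    (Scheme.ProEt.topology Z)

/-- the adjunction -/
noncomputable abbrev adj : Ψ i ⊣ Φ i :=
  (ProEtS.bcP i).sheafAdjunctionContinuous (Type (u + 1)) (Scheme.ProEt.topology X)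
    (Scheme.ProEt.topology Z)

variable (F : Sheaf (Scheme.ProEt.topology X) (Type (u + 1)))

/-- the comparison of `i⁻¹ F` with the sheafified Kan extension -/
noncomputable def cmp : (Ψ i).obj F ≅
    (presheafToSheaf (Scheme.ProEt.topology Z) (Type (u + 1))).obj (P i F.obj) :=
  (Functor.sheafPullbackConstruction.sheafPullbackIso (ProEtS.bcP i) (Type (u + 1))
    (Scheme.ProEt.topology X) (Scheme.ProEt.topology Z)).app F

theorem cmp_unit (T : X.ProEt) (t : F.obj.obj (op T)) :
    (cmp i F).hom.hom.app (op ((ProEtS.bcP i).obj T))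
      (((adj i).unit.app F).hom.app (op T) t) =
    (toSheafify (Scheme.ProEt.topology Z) (P i F.obj)).app (op ((ProEtS.bcP i).obj T))
      ((unit i F.obj).app (op T) t) := by
  have h := ProEtPullUnit.unit_app' (ProEtS.bcP i) (Type (u + 1))
    (Scheme.ProEt.topology X) (Scheme.ProEt.topology Z) F
  have h2 := congrArg (fun φ => φ.app (op T)) h
  exact ConcreteCategory.congr_hom h2 t

/-- naturality of the unit on sections -/
theorem unit_naturality {T T' : X.ProEt} (m : T' ⟶ T) (t : F.obj.obj (op T)) :
    ((adj i).unit.app F).hom.app (op T') (F.obj.map m.op t) =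
      ((Ψ i).obj F).obj.map ((ProEtS.bcP i).map m).op
        (((adj i).unit.app F).hom.app (op T) t) :=
  ConcreteCategory.congr_hom (((adj i).unit.app F).hom.naturality m.op) t

/-- the sieve of morphisms `T ⟶ W` over whose base change `s` comes from a section of `F` -/
def liftSieve (W : X.ProEt)
    (s : ((Ψ i).obj F).obj.obj (op ((ProEtS.bcP i).obj W))) : Sieve W where
  arrows T g := ∃ t : F.obj.obj (op T),
    ((adj i).unit.app F).hom.app (op T) t =
      ((Ψ i).obj F).obj.map ((ProEtS.bcP i).map g).op s
  downward_closed := by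
    rintro T T' g ⟨t, ht⟩ m
    refine ⟨F.obj.map m.op t, ?_⟩
    rw [unit_naturality, ht, Functor.map_comp, op_comp, Functor.map_comp]
    rfl

/-- two representatives of the same element of the Kan extension along the same map become
equal after restriction along a single morphism -/
theorem exists_of_elt_eq_same {V : Z.ProEt} {T : X.ProEt} (G : X.ProEtᵒᵖ ⥤ Type (u + 1))
    (a : V ⟶ (ProEtS.bcP i).obj T) (s s' : G.obj (op T))
    (h : elt i G T a s = elt i G T a s') :
    ∃ (T'' : X.ProEt) (h : T'' ⟶ T) (b : V ⟶ (ProEtS.bcP i).obj T''),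
      b ≫ (ProEtS.bcP i).map h = a ∧ G.map h.op s = G.map h.op s' := by
  let c : CostructuredArrow (ProEtS.bcP i).op (op V) := CostructuredArrow.mk (Y := op T) a.op
  have h' : ((Functor.LeftExtension.mk _ (unit i G)).coconeAt (op V)).ι.app c s =
      ((Functor.LeftExtension.mk _ (unit i G)).coconeAt (op V)).ι.app c s' := h
  obtain ⟨k, φ, φ', hk⟩ := (Types.FilteredColimit.isColimit_eq_iff _ (isColimit i G V)).mp h'
  let e := IsFiltered.coeqHom φ φ'
  have he : φ ≫ e = φ' ≫ e := IsFiltered.coeq_condition φ φ'
  refine ⟨(IsFiltered.coeq φ φ').left.unop, (φ ≫ e).left.unop, (IsFiltered.coeq φ φ').hom.unop,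
    ?_, ?_⟩
  · have := CostructuredArrow.w (φ ≫ e)
    exact congrArg Quiver.Hom.unop this
  · have h1 : G.map (φ ≫ e).left s = G.map e.left (G.map φ.left s) := by
      rw [CostructuredArrow.comp_left, Functor.map_comp]
      rfl
    have h2 : G.map (φ ≫ e).left s' = G.map e.left (G.map φ'.left s') := by
      rw [he, CostructuredArrow.comp_left, Functor.map_comp]
      rfl
    show G.map (φ ≫ e).left s = G.map (φ ≫ e).left s'
    rw [h1, h2]
    exact congrArg _ hk

/-- the sieve of morphisms along which two sections agree -/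
def eqSieve (T : X.ProEt) (t t' : F.obj.obj (op T)) : Sieve T where
  arrows := fun _ u => F.obj.map u.op t = F.obj.map u.op t'
  downward_closed := by
    intro T' T'' u hu v
    show F.obj.map (v ≫ u).op t = F.obj.map (v ≫ u).op t'
    rw [op_comp, Functor.map_comp]
    show F.obj.map v.op (F.obj.map u.op t) = F.obj.map v.op (F.obj.map u.op t')
    rw [hu]

set_option backward.isDefEq.respectTransparency.types false in
/-- local injectivity of the unit -/
theorem functorPushforward_eqSieve_mem (T : X.ProEt) (t t' : F.obj.obj (op T))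
    (h : ((adj i).unit.app F).hom.app (op T) t = ((adj i).unit.app F).hom.app (op T) t') :
    (eqSieve F T t t').functorPushforward (ProEtS.bcP i) ∈
      Scheme.ProEt.topology Z ((ProEtS.bcP i).obj T) := by
  have h1 := cmp_unit i F T t
  have h1' := cmp_unit i F T t'
  have hmem := Presheaf.equalizerSieve_mem (Scheme.ProEt.topology Z)
    (toSheafify (Scheme.ProEt.topology Z) (P i F.obj))
    (X := op ((ProEtS.bcP i).obj T)) ((unit i F.obj).app (op T) t) ((unit i F.obj).app (op T) t')
    (h1.symm.trans ((congrArg _ h).trans h1'))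
  refine (Scheme.ProEt.topology Z).superset_covering ?_ hmem
  intro V a ha
  have ha' : elt i F.obj T a t = elt i F.obj T a t' := ha
  obtain ⟨T'', h, b, hb, hz⟩ := exists_of_elt_eq_same i F.obj a t t' ha'
  exact ⟨T'', h, b, hz, hb.symm⟩

variable [IsClosedImmersion i]

/-- the unit is injective on sections over affine objects all of whose points specialize into
`Z` -/
theorem injective_unit (V : X.ProEt) [IsAffine V.left]
    (hV : ∀ v : ↥V.left, ∃ z : ↥V.left, V.hom.base z ∈ Set.range i.base ∧ v ⤳ z) :
    Function.Injective (((adj i).unit.app F).hom.app (op V)) := by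
  intro t t' ht
  have h1 := functorPushforward_eqSieve_mem i F V t t' ht
  have hcov := ProEtZLocal.mem_of_functorPushforward_mem i V hV _ h1
  have hsep : Presieve.IsSheaf (Scheme.ProEt.topology X) F.obj :=
    (isSheaf_iff_isSheaf_of_type _ _).1 F.2
  refine (hsep _ hcov).isSeparatedFor.ext ?_
  intro Y f hf
  exact hf

set_option backward.isDefEq.respectTransparency.types false in
/-- the base change of the lifting sieve is covering -/
theorem functorPushforward_liftSieve_mem (W : X.ProEt)
    (s : ((Ψ i).obj F).obj.obj (op ((ProEtS.bcP i).obj W))) :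
    (liftSieve i F W s).functorPushforward (ProEtS.bcP i) ∈
      Scheme.ProEt.topology Z ((ProEtS.bcP i).obj W) := by
  haveI := ClosedDense.isCoverDense i
  haveI := ClosedDense.isLocallyFull i
  set s' := (cmp i F).hom.hom.app (op ((ProEtS.bcP i).obj W)) s with hs'
  have hR := Presheaf.imageSieve_mem (Scheme.ProEt.topology Z)
    (toSheafify (Scheme.ProEt.topology Z) (P i F.obj)) s'
  apply (Scheme.ProEt.topology Z).transitive hR
  rintro V' h ⟨p, hp⟩
  obtain ⟨U, a, t, rfl⟩ := exists_elt i F.obj p
  refine (Scheme.ProEt.topology Z).superset_covering ?_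
    (CoverDensePair.pairSieve_mem (ProEtS.bcP i) (Scheme.ProEt.topology Z) h a)
  rintro Y k ⟨T, l, k', g, u, rfl, hg, hu⟩
  refine ⟨T, g, l, ⟨F.obj.map u.op t, ?_⟩, by rw [Category.assoc, ← hg]⟩
  have hinj : Function.Injective ((cmp i F).hom.hom.app (op ((ProEtS.bcP i).obj T))) := by
    have : IsIso ((cmp i F).hom.hom.app (op ((ProEtS.bcP i).obj T))) := inferInstance
    exact ((ConcreteCategory.isIso_iff_bijective _).mp this).1
  apply hinj
  rw [cmp_unit]
  have h1 : (unit i F.obj).app (op T) (F.obj.map u.op t) =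
      elt i F.obj U ((ProEtS.bcP i).map u) t := by
    have := elt_comp i F.obj u (𝟙 ((ProEtS.bcP i).obj T)) t
    rw [Category.id_comp] at this
    rw [this]
    unfold elt
    rw [op_id, CategoryTheory.Functor.map_id]
    rfl
  rw [h1, hu, ← map_elt]
  have hnat := ConcreteCategory.congr_hom
    ((toSheafify (Scheme.ProEt.topology Z) (P i F.obj)).naturality k'.op) (elt i F.obj U a t)
  refine hnat.trans ?_
  have hnat2 := ConcreteCategory.congr_hom ((cmp i F).hom.hom.naturality
    ((ProEtS.bcP i).map g).op) s
  refine Eq.trans ?_ hnat2.symm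
  show _ = ((presheafToSheaf (Scheme.ProEt.topology Z) (Type (u + 1))).obj
    (P i F.obj)).obj.map ((ProEtS.bcP i).map g).op s'
  rw [hg, op_comp, Functor.map_comp]
  exact congrArg _ hp

set_option backward.isDefEq.respectTransparency.types false in
/-- the unit is surjective on sections over affine w-contractible objects all of whose points
specialize into `Z` -/
theorem surjective_unit (W : X.ProEt) [IsAffine W.left]
    (hwc : EtPBC.IsWContractible ↥Γ(W.left, ⊤))
    (hW : ∀ v : ↥W.left, ∃ z : ↥W.left, W.hom.base z ∈ Set.range i.base ∧ v ⤳ z) :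
    Function.Surjective (((adj i).unit.app F).hom.app (op W)) := by
  intro s
  have h1 := functorPushforward_liftSieve_mem i F W s
  have h2 := ProEtZLocal.mem_of_functorPushforward_mem i W hW _ h1
  obtain ⟨n, O, -, hdisj, hcov, hR⟩ := ProEtWCrit.forward W hwc _ h2
  choose t ht using hR
  obtain ⟨x, hx, -⟩ := ProEtSheafGlue.existsUnique_glue W O hdisj hcov F t
  refine ⟨x, ?_⟩
  have hcovW := ProEtSheafGlue.generate_ofArrows_mem W O hcov
  have hcovZ := (Groth.Agent.H4.ProEtCont.coverPreserving_bcP i).cover_preserve hcovW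
  have hsep : Presieve.IsSheaf (Scheme.ProEt.topology Z) ((Ψ i).obj F).obj :=
    (isSheaf_iff_isSheaf_of_type _ _).1 ((Ψ i).obj F).2
  refine (hsep _ hcovZ).isSeparatedFor.ext ?_
  rintro Y f ⟨T, m, l, ⟨T0, m', j, ⟨k⟩, rfl⟩, rfl⟩
  have hk : ((Ψ i).obj F).obj.map ((ProEtS.bcP i).map
      (MorphismProperty.Over.homMk (O k).ι : Scheme.ProEt.mk ((O k).ι ≫ W.hom) ⟶ W)).op
        (((adj i).unit.app F).hom.app (op W) x) =
      ((Ψ i).obj F).obj.map ((ProEtS.bcP i).map
      (MorphismProperty.Over.homMk (O k).ι : Scheme.ProEt.mk ((O k).ι ≫ W.hom) ⟶ W)).op s := by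
    rw [← unit_naturality]
    have hxk : F.obj.map (MorphismProperty.Over.homMk (O k).ι :
        Scheme.ProEt.mk ((O k).ι ≫ W.hom) ⟶ W).op x = t k := hx k
    exact (congrArg _ hxk).trans (ht k)
  have e : ∀ y : ((Ψ i).obj F).obj.obj (op ((ProEtS.bcP i).obj W)),
      ((Ψ i).obj F).obj.map (l ≫ (ProEtS.bcP i).map (m' ≫
        (MorphismProperty.Over.homMk (O k).ι : Scheme.ProEt.mk ((O k).ι ≫ W.hom) ⟶ W))).op y =
      ((Ψ i).obj F).obj.map (l ≫ (ProEtS.bcP i).map m').op
        (((Ψ i).obj F).obj.map ((ProEtS.bcP i).map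
          (MorphismProperty.Over.homMk (O k).ι : Scheme.ProEt.mk ((O k).ι ≫ W.hom) ⟶ W)).op y) := by
    intro y
    rw [Functor.map_comp, ← Category.assoc, op_comp, Functor.map_comp]
    rfl
  exact (e _).trans ((congrArg _ hk).trans (e s).symm)

/-- the unit is bijective on sections over affine w-contractible objects all of whose points
specialize into `Z` -/
theorem bijective_unit (W : X.ProEt) [IsAffine W.left]
    (hwc : EtPBC.IsWContractible ↥Γ(W.left, ⊤))
    (hW : ∀ v : ↥W.left, ∃ z : ↥W.left, W.hom.base z ∈ Set.range i.base ∧ v ⤳ z) :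
    Function.Bijective (((adj i).unit.app F).hom.app (op W)) :=
  ⟨injective_unit i F W hW, surjective_unit i F W hwc hW⟩

end Groth.Agent.H27.ProEtClosedUnitSet
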