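import Groth.Agent.H27.ProEtDCConv

/-!
# Derived complete sheaves of modules on the pro-étale site form a weak Serre subcategory
-/

set_option autoImplicit false
set_option linter.style.haveILetI false
open CategoryTheory CategoryTheory.Limits AlgebraicGeometry Opposite
universe u

namespace Groth.Agent.H27.ProEtDCSerre

open ProEtFree ProEtDCNak ProEtDCConv

variable {Λ : Type (u + 1)} [CommRing Λ] {X : Scheme.{u}}

instance (W : X.ProEt) : (ProEtFree.Γ Λ W).IsRightAdjoint := (adjL Λ W).isRightAdjoint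

theorem injective_of_mono {F G : EtModW.ModP Λ X} (φ : F ⟶ G) [Mono φ] (W : X.ProEt) :
    Function.Injective (φ.hom.app (op W)).hom := by
  have : Mono ((ProEtFree.Γ Λ W).map φ) := inferInstance
  exact (ModuleCat.mono_iff_injective _).mp this

theorem exact_of_mono (S : ShortComplex (EtModW.ModP Λ X)) (hS : S.Exact) [Mono S.f]
    (W : X.ProEt) :
    Function.Exact (S.f.hom.app (op W)).hom (S.g.hom.app (op W)).hom := by
  have hS' : (S.map (ProEtFree.Γ Λ W)).Exact :=
    hS.map_of_mono_of_preservesKernel (ProEtFree.Γ Λ W) inferInstance inferInstance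
  rw [ShortComplex.moduleCat_exact_iff] at hS'
  intro y
  constructor
  · intro hy
    exact hS' y hy
  · rintro ⟨x, rfl⟩
    exact congrArg (fun ψ : S.X₁ ⟶ S.X₃ => ψ.hom.app (op W) x) S.zero

theorem exact_kernel {F G : EtModW.ModP Λ X} (φ : F ⟶ G) (W : X.ProEt) :
    Function.Exact ((kernel.ι φ).hom.app (op W)).hom (φ.hom.app (op W)).hom := by
  let S : ShortComplex (EtModW.ModP Λ X) := ShortComplex.mk (kernel.ι φ) φ (kernel.condition φ)
  have hS : S.Exact := ShortComplex.exact_of_f_is_kernel S (kernelIsKernel φ)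
  haveI : Mono S.f := inferInstanceAs (Mono (kernel.ι φ))
  exact exact_of_mono S hS W

theorem exact_cokernel {F G : EtModW.ModP Λ X} (φ : F ⟶ G) {W : X.ProEt}
    (hW : ProEtS.IsWC W) :
    Function.Exact (φ.hom.app (op W)).hom ((cokernel.π φ).hom.app (op W)).hom := by
  intro y
  constructor
  · intro hy
    obtain ⟨k, hk⟩ := (exact_kernel (cokernel.π φ) W y).mp hy
    obtain ⟨x, hx⟩ := ProEtModWC.surjective_of_isWC Λ hW (Abelian.factorThruImage φ) k
    refine ⟨x, ?_⟩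
    have h1 : Abelian.factorThruImage φ ≫ Abelian.image.ι φ = φ := Abelian.image.fac φ
    have h2 := congrArg (fun ψ : F ⟶ G => ψ.hom.app (op W) x) h1
    refine h2.symm.trans ?_
    refine (congrArg ((Abelian.image.ι φ).hom.app (op W)) hx).trans ?_
    exact hk
  · rintro ⟨x, rfl⟩
    exact congrArg (fun ψ : F ⟶ cokernel φ => ψ.hom.app (op W) x) (cokernel.condition φ)

variable (I : Ideal Λ)

theorem kernel_isDC {F G : EtModW.ModP Λ X} (φ : F ⟶ G) (hF : ProEtDC.IsDCSheaf Λ I F)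
    (hG : ProEtDC.IsDCSheaf Λ I G) : ProEtDC.IsDCSheaf Λ I (kernel φ) := by
  rw [isDCSheaf_iff] at hF hG ⊢
  intro f hf W hW1 hW2
  obtain ⟨hF0, hF1⟩ := hF f hf W hW1 hW2
  obtain ⟨hG0, -⟩ := hG f hf W hW1 hW2
  have hinj := injective_of_mono (kernel.ι φ) W
  exact ⟨DerivedNak.T0.of_injective _ hinj hF0,
    DerivedNak.T1.of_exact_left _ _ hinj (exact_kernel φ W) hF1 hG0⟩

theorem cokernel_isDC {F G : EtModW.ModP Λ X} (φ : F ⟶ G) (hF : ProEtDC.IsDCSheaf Λ I F)
    (hG : ProEtDC.IsDCSheaf Λ I G) : ProEtDC.IsDCSheaf Λ I (cokernel φ) := by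
  rw [isDCSheaf_iff] at hF hG ⊢
  intro f hf W hW1 hW2
  obtain ⟨-, hF1⟩ := hF f hf W hW1 hW2
  obtain ⟨hG0, hG1⟩ := hG f hf W hW1 hW2
  have hWC := ProEtIsWC.isWC_of_isWContractible W hW2
  have hsurj : Function.Surjective ((cokernel.π φ).hom.app (op W)).hom :=
    ProEtModWC.surjective_of_isWC Λ hWC (cokernel.π φ)
  exact ⟨DerivedNak.T0.of_exact_right _ _ (exact_cokernel φ hWC) hsurj hF1 hG0,
    DerivedNak.T1.of_surjective _ hsurj hG1⟩

theorem ext_isDC (S : ShortComplex (EtModW.ModP Λ X)) (hS : S.ShortExact)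
    (h1 : ProEtDC.IsDCSheaf Λ I S.X₁) (h3 : ProEtDC.IsDCSheaf Λ I S.X₃) :
    ProEtDC.IsDCSheaf Λ I S.X₂ := by
  rw [isDCSheaf_iff] at h1 h3 ⊢
  intro f hf W hW1 hW2
  obtain ⟨h10, h11⟩ := h1 f hf W hW1 hW2
  obtain ⟨h30, h31⟩ := h3 f hf W hW1 hW2
  have hWC := ProEtIsWC.isWC_of_isWContractible W hW2
  haveI := hS.mono_f
  haveI := hS.epi_g
  have hsurj : Function.Surjective (S.g.hom.app (op W)).hom :=
    ProEtModWC.surjective_of_isWC Λ hWC S.g
  have hinj := injective_of_mono S.f W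
  have hex := exact_of_mono S hS.exact W
  exact ⟨DerivedNak.T0.of_exact _ _ hinj hex h10 h30,
    DerivedNak.T1.of_exact _ _ hex hsurj h11 h31⟩

end Groth.Agent.H27.ProEtDCSerre
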