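import Groth.Agent.H27.ProEtDCHat
import Groth.Agent.H27.ProEtDCSerre

/-!
# Exactness of `M ↦ Γ(W, M_X)` (sections of constant sheaves over weakly contractible objects)
and transport of kernel-type statements along it
-/

set_option autoImplicit false
set_option linter.style.haveILetI false
open CategoryTheory CategoryTheory.Limits AlgebraicGeometry Opposite
universe u

namespace Groth.Agent.H27.ProEtConstExact

open ProEtFree ProEtDCNak ProEtDCConv ProEtDCSerre ProEtDCHat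

variable (Λ : Type (u + 1)) [CommRing Λ] (X : Scheme.{u})

/-- the constant sheaf functor on the pro-étale site -/
noncomputable abbrev cS : ModuleCat.{u + 1} Λ ⥤ EtModW.ModP Λ X :=
  constantSheaf (Scheme.ProEt.topology X) (ModuleCat.{u + 1} Λ)

noncomputable instance : PreservesFiniteLimits (cS Λ X) :=
  inferInstanceAs (PreservesFiniteLimits (Functor.const X.ProEtᵒᵖ ⋙
    presheafToSheaf (Scheme.ProEt.topology X) (ModuleCat.{u + 1} Λ)))

variable {Λ X}

/-- sections over `W` of a map of constant sheaves -/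
noncomputable abbrev Φm (W : X.ProEt) {M N : ModuleCat.{u + 1} Λ} (g : M ⟶ N) :
    ((cS Λ X).obj M).obj.obj (op W) →ₗ[Λ] ((cS Λ X).obj N).obj.obj (op W) :=
  (((cS Λ X).map g).hom.app (op W)).hom

theorem Φm_comp (W : X.ProEt) {M N K : ModuleCat.{u + 1} Λ} (g : M ⟶ N) (h : N ⟶ K)
    (x : ((cS Λ X).obj M).obj.obj (op W)) : Φm W (g ≫ h) x = Φm W h (Φm W g x) := by
  unfold Φm
  rw [Functor.map_comp]
  rfl

theorem Φm_zero (W : X.ProEt) {M N : ModuleCat.{u + 1} Λ}
    (x : ((cS Λ X).obj M).obj.obj (op W)) : Φm W (0 : M ⟶ N) x = 0 := by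
  unfold Φm
  rw [Functor.map_zero]
  rfl

theorem Φm_smul (W : X.ProEt) (a : Λ) (M : ModuleCat.{u + 1} Λ)
    (x : ((cS Λ X).obj M).obj.obj (op W)) : Φm W (a • 𝟙 M) x = a • x := by
  unfold Φm
  rw [constantSheaf_map_smul]
  rfl

theorem Φm_surjective {W : X.ProEt} (hW : ProEtS.IsWC W) {M N : ModuleCat.{u + 1} Λ}
    (g : M ⟶ N) (hg : Function.Surjective g.hom) : Function.Surjective (Φm W g) := by
  haveI : Epi g := (ModuleCat.epi_iff_surjective g).mpr hg
  haveI : Epi ((cS Λ X).map g) := inferInstance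
  exact ProEtModWC.surjective_of_isWC Λ hW ((cS Λ X).map g)

theorem Φm_exact (W : X.ProEt) {M N K : ModuleCat.{u + 1} Λ} (g : M ⟶ N) (h : N ⟶ K)
    (hg : Function.Injective g.hom) (hgh : Function.Exact g.hom h.hom) :
    Function.Exact (Φm W g) (Φm W h) := by
  have w : g ≫ h = 0 := by
    ext x
    exact hgh.apply_apply_eq_zero x
  let S : ShortComplex (ModuleCat.{u + 1} Λ) := ShortComplex.mk g h w
  have hS : S.Exact := by
    rw [ShortComplex.moduleCat_exact_iff]
    intro y hy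
    exact (hgh y).mp hy
  haveI : Mono g := (ModuleCat.mono_iff_injective g).mpr hg
  haveI : Mono (S.map (cS Λ X)).f := inferInstanceAs (Mono ((cS Λ X).map g))
  exact exact_of_mono (S.map (cS Λ X)) (hS.map (cS Λ X)) W

theorem Φm_injective (W : X.ProEt) {M N : ModuleCat.{u + 1} Λ} (g : M ⟶ N)
    (hg : Function.Injective g.hom) : Function.Injective (Φm W g) := by
  haveI : Mono g := (ModuleCat.mono_iff_injective g).mpr hg
  haveI : Mono ((cS Λ X).map g) := inferInstance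
  exact injective_of_mono ((cS Λ X).map g) W

/-- transport of `ker p ∩ ker f ⊆ ker τ` -/
theorem transport_inj (W : X.ProEt) {A B C : ModuleCat.{u + 1} Λ} (p : A ⟶ B) (τ : A ⟶ C) (f : Λ)
    (h : ∀ a : A, p.hom a = 0 → f • a = 0 → τ.hom a = 0)
    (x : ((cS Λ X).obj A).obj.obj (op W)) (h1 : Φm W p x = 0) (h2 : f • x = 0) :
    Φm W τ x = 0 := by
  let E : ModuleCat.{u + 1} Λ := ModuleCat.of Λ (LinearMap.ker p.hom)
  let ιE : E ⟶ A := ModuleCat.ofHom (LinearMap.ker p.hom).subtype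
  have hιE : Function.Injective ιE.hom := Subtype.val_injective
  have hex1 : Function.Exact ιE.hom p.hom := by
    intro a
    constructor
    · intro ha
      exact ⟨⟨a, ha⟩, rfl⟩
    · rintro ⟨e, rfl⟩
      exact e.2
  let φ : E ⟶ E := f • 𝟙 E
  let K : ModuleCat.{u + 1} Λ := ModuleCat.of Λ (LinearMap.ker φ.hom)
  let ιK : K ⟶ E := ModuleCat.ofHom (LinearMap.ker φ.hom).subtype
  have hιK : Function.Injective ιK.hom := Subtype.val_injective
  have hex2 : Function.Exact ιK.hom φ.hom := by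
    intro a
    constructor
    · intro ha
      exact ⟨⟨a, ha⟩, rfl⟩
    · rintro ⟨e, rfl⟩
      exact e.2
  have hzero : ιK ≫ ιE ≫ τ = 0 := by
    ext k
    have hk : f • (k : E) = 0 := k.2
    refine h (k : E).1 (k : E).2 ?_
    exact congrArg Subtype.val hk
  obtain ⟨e, he⟩ := (Φm_exact W ιE p hιE hex1 x).mp h1
  have hfe : Φm W φ e = 0 := by
    apply Φm_injective W ιE hιE
    rw [map_zero, ← Φm_comp]
    have hc : φ ≫ ιE = ιE ≫ (f • 𝟙 A) := by
      simp only [φ, Linear.smul_comp, Linear.comp_smul, Category.id_comp, Category.comp_id]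
    rw [hc, Φm_comp, Φm_smul, he, h2]
  obtain ⟨k, hk⟩ := (Φm_exact W ιK φ hιK hex2 e).mp hfe
  rw [← he, ← hk, ← Φm_comp, ← Φm_comp, hzero, Φm_zero]

/-- transport of `σ (ker p') ⊆ f • ker p` -/
theorem transport_div {W : X.ProEt} (hW : ProEtS.IsWC W) {A' A B' B : ModuleCat.{u + 1} Λ}
    (p' : A' ⟶ B') (p : A ⟶ B) (σ : A' ⟶ A) (f : Λ)
    (h : ∀ a : A', p'.hom a = 0 → ∃ y : A, p.hom y = 0 ∧ σ.hom a = f • y)
    (x : ((cS Λ X).obj A').obj.obj (op W)) (h1 : Φm W p' x = 0) :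
    ∃ y : ((cS Λ X).obj A).obj.obj (op W), Φm W p y = 0 ∧ Φm W σ x = f • y := by
  let E : ModuleCat.{u + 1} Λ := ModuleCat.of Λ (LinearMap.ker p'.hom)
  let ιE : E ⟶ A' := ModuleCat.ofHom (LinearMap.ker p'.hom).subtype
  have hιE : Function.Injective ιE.hom := Subtype.val_injective
  have hex1 : Function.Exact ιE.hom p'.hom := by
    intro a
    constructor
    · intro ha
      exact ⟨⟨a, ha⟩, rfl⟩
    · rintro ⟨e, rfl⟩
      exact e.2
  -- the correspondence
  let Gs : Submodule Λ (A' × A) :=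
    { carrier := {z | p'.hom z.1 = 0 ∧ p.hom z.2 = 0 ∧ σ.hom z.1 = f • z.2}
      add_mem' := by
        rintro a b ⟨ha1, ha2, ha3⟩ ⟨hb1, hb2, hb3⟩
        refine ⟨?_, ?_, ?_⟩
        · simp [ha1, hb1]
        · simp [ha2, hb2]
        · simp [ha3, hb3]
      zero_mem' := by simp
      smul_mem' := by
        rintro c a ⟨ha1, ha2, ha3⟩
        refine ⟨?_, ?_, ?_⟩
        · simp [ha1]
        · simp [ha2]
        · simp [ha3, smul_comm c f] }
  let G : ModuleCat.{u + 1} Λ := ModuleCat.of Λ Gs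
  let pr₁ : G ⟶ E := ModuleCat.ofHom
    { toFun := fun z => ⟨z.1.1, z.2.1⟩
      map_add' := fun _ _ => rfl
      map_smul' := fun _ _ => rfl }
  let pr₂ : G ⟶ A := ModuleCat.ofHom ((LinearMap.snd Λ A' A).comp Gs.subtype)
  have hpr₁ : Function.Surjective pr₁.hom := by
    intro e
    obtain ⟨y, hy1, hy2⟩ := h e.1 e.2
    exact ⟨⟨(e.1, y), e.2, hy1, hy2⟩, rfl⟩
  have hc1 : pr₂ ≫ p = 0 := by
    ext z
    exact z.2.2.1
  have hc2 : pr₁ ≫ ιE ≫ σ = pr₂ ≫ (f • 𝟙 A) := by
    ext z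
    exact z.2.2.2
  obtain ⟨e, he⟩ := (Φm_exact W ιE p' hιE hex1 x).mp h1
  obtain ⟨g, hg⟩ := Φm_surjective hW pr₁ hpr₁ e
  refine ⟨Φm W pr₂ g, ?_, ?_⟩
  · rw [← Φm_comp, hc1, Φm_zero]
  · rw [← he, ← hg, ← Φm_comp, ← Φm_comp, hc2, Φm_comp, Φm_smul]

end Groth.Agent.H27.ProEtConstExact
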