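import Groth.Agent.H27.ProEtDCNak
import Groth.Agent.H27.ExtCoprod
import Groth.Agent.H27.DerivedComplete
import Mathlib.Algebra.Homology.DerivedCategory.Ext.EnoughProjectives
import Mathlib.Algebra.Category.ModuleCat.Projective

/-!
# Derived complete sheaves of modules on the pro-étale site: the section-wise criterion

A sheaf of `Λ`-modules `F` on `X_proet` is derived complete with respect to `I` iff for every
`f ∈ I` and every affine w-contractible `W`, the module `F(W)` is derived `f`-complete.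
-/

set_option autoImplicit false
set_option linter.style.haveILetI false
open CategoryTheory CategoryTheory.Limits AlgebraicGeometry Opposite
universe u

namespace Groth.Agent.H27.ProEtDCConv

open ProEtFree Telescope ProEtDCNak CategoryTheory.Abelian

variable {Λ : Type (u + 1)} [CommRing Λ] {X : Scheme.{u}}

section WC

variable {W : X.ProEt} (hW : ProEtS.IsWC W)

include hW in
theorem preservesEpimorphisms_Γ : (ProEtFree.Γ Λ W).PreservesEpimorphisms where
  preserves {F G} φ hφ := by
    rw [ModuleCat.epi_iff_surjective]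
    exact ProEtModWC.surjective_of_isWC Λ hW φ

include hW in
theorem projective_L (M : ModuleCat.{u + 1} Λ) [Projective M] :
    Projective ((L Λ W).obj M) := by
  haveI := preservesEpimorphisms_Γ (Λ := Λ) hW
  exact (adjL Λ W).map_projective M inferInstance

instance : Projective (ModuleCat.of Λ (Polynomial Λ)) :=
  ModuleCat.projective_of_free (Polynomial.basisMonomials Λ)

variable (f : Λ) (F : EtModW.ModP Λ X)

include hW in
theorem subsingleton_ext_of_T (h0 : DerivedNak.T0 f (F.obj.obj (op W)))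
    (h1 : DerivedNak.T1 f (F.obj.obj (op W))) (n : ℕ) :
    Subsingleton (Ext.{u + 1} (ProEtDC.locExt Λ W f) F n) := by
  have hS := SL_shortExact Λ W f
  haveI : Epi (SL Λ W f).g := hS.epi_g
  haveI hP1 : Projective (SL Λ W f).X₁ := projective_L hW (ModuleCat.of Λ (Polynomial Λ))
  haveI hP2 : Projective (SL Λ W f).X₂ := projective_L hW (ModuleCat.of Λ (Polynomial Λ))
  change Subsingleton (Ext.{u + 1} (SL Λ W f).X₃ F n)
  apply subsingleton_of_forall_eq 0
  intro x₃
  match n, x₃ with
  | 0, x₃ =>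
    obtain ⟨φ, rfl⟩ := (Ext.mk₀_bijective _ _).2 x₃
    obtain ⟨x, hx⟩ := exists_seqHom ((SL Λ W f).g ≫ φ)
    have h2 : seqHom (fun n => x n - f • x (n + 1)) =
        seqHom (fun _ => (0 : F.obj.obj (op W))) := by
      refine (θ_seqHom x).symm.trans ?_
      refine (congrArg (fun t => (SL Λ W f).f ≫ t) hx).trans ?_
      refine (Category.assoc _ _ _).symm.trans ?_
      refine (congrArg (fun t => t ≫ φ) (SL Λ W f).zero).trans ?_
      exact zero_comp.trans seqHom_zero.symm
    have h3 := seqHom_injective _ _ h2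
    have h4 : x = fun _ => 0 := by
      funext n
      apply h0.eq_zero x
      intro k
      have := congrFun h3 k
      exact (sub_eq_zero.mp this).symm
    rw [h4, seqHom_zero] at hx
    have : φ = 0 := by
      rw [← cancel_epi (SL Λ W f).g]
      exact hx.symm.trans comp_zero.symm
    rw [this, Ext.mk₀_zero]
  | 1, x₃ =>
    have h2 : (Ext.mk₀ (SL Λ W f).g).comp x₃ (zero_add 1) = 0 := Ext.eq_zero_of_projective _
    obtain ⟨x₁, hx₁⟩ := Ext.contravariant_sequence_exact₃ hS F x₃ h2 (rfl : 1 + 0 = 1)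
    obtain ⟨φ, rfl⟩ := (Ext.mk₀_bijective _ _).2 x₁
    obtain ⟨y, rfl⟩ := exists_seqHom φ
    obtain ⟨x, hx⟩ := h1 y
    have h3 : seqHom y = (SL Λ W f).f ≫ seqHom x := by
      rw [θ_seqHom]
      congr 1
      funext n
      exact (hx n).symm
    rw [← hx₁, h3]
    have h5 : Ext.mk₀ ((SL Λ W f).f ≫ seqHom x) =
        (Ext.mk₀ (SL Λ W f).f).comp (Ext.mk₀ (seqHom x)) (zero_add 0) :=
      (Ext.mk₀_comp_mk₀ _ _).symm
    rw [h5]
    exact hS.extClass_comp_assoc _
  | n + 2, x₃ =>
    have h2 : (Ext.mk₀ (SL Λ W f).g).comp x₃ (zero_add (n + 2)) = 0 :=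
      Ext.eq_zero_of_projective _
    obtain ⟨x₁, hx₁⟩ := Ext.contravariant_sequence_exact₃ hS F x₃ h2
      (by lia : 1 + (n + 1) = n + 2)
    rw [← hx₁, Ext.eq_zero_of_projective x₁, Ext.comp_zero]

end WC

section FInv

variable (f : Λ)

/-- `f` acts invertibly on the sheaf `G` -/
def FInv (G : EtModW.ModP Λ X) : Prop := IsIso (f • 𝟙 G)

variable {f}

theorem FInv.ker {A B : EtModW.ModP Λ X} (ψ : A ⟶ B) (hA : FInv f A) (hB : FInv f B) :
    FInv f (Limits.kernel ψ) := by
  haveI : IsIso (f • 𝟙 A) := hA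
  haveI : IsIso (f • 𝟙 B) := hB
  have w : ψ ≫ (asIso (f • 𝟙 B)).hom = (asIso (f • 𝟙 A)).hom ≫ ψ := by
    simp only [asIso_hom, Linear.comp_smul, Linear.smul_comp, Category.comp_id, Category.id_comp]
  have h : f • 𝟙 (Limits.kernel ψ) =
      (kernel.mapIso ψ ψ (asIso (f • 𝟙 A)) (asIso (f • 𝟙 B)) w).hom := by
    rw [← cancel_mono (kernel.ι ψ)]
    simp only [kernel.mapIso_hom, kernel.lift_ι, asIso_hom, Linear.comp_smul, Linear.smul_comp,
      Category.comp_id, Category.id_comp]
  unfold FInv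
  rw [h]
  infer_instance

theorem FInv.sigma {ι : Type (u + 1)} (P : ι → EtModW.ModP Λ X) (h : ∀ i, FInv f (P i)) :
    FInv f (∐ P) := by
  haveI : ∀ i, IsIso (f • 𝟙 (P i)) := h
  have h : f • 𝟙 (∐ P) = Limits.Sigma.map (fun i => f • 𝟙 (P i)) := by
    apply Sigma.hom_ext
    intro i
    simp only [Sigma.ι_map, Linear.comp_smul, Linear.smul_comp,
      Category.comp_id, Category.id_comp]
  unfold FInv
  rw [h]
  infer_instance

theorem FInv.bijective {G : EtModW.ModP Λ X} (hG : FInv f G) (V : X.ProEt) :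
    Function.Bijective (fun s : G.obj.obj (op V) => f • s) := by
  haveI : IsIso (f • 𝟙 G) := hG
  have : IsIso ((ProEtFree.Γ Λ V).map (f • 𝟙 G)) := inferInstance
  rw [ConcreteCategory.isIso_iff_bijective] at this
  exact this

theorem L_map_smul (W : X.ProEt) (M : ModuleCat.{u + 1} Λ) :
    (L Λ W).map (f • 𝟙 M) = f • 𝟙 ((L Λ W).obj M) := by
  apply ((adjL Λ W).homEquiv _ _).injective
  rw [Adjunction.homEquiv_unit, Adjunction.homEquiv_unit]
  have h1 : (ProEtFree.Γ Λ W).map (f • 𝟙 ((L Λ W).obj M)) =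
      f • 𝟙 ((ProEtFree.Γ Λ W).obj ((L Λ W).obj M)) := rfl
  rw [h1]
  have h2 : (f • 𝟙 M) ≫ (adjL Λ W).unit.app M =
      (adjL Λ W).unit.app M ≫ (ProEtFree.Γ Λ W).map ((L Λ W).map (f • 𝟙 M)) :=
    (adjL Λ W).unit.naturality (f • 𝟙 M)
  rw [← h2, Linear.comp_smul, Linear.smul_comp, Category.id_comp]
  exact congrArg (fun t => f • t) (Category.comp_id _).symm

theorem FInv_L (W : X.ProEt) :
    FInv f ((L Λ W).obj (ModuleCat.of Λ (Localization.Away f))) := by
  unfold FInv
  rw [← L_map_smul]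
  haveI : IsIso (f • 𝟙 (ModuleCat.of Λ (Localization.Away f))) := by
    rw [ConcreteCategory.isIso_iff_bijective]
    have hu : IsUnit (algebraMap Λ (Localization.Away f) f) :=
      IsLocalization.Away.algebraMap_isUnit f
    have h : ∀ m : Localization.Away f,
        (f • 𝟙 (ModuleCat.of Λ (Localization.Away f))).hom m =
          algebraMap Λ (Localization.Away f) f * m := by
      intro m
      exact Algebra.smul_def f m
    constructor
    · intro a b hab
      change (f • 𝟙 (ModuleCat.of Λ (Localization.Away f))).hom a =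
        (f • 𝟙 (ModuleCat.of Λ (Localization.Away f))).hom b at hab
      rw [h, h] at hab
      exact hu.mul_right_injective hab
    · intro b
      obtain ⟨c, hc⟩ := hu.exists_right_inv
      refine ⟨c * b, ?_⟩
      change (f • 𝟙 (ModuleCat.of Λ (Localization.Away f))).hom (c * b) = b
      rw [h, ← mul_assoc, hc, one_mul]
  infer_instance

end FInv

section Gen

variable {f : Λ} {G : EtModW.ModP Λ X}

/-- the divisible sequence `f^{-n} s` -/
noncomputable def divSeq (hG : FInv f G) {W : X.ProEt} (s : G.obj.obj (op W)) :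
    ℕ → G.obj.obj (op W) :=
  fun n => (Equiv.ofBijective _ (hG.bijective W)).symm^[n] s

theorem divSeq_zero (hG : FInv f G) {W : X.ProEt} (s : G.obj.obj (op W)) :
    divSeq hG s 0 = s := rfl

theorem smul_divSeq (hG : FInv f G) {W : X.ProEt} (s : G.obj.obj (op W)) (n : ℕ) :
    f • divSeq hG s (n + 1) = divSeq hG s n := by
  unfold divSeq
  rw [Function.iterate_succ_apply']
  exact (Equiv.ofBijective _ (hG.bijective W)).apply_symm_apply _

theorem f_seqHom_divSeq (hG : FInv f G) {W : X.ProEt} (s : G.obj.obj (op W)) :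
    (SL Λ W f).f ≫ seqHom (divSeq hG s) = 0 := by
  refine (θ_seqHom _).trans ?_
  have : (fun n => divSeq hG s n - f • divSeq hG s (n + 1)) = fun _ => 0 := by
    funext n
    rw [smul_divSeq, sub_self]
  rw [this]
  exact seqHom_zero

/-- the morphism `j_{W!} Λ_f ⟶ G` attached to a section `s ∈ G(W)` -/
noncomputable def genHom (hG : FInv f G) {W : X.ProEt} (s : G.obj.obj (op W)) :
    (SL Λ W f).X₃ ⟶ G :=
  haveI : Epi (SL Λ W f).g := (SL_shortExact Λ W f).epi_g
  (SL_shortExact Λ W f).exact.desc (seqHom (divSeq hG s)) (f_seqHom_divSeq hG s)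

theorem g_genHom (hG : FInv f G) {W : X.ProEt} (s : G.obj.obj (op W)) :
    (SL Λ W f).g ≫ genHom hG s = seqHom (divSeq hG s) := by
  haveI : Epi (SL Λ W f).g := (SL_shortExact Λ W f).epi_g
  exact (SL_shortExact Λ W f).exact.g_desc _ _

theorem seqHom_app_unit {W : X.ProEt} (x : ℕ → G.obj.obj (op W)) :
    (seqHom x).hom.app (op W)
      (((adjL Λ W).unit.app (ModuleCat.of Λ (Polynomial Λ))).hom (1 : Polynomial Λ)) = x 0 := by
  have h1 : (adjL Λ W).homEquiv _ _ (seqHom x) = ModuleCat.ofHom (seqMap x) :=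
    Equiv.apply_symm_apply _ _
  rw [Adjunction.homEquiv_unit] at h1
  have h2 := congrArg (fun φ => φ.hom (1 : Polynomial Λ)) h1
  refine h2.trans ?_
  change seqMap x (1 : Polynomial Λ) = x 0
  rw [← pow_zero (Polynomial.X : Polynomial Λ), seqMap_X_pow]

theorem exists_genHom_app (hG : FInv f G) {W : X.ProEt} (s : G.obj.obj (op W)) :
    ∃ e : (SL Λ W f).X₃.obj.obj (op W), (genHom hG s).hom.app (op W) e = s := by
  refine ⟨(SL Λ W f).g.hom.app (op W)
    (((adjL Λ W).unit.app (ModuleCat.of Λ (Polynomial Λ))).hom (1 : Polynomial Λ)), ?_⟩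
  have h1 := congrArg (fun φ : (SL Λ W f).X₂ ⟶ G => φ.hom.app (op W)
    (((adjL Λ W).unit.app (ModuleCat.of Λ (Polynomial Λ))).hom (1 : Polynomial Λ)))
    (g_genHom hG s)
  refine h1.trans ?_
  exact (seqHom_app_unit _).trans (divSeq_zero hG s)

end Gen

section Main

/-- a morphism of sheaves of modules which is surjective on sections over all affine
w-contractible objects is an epimorphism -/
theorem epi_of_surjective_wc {A G : EtModW.ModP Λ X} (φ : A ⟶ G)
    (h : ∀ W : X.ProEt, IsAffine W.left → EtPBC.IsWContractible ↥Γ(W.left, ⊤) →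
      Function.Surjective (φ.hom.app (op W))) : Epi φ := by
  have hz : IsZero (cokernel φ) := by
    apply isZero_of_subsingleton_wc
    intro W hW1 hW2
    have hWC := ProEtIsWC.isWC_of_isWContractible W hW2
    have key : ∀ c : (cokernel φ).obj.obj (op W), c = 0 := by
      intro c
      obtain ⟨g, rfl⟩ := ProEtModWC.surjective_of_isWC Λ hWC (cokernel.π φ) c
      obtain ⟨a, rfl⟩ := h W hW1 hW2 g
      exact congrArg (fun ψ : A ⟶ cokernel φ => ψ.hom.app (op W) a) (cokernel.condition φ)
    exact ⟨fun a b => by rw [key a, key b]⟩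
  exact Abelian.epi_of_cokernel_π_eq_zero φ (hz.eq_of_tgt _ _)

variable (f : Λ)

/-- index set for the canonical generators of `G` -/
abbrev Idx (G : EtModW.ModP Λ X) : Type (u + 1) :=
  Σ W : (ProEtIsoWC.wcProp X).FullSubcategory, G.obj.obj (op W.obj)

/-- the family of generators -/
noncomputable abbrev Pfam (G : EtModW.ModP Λ X) : Idx G → EtModW.ModP Λ X :=
  fun i => (SL Λ i.1.obj f).X₃

variable {f}

/-- the canonical epimorphism from a coproduct of `j_{W!} Λ_f`'s -/
noncomputable def πG {G : EtModW.ModP Λ X} (hG : FInv f G) : ∐ (Pfam f G) ⟶ G :=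
  Sigma.desc (fun i => genHom hG i.2)

theorem epi_πG {G : EtModW.ModP Λ X} (hG : FInv f G) : Epi (πG hG) := by
  apply epi_of_surjective_wc
  intro W hW1 hW2 s
  let i : Idx G := ⟨⟨W, hW1, hW2⟩, s⟩
  obtain ⟨e, he⟩ := exists_genHom_app hG s
  refine ⟨(Sigma.ι (Pfam f G) i).hom.app (op W) e, ?_⟩
  have h1 : Sigma.ι (Pfam f G) i ≫ πG hG = genHom hG s := Sigma.ι_desc _ _
  have h2 := congrArg (fun ψ : Pfam f G i ⟶ G => ψ.hom.app (op W) e) h1
  exact h2.trans he

theorem FInv_sigma_Pfam (G : EtModW.ModP Λ X) : FInv f (∐ (Pfam f G)) :=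
  FInv.sigma _ (fun i => FInv_L i.1.obj)

variable (f) (F : EtModW.ModP Λ X)

theorem subsingleton_ext_Pfam
    (hF : ∀ W : X.ProEt, IsAffine W.left → EtPBC.IsWContractible ↥Γ(W.left, ⊤) →
      DerivedNak.T0 f (F.obj.obj (op W)) ∧ DerivedNak.T1 f (F.obj.obj (op W)))
    (G : EtModW.ModP Λ X) (n : ℕ) : Subsingleton (Ext.{u + 1} (∐ (Pfam f G)) F n) := by
  apply ExtCoprod.subsingleton_sigma
  intro i
  haveI := i.1.property.1
  have hWC := ProEtIsWC.isWC_of_isWContractible i.1.obj i.1.property.2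
  exact subsingleton_ext_of_T hWC f F (hF _ i.1.property.1 i.1.property.2).1
    (hF _ i.1.property.1 i.1.property.2).2 n

/-- if the sections of `F` over affine w-contractible objects are derived `f`-complete, then
`Ext^n(G, F) = 0` for every sheaf `G` on which `f` acts invertibly -/
theorem subsingleton_ext_of_FInv
    (hF : ∀ W : X.ProEt, IsAffine W.left → EtPBC.IsWContractible ↥Γ(W.left, ⊤) →
      DerivedNak.T0 f (F.obj.obj (op W)) ∧ DerivedNak.T1 f (F.obj.obj (op W))) :
    ∀ (n : ℕ) (G : EtModW.ModP Λ X), FInv f G → Subsingleton (Ext.{u + 1} G F n) := by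
  intro n
  induction n with
  | zero =>
    intro G hG
    haveI := epi_πG hG
    haveI := subsingleton_ext_Pfam f F hF G 0
    apply subsingleton_of_forall_eq 0
    intro x
    obtain ⟨φ, rfl⟩ := (Ext.mk₀_bijective _ _).2 x
    have h1 : πG hG ≫ φ = 0 := by
      have := Subsingleton.elim (Ext.mk₀ (πG hG ≫ φ)) 0
      rwa [Ext.mk₀_eq_zero_iff] at this
    have h2 : φ = 0 := by rw [← cancel_epi (πG hG), h1, comp_zero]
    rw [h2, Ext.mk₀_zero]
  | succ n ih =>
    intro G hG
    haveI := epi_πG hG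
    let S : ShortComplex (EtModW.ModP Λ X) :=
      ShortComplex.mk (kernel.ι (πG hG)) (πG hG) (kernel.condition _)
    have hS : S.ShortExact := by
      haveI : Mono S.f := inferInstanceAs (Mono (kernel.ι (πG hG)))
      haveI : Epi S.g := inferInstanceAs (Epi (πG hG))
      exact ShortComplex.ShortExact.mk (ShortComplex.exact_of_f_is_kernel S (kernelIsKernel _))
    have hK : FInv f (kernel (πG hG)) := FInv.ker _ (FInv_sigma_Pfam G) hG
    haveI : Subsingleton (Ext.{u + 1} S.X₁ F n) := ih (kernel (πG hG)) hK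
    haveI : Subsingleton (Ext.{u + 1} S.X₂ F (n + 1)) := subsingleton_ext_Pfam f F hF G (n + 1)
    apply subsingleton_of_forall_eq 0
    intro x₃
    have h2 : (Ext.mk₀ S.g).comp x₃ (zero_add (n + 1)) = 0 := Subsingleton.elim _ _
    obtain ⟨x₁, hx₁⟩ := Ext.contravariant_sequence_exact₃ hS F x₃ h2 (by lia : 1 + n = n + 1)
    rw [← hx₁, Subsingleton.elim x₁ 0, Ext.comp_zero]

variable {F}

/-- **Section-wise criterion for derived completeness.** -/
theorem isDCSheaf_iff (I : Ideal Λ) :
    ProEtDC.IsDCSheaf Λ I F ↔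
      ∀ f ∈ I, ∀ W : X.ProEt, IsAffine W.left → EtPBC.IsWContractible ↥Γ(W.left, ⊤) →
        DerivedNak.T0 f (F.obj.obj (op W)) ∧ DerivedNak.T1 f (F.obj.obj (op W)) := by
  constructor
  · intro h f hf W _ _
    exact ⟨T0_of_subsingleton (h W f hf 0), T1_of_subsingleton (h W f hf 1)⟩
  · intro h U f hf n
    exact subsingleton_ext_of_FInv f F (h f hf) n _ (FInv_L U)

end Main

end Groth.Agent.H27.ProEtDCConv
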