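import Groth.Agent.H27.ProEtDCLim

/-!
# The completed constant sheaf `Λ^ = lim Λ/I^n` on the pro-étale site is derived complete
-/

set_option autoImplicit false
set_option linter.style.haveILetI false
open CategoryTheory CategoryTheory.Limits AlgebraicGeometry Opposite
universe u

namespace Groth.Agent.H27.ProEtDCHat

open ProEtFree ProEtDCNak ProEtDCConv

variable {Λ : Type (u + 1)} [CommRing Λ] {X : Scheme.{u}}

/-- a left adjoint of a functor which is linear on scalar multiples of identities is linear on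
scalar multiples of identities -/
theorem map_smul_id_of_adj {C D : Type*} [Category C] [Category D] [Preadditive C]
    [Preadditive D] [Linear Λ C] [Linear Λ D] {Lf : C ⥤ D} {R : D ⥤ C} (adj : Lf ⊣ R)
    (hR : ∀ (a : Λ) (Y : D), R.map (a • 𝟙 Y) = a • 𝟙 (R.obj Y)) (a : Λ) (M : C) :
    Lf.map (a • 𝟙 M) = a • 𝟙 (Lf.obj M) := by
  apply (adj.homEquiv _ _).injective
  rw [Adjunction.homEquiv_unit, Adjunction.homEquiv_unit, hR]
  have h2 : (a • 𝟙 M) ≫ adj.unit.app M = adj.unit.app M ≫ R.map (Lf.map (a • 𝟙 M)) :=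
    adj.unit.naturality (a • 𝟙 M)
  rw [← h2, Linear.comp_smul, Linear.smul_comp, Category.id_comp]
  exact congrArg (fun t => a • t) (Category.comp_id _).symm

theorem constantSheaf_map_smul (a : Λ) (M : ModuleCat.{u + 1} Λ) :
    (constantSheaf (Scheme.ProEt.topology X) (ModuleCat.{u + 1} Λ)).map (a • 𝟙 M) =
      a • 𝟙 ((constantSheaf (Scheme.ProEt.topology X) (ModuleCat.{u + 1} Λ)).obj M) := by
  change (presheafToSheaf (Scheme.ProEt.topology X) (ModuleCat.{u + 1} Λ)).map
    ((Functor.const X.ProEtᵒᵖ).map (a • 𝟙 M)) = _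
  have h1 : (Functor.const X.ProEtᵒᵖ).map (a • 𝟙 M) =
      a • 𝟙 ((Functor.const X.ProEtᵒᵖ).obj M) := by
    ext U : 2
    rfl
  rw [h1]
  exact map_smul_id_of_adj
    (sheafificationAdjunction (Scheme.ProEt.topology X) (ModuleCat.{u + 1} Λ))
    (fun _ _ => rfl) a _

/-- the sections of a constant sheaf with value a module killed by `a` are killed by `a` -/
theorem smul_sections_eq_zero (a : Λ) (M : ModuleCat.{u + 1} Λ) (h : ∀ m : M, a • m = 0)
    (W : X.ProEt)
    (s : ((constantSheaf (Scheme.ProEt.topology X) (ModuleCat.{u + 1} Λ)).obj M).obj.obj (op W)) :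
    a • s = 0 := by
  have h0 : a • 𝟙 M = 0 := by
    ext m
    exact h m
  have h1 := constantSheaf_map_smul (X := X) a M
  rw [h0, Functor.map_zero] at h1
  exact (congrArg (fun ψ : (constantSheaf (Scheme.ProEt.topology X)
    (ModuleCat.{u + 1} Λ)).obj M ⟶ _ => ψ.hom.app (op W) s) h1).symm

theorem constantSheaf_quot_isDC (I : Ideal Λ) (n : ℕ) :
    ProEtDC.IsDCSheaf Λ I ((constantSheaf (Scheme.ProEt.topology X) (ModuleCat.{u + 1} Λ)).obj
      (ModuleCat.of Λ (Λ ⧸ (I ^ n • ⊤ : Submodule Λ Λ)))) := by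
  rw [isDCSheaf_iff]
  intro f hf W _ _
  have hkill : ∀ m : Λ ⧸ (I ^ n • ⊤ : Submodule Λ Λ), f ^ n • m = 0 := by
    intro m
    obtain ⟨m, rfl⟩ := Submodule.Quotient.mk_surjective _ m
    rw [← Submodule.Quotient.mk_smul, Submodule.Quotient.mk_eq_zero]
    exact Submodule.smul_mem_smul (Ideal.pow_mem_pow hf n) trivial
  have h := smul_sections_eq_zero (X := X) (f ^ n)
    (ModuleCat.of Λ (Λ ⧸ (I ^ n • ⊤ : Submodule Λ Λ))) hkill W
  exact ⟨DerivedNak.T0_of_pow_smul n h, DerivedNak.T1_of_pow_smul n h⟩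

theorem lambdaHat_isDC (I : Ideal Λ) : ProEtDC.IsDCSheaf Λ I (ProEtDC.lambdaHat Λ X I) := by
  apply ProEtDCLim.limit_isDC
  intro j
  exact constantSheaf_quot_isDC I j.unop

end Groth.Agent.H27.ProEtDCHat
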