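import Mathlib

/-!
# The telescope presentation `0 → Λ[X] → Λ[X] → Λ_f → 0` of a localization
-/

set_option autoImplicit false
open Polynomial CategoryTheory
universe w

namespace Groth.Agent.H27.Telescope

variable {Λ : Type w} [CommRing Λ] (f : Λ)

/-- multiplication by `1 - f X` -/
noncomputable def θ : Λ[X] →ₗ[Λ] Λ[X] := LinearMap.mulLeft Λ (1 - C f * X)

theorem θ_apply (p : Λ[X]) : θ f p = (1 - C f * X) * p := rfl

theorem θ_X_pow (n : ℕ) : θ f (X ^ n) = X ^ n - f • X ^ (n + 1) := by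
  rw [θ_apply, Polynomial.smul_eq_C_mul, pow_succ]
  ring

theorem θ_injective : Function.Injective (θ f) := by
  rw [← LinearMap.ker_eq_bot, LinearMap.ker_eq_bot']
  intro p hp
  rw [θ_apply] at hp
  apply Polynomial.coe_injective Λ
  have h1 : ((1 - C f * X : Λ[X]) : PowerSeries Λ) * (p : PowerSeries Λ) = 0 := by
    rw [← Polynomial.coe_mul, hp, Polynomial.coe_zero]
  have hu : IsUnit ((1 - C f * X : Λ[X]) : PowerSeries Λ) := by
    rw [PowerSeries.isUnit_iff_constantCoeff]
    simp
  rw [Polynomial.coe_zero]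
  exact (hu.mul_right_eq_zero).mp h1

/-- the quotient map to the localization -/
noncomputable def q : Λ[X] →ₗ[Λ] Localization.Away f :=
  (Localization.awayEquivAdjoin f).symm.toLinearMap ∘ₗ (AdjoinRoot.mkₐ (C f * X - 1)).toLinearMap

theorem q_surjective : Function.Surjective (q f) := by
  unfold q
  rw [LinearMap.coe_comp]
  exact (Localization.awayEquivAdjoin f).symm.surjective.comp AdjoinRoot.mk_surjective

theorem q_eq_zero_iff (p : Λ[X]) : q f p = 0 ↔ ∃ g, θ f g = p := by
  unfold q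
  rw [LinearMap.comp_apply]
  change (Localization.awayEquivAdjoin f).symm (AdjoinRoot.mk (C f * X - 1) p) = 0 ↔ _
  rw [EmbeddingLike.map_eq_zero_iff, AdjoinRoot.mk_eq_zero]
  constructor
  · rintro ⟨g, rfl⟩
    exact ⟨-g, by rw [θ_apply]; ring⟩
  · rintro ⟨g, rfl⟩
    exact ⟨-g, by rw [θ_apply]; ring⟩

theorem q_comp_θ : q f ∘ₗ θ f = 0 := by
  apply LinearMap.ext
  intro p
  rw [LinearMap.comp_apply, LinearMap.zero_apply, q_eq_zero_iff]
  exact ⟨p, rfl⟩

/-- the linear map `Λ[X] → M` attached to a sequence -/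
noncomputable def seqMap {M : Type*} [AddCommGroup M] [Module Λ M] (x : ℕ → M) : Λ[X] →ₗ[Λ] M :=
  (Polynomial.basisMonomials Λ).constr Λ x

theorem seqMap_X_pow {M : Type*} [AddCommGroup M] [Module Λ M] (x : ℕ → M) (n : ℕ) :
    seqMap x (X ^ n : Λ[X]) = x n := by
  unfold seqMap
  have : (X ^ n : Λ[X]) = Polynomial.basisMonomials Λ n := by
    rw [Polynomial.coe_basisMonomials]
    exact (Polynomial.monomial_one_right_eq_X_pow n).symm
  rw [this, Module.Basis.constr_basis]

theorem seqMap_θ {M : Type*} [AddCommGroup M] [Module Λ M] (x : ℕ → M) (n : ℕ) :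
    seqMap x (θ f (X ^ n)) = x n - f • x (n + 1) := by
  rw [θ_X_pow, map_sub, map_smul, seqMap_X_pow, seqMap_X_pow]

theorem seqMap_eq {M : Type*} [AddCommGroup M] [Module Λ M] (φ : Λ[X] →ₗ[Λ] M) :
    seqMap (fun n => φ (X ^ n)) = φ := by
  apply (Polynomial.basisMonomials Λ).ext
  intro n
  have : Polynomial.basisMonomials Λ n = (X ^ n : Λ[X]) := by
    rw [Polynomial.coe_basisMonomials]
    exact Polynomial.monomial_one_right_eq_X_pow n
  rw [this, seqMap_X_pow]

/-- the telescope short complex in `ModuleCat` -/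
noncomputable def S : ShortComplex (ModuleCat.{w} Λ) :=
  ShortComplex.mk (ModuleCat.ofHom (θ f)) (ModuleCat.ofHom (q f)) (by
    rw [← ModuleCat.ofHom_comp, q_comp_θ]
    rfl)

theorem S_shortExact : (S f).ShortExact := by
  haveI : Mono (S f).f := (ModuleCat.mono_iff_injective _).mpr (θ_injective f)
  haveI : Epi (S f).g := (ModuleCat.epi_iff_surjective _).mpr (q_surjective f)
  refine ShortComplex.ShortExact.mk ?_
  rw [ShortComplex.moduleCat_exact_iff]
  intro p hp
  exact (q_eq_zero_iff f p).mp hp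

end Groth.Agent.H27.Telescope
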