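import Groth.Agent.H27.ProEtFree
import Groth.Agent.H27.Telescope
import Groth.Agent.H27.DerivedNak
import Groth.Agent.H27.ProEtModWC
import Groth.Agent.H27.ProEtIsoWC
import Groth.Agent.H27.ProEtIsWC

/-!
# Derived Nakayama for derived complete sheaves of modules on the pro-étale site
-/

set_option autoImplicit false
set_option linter.style.haveILetI false
open CategoryTheory CategoryTheory.Limits AlgebraicGeometry Opposite
universe u

namespace Groth.Agent.H27.ProEtDCNak

open ProEtFree Telescope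

variable (Λ : Type (u + 1)) [CommRing Λ] {X : Scheme.{u}} (W : X.ProEt) (f : Λ)

instance : (L Λ W).IsLeftAdjoint := (adjL Λ W).isLeftAdjoint

instance : (ProEtFree.Γ Λ W).Additive := ⟨fun {_ _ _ _} => rfl⟩

instance : (L Λ W).Additive := (adjL Λ W).left_adjoint_additive

/-- the telescope short exact sequence `0 → j_!Λ[X] → j_!Λ[X] → j_!Λ_f → 0` -/
noncomputable def SL : ShortComplex (EtModW.ModP Λ X) := (Telescope.S f).map (L Λ W)

theorem SL_shortExact : (SL Λ W f).ShortExact := by
  have hS := Telescope.S_shortExact f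
  have hex : (SL Λ W f).Exact :=
    hS.exact.map_of_epi_of_preservesCokernel (L Λ W) hS.epi_g inferInstance
  haveI : Mono (Telescope.S f).f := hS.mono_f
  haveI : Epi (Telescope.S f).g := hS.epi_g
  haveI : Mono (SL Λ W f).f := inferInstanceAs (Mono ((L Λ W).map (Telescope.S f).f))
  haveI : Epi (SL Λ W f).g := inferInstanceAs (Epi ((L Λ W).map (Telescope.S f).g))
  exact ShortComplex.ShortExact.mk hex

theorem SL_X₃ : (SL Λ W f).X₃ = ProEtDC.locExt Λ W f := rfl

variable {Λ W f}
variable {F : EtModW.ModP Λ X}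

/-- the morphism `j_!Λ[X] ⟶ F` attached to a sequence of sections -/
noncomputable def seqHom (x : ℕ → F.obj.obj (op W)) :
    (L Λ W).obj (ModuleCat.of Λ (Polynomial Λ)) ⟶ F :=
  ((adjL Λ W).homEquiv _ _).symm (ModuleCat.ofHom (seqMap x))

theorem θ_seqHom (x : ℕ → F.obj.obj (op W)) :
    (SL Λ W f).f ≫ seqHom x = seqHom (fun n => x n - f • x (n + 1)) := by
  unfold seqHom
  change (L Λ W).map (ModuleCat.ofHom (θ f)) ≫ _ = _
  rw [← Adjunction.homEquiv_naturality_left_symm]
  congr 1
  apply ModuleCat.hom_ext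
  apply (Polynomial.basisMonomials Λ).ext
  intro n
  have : Polynomial.basisMonomials Λ n = (Polynomial.X ^ n : Polynomial Λ) := by
    rw [Polynomial.coe_basisMonomials]
    exact Polynomial.monomial_one_right_eq_X_pow n
  rw [this]
  change seqMap x (θ f (Polynomial.X ^ n)) = seqMap _ (Polynomial.X ^ n)
  rw [seqMap_θ, seqMap_X_pow]

theorem seqHom_injective (x y : ℕ → F.obj.obj (op W)) (h : seqHom x = seqHom y) : x = y := by
  unfold seqHom at h
  have h1 := ((adjL Λ W).homEquiv _ _).symm.injective h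
  funext n
  have h2 := congrArg (fun φ => φ.hom (Polynomial.X ^ n : Polynomial Λ)) h1
  change seqMap x (Polynomial.X ^ n) = seqMap y (Polynomial.X ^ n) at h2
  rwa [seqMap_X_pow, seqMap_X_pow] at h2

theorem exists_seqHom (φ : (L Λ W).obj (ModuleCat.of Λ (Polynomial Λ)) ⟶ F) :
    ∃ x : ℕ → F.obj.obj (op W), seqHom x = φ := by
  refine ⟨fun n => ((adjL Λ W).homEquiv _ _ φ).hom (Polynomial.X ^ n : Polynomial Λ), ?_⟩
  unfold seqHom
  rw [Equiv.symm_apply_eq]
  apply ModuleCat.hom_ext
  exact seqMap_eq _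

theorem seqHom_zero :
    seqHom (Λ := Λ) (W := W) (F := F) (fun _ => (0 : F.obj.obj (op W))) = 0 := by
  unfold seqHom
  have h0 : seqMap (Λ := Λ) (fun _ : ℕ => (0 : F.obj.obj (op W))) = 0 := by
    apply (Polynomial.basisMonomials Λ).ext
    intro n
    have : Polynomial.basisMonomials Λ n = (Polynomial.X ^ n : Polynomial Λ) := by
      rw [Polynomial.coe_basisMonomials]
      exact Polynomial.monomial_one_right_eq_X_pow n
    rw [this, seqMap_X_pow]
    rfl
  rw [h0]
  have : ModuleCat.ofHom (0 : Polynomial Λ →ₗ[Λ] F.obj.obj (op W)) = 0 := rfl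
  rw [this, Adjunction.homEquiv_counit, Functor.map_zero, zero_comp]

theorem T0_of_subsingleton
    (h : Subsingleton (Abelian.Ext.{u + 1} (ProEtDC.locExt Λ W f) F 0)) :
    DerivedNak.T0 f (F.obj.obj (op W)) := by
  intro x hx
  have hS := SL_shortExact Λ W f
  haveI : Epi (SL Λ W f).g := hS.epi_g
  haveI : Subsingleton (Abelian.Ext.{u + 1} (SL Λ W f).X₃ F 0) := h
  have h1 : (SL Λ W f).f ≫ seqHom x = 0 := by
    rw [θ_seqHom]
    have : (fun n => x n - f • x (n + 1)) = fun _ => 0 := by
      funext n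
      rw [hx n, sub_self]
    rw [this]
    exact seqHom_zero
  have h2 : hS.exact.desc (seqHom x) h1 = 0 := by
    have hsub : Subsingleton ((SL Λ W f).X₃ ⟶ F) :=
      (Abelian.Ext.homEquiv₀ (X := (SL Λ W f).X₃) (Y := F)).symm.subsingleton
    exact Subsingleton.elim _ _
  have h3 : seqHom x = seqHom (fun _ => (0 : F.obj.obj (op W))) := by
    rw [seqHom_zero]
    have := hS.exact.g_desc (seqHom x) h1
    rw [h2, comp_zero] at this
    exact this.symm
  exact congrFun (seqHom_injective _ _ h3) 0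

theorem T1_of_subsingleton
    (h : Subsingleton (Abelian.Ext.{u + 1} (ProEtDC.locExt Λ W f) F 1)) :
    DerivedNak.T1 f (F.obj.obj (op W)) := by
  intro y
  have hS := SL_shortExact Λ W f
  haveI : Subsingleton (Abelian.Ext.{u + 1} (SL Λ W f).X₃ F 1) := h
  obtain ⟨x₂, hx₂⟩ := Abelian.Ext.contravariant_sequence_exact₁ hS F
    (Abelian.Ext.mk₀ (seqHom y)) (by rfl : 1 + 0 = 1) (Subsingleton.elim _ _)
  obtain ⟨φ, rfl⟩ := (Abelian.Ext.mk₀_bijective.{u + 1} _ _).2 x₂
  rw [Abelian.Ext.mk₀_comp_mk₀] at hx₂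
  have h1 := (Abelian.Ext.mk₀_bijective.{u + 1} _ _).1 hx₂
  obtain ⟨x, rfl⟩ := exists_seqHom φ
  rw [θ_seqHom] at h1
  have h2 := seqHom_injective _ _ h1
  exact ⟨x, fun n => congrFun h2 n⟩

theorem smulHom_eq (F : EtModW.ModP Λ X) (a : Λ) : ProEtDC.smulHom Λ F a = a • 𝟙 F := by
  ext U x
  rfl

/-- a sheaf of modules whose sections over affine w-contractible objects are trivial is zero -/
theorem isZero_of_subsingleton_wc (G : EtModW.ModP Λ X)
    (h : ∀ W : X.ProEt, IsAffine W.left → EtPBC.IsWContractible ↥Γ(W.left, ⊤) →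
      Subsingleton (G.obj.obj (op W))) : IsZero G := by
  haveI : IsIso (0 : G ⟶ G) := by
    apply ProEtIsoWC.isIso_of_isIso_app
    intro W hW1 hW2
    haveI := h W hW1 hW2
    rw [ConcreteCategory.isIso_iff_bijective]
    constructor
    · intro a b _
      exact Subsingleton.elim _ _
    · intro b
      exact ⟨b, Subsingleton.elim _ _⟩
  rw [IsZero.iff_id_eq_zero]
  have : (0 : G ⟶ G) ≫ inv (0 : G ⟶ G) = 𝟙 G := IsIso.hom_inv_id _
  rw [← this, zero_comp]

/-- **Derived Nakayama for sheaves.** -/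
theorem main {r : ℕ} (a : Fin r → Λ) (F : EtModW.ModP Λ X)
    (hF : ProEtDC.IsDCSheaf Λ (Ideal.span (Set.range a)) F)
    (h0 : ProEtDC.ModGensIsZero Λ a F) : IsZero F := by
  apply isZero_of_subsingleton_wc
  intro W hW1 hW2
  have hWC := ProEtIsWC.isWC_of_isWContractible W hW2
  apply DerivedNak.subsingleton_of_fin a
  · intro k
    have hk : a k ∈ Ideal.span (Set.range a) := Ideal.subset_span ⟨k, rfl⟩
    exact ⟨T0_of_subsingleton (hF W (a k) hk 0), T1_of_subsingleton (hF W (a k) hk 1)⟩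
  · intro m
    haveI hepi : Epi (ProEtModWC.gens a F) := by
      unfold ProEtModWC.gens
      have : (fun k : Fin r => (a k) • 𝟙 F) = fun k => ProEtDC.smulHom Λ F (a k) := by
        funext k
        exact (smulHom_eq F (a k)).symm
      rw [this]
      exact h0
    obtain ⟨x, hx⟩ := ProEtModWC.surjective_of_isWC Λ hWC (ProEtModWC.gens a F) m
    rw [← hx]
    exact ProEtModWC.gens_app_mem a W rfl x

end Groth.Agent.H27.ProEtDCNak
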