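import Groth.Agent.H27.ProEtPoint
import Groth.Agent.H27.ProEtWCover

/-!
# The small pro-étale site has enough points
-/

set_option autoImplicit false
set_option linter.style.haveILetI false
open CategoryTheory CategoryTheory.Limits AlgebraicGeometry Opposite
universe u

namespace Groth.Agent.H27.ProEtEnoughPoints

open GrothendieckTopology.Point.ofIsCofiltered

/-- index type of the conservative family: points of affine w-contractible objects -/
structure Idx (S : Scheme.{u}) : Type (u + 1) where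
  /-- the object -/
  W : S.ProEt
  aff : IsAffine W.left
  wc : EtPBC.IsWContractible ↥Γ(W.left, ⊤)
  /-- the point -/
  m : W.left

/-- the point attached to an index -/
noncomputable def Idx.pt {S : Scheme.{u}} (i : Idx S) :
    GrothendieckTopology.Point.{u + 1} (Scheme.ProEt.topology S) :=
  haveI := i.aff
  ProEtPoint.pt i.W i.m i.wc

set_option backward.isDefEq.respectTransparency.types false in
/-- key step: if all points lift along a sieve, then locally around each point of an affine
w-contractible object the sieve contains a clopen neighbourhood -/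
theorem exists_clopen {S : Scheme.{u}} {X : S.ProEt} (R : Sieve X) (i : Idx S) (c : i.W ⟶ X)
    (hR : ∀ (x : i.pt.fiber.obj X), ∃ (Y : S.ProEt) (g : Y ⟶ X) (_ : R g)
      (y : i.pt.fiber.obj Y), i.pt.fiber.map g y = x) :
    ∃ T : i.W.left.Opens, i.m ∈ T ∧
      R ((MorphismProperty.Over.homMk T.ι : Scheme.ProEt.mk (T.ι ≫ i.W.hom) ⟶ i.W) ≫ c) := by
  haveI := i.aff
  let top : ProEtPoint.Nbhd i.W i.m := ⟨⊤, isClopen_univ, trivial⟩
  let f₀ : (ProEtPoint.p i.W i.m).obj top ⟶ X :=
    (MorphismProperty.Over.homMk (⊤ : i.W.left.Opens).ι :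
      Scheme.ProEt.mk ((⊤ : i.W.left.Opens).ι ≫ i.W.hom) ⟶ i.W) ≫ c
  obtain ⟨Y, g, hg, y, hy⟩ := hR (fiberMk (p := ProEtPoint.p i.W i.m) f₀)
  obtain ⟨T', b, rfl⟩ := fiberMk_jointly_surjective (p := ProEtPoint.p i.W i.m) y
  have hq : T' ≤ top := (le_top : T'.1 ≤ ⊤)
  have h1 : fiberMk (p := ProEtPoint.p i.W i.m) (b ≫ g) =
      fiberMk (p := ProEtPoint.p i.W i.m) ((ProEtPoint.p i.W i.m).map (homOfLE hq) ≫ f₀) := by
    rw [fiberMk_map_comp]
    exact (fiber_map_fiberMk (p := ProEtPoint.p i.W i.m) b g).symm.trans hy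
  obtain ⟨T'', r, hr⟩ := exists_of_fiberMk_eq_fiberMk h1
  refine ⟨T''.1, T''.2.2, ?_⟩
  have h2 : (MorphismProperty.Over.homMk T''.1.ι :
      Scheme.ProEt.mk (T''.1.ι ≫ i.W.hom) ⟶ i.W) ≫ c =
      ((ProEtPoint.p i.W i.m).map r ≫ b) ≫ g := by
    rw [Category.assoc, hr, ← Category.assoc, ← Category.assoc]
    congr 1
    apply MorphismProperty.Over.Hom.ext
    show T''.1.ι = (i.W.left.homOfLE (leOfHom r) ≫
      i.W.left.homOfLE (le_top : T'.1 ≤ ⊤)) ≫ (⊤ : i.W.left.Opens).ι
    simp
  have h3 : R (((ProEtPoint.p i.W i.m).map r ≫ b) ≫ g) := R.downward_closed hg _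
  rw [← h2] at h3
  exact h3

set_option backward.isDefEq.respectTransparency.types false in
theorem isConservative (S : Scheme.{u}) :
    (ObjectProperty.ofObj (fun i : Idx S => i.pt)).IsConservativeFamilyOfPoints :=
  .mk' (fun X R hR => by
    obtain ⟨ι, V, c, hcov, hV⟩ := ProEtWCover.main X
    refine (Scheme.ProEt.topology S).transitive hcov R ?_
    rintro Y f ⟨Z, h, g, ⟨j⟩, rfl⟩
    rw [Sieve.pullback_comp]
    apply (Scheme.ProEt.topology S).pullback_stable
    haveI := (hV j).1
    have key : ∀ m : (V j).left, ∃ T : (V j).left.Opens, m ∈ T ∧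
        R ((MorphismProperty.Over.homMk T.ι :
          Scheme.ProEt.mk (T.ι ≫ (V j).hom) ⟶ V j) ≫ c j) := by
      intro m
      let i : Idx S := ⟨V j, (hV j).1, (hV j).2, m⟩
      exact exists_clopen R i (c j) (fun x => hR ⟨i.pt, ⟨i⟩⟩ x)
    choose T hmT hRT using key
    have hcovT : (⋃ m, (T m : Set ↥(V j).left)) = Set.univ := by
      rw [Set.eq_univ_iff_forall]
      intro m
      exact Set.mem_iUnion.mpr ⟨m, hmT m⟩
    refine (Scheme.ProEt.topology S).superset_covering ?_
      (ProEtSheafGlue.generate_ofArrows_mem (V j) T hcovT)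
    rw [Sieve.generate_le_iff]
    rintro Y' f' ⟨m⟩
    exact hRT m)

theorem main (S : Scheme.{u}) :
    GrothendieckTopology.HasEnoughPoints.{u + 1} (Scheme.ProEt.topology S) where
  exists_objectProperty := ⟨_, inferInstance, isConservative S⟩

end Groth.Agent.H27.ProEtEnoughPoints
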