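import Groth.Agent.H27.ProEtFinCover
import Groth.Agent.H27.ProEtFinAff

/-!
# Vanishing of sections of extension by zero
-/

set_option autoImplicit false
set_option linter.style.haveILetI false
open CategoryTheory CategoryTheory.Limits AlgebraicGeometry Opposite
universe u

namespace Groth.Agent.H27.ProEtExtZero

variable {U X : Scheme.{u}} (j : U ⟶ X) [WeaklyEtale j]

/-- the presheaf-level extension by zero -/
noncomputable abbrev Pr (F : U.ProEtᵒᵖ ⥤ AddCommGrpCat.{u + 1}) :
    X.ProEtᵒᵖ ⥤ AddCommGrpCat.{u + 1} :=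
  (ProEtS.compP j).op.lan.obj F

/-- no morphisms to objects coming from `U` if a point of `T` does not lie over `j(U)` -/
theorem isEmpty_costructuredArrow (T : X.ProEt)
    (hT : ∃ w : T.left, T.hom.base w ∉ Set.range j.base) :
    IsEmpty (CostructuredArrow (ProEtS.compP j).op (op T)) := by
  refine ⟨fun g => ?_⟩
  obtain ⟨w, hw⟩ := hT
  apply hw
  have h1 : g.hom.unop.left ≫ ((ProEtS.compP j).obj g.left.unop).hom = T.hom :=
    MorphismProperty.Over.w g.hom.unop
  have h2 : ((ProEtS.compP j).obj g.left.unop).hom = g.left.unop.hom ≫ j := rfl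
  rw [h2] at h1
  refine ⟨g.left.unop.hom.base (g.hom.unop.left.base w), ?_⟩
  have := congrArg (fun φ => φ.base w) h1
  exact this

/-- the presheaf extension by zero vanishes on objects without morphisms to `U` -/
theorem subsingleton_of_isEmpty (F : U.ProEtᵒᵖ ⥤ AddCommGrpCat.{u + 1}) (T : X.ProEt)
    [IsEmpty (CostructuredArrow (ProEtS.compP j).op (op T))] :
    Subsingleton ((Pr j F).obj (op T)) := by
  have hc : IsColimit ((Functor.LeftExtension.mk _
      ((ProEtS.compP j).op.leftKanExtensionUnit F)).coconeAt (op T)) :=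
    (ProEtS.compP j).op.isPointwiseLeftKanExtensionLeftKanExtensionUnit F (op T)
  have h0 : 𝟙 ((Pr j F).obj (op T)) = 0 := by
    apply hc.hom_ext
    intro g
    exact (IsEmpty.false g).elim
  refine ⟨fun a b => ?_⟩
  have ha : a = (𝟙 ((Pr j F).obj (op T)) : _ ⟶ _) a := rfl
  have hb : b = (𝟙 ((Pr j F).obj (op T)) : _ ⟶ _) b := rfl
  rw [ha, hb, h0]
  rfl

set_option backward.isDefEq.respectTransparency.types false in
/-- sections of the sheafified extension by zero vanish over affine objects all of whose points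
specialize into a closed subset disjoint from the image of `j` -/
theorem subsingleton_sheafify (C : Set X) (hUC : Disjoint (Set.range j.base) C)
    (V : X.ProEt) [IsAffine V.left]
    (hV : ∀ v : ↥V.left, ∃ z : ↥V.left, V.hom.base z ∈ C ∧ v ⤳ z)
    (F : U.ProEtᵒᵖ ⥤ AddCommGrpCat.{u + 1}) :
    Subsingleton (((presheafToSheaf (Scheme.ProEt.topology X) AddCommGrpCat.{u + 1}).obj
      (Pr j F)).obj.obj (op V)) := by
  let G : Sheaf (Scheme.ProEt.topology X) AddCommGrpCat.{u + 1} :=
    (presheafToSheaf (Scheme.ProEt.topology X) AddCommGrpCat.{u + 1}).obj (Pr j F)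
  suffices h : ∀ s : G.obj.obj (op V), s = 0 from ⟨fun a b => (h a).trans (h b).symm⟩
  intro s
  have hmem := Presheaf.imageSieve_mem (Scheme.ProEt.topology X)
    (toSheafify (Scheme.ProEt.topology X) (Pr j F)) (U := op V) s
  obtain ⟨P, hP, hle⟩ := (ProEtCov.mem_topology_iff V _).mp hmem
  obtain ⟨n, Vk, g, W, hPg, hwe, hW, hcov⟩ := ProEtFinAff.main hP
  let T : Fin n → X.ProEt := fun k => Scheme.ProEt.mk ((W k).ι ≫ (Vk k).hom)
  let t : ∀ k, T k ⟶ V := fun k =>
    (MorphismProperty.Over.homMk (W k).ι : T k ⟶ Vk k) ≫ g k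
  have htS : ∀ k, Presheaf.imageSieve (toSheafify (Scheme.ProEt.topology X) (Pr j F)) s (t k) :=
    fun k => Sieve.downward_closed _ (hle _ _ (hPg k)) _
  let K₀ : Type := {k : Fin n // ∃ w : (T k).left, (T k).hom.base w ∈ C}
  have hzero : ∀ k : K₀, G.obj.map (t k.1).op s = 0 := by
    intro k
    haveI : IsEmpty (CostructuredArrow (ProEtS.compP j).op (op (T k.1))) := by
      apply isEmpty_costructuredArrow
      obtain ⟨w, hw⟩ := k.2
      exact ⟨w, fun hj => Set.disjoint_iff.mp hUC ⟨hj, hw⟩⟩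
    haveI := subsingleton_of_isEmpty j F (T k.1)
    obtain ⟨x, hx⟩ := htS k.1
    have hx0 : x = 0 := Subsingleton.elim _ _
    rw [hx0, map_zero] at hx
    exact hx.symm
  haveI : ∀ k : K₀, IsAffine (T k.1).left := fun k => hW k.1
  haveI : ∀ k : K₀, QuasiCompact (t k.1).left := fun k => inferInstance
  have hcovK : Sieve.generate (Presieve.ofArrows (fun k : K₀ => T k.1) (fun k => t k.1)) ∈
      Scheme.ProEt.topology X V := by
    apply ProEtFinCover.generate_ofArrows_mem
    intro v
    obtain ⟨z, hz, hvz⟩ := hV v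
    obtain ⟨k, w, hw, hwz⟩ := hcov z
    have hTw : (T k).hom.base ⟨w, hw⟩ = V.hom.base z := by
      have h1 : (t k).left ≫ V.hom = (T k).hom := MorphismProperty.Over.w (t k)
      have h2 := congrArg (fun φ => φ.base ⟨w, hw⟩) h1
      rw [← hwz]
      exact h2.symm
    have hk : ∃ w : (T k).left, (T k).hom.base w ∈ C := ⟨⟨w, hw⟩, by rw [hTw]; exact hz⟩
    haveI : WeaklyEtale (t k).left := by
      haveI : WeaklyEtale ((t k).left ≫ V.hom) := by
        rw [MorphismProperty.Over.w (t k)]; infer_instance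
      exact WeaklyEtale.of_comp (t k).left V.hom
    have hgen : GeneralizingMap (t k).left.base := Flat.generalizingMap (t k).left
    have hvz' : v ⤳ (t k).left.base ⟨w, hw⟩ := by
      have : (t k).left.base ⟨w, hw⟩ = z := hwz
      rw [this]; exact hvz
    obtain ⟨w', -, hw'⟩ := hgen hvz'
    exact ⟨⟨k, hk⟩, w', hw'⟩
  have hsep : Presieve.IsSheaf (Scheme.ProEt.topology X) (G.obj ⋙ forget AddCommGrpCat) :=
    (isSheaf_iff_isSheaf_of_type _ _).1
      ((Presheaf.isSheaf_iff_isSheaf_forget _ _ (forget AddCommGrpCat)).1 G.2)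
  refine (hsep _ hcovK).isSeparatedFor.ext ?_
  rintro Y f ⟨Z, h, g', ⟨k⟩, rfl⟩
  show G.obj.map (h ≫ t k.1).op s = G.obj.map (h ≫ t k.1).op 0
  rw [op_comp, Functor.map_comp]
  show G.obj.map h.op (G.obj.map (t k.1).op s) = G.obj.map h.op (G.obj.map (t k.1).op 0)
  rw [hzero k, map_zero, map_zero, map_zero]

set_option backward.isDefEq.respectTransparency.types false in
theorem main [ProEtS.JPCont j] (C : Set X) (hUC : Disjoint (Set.range j.base) C)
    (V : X.ProEt) [IsAffine V.left]
    (hV : ∀ v : ↥V.left, ∃ z : ↥V.left, V.hom.base z ∈ C ∧ v ⤳ z)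
    (F : ProEtS.AbP U) :
    Subsingleton (ProEtS.sectP ((ProEtS.extZeroP j).obj F) V) := by
  have e : (ProEtS.extZeroP j).obj F ≅
      (presheafToSheaf (Scheme.ProEt.topology X) AddCommGrpCat.{u + 1}).obj (Pr j F.obj) :=
    (Functor.sheafPullbackConstruction.sheafPullbackIso (ProEtS.compP j) AddCommGrpCat.{u + 1}
      (Scheme.ProEt.topology U) (Scheme.ProEt.topology X)).app F
  have e' : ((ProEtS.extZeroP j).obj F).obj.obj (op V) ≅
      ((presheafToSheaf (Scheme.ProEt.topology X) AddCommGrpCat.{u + 1}).obj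
        (Pr j F.obj)).obj.obj (op V) :=
    ((sheafToPresheaf _ _).mapIso e).app (op V)
  haveI := subsingleton_sheafify j C hUC V hV F.obj
  exact e'.addCommGroupIsoToAddEquiv.toEquiv.subsingleton

end Groth.Agent.H27.ProEtExtZero
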