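import Groth.Agent.H27.ProEtSheafGlue

/-!
# Gluing sections of pro-étale sheaves over a disjoint family of open immersions
-/

set_option autoImplicit false
set_option linter.style.haveILetI false
open CategoryTheory CategoryTheory.Limits AlgebraicGeometry Opposite
universe u w

namespace Groth.Agent.H27.ProEtSheafGlue2

set_option backward.isDefEq.respectTransparency.types false in
/-- a jointly surjective family of open immersions generates a covering sieve -/
theorem generate_ofArrows_mem {X : Scheme.{u}} (U : X.ProEt) {ι : Type*} (V : ι → X.ProEt)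
    (j : ∀ i, V i ⟶ U) [∀ i, IsOpenImmersion (j i).left]
    (hcov : ∀ x : U.left, ∃ k, x ∈ Set.range (j k).left.base) :
    Sieve.generate (Presieve.ofArrows V j) ∈ Scheme.ProEt.topology X U := by
  apply Precoverage.generate_mem_toGrothendieck
  show Presieve.map (Scheme.ProEt.forget X ⋙ Over.forget X) (Presieve.ofArrows _ _) ∈
    Scheme.proetalePrecoverage U.left
  rw [Presieve.map_ofArrows]
  apply Scheme.zariskiPrecoverage_le_propQCPrecoverage
  exact (Scheme.ofArrows_mem_precoverage_iff _).mpr ⟨hcov, fun i => inferInstanceAs
    (IsOpenImmersion (j i).left)⟩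

set_option backward.isDefEq.respectTransparency.types false in
/-- sections of a sheaf glue uniquely over a disjoint family of open immersions -/
theorem existsUnique_glue {X : Scheme.{u}} (U : X.ProEt) {ι : Type*} (V : ι → X.ProEt)
    (j : ∀ i, V i ⟶ U) [∀ i, IsOpenImmersion (j i).left]
    (hdisj : Pairwise (fun k l => Disjoint (Set.range (j k).left.base)
      (Set.range (j l).left.base)))
    (hcov : ∀ x : U.left, ∃ k, x ∈ Set.range (j k).left.base)
    (F : Sheaf (Scheme.ProEt.topology X) (Type w))
    (t : ∀ k, F.obj.obj (op (V k))) :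
    ∃! x : F.obj.obj (op U), ∀ k, F.obj.map (j k).op x = t k := by
  have hF : Presieve.IsSheaf (Scheme.ProEt.topology X) F.obj :=
    (isSheaf_iff_isSheaf_of_type _ _).1 F.2
  have h1 := (Presieve.isSheafFor_iff_generate _).mpr (hF _ (generate_ofArrows_mem U V j hcov))
  refine (Presieve.isSheafFor_arrows_iff _ _).mp h1 t ?_
  intro i k Z gi gk hgg
  have hleft : gi.left ≫ (j i).left = gk.left ≫ (j k).left := congrArg (fun g => g.left) hgg
  by_cases hik : i = k
  · subst hik
    have h2 : gi.left = gk.left := (cancel_mono (j i).left).mp hleft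
    have h3 : gi = gk := MorphismProperty.Over.Hom.ext h2
    rw [h3]
  · haveI : IsEmpty ↥Z.left := by
      refine ⟨fun z => ?_⟩
      have h2 : (j i).left.base (gi.left.base z) = (j k).left.base (gk.left.base z) := by
        have := congrArg (fun g => g.base z) hleft
        exact this
      have h3 : (j i).left.base (gi.left.base z) ∈ Set.range (j i).left.base := ⟨_, rfl⟩
      have h4 : (j k).left.base (gk.left.base z) ∈ Set.range (j k).left.base := ⟨_, rfl⟩
      rw [← h2] at h4
      exact Set.disjoint_iff.mp (hdisj hik) ⟨h3, h4⟩
    haveI := ProEtSheafGlue.subsingleton_of_isEmpty F Z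
    exact Subsingleton.elim _ _

end Groth.Agent.H27.ProEtSheafGlue2
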