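import Groth.Agent.H27.FibRingED
import Groth.Agent.H27.IndZarLoc

/-!
# Rings all of whose faithfully flat ind-Zariski algebras have retractions (⇒ direction)
-/

set_option autoImplicit false
universe u

namespace Groth.Agent.H27.Adm

/-- a closed subspace of a w-local space is w-local -/
theorem isWLocal_of_isClosedEmbedding {X Z : Type u} [TopologicalSpace X] [TopologicalSpace Z]
    [SpectralSpace Z] (f : Z → X) (hf : Topology.IsClosedEmbedding f) (hX : ProEtW.IsWLocal X) :
    ProEtW.IsWLocal Z := by
  obtain ⟨-, h0, huniq⟩ := hX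
  have hcl : ∀ z : Z, IsClosed ({z} : Set Z) ↔ IsClosed ({f z} : Set X) := by
    intro z
    constructor
    · intro h
      have := hf.isClosedMap _ h
      rwa [Set.image_singleton] at this
    · intro h
      have : ({z} : Set Z) = f ⁻¹' {f z} := by
        ext w
        simp only [Set.mem_singleton_iff, Set.mem_preimage]
        exact ⟨fun h => by rw [h], fun h => hf.injective h⟩
      rw [this]
      exact h.preimage hf.continuous
  refine ⟨inferInstance, ?_, ?_⟩
  · have : {z : Z | IsClosed ({z} : Set Z)} = f ⁻¹' {x : X | IsClosed ({x} : Set X)} := by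
      ext z
      exact hcl z
    rw [this]
    exact h0.preimage hf.continuous
  · intro z
    obtain ⟨c, ⟨hc1, hc2⟩, hc3⟩ := huniq (f z)
    obtain ⟨z', rfl⟩ : c ∈ Set.range f := hc2.mem_closed hf.isClosed_range ⟨z, rfl⟩
    refine ⟨z', ⟨(hcl z').mpr hc1, hf.isInducing.specializes_iff.mp hc2⟩, ?_⟩
    rintro y ⟨hy1, hy2⟩
    exact hf.injective (hc3 (f y) ⟨(hcl y).mp hy1, hf.isInducing.specializes_iff.mpr hy2⟩)

/-- a retract of an extremally disconnected space is extremally disconnected -/
theorem extremallyDisconnected_of_retract {C T : Type*} [TopologicalSpace C] [TopologicalSpace T]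
    [ExtremallyDisconnected T] (σ : C → T) (g : T → C) (hσ : Continuous σ) (hg : Continuous g)
    (h : ∀ c, g (σ c) = c) : ExtremallyDisconnected C := by
  constructor
  intro U hU
  have hV : IsOpen (closure (g ⁻¹' U)) :=
    ExtremallyDisconnected.open_closure _ (hU.preimage hg)
  have : closure U = σ ⁻¹' (closure (g ⁻¹' U)) := by
    apply Set.Subset.antisymm
    · apply closure_minimal _ (isClosed_closure.preimage hσ)
      intro c hc
      apply subset_closure
      change g (σ c) ∈ U
      rw [h c]
      exact hc
    · intro c hc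
      have h1 : g (σ c) ∈ g '' closure (g ⁻¹' U) := ⟨σ c, hc, rfl⟩
      have h2 := image_closure_subset_closure_image hg h1
      rw [h c] at h2
      exact closure_mono (Set.image_preimage_subset g U) h2
  rw [this]
  exact hV.preimage hσ

variable (A : Type u) [CommRing A]

theorem isWLocal_of_hasIndZariskiRetractions (hA : ProEtW.HasIndZariskiRetractions A) :
    ProEtW.IsWLocal (PrimeSpectrum A) := by
  obtain ⟨ρ⟩ := hA (R (⊥ : Ideal A)) faithfullyFlat (isIndZariski ⊥)
  have hsurj : Function.Surjective ρ.toRingHom := fun a => ⟨algebraMap A _ a, ρ.commutes a⟩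
  exact isWLocal_of_isClosedEmbedding _
    (PrimeSpectrum.isClosedEmbedding_comap_of_surjective _ ρ.toRingHom hsurj) (isWLocal ⊥)

theorem extremallyDisconnected_of_hasIndZariskiRetractions
    (hA : ProEtW.HasIndZariskiRetractions A) :
    ExtremallyDisconnected (_root_.ConnectedComponents (PrimeSpectrum A)) := by
  haveI : T2Space (_root_.ConnectedComponents (PrimeSpectrum A)) :=
    Groth.Agent.H4.SpectralCC.t2Space_connectedComponents
  let g : C(Ultrafilter (_root_.ConnectedComponents (PrimeSpectrum A)),
      _root_.ConnectedComponents (PrimeSpectrum A)) :=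
    ⟨Ultrafilter.extend id, continuous_ultrafilter_extend id⟩
  have hg : Function.Surjective g := fun c => ⟨pure c, ultrafilter_extend_pure id c⟩
  haveI : Module.Flat A (FibRing.B g) := flat_of_isIndZariski (FibRing.isIndZariski g)
  have hff : Module.FaithfullyFlat A (FibRing.B g) :=
    Module.FaithfullyFlat.of_comap_surjective (FibRing.comap_surjective g hg)
  obtain ⟨ρ⟩ := hA (FibRing.B g) hff (FibRing.isIndZariski g)
  haveI := FibRing.extremallyDisconnected_ultrafilter (_root_.ConnectedComponents (PrimeSpectrum A))
  have hs : Continuous (PrimeSpectrum.comap ρ.toRingHom) := PrimeSpectrum.continuous_comap _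
  refine extremallyDisconnected_of_retract
    (fun c => FibRing.eHomeo g (hs.connectedComponentsMap c)) g
    ((FibRing.eHomeo g).continuous.comp hs.connectedComponentsMap_continuous) g.continuous ?_
  intro c
  obtain ⟨x, rfl⟩ := ConnectedComponents.surjective_coe c
  change g (FibRing.eHomeo g (_root_.ConnectedComponents.mk (PrimeSpectrum.comap ρ.toRingHom x))) = _
  rw [FibRing.g_eHomeo]
  congr 1
  apply PrimeSpectrum.ext
  change (x.asIdeal.comap ρ.toRingHom).comap (algebraMap A (FibRing.B g)) = x.asIdeal
  rw [Ideal.comap_comap]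
  have : ρ.toRingHom.comp (algebraMap A (FibRing.B g)) = RingHom.id A := by
    ext a
    exact ρ.commutes a
  rw [this, Ideal.comap_id]

end Groth.Agent.H27.Adm
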