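import Groth.Agent.H27.WLocalClopen
import Groth.Agent.H27.WLocRetract

/-!
# Affine schemes with w-contractible ring of functions are w-local
-/

set_option autoImplicit false
set_option linter.style.haveILetI false
universe u

open Topology AlgebraicGeometry CategoryTheory

namespace Groth.Agent.H27.WLocalScheme

instance spectralSpace (S : Scheme.{u}) [IsAffine S] : SpectralSpace ↥S where

theorem isWLocal (S : Scheme.{u}) [IsAffine S] (hS : EtPBC.IsWContractible ↥Γ(S, ⊤)) :
    ProEtW.IsWLocal ↥S := by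
  have hΓ : ProEtW.IsWLocal (PrimeSpectrum ↥Γ(S, ⊤)) := ((WContrChar.main _).mp hS).1
  let e : ↥S → PrimeSpectrum ↥Γ(S, ⊤) := fun x => S.isoSpec.hom.base x
  have he : IsClosedEmbedding e := (Scheme.homeoOfIso S.isoSpec).isClosedEmbedding
  exact Groth.Agent.H27.Adm.isWLocal_of_isClosedEmbedding e he hΓ

/-- the largest clopen inside a quasi-compact open -/
theorem exists_clopen (S : Scheme.{u}) [IsAffine S] (hS : EtPBC.IsWContractible ↥Γ(S, ⊤))
    (O : S.Opens) (hO : IsCompact (O : Set S)) :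
    ∃ T : S.Opens, IsClopen (T : Set S) ∧ T ≤ O ∧ ∀ x : S, x ∉ T → ∃ z : S, z ∉ O ∧ x ⤳ z := by
  obtain ⟨T, hT, hTO, h⟩ := WLocalClopen.exists_clopen (isWLocal S hS) (O : Set S) O.2 hO
  exact ⟨⟨T, hT.2⟩, hT, hTO, h⟩

end Groth.Agent.H27.WLocalScheme
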