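import Groth.Agent.H27.ProEtIsoWC
import Groth.Agent.H27.WLocalScheme
import Groth.Agent.H27.ProEtExtZero
import Groth.Agent.H27.ProEtClopenPiece
import Groth.Agent.H27.ProEtSheafGlue2
import Groth.Agent.H4.ProEtRestr
import Groth.Agent.H4.ProEtCont

/-!
# Extension by zero along a quasi-compact open immersion commutes with limits
-/

set_option autoImplicit false
set_option linter.style.haveILetI false
set_option linter.unusedSectionVars false
universe u

open CategoryTheory CategoryTheory.Limits AlgebraicGeometry Opposite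

namespace Groth.Agent.H27.ProEtExtZeroLim

variable {U X : Scheme.{u}} (j : U ⟶ X) [IsOpenImmersion j]

section Lift

variable (W : X.ProEt) (T : W.left.Opens) (hTO : T ≤ W.hom ⁻¹ᵁ j.opensRange)

include hTO in
theorem range_subset : Set.range (T.ι ≫ W.hom).base ⊆ Set.range j.base := by
  rintro _ ⟨x, rfl⟩
  have hx : T.ι.base x ∈ W.hom ⁻¹ᵁ j.opensRange := hTO x.2
  exact hx

/-- the clopen piece as a scheme over `U` -/
noncomputable def lift : T.toScheme ⟶ U :=
  IsOpenImmersion.lift j (T.ι ≫ W.hom) (range_subset j W T hTO)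

theorem lift_fac : lift j W T hTO ≫ j = T.ι ≫ W.hom := IsOpenImmersion.lift_fac _ _ _

instance weaklyEtale_lift : WeaklyEtale (lift j W T hTO) := by
  haveI : WeaklyEtale (lift j W T hTO ≫ j) := by
    rw [lift_fac]
    infer_instance
  exact WeaklyEtale.of_comp (lift j W T hTO) j

/-- the clopen piece as an object of `U_proet` -/
noncomputable def V0 : U.ProEt := Scheme.ProEt.mk (lift j W T hTO)

/-- the inclusion of the clopen piece -/
noncomputable def ι0 : (ProEtS.compP j).obj (V0 j W T hTO) ⟶ W :=
  MorphismProperty.Over.homMk T.ι (lift_fac j W T hTO).symm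

end Lift

section Compl

variable (W : X.ProEt) (T : W.left.Opens) (hT : IsClopen (T : Set W.left))

/-- the complementary clopen -/
def Tc : W.left.Opens := ⟨(T : Set W.left)ᶜ, hT.1.isOpen_compl⟩

theorem isClopen_Tc : IsClopen ((Tc W T hT : W.left.Opens) : Set W.left) := hT.compl

/-- the complementary clopen piece as an object of `X_proet` -/
noncomputable def Wc : X.ProEt := Scheme.ProEt.mk ((Tc W T hT).ι ≫ W.hom)

/-- the inclusion of the complementary clopen piece -/
noncomputable def ιc : Wc W T hT ⟶ W := MorphismProperty.Over.homMk (Tc W T hT).ι rfl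

variable [ProEtS.JPCont j] [IsAffine W.left] (hW : EtPBC.IsWContractible ↥Γ(W.left, ⊤))
  (hspec : ∀ x : W.left, x ∉ T → ∃ z : W.left, z ∉ W.hom ⁻¹ᵁ j.opensRange ∧ x ⤳ z)

include hW hspec in
theorem subsingleton_compl (F : ProEtS.AbP U) :
    Subsingleton (ProEtS.sectP ((ProEtS.extZeroP j).obj F) (Wc W T hT)) := by
  haveI : IsAffine (Wc W T hT).left := (ProEtClopenPiece.main hW (Tc W T hT) (isClopen_Tc W T hT)).1
  refine ProEtExtZero.main j (Set.range j.base)ᶜ disjoint_compl_right (Wc W T hT) ?_ F
  intro v
  have hv : (Tc W T hT).ι.base v ∉ T := v.2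
  obtain ⟨z, hz1, hz2⟩ := hspec _ hv
  have hzT : z ∉ T := fun h => hv (hz2.mem_open T.2 h)
  refine ⟨⟨z, hzT⟩, ?_, ?_⟩
  · exact hz1
  · exact (Tc W T hT).ι.isOpenEmbedding.isInducing.specializes_iff.mp hz2

end Compl

section Res

variable (W : X.ProEt) (T : W.left.Opens) (hT : IsClopen (T : Set W.left))
  (hTO : T ≤ W.hom ⁻¹ᵁ j.opensRange)

/-- the two pieces -/
noncomputable def piece : Bool → X.ProEt
  | true => (ProEtS.compP j).obj (V0 j W T hTO)
  | false => Wc W T hT

/-- the two inclusions -/
noncomputable def pieceι : ∀ b, piece j W T hT hTO b ⟶ W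
  | true => ι0 j W T hTO
  | false => ιc W T hT

instance (b : Bool) : IsOpenImmersion (pieceι j W T hT hTO b).left := by
  cases b
  · exact inferInstanceAs (IsOpenImmersion (Tc W T hT).ι)
  · exact inferInstanceAs (IsOpenImmersion T.ι)

theorem range_pieceι_true :
    Set.range (pieceι j W T hT hTO true).left.base = (T : Set W.left) :=
  Scheme.Opens.range_ι T

theorem range_pieceι_false :
    Set.range (pieceι j W T hT hTO false).left.base = (T : Set W.left)ᶜ :=
  Scheme.Opens.range_ι (Tc W T hT)

set_option backward.isDefEq.respectTransparency.types false in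
theorem bijective_res (G : ProEtS.AbP X)
    (hG : Subsingleton (G.obj.obj (op (Wc W T hT)))) :
    Function.Bijective (G.obj.map (ι0 j W T hTO).op) := by
  let F' := (sheafCompose (Scheme.ProEt.topology X) (forget AddCommGrpCat.{u + 1})).obj G
  have hglue := fun t => ProEtSheafGlue2.existsUnique_glue W (piece j W T hT hTO)
    (pieceι j W T hT hTO)
    (by
      intro k l hkl
      cases k <;> cases l
      · exact absurd rfl hkl
      · rw [range_pieceι_true, range_pieceι_false]
        exact disjoint_compl_left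
      · rw [range_pieceι_true, range_pieceι_false]
        exact disjoint_compl_right
      · exact absurd rfl hkl)
    (by
      intro x
      by_cases hx : x ∈ T
      · exact ⟨true, by rw [range_pieceι_true]; exact hx⟩
      · exact ⟨false, by rw [range_pieceι_false]; exact hx⟩)
    F' t
  constructor
  · intro x y hxy
    obtain ⟨z, -, hz⟩ := hglue (fun b => F'.obj.map (pieceι j W T hT hTO b).op x)
    have hx : x = z := hz x (fun b => rfl)
    have hy : y = z := by
      apply hz y
      intro b
      cases b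
      · exact Subsingleton.elim (α := G.obj.obj (op (Wc W T hT))) _ _
      · exact hxy.symm
    rw [hx, hy]
  · intro s
    obtain ⟨z, hz, -⟩ := hglue (fun b => match b with
      | true => s
      | false => (0 : G.obj.obj (op (Wc W T hT))))
    exact ⟨z, hz true⟩

end Res

theorem isCompact_preimage [QuasiCompact j] (W : X.ProEt) [IsAffine W.left] :
    IsCompact ((W.hom ⁻¹ᵁ j.opensRange : W.left.Opens) : Set W.left) := by
  have h1 : ((W.hom ⁻¹ᵁ j.opensRange : W.left.Opens) : Set W.left) =
      Set.range (pullback.fst W.hom j).base := by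
    rw [Scheme.Pullback.range_fst]
    rfl
  rw [h1]
  haveI : CompactSpace ↥((𝟭 Scheme).obj W.left) := inferInstanceAs (CompactSpace ↥W.left)
  haveI : CompactSpace ↥(pullback W.hom j) :=
    QuasiCompact.compactSpace_of_compactSpace (pullback.fst W.hom j)
  exact isCompact_range (pullback.fst W.hom j).base.hom.continuous

section Comp

variable [ProEtS.JPCont j]

variable (W : X.ProEt) [IsAffine W.left] (hW : EtPBC.IsWContractible ↥Γ(W.left, ⊤))
  (T : W.left.Opens) (hT : IsClopen (T : Set W.left)) (hTO : T ≤ W.hom ⁻¹ᵁ j.opensRange)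
  (hspec : ∀ x : W.left, x ∉ T → ∃ z : W.left, z ∉ W.hom ⁻¹ᵁ j.opensRange ∧ x ⤳ z)

theorem isIso_unit_app (F : ProEtS.AbP U) (V : U.ProEt) :
    IsIso (((ProEtS.extZeroPAdj j).unit.app F).hom.app (op V)) := by
  haveI := Groth.Agent.H4.ProEtCont.pCont j
  haveI : IsIso (ProEtS.extZeroPAdj j).unit := Groth.Agent.H4.ProEtRestr.isIso_extZeroPAdj_unit j
  haveI : IsIso ((sheafToPresheaf _ _).map ((ProEtS.extZeroPAdj j).unit.app F)) := inferInstance
  exact NatIso.isIso_app_of_isIso
    ((sheafToPresheaf _ _).map ((ProEtS.extZeroPAdj j).unit.app F)) (op V)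

/-- restriction to the clopen piece -/
noncomputable def res (F : ProEtS.AbP U) :
    ((ProEtS.extZeroP j).obj F).obj.obj (op W) ⟶
      ((ProEtS.restrP j).obj ((ProEtS.extZeroP j).obj F)).obj.obj (op (V0 j W T hTO)) :=
  ((ProEtS.extZeroP j).obj F).obj.map (ι0 j W T hTO).op

include hW hT hspec in
theorem isIso_res (F : ProEtS.AbP U) : IsIso (res j W T hTO F) := by
  rw [ConcreteCategory.isIso_iff_bijective]
  exact bijective_res j W T hT hTO _ (subsingleton_compl j W T hT hW hspec F)

/-- the comparison map on components -/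
noncomputable def comp (F : ProEtS.AbP U) :
    ((ProEtS.extZeroP j).obj F).obj.obj (op W) ⟶ F.obj.obj (op (V0 j W T hTO)) :=
  haveI := isIso_unit_app j F (V0 j W T hTO)
  res j W T hTO F ≫ inv (((ProEtS.extZeroPAdj j).unit.app F).hom.app (op (V0 j W T hTO)))

include hW hT hspec in
theorem isIso_comp (F : ProEtS.AbP U) : IsIso (comp j W T hTO F) := by
  haveI := isIso_res j W hW T hT hTO hspec F
  haveI := isIso_unit_app j F (V0 j W T hTO)
  unfold comp
  infer_instance

theorem comp_naturality {F F' : ProEtS.AbP U} (φ : F ⟶ F') :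
    ((ProEtS.extZeroP j).map φ).hom.app (op W) ≫ comp j W T hTO F' =
      comp j W T hTO F ≫ φ.hom.app (op (V0 j W T hTO)) := by
  haveI := isIso_unit_app j F (V0 j W T hTO)
  haveI := isIso_unit_app j F' (V0 j W T hTO)
  unfold comp
  have h1 : ((ProEtS.extZeroP j).map φ).hom.app (op W) ≫ res j W T hTO F' =
      res j W T hTO F ≫
        ((ProEtS.restrP j).map ((ProEtS.extZeroP j).map φ)).hom.app (op (V0 j W T hTO)) :=
    (((ProEtS.extZeroP j).map φ).hom.naturality (ι0 j W T hTO).op).symm
  rw [← Category.assoc, h1, Category.assoc, Category.assoc]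
  congr 1
  rw [IsIso.comp_inv_eq, Category.assoc, IsIso.eq_inv_comp]
  have h := (ProEtS.extZeroPAdj j).unit.naturality φ
  have h2 := congrArg (fun ψ => ψ.hom.app (op (V0 j W T hTO))) h
  exact h2.symm

end Comp

/-- **Extension by zero along a quasi-compact open immersion commutes with limits.** -/
theorem main [QuasiCompact j] [ProEtS.JPCont j] (J : Type u) [SmallCategory J] :
    PreservesLimitsOfShape J (ProEtS.extZeroP j) := by
  apply ProEtIsoWC.preservesLimitsOfShape_of_sections J (ProEtS.extZeroP j)
  intro W hW1 hW2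
  haveI := hW1
  obtain ⟨T, hT, hTO, hspec⟩ := WLocalScheme.exists_clopen W.left hW2
    (W.hom ⁻¹ᵁ j.opensRange) (isCompact_preimage j W)
  let γ : ProEtS.extZeroP j ⋙ ProEtIsoWC.ev AddCommGrpCat.{u + 1} W ≅
      ProEtIsoWC.ev AddCommGrpCat.{u + 1} (V0 j W T hTO) :=
    NatIso.ofComponents
      (fun F => haveI := isIso_comp j W hW2 T hT hTO hspec F; asIso (comp j W T hTO F))
      (fun φ => comp_naturality j W T hTO φ)
  exact preservesLimitsOfShape_of_natIso γ.symm

end Groth.Agent.H27.ProEtExtZeroLim
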