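import Groth.Agent.H27.WContrFinite

/-!
# Finite finitely presented algebras over w-contractible rings are w-contractible (part 2)
-/

set_option autoImplicit false
set_option linter.style.haveILetI false
universe u

open TensorProduct

namespace Groth.Agent.H27.WContrFinite2

/-- in a domain finite over `A`, two maximal ideals over the same maximal ideal `m` with
henselian localisation coincide -/
theorem eq_of_comap_eq (A D : Type u) [CommRing A] [CommRing D] [IsDomain D] [Algebra A D]
    [Module.Finite A D] (m : Ideal A) [hm : m.IsMaximal]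
    (hH : HenselianLocalRing (Localization.AtPrime m))
    (n1 n2 : Ideal D) [h1m : n1.IsMaximal] [h2m : n2.IsMaximal]
    (h1 : n1.comap (algebraMap A D) = m) (h2 : n2.comap (algebraMap A D) = m) : n1 = n2 := by
  classical
  let M : Submonoid D := Algebra.algebraMapSubmonoid D m.primeCompl
  have hM0 : M ≤ nonZeroDivisors D := by
    rintro _ ⟨a, ha, rfl⟩
    refine mem_nonZeroDivisors_of_ne_zero ?_
    intro h0
    apply ha
    rw [← h1]
    show algebraMap A D a ∈ n1
    rw [h0]
    exact n1.zero_mem
  haveI : IsDomain (Localization M) := IsLocalization.isDomain_localization hM0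
  obtain ⟨ι, _, C, _, hloc, ⟨φ⟩⟩ := Groth.Agent.S0499.result (Localization.AtPrime m) (Localization M)
  haveI hL : IsLocalRing (Localization M) :=
    Groth.Agent.H14.HensProp.isLocalRing_of_ringEquiv_pi_of_isDomain _ ι C hloc φ
  have key : ∀ n : Ideal D, n.IsMaximal → n.comap (algebraMap A D) = m →
      n = (IsLocalRing.maximalIdeal (Localization M)).comap (algebraMap D (Localization M)) := by
    intro n hn hnm
    have hdisj : Disjoint (M : Set D) (n : Set D) := by
      rw [Set.disjoint_left]
      rintro _ ⟨a, ha, rfl⟩ han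
      apply ha
      rw [← hnm]
      exact han
    haveI := hn.isPrime
    have hprime : (n.map (algebraMap D (Localization M))).IsPrime :=
      IsLocalization.isPrime_of_isPrime_disjoint M (Localization M) n inferInstance hdisj
    have hle : n.map (algebraMap D (Localization M)) ≤ IsLocalRing.maximalIdeal (Localization M) :=
      IsLocalRing.le_maximalIdeal hprime.ne_top
    have hle2 : n ≤ (IsLocalRing.maximalIdeal (Localization M)).comap
        (algebraMap D (Localization M)) := by
      intro x hx
      exact hle (Ideal.mem_map_of_mem _ hx)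
    refine hn.eq_of_le ?_ hle2
    exact (Ideal.comap_isPrime _ _).ne_top
  rw [key n1 h1m h1, key n2 h2m h2]

theorem isClosed_singleton_iff_comap (A B : Type u) [CommRing A] [CommRing B] [Algebra A B]
    [Algebra.IsIntegral A B] (x : PrimeSpectrum B) :
    IsClosed ({x} : Set (PrimeSpectrum B)) ↔
      IsClosed ({PrimeSpectrum.comap (algebraMap A B) x} : Set (PrimeSpectrum A)) := by
  rw [PrimeSpectrum.isClosed_singleton_iff_isMaximal, PrimeSpectrum.isClosed_singleton_iff_isMaximal]
  constructor
  · intro h
    haveI := h
    exact Ideal.isMaximal_comap_of_isIntegral_of_isMaximal x.asIdeal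
  · intro h
    exact Ideal.isMaximal_of_isIntegral_of_isMaximal_comap x.asIdeal h

theorem isWLocal_of_finite (A B : Type u) [CommRing A] [CommRing B] [Algebra A B]
    [Module.Finite A B] (hw : ProEtW.IsWLocal (PrimeSpectrum A))
    (hH : ∀ (m : Ideal A) [m.IsMaximal], HenselianLocalRing (Localization.AtPrime m)) :
    ProEtW.IsWLocal (PrimeSpectrum B) := by
  classical
  refine ⟨inferInstance, ?_, ?_⟩
  · have : {x : PrimeSpectrum B | IsClosed ({x} : Set (PrimeSpectrum B))} =
        PrimeSpectrum.comap (algebraMap A B) ⁻¹'
          {y : PrimeSpectrum A | IsClosed ({y} : Set (PrimeSpectrum A))} := by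
      ext x
      exact isClosed_singleton_iff_comap A B x
    rw [this]
    exact hw.2.1.preimage (PrimeSpectrum.continuous_comap (algebraMap A B))
  · intro x
    obtain ⟨y, hy, hxy, -⟩ := Groth.Agent.H27.WLocal.exists_closed_specialization x
    refine ⟨y, ⟨hy, hxy⟩, ?_⟩
    rintro y' ⟨hy', hxy'⟩
    -- both lie over the same maximal ideal of A
    have hcont := (PrimeSpectrum.continuous_comap (algebraMap A B))
    obtain ⟨z, -, hz⟩ := hw.2.2 (PrimeSpectrum.comap (algebraMap A B) x)
    have e1 : PrimeSpectrum.comap (algebraMap A B) y = z :=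
      hz _ ⟨(isClosed_singleton_iff_comap A B y).mp hy, hxy.map hcont⟩
    have e2 : PrimeSpectrum.comap (algebraMap A B) y' = z :=
      hz _ ⟨(isClosed_singleton_iff_comap A B y').mp hy', hxy'.map hcont⟩
    have hle : x.asIdeal ≤ y.asIdeal := (PrimeSpectrum.le_iff_specializes x y).mpr hxy
    have hle' : x.asIdeal ≤ y'.asIdeal := (PrimeSpectrum.le_iff_specializes x y').mpr hxy'
    haveI hymax : y.asIdeal.IsMaximal := (PrimeSpectrum.isClosed_singleton_iff_isMaximal y).mp hy
    haveI hymax' : y'.asIdeal.IsMaximal :=
      (PrimeSpectrum.isClosed_singleton_iff_isMaximal y').mp hy'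
    haveI hzmax : z.asIdeal.IsMaximal := by
      rw [← e1]
      exact (PrimeSpectrum.isClosed_singleton_iff_isMaximal _).mp
        ((isClosed_singleton_iff_comap A B y).mp hy)
    let D := B ⧸ x.asIdeal
    let π : B →+* D := Ideal.Quotient.mk x.asIdeal
    have hπ : Function.Surjective π := Ideal.Quotient.mk_surjective
    have hker : RingHom.ker π = x.asIdeal := Ideal.mk_ker
    have hcm : ∀ n : Ideal B, x.asIdeal ≤ n → (n.map π).comap π = n := by
      intro n hn
      rw [Ideal.comap_map_of_surjective π hπ]
      have : Ideal.comap π ⊥ = x.asIdeal := hker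
      rw [this]
      exact sup_eq_left.mpr hn
    have hmax : ∀ n : Ideal B, n.IsMaximal → x.asIdeal ≤ n → (n.map π).IsMaximal := by
      intro n hn hle
      rcases Ideal.map_eq_top_or_isMaximal_of_surjective π hπ hn with h | h
      · exfalso
        have := hcm n hle
        rw [h, Ideal.comap_top] at this
        exact hn.ne_top this.symm
      · exact h
    haveI h1 := hmax _ hymax hle
    haveI h2 := hmax _ hymax' hle'
    have hc : ∀ n : Ideal B, x.asIdeal ≤ n → (n.map π).comap (algebraMap A D) =
        n.comap (algebraMap A B) := by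
      intro n hn
      have : algebraMap A D = π.comp (algebraMap A B) := rfl
      rw [this, ← Ideal.comap_comap, hcm n hn]
    have key := eq_of_comap_eq A D z.asIdeal (hH z.asIdeal) (y.asIdeal.map π) (y'.asIdeal.map π)
      (by rw [hc _ hle]; exact congrArg PrimeSpectrum.asIdeal e1)
      (by rw [hc _ hle']; exact congrArg PrimeSpectrum.asIdeal e2)
    have := congrArg (Ideal.comap π) key
    rw [hcm _ hle, hcm _ hle'] at this
    exact (PrimeSpectrum.ext this).symm

/-- localisations at maximal ideals of a finite algebra over a ring with strictly henselian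
localisations at maximal ideals are strictly henselian -/
theorem isStrictlyHenselian_atPrime (A B : Type u) [CommRing A] [CommRing B] [Algebra A B]
    [Module.Finite A B]
    (hSH : ∀ (m : Ideal A) [m.IsMaximal],
      EtCoh.IsStrictlyHenselianLocalRing (Localization.AtPrime m))
    (n : Ideal B) [hn : n.IsMaximal] :
    EtCoh.IsStrictlyHenselianLocalRing (Localization.AtPrime n) := by
  classical
  let m : Ideal A := n.comap (algebraMap A B)
  haveI hm : m.IsMaximal := Ideal.isMaximal_comap_of_isIntegral_of_isMaximal n
  let M : Submonoid B := Algebra.algebraMapSubmonoid B m.primeCompl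
  let S := Localization M
  have hdisj : Disjoint (M : Set B) (n : Set B) := by
    rw [Set.disjoint_left]
    rintro _ ⟨a, ha, rfl⟩ han
    exact ha han
  let N : Ideal S := n.map (algebraMap B S)
  haveI hNp : N.IsPrime :=
    IsLocalization.isPrime_of_isPrime_disjoint M S n inferInstance hdisj
  have hcomap : N.comap (algebraMap B S) = n :=
    IsLocalization.under_map_of_isPrime_disjoint M S inferInstance hdisj
  haveI hNmax : N.IsMaximal := by
    obtain ⟨N', hN', hle⟩ := Ideal.exists_le_maximal N hNp.ne_top
    have h1 : n ≤ N'.comap (algebraMap B S) := by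
      rw [← hcomap]
      exact Ideal.comap_mono hle
    have h2 : N'.comap (algebraMap B S) = n :=
      (hn.eq_of_le (Ideal.comap_ne_top _ hN'.ne_top) h1).symm
    have h3 : N' = N := by
      rw [← IsLocalization.map_under M S N']
      show Ideal.map (algebraMap B S) (N'.comap (algebraMap B S)) = N
      rw [h2]
    rw [← h3]
    exact hN'
  have hS : EtCoh.IsStrictlyHenselianLocalRing (Localization.AtPrime N) :=
    WContrFinite.isStrictlyHenselian_atPrime_of_finite (Localization.AtPrime m) S (hSH m) N
  have hloc : IsLocalization.AtPrime (Localization.AtPrime N) (N.comap (algebraMap B S)) :=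
    IsLocalization.isLocalization_isLocalization_atPrime_isLocalization M
      (Localization.AtPrime N) N
  have heq : (N.comap (algebraMap B S)).primeCompl = n.primeCompl := by
    ext x
    show x ∉ _ ↔ x ∉ _
    rw [hcomap]
  haveI hloc' : IsLocalization n.primeCompl (Localization.AtPrime N) := heq ▸ hloc
  let e : Localization.AtPrime n ≃ₐ[B] Localization.AtPrime N :=
    IsLocalization.algEquiv n.primeCompl _ _
  exact SHTransport.isStrictlyHenselian_of_ringEquiv e.symm.toRingEquiv hS

open PrimeSpectrum in
/-- the closed points of `Spec B` form an extremally disconnected space -/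
theorem extremallyDisconnected_closedPoints (A B : Type u) [CommRing A] [CommRing B]
    [Algebra A B] [Module.Finite A B] [Algebra.FinitePresentation A B]
    (hw : ProEtW.IsWLocal (PrimeSpectrum A))
    (hed : ExtremallyDisconnected (_root_.ConnectedComponents (PrimeSpectrum A)))
    (hsc : ∀ (m : Ideal A) [m.IsMaximal], IsSepClosed m.ResidueField) :
    ExtremallyDisconnected
      {x : PrimeSpectrum B // IsClosed ({x} : Set (PrimeSpectrum B))} := by
  classical
  let J : Ideal A := vanishingIdeal {x : PrimeSpectrum A | IsClosed ({x} : Set (PrimeSpectrum A))}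
  have hJ : zeroLocus (J : Set A) = {x : PrimeSpectrum A | IsClosed ({x} : Set (PrimeSpectrum A))} := by
    rw [zeroLocus_vanishingIdeal_eq_closure, hw.2.1.closure_eq]
  have hce : Topology.IsClosedEmbedding (comap (Ideal.Quotient.mk J)) :=
    isClosedEmbedding_comap_of_surjective _ _ Ideal.Quotient.mk_surjective
  have hrange : Set.range (comap (Ideal.Quotient.mk J)) =
      {x : PrimeSpectrum A | IsClosed ({x} : Set (PrimeSpectrum A))} := by
    rw [_root_.range_comap_of_surjective _ _ Ideal.Quotient.mk_surjective, Ideal.mk_ker, hJ]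
  let e1 : PrimeSpectrum (A ⧸ J) ≃ₜ
      {x : PrimeSpectrum A // IsClosed ({x} : Set (PrimeSpectrum A))} :=
    hce.isEmbedding.toHomeomorph.trans (Homeomorph.setCongr hrange)
  haveI : T2Space (PrimeSpectrum (A ⧸ J)) := by
    haveI := WContrQuot.t2Space_closedPoints hw
    exact e1.isEmbedding.t2Space
  haveI : ExtremallyDisconnected (PrimeSpectrum (A ⧸ J)) :=
    EDLocal.of_homeomorph (e1.trans (WContrQuot.closedPointsHomeo hw)) hed
  have hres : ∀ p : PrimeSpectrum (A ⧸ J), IsSepClosed p.asIdeal.ResidueField := by
    intro p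
    have hmem : comap (Ideal.Quotient.mk J) p ∈
        {x : PrimeSpectrum A | IsClosed ({x} : Set (PrimeSpectrum A))} := by
      rw [← hrange]
      exact ⟨p, rfl⟩
    haveI hmax : (p.asIdeal.comap (Ideal.Quotient.mk J)).IsMaximal :=
      (isClosed_singleton_iff_isMaximal _).mp hmem
    haveI := hsc (p.asIdeal.comap (Ideal.Quotient.mk J))
    have hbij := (RingHom.surjectiveOnStalks_of_surjective
      (Ideal.Quotient.mk_surjective (I := J))).residueFieldMap_bijective
      (p.asIdeal.comap (Ideal.Quotient.mk J)) p.asIdeal rfl
    exact SHTransport.isSepClosed_of_ringEquiv (RingEquiv.ofBijective _ hbij)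
  have hedB : ExtremallyDisconnected (PrimeSpectrum ((A ⧸ J) ⊗[A] B)) :=
    EDQuasiFinite.main (A ⧸ J) ((A ⧸ J) ⊗[A] B) hres
  let φ : B →+* (A ⧸ J) ⊗[A] B := (Algebra.TensorProduct.includeRight :
    B →ₐ[A] (A ⧸ J) ⊗[A] B).toRingHom
  let ε := Algebra.TensorProduct.quotIdealMapEquivQuotTensor B J
  have hφε : ∀ b : B, φ b = ε (Ideal.Quotient.mk _ b) := fun b => rfl
  have hφ : Function.Surjective φ := by
    intro t
    obtain ⟨b, hb⟩ := Ideal.Quotient.mk_surjective (ε.symm t)
    refine ⟨b, ?_⟩
    rw [hφε, hb, AlgEquiv.apply_symm_apply]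
  have hker : RingHom.ker φ = J.map (algebraMap A B) := by
    ext b
    rw [RingHom.mem_ker, hφε, map_eq_zero_iff ε ε.injective, Ideal.Quotient.eq_zero_iff_mem]
  have hceB : Topology.IsClosedEmbedding (comap φ) :=
    isClosedEmbedding_comap_of_surjective _ _ hφ
  have hrangeB : Set.range (comap φ) =
      {x : PrimeSpectrum B | IsClosed ({x} : Set (PrimeSpectrum B))} := by
    rw [_root_.range_comap_of_surjective _ _ hφ, hker]
    ext x
    rw [mem_zeroLocus, SetLike.coe_subset_coe, Ideal.map_le_iff_le_comap, Set.mem_ofPred_eq,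
      isClosed_singleton_iff_comap A B x]
    have : comap (algebraMap A B) x ∈ zeroLocus (J : Set A) ↔
        J ≤ x.asIdeal.comap (algebraMap A B) := by
      rw [mem_zeroLocus, SetLike.coe_subset_coe]
      rfl
    rw [← this, hJ]
    rfl
  let e2 : PrimeSpectrum ((A ⧸ J) ⊗[A] B) ≃ₜ
      {x : PrimeSpectrum B // IsClosed ({x} : Set (PrimeSpectrum B))} :=
    hceB.isEmbedding.toHomeomorph.trans (Homeomorph.setCongr hrangeB)
  exact EDLocal.of_homeomorph e2.symm hedB

/-- **Finite finitely presented algebras over w-contractible rings are w-contractible.** -/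
theorem main (A B : Type u) [CommRing A] [CommRing B]
    [Algebra A B] [Module.Finite A B] [Algebra.FinitePresentation A B]
    (h : EtPBC.IsWContractible A) : EtPBC.IsWContractible B := by
  obtain ⟨hw, hed, hSH⟩ := (WContrChar.main A).mp h
  have hwB : ProEtW.IsWLocal (PrimeSpectrum B) :=
    isWLocal_of_finite A B hw (fun m _ => (hSH m).1)
  refine (WContrChar.main B).mpr ⟨hwB, ?_, fun n _ => isStrictlyHenselian_atPrime A B hSH n⟩
  haveI : SpectralSpace (PrimeSpectrum B) := hwB.1
  exact EDLocal.of_homeomorph (WContrQuot.closedPointsHomeo hwB).symm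
    (extremallyDisconnected_closedPoints A B hw hed (fun m _ => (hSH m).2))

end Groth.Agent.H27.WContrFinite2
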