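import Groth.Agent.H27.ProEtPushExact
import Groth.Agent.H27.WContrFinite2

/-!
# Base change of w-contractible affines along finite finitely presented morphisms
-/

set_option autoImplicit false
set_option linter.style.haveILetI false
open CategoryTheory CategoryTheory.Limits AlgebraicGeometry Opposite
universe u

namespace Groth.Agent.H27.ProEtFinitePush

variable {Z X : Scheme.{u}} (f : Z ⟶ X) [IsFinite f] [LocallyOfFinitePresentation f]

theorem isWC_bcP
    (W : X.ProEt) (hW : IsAffine W.left)
    (hwc : EtPBC.IsWContractible ↥Γ(W.left, ⊤)) : ProEtS.IsWC ((ProEtS.bcP f).obj W) := by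
  let j : pullback W.hom f ⟶ W.left := pullback.fst W.hom f
  haveI : IsFinite j := inferInstanceAs (IsFinite (pullback.fst W.hom f))
  haveI : LocallyOfFinitePresentation j :=
    inferInstanceAs (LocallyOfFinitePresentation (pullback.fst W.hom f))
  haveI hPaff : IsAffine (pullback W.hom f) := isAffine_of_isAffineHom j
  haveI : IsAffine ((ProEtS.bcP f).obj W).left := hPaff
  apply ProEtIsWC.isWC_of_isWContractible
  have h1 : j.appTop.hom.Finite := j.finite_appTop
  have h2 : j.appTop.hom.FinitePresentation := j.finitePresentation_appTop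
  letI := j.appTop.hom.toAlgebra
  haveI : Module.Finite Γ(W.left, ⊤) Γ(pullback W.hom f, ⊤) := h1
  haveI : Algebra.FinitePresentation Γ(W.left, ⊤) Γ(pullback W.hom f, ⊤) := h2
  exact WContrFinite2.main Γ(W.left, ⊤) Γ(pullback W.hom f, ⊤) hwc

theorem main [ProEtS.PCont f] :
    PreservesFiniteLimits (ProEtS.pushP f) ∧ PreservesFiniteColimits (ProEtS.pushP f) :=
  ProEtPushExact.main f (fun W _ _ _ _ _ _ hW hwc => isWC_bcP f W hW hwc)

end Groth.Agent.H27.ProEtFinitePush
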