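import Groth.Prelude.Def_ProEtDC
import Mathlib.CategoryTheory.Linear.FunctorCategory
import Mathlib.CategoryTheory.Sites.EpiMono
import Mathlib.Algebra.Category.ModuleCat.Adjunctions

/-!
# Extension by zero of constant sheaves of modules on the pro-étale site

`L W = j_{W!} ∘ const : ModuleCat Λ ⥤ ModP Λ X` is left adjoint to the sections functor `Γ(W, -)`,
and it is isomorphic to the sheafification of `M ↦ (V ↦ M^{(Hom(V, W))})`; hence it preserves
monomorphisms.
-/

set_option autoImplicit false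
set_option linter.style.haveILetI false
open CategoryTheory CategoryTheory.Limits AlgebraicGeometry Opposite
universe u

namespace Groth.Agent.H27.ProEtFree

variable (Λ : Type (u + 1)) [CommRing Λ] {X : Scheme.{u}} (W : X.ProEt)

/-- the presheaf `V ↦ M^{(Hom(V, W))}`, functorially in `M` -/
noncomputable def P : ModuleCat.{u + 1} Λ ⥤ (X.ProEtᵒᵖ ⥤ ModuleCat.{u + 1} Λ) where
  obj M :=
    { obj := fun V => ModuleCat.of Λ ((V.unop ⟶ W) →₀ M)
      map := fun {V V'} g => ModuleCat.ofHom
        (Finsupp.lmapDomain M Λ (fun h : V.unop ⟶ W => g.unop ≫ h))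
      map_id := by
        intro V
        ext h m
        simp
      map_comp := by
        intro V V' V'' g g'
        ext h m
        simp }
  map {M N} φ :=
    { app := fun V => ModuleCat.ofHom (Finsupp.mapRange.linearMap φ.hom)
      naturality := by
        intro V V' g
        ext h m
        simp }
  map_id := by
    intro M
    ext V h m
    simp
  map_comp := by
    intro M N K φ ψ
    ext V h m
    simp

theorem P_obj_map_single (M : ModuleCat.{u + 1} Λ) {V V' : X.ProEtᵒᵖ} (g : V ⟶ V')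
    (h : V.unop ⟶ W) (m : M) :
    (((P Λ W).obj M).map g).hom (Finsupp.single h m) =
      (Finsupp.single (g.unop ≫ h) m : (V'.unop ⟶ W) →₀ M) := by
  change Finsupp.lmapDomain M Λ (fun h : V.unop ⟶ W => g.unop ≫ h) (Finsupp.single h m) = _
  rw [Finsupp.lmapDomain_apply, Finsupp.mapDomain_single]

theorem P_map_app_single {M N : ModuleCat.{u + 1} Λ} (φ : M ⟶ N) (V : X.ProEtᵒᵖ)
    (h : V.unop ⟶ W) (m : M) :
    (((P Λ W).map φ).app V).hom (Finsupp.single h m) =
      (Finsupp.single h (φ.hom m) : (V.unop ⟶ W) →₀ N) := by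
  change Finsupp.mapRange.linearMap φ.hom (Finsupp.single h m) = _
  rw [Finsupp.mapRange.linearMap_apply, Finsupp.mapRange_single]

theorem hom_ext_P {M : ModuleCat.{u + 1} Λ} {V : X.ProEtᵒᵖ} {N : ModuleCat.{u + 1} Λ}
    {α β : ((P Λ W).obj M).obj V ⟶ N}
    (h : ∀ (h : V.unop ⟶ W) (m : M), α.hom (Finsupp.single h m) = β.hom (Finsupp.single h m)) :
    α = β := by
  apply ModuleCat.hom_ext
  apply Finsupp.lhom_ext
  exact h

/-- the natural transformation `P M ⟶ G` attached to `ψ : M ⟶ G(W)` -/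
noncomputable def descP {M : ModuleCat.{u + 1} Λ} {G : X.ProEtᵒᵖ ⥤ ModuleCat.{u + 1} Λ}
    (ψ : M ⟶ G.obj (op W)) : (P Λ W).obj M ⟶ G where
  app V := ModuleCat.ofHom
    (Finsupp.lsum Λ (fun h : V.unop ⟶ W => (G.map h.op).hom ∘ₗ ψ.hom) :
      ((V.unop ⟶ W) →₀ M) →ₗ[Λ] G.obj V)
  naturality := by
    intro V V' g
    apply hom_ext_P
    intro h m
    change Finsupp.lsum Λ (fun h : V'.unop ⟶ W => (G.map h.op).hom ∘ₗ ψ.hom)
        ((((P Λ W).obj M).map g).hom (Finsupp.single h m)) =
      (G.map g).hom (Finsupp.lsum Λ (fun h : V.unop ⟶ W => (G.map h.op).hom ∘ₗ ψ.hom)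
        (Finsupp.single h m))
    rw [P_obj_map_single]
    simp

theorem descP_app_single {M : ModuleCat.{u + 1} Λ} {G : X.ProEtᵒᵖ ⥤ ModuleCat.{u + 1} Λ}
    (ψ : M ⟶ G.obj (op W)) (V : X.ProEtᵒᵖ) (h : V.unop ⟶ W) (m : M) :
    ((descP Λ W ψ).app V).hom (Finsupp.single h m) = (G.map h.op).hom (ψ.hom m) := by
  change Finsupp.lsum Λ (fun h : V.unop ⟶ W => (G.map h.op).hom ∘ₗ ψ.hom)
    (Finsupp.single h m) = _
  simp

/-- `Hom(P M, G) ≃ Hom(M, G(W))` -/
noncomputable def homEquivP (M : ModuleCat.{u + 1} Λ) (G : X.ProEtᵒᵖ ⥤ ModuleCat.{u + 1} Λ) :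
    ((P Λ W).obj M ⟶ G) ≃ (M ⟶ G.obj (op W)) where
  toFun α := ModuleCat.ofHom ((α.app (op W)).hom ∘ₗ
    (Finsupp.lsingle (𝟙 W) : M →ₗ[Λ] ((W ⟶ W) →₀ M)))
  invFun ψ := descP Λ W ψ
  left_inv α := by
    ext V : 2
    apply hom_ext_P
    intro h m
    rw [descP_app_single]
    have := congrArg (fun φ => φ.hom (Finsupp.single (𝟙 W) m)) (α.naturality h.op)
    change (α.app V).hom ((((P Λ W).obj M).map h.op).hom (Finsupp.single (𝟙 W) m)) =
      (G.map h.op).hom ((α.app (op W)).hom (Finsupp.single (𝟙 W) m)) at this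
    rw [P_obj_map_single] at this
    refine this.symm.trans ?_
    simp
  right_inv ψ := by
    apply ModuleCat.hom_ext
    ext m
    change ((descP Λ W ψ).app (op W)).hom (Finsupp.single (𝟙 W) m) = _
    rw [descP_app_single]
    simp

/-- `P ⊣ ev_W` -/
noncomputable def adjP :
    P Λ W ⊣ (evaluation X.ProEtᵒᵖ (ModuleCat.{u + 1} Λ)).obj (op W) :=
  Adjunction.mkOfHomEquiv
    { homEquiv := homEquivP Λ W
      homEquiv_naturality_left_symm := by
        intro M' M G f g
        ext V : 2
        apply hom_ext_P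
        intro h m
        change ((descP Λ W (f ≫ g)).app V).hom (Finsupp.single h m) =
          ((descP Λ W g).app V).hom ((((P Λ W).map f).app V).hom (Finsupp.single h m))
        rw [descP_app_single, P_map_app_single, descP_app_single]
        rfl
      homEquiv_naturality_right := by
        intro M G G' f g
        rfl }

/-- the presheaf-level description of `j_{W!} ∘ const` -/
noncomputable abbrev L' : ModuleCat.{u + 1} Λ ⥤ EtModW.ModP Λ X :=
  P Λ W ⋙ presheafToSheaf (Scheme.ProEt.topology X) (ModuleCat.{u + 1} Λ)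

/-- sections over `W` -/
noncomputable abbrev Γ : EtModW.ModP Λ X ⥤ ModuleCat.{u + 1} Λ :=
  sheafToPresheaf _ _ ⋙ (evaluation _ _).obj (op W)

noncomputable def adjL' : L' Λ W ⊣ Γ Λ W :=
  (adjP Λ W).comp (sheafificationAdjunction (Scheme.ProEt.topology X) (ModuleCat.{u + 1} Λ))

instance : (P Λ W).PreservesMonomorphisms where
  preserves {M N} φ hφ := by
    rw [NatTrans.mono_iff_mono_app]
    intro V
    rw [ModuleCat.mono_iff_injective]
    have : Function.Injective φ.hom := (ModuleCat.mono_iff_injective φ).mp hφ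
    exact Finsupp.mapRange_injective _ (map_zero _) this

instance : (L' Λ W).PreservesMonomorphisms := by
  unfold L'
  infer_instance

/-- `j_{W!} ∘ const` -/
noncomputable abbrev L : ModuleCat.{u + 1} Λ ⥤ EtModW.ModP Λ X :=
  constantSheaf ((Scheme.ProEt.topology X).over W) (ModuleCat.{u + 1} Λ) ⋙
    ProEtDC.extZeroModP Λ W

noncomputable def adjL₀ : L Λ W ⊣
    (Over.forget W).sheafPushforwardContinuous (ModuleCat.{u + 1} Λ)
      ((Scheme.ProEt.topology X).over W) (Scheme.ProEt.topology X) ⋙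
    (sheafSections ((Scheme.ProEt.topology X).over W) (ModuleCat.{u + 1} Λ)).obj
      (op (Over.mk (𝟙 W))) :=
  (constantSheafAdj ((Scheme.ProEt.topology X).over W) (ModuleCat.{u + 1} Λ)
    Over.mkIdTerminal).comp
    ((Over.forget W).sheafAdjunctionContinuous (ModuleCat.{u + 1} Λ)
      ((Scheme.ProEt.topology X).over W) (Scheme.ProEt.topology X))

noncomputable def adjL : L Λ W ⊣ Γ Λ W :=
  (adjL₀ Λ W).ofNatIsoRight (NatIso.ofComponents (fun F => Iso.refl _) (by
    intro F G φ
    rfl))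

noncomputable def isoL : L Λ W ≅ L' Λ W :=
  (adjL Λ W).leftAdjointUniq (adjL' Λ W)

instance : (L Λ W).PreservesMonomorphisms :=
  Functor.PreservesMonomorphisms.of_iso (isoL Λ W).symm

end Groth.Agent.H27.ProEtFree
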