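import Groth.Agent.H27.ProEtLocConstGen
import Groth.Agent.H27.ProEtDCLim

/-!
# A derived complete sheaf with `F/IF` locally constant of finite presentation on a w-contractible
affine scheme is a quotient of a finite power of the completed constant sheaf
-/

set_option autoImplicit false
set_option linter.style.haveILetI false
open CategoryTheory CategoryTheory.Limits AlgebraicGeometry Opposite
universe u

namespace Groth.Agent.H27.ProEtHatEpi

open ProEtFree ProEtDCNak ProEtDCConv ProEtDCSerre ProEtDCHat ProEtConstExact ProEtHatGen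
open ProEtLocConstGen

variable {Λ : Type (u + 1)} [CommRing Λ] {X : Scheme.{u}}

/-- derived completeness is invariant under isomorphism -/
theorem isDC_of_iso (I : Ideal Λ) {F F' : EtModW.ModP Λ X} (e : F ≅ F')
    (h : ProEtDC.IsDCSheaf Λ I F') : ProEtDC.IsDCSheaf Λ I F := by
  rw [isDCSheaf_iff] at h ⊢
  intro f hf W hW1 hW2
  obtain ⟨h0, h1⟩ := h f hf W hW1 hW2
  haveI : Mono e.hom := inferInstance
  have hinj := injective_of_mono e.hom W
  have hsurj : Function.Surjective (e.inv.hom.app (op W)).hom := by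
    intro y
    refine ⟨(e.hom.hom.app (op W)).hom y, ?_⟩
    exact congrArg (fun ψ : F ⟶ F => (ψ.hom.app (op W)).hom y) e.hom_inv_id
  exact ⟨DerivedNak.T0.of_injective _ hinj h0, DerivedNak.T1.of_surjective _ hsurj h1⟩

theorem biproduct_isDC (I : Ideal Λ) {t : ℕ} (P : Fin t → EtModW.ModP Λ X)
    (h : ∀ k, ProEtDC.IsDCSheaf Λ I (P k)) : ProEtDC.IsDCSheaf Λ I (⨁ P) := by
  apply isDC_of_iso I (biproduct.isoProduct P)
  apply ProEtDCLim.limit_isDC (Discrete.functor P) I
  intro j
  exact h j.as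

theorem smul_comp_comm (a : Λ) {F Q : EtModW.ModP Λ X} (π : F ⟶ Q) :
    ProEtDC.smulHom Λ F a ≫ π = π ≫ ProEtDC.smulHom Λ Q a := by
  rw [smulHom_eq, smulHom_eq, Linear.smul_comp, Linear.comp_smul, Category.id_comp,
    Category.comp_id]

theorem gensMap_comp {r : ℕ} (a : Fin r → Λ) {F Q : EtModW.ModP Λ X} (π : F ⟶ Q) :
    ProEtDC.gensMap Λ a F ≫ π =
      biproduct.map (fun _ : Fin r => π) ≫ ProEtDC.gensMap Λ a Q := by
  apply biproduct.hom_ext'
  intro k
  rw [biproduct.ι_desc_assoc, biproduct.ι_map_assoc, biproduct.ι_desc, smul_comp_comm]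

theorem main [IsNoetherianRing Λ] [IsAffine X] (hX : EtPBC.IsWContractible ↥(Γ(X, ⊤)))
    {r : ℕ} (a : Fin r → Λ) (F : EtModW.ModP Λ X)
    (hF : ProEtDC.IsDCSheaf Λ (Ideal.span (Set.range a)) F)
    (hq : EtModW.IsFPLocConstP Λ (cokernel (ProEtDC.gensMap Λ a F))) :
    ∃ (t : ℕ) (φ : (⨁ fun _ : Fin t => ProEtDC.lambdaHat Λ X (Ideal.span (Set.range a))) ⟶ F),
      Epi φ := by
  set I := Ideal.span (Set.range a) with hI
  let G := cokernel (ProEtDC.gensMap Λ a F)
  let p : F ⟶ G := cokernel.π (ProEtDC.gensMap Λ a F)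
  obtain ⟨t, g, hψ⟩ := exists_epi hX G hq
  let X₀ : X.ProEt := ProEtS.topP X
  haveI : IsAffine X₀.left := inferInstanceAs (IsAffine X)
  have hWC : ProEtS.IsWC X₀ := ProEtIsWC.isWC_of_isWContractible X₀ hX
  have hsurj : Function.Surjective (p.hom.app (op X₀)) :=
    ProEtModWC.surjective_of_isWC Λ hWC p
  choose s hs using fun idx => hsurj (g idx)
  have hQ := Q_span a F hF
  choose φ hφ using fun idx => hQ (secHom F (s idx))
  let α : (⨁ fun _ : Fin t => ΛX Λ X) ⟶ F := biproduct.desc (fun idx => secHom F (s idx))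
  let ψ : (⨁ fun _ : Fin t => ΛX Λ X) ⟶ G := biproduct.desc (fun idx => secHom G (g idx))
  have hαp : α ≫ p = ψ := by
    apply biproduct.hom_ext'
    intro idx
    rw [biproduct.ι_desc_assoc, biproduct.ι_desc, secHom_comp]
    congr 1
    exact hs idx
  let β : (⨁ fun _ : Fin t => ProEtDC.lambdaHat Λ X I) ⟶ F := biproduct.desc φ
  have hιβ : biproduct.map (fun _ : Fin t => ι X I) ≫ β = α := by
    apply biproduct.hom_ext'
    intro idx
    rw [biproduct.ι_map_assoc, biproduct.ι_desc, biproduct.ι_desc, hφ]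
  refine ⟨t, β, ?_⟩
  let Qc := cokernel β
  let π : F ⟶ Qc := cokernel.π β
  have hQdc : ProEtDC.IsDCSheaf Λ I Qc :=
    cokernel_isDC I β (biproduct_isDC I _ (fun _ => lambdaHat_isDC I)) hF
  have hQ0 : ProEtDC.ModGensIsZero Λ a Qc := by
    change Epi (ProEtDC.gensMap Λ a Qc)
    apply Abelian.epi_of_cokernel_π_eq_zero
    let pQ := cokernel.π (ProEtDC.gensMap Λ a Qc)
    have h1 : ProEtDC.gensMap Λ a F ≫ π ≫ pQ = 0 := by
      rw [← Category.assoc, gensMap_comp, Category.assoc, cokernel.condition, comp_zero]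
    let δ : G ⟶ cokernel (ProEtDC.gensMap Λ a Qc) := cokernel.desc _ (π ≫ pQ) h1
    have hδ : p ≫ δ = π ≫ pQ := cokernel.π_desc _ _ _
    have h2 : ψ ≫ δ = 0 := by
      rw [← hαp, Category.assoc, hδ, ← hιβ, Category.assoc, ← Category.assoc β,
        cokernel.condition, zero_comp, comp_zero]
    haveI : Epi ψ := hψ
    have h3 : δ = 0 := by
      rw [← cancel_epi ψ, h2, comp_zero]
    have h4 : π ≫ pQ = 0 := by rw [← hδ, h3, comp_zero]
    haveI : Epi π := inferInstanceAs (Epi (cokernel.π β))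
    rw [← cancel_epi π, h4, comp_zero]
  have hz : IsZero Qc := ProEtDCNak.main a Qc hQdc hQ0
  exact Abelian.epi_of_cokernel_π_eq_zero β (hz.eq_of_tgt _ _)

end Groth.Agent.H27.ProEtHatEpi
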