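import Groth.Agent.H27.ProEtHatStep

/-!
# Extending maps from `Λ^_J` to `Λ^_{J+(f)}` into derived complete sheaves
-/

set_option autoImplicit false
set_option linter.style.haveILetI false
open CategoryTheory CategoryTheory.Limits AlgebraicGeometry Opposite
universe u

namespace Groth.Agent.H27.ProEtHatExt

open ProEtFree ProEtDCNak ProEtDCConv ProEtDCSerre ProEtDCHat ProEtConstExact ProEtHatStep
open Abelian

variable {Λ : Type (u + 1)} [CommRing Λ] {X : Scheme.{u}}

theorem smul_app (f : Λ) (G : EtModW.ModP Λ X) (W : X.ProEt) (s : G.obj.obj (op W)) :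
    (f • 𝟙 G).hom.app (op W) s = f • s := rfl

theorem FInv_kernel [IsNoetherianRing Λ] (J : Ideal Λ) (f : Λ) :
    FInv f (kernel (ν X J f)) := by
  unfold FInv
  apply ProEtIsoWC.isIso_of_isIso_app
  intro W hW1 hW2
  have hWC := ProEtIsWC.isWC_of_isWContractible W hW2
  have H := hyp J f hWC
  have hinjι := injective_of_mono (kernel.ι (ν X J f)) W
  have hcond : ∀ s : (kernel (ν X J f)).obj.obj (op W),
      (ν X J f).hom.app (op W) ((kernel.ι (ν X J f)).hom.app (op W) s) = 0 := fun s =>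
    congrArg (fun ψ : kernel (ν X J f) ⟶ _ => ψ.hom.app (op W) s) (kernel.condition (ν X J f))
  have hp0 : ∀ s : (kernel (ν X J f)).obj.obj (op W),
      pop J f W (Θ J W ((kernel.ι (ν X J f)).hom.app (op W) s)) = 0 := by
    intro s
    rw [pop_Θ, hcond, map_zero]
  have key1 : ∀ s : (kernel (ν X J f)).obj.obj (op W), f • s = 0 → s = 0 := by
    intro s hs
    apply hinjι
    rw [map_zero]
    apply Θ_injective J W
    rw [map_zero]
    apply H.ker_inj (Sop_Θ J W _) (hp0 s)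
    rw [← map_smul, ← map_smul, hs, map_zero, map_zero]
  have key2 : ∀ s : (kernel (ν X J f)).obj.obj (op W), ∃ t, f • t = s := by
    intro s
    obtain ⟨y, hy1, hy2, hy3⟩ := H.ker_surj (Sop_Θ J W _) (hp0 s)
    obtain ⟨x₁, hx₁⟩ := exists_Θ J W y hy1
    have hν : (ν X J f).hom.app (op W) x₁ = 0 := by
      apply Θ_injective (J ⊔ Ideal.span {f}) W
      rw [← pop_Θ, hx₁, hy2, map_zero]
    obtain ⟨s₁, hs₁⟩ := (exact_kernel (ν X J f) W x₁).mp hν
    refine ⟨s₁, ?_⟩
    apply hinjι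
    apply Θ_injective J W
    rw [map_smul, map_smul]
    have : (kernel.ι (ν X J f)).hom.app (op W) s₁ = x₁ := hs₁
    rw [this, hx₁, hy3]
  rw [ConcreteCategory.isIso_iff_bijective]
  constructor
  · intro s t hst
    have h : f • (s - t) = 0 := by
      rw [smul_sub]
      exact sub_eq_zero.mpr hst
    exact sub_eq_zero.mp (key1 _ h)
  · intro s
    obtain ⟨t, ht⟩ := key2 s
    exact ⟨t, ht⟩

theorem FInv_cokernel [IsNoetherianRing Λ] (J : Ideal Λ) (f : Λ) :
    FInv f (cokernel (ν X J f)) := by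
  unfold FInv
  apply ProEtIsoWC.isIso_of_isIso_app
  intro W hW1 hW2
  have hWC := ProEtIsWC.isWC_of_isWContractible W hW2
  have H := hyp J f hWC
  have hsurjπ : Function.Surjective ((cokernel.π (ν X J f)).hom.app (op W)) :=
    ProEtModWC.surjective_of_isWC Λ hWC (cokernel.π (ν X J f))
  have hex := exact_cokernel (ν X J f) hWC
  have hcond : ∀ x : (ProEtDC.lambdaHat Λ X J).obj.obj (op W),
      (cokernel.π (ν X J f)).hom.app (op W) ((ν X J f).hom.app (op W) x) = 0 := fun x =>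
    congrArg (fun ψ : ProEtDC.lambdaHat Λ X J ⟶ _ => ψ.hom.app (op W) x)
      (cokernel.condition (ν X J f))
  have key1 : ∀ c : (cokernel (ν X J f)).obj.obj (op W), f • c = 0 → c = 0 := by
    intro c hc
    obtain ⟨k', rfl⟩ := hsurjπ c
    have h0 : (cokernel.π (ν X J f)).hom.app (op W) (f • k') = 0 := by
      rw [map_smul]
      exact hc
    obtain ⟨h, hh⟩ := (hex (f • k')).mp h0
    have hh' : (ν X J f).hom.app (op W) h = f • k' := hh
    obtain ⟨k, hk1, hk2⟩ := H.coker_inj (Sop_Θ (J ⊔ Ideal.span {f}) W k') (Sop_Θ J W h) (by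
      rw [pop_Θ, hh', map_smul])
    obtain ⟨x, hx⟩ := exists_Θ J W k hk1
    have hνx : (ν X J f).hom.app (op W) x = k' := by
      apply Θ_injective (J ⊔ Ideal.span {f}) W
      rw [← pop_Θ, hx, hk2]
    rw [← hνx]
    exact hcond x
  have key2 : ∀ c : (cokernel (ν X J f)).obj.obj (op W), ∃ t, f • t = c := by
    intro c
    obtain ⟨h', rfl⟩ := hsurjπ c
    obtain ⟨h, k', hh1, hk1, hsum⟩ := H.coker_surj (Sop_Θ (J ⊔ Ideal.span {f}) W h')
    obtain ⟨x, hx⟩ := exists_Θ J W h hh1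
    obtain ⟨x', hx'⟩ := exists_Θ (J ⊔ Ideal.span {f}) W k' hk1
    have hh' : h' = (ν X J f).hom.app (op W) x + f • x' := by
      apply Θ_injective (J ⊔ Ideal.span {f}) W
      rw [map_add, map_smul, ← pop_Θ, hx, hx']
      exact hsum
    refine ⟨(cokernel.π (ν X J f)).hom.app (op W) x', ?_⟩
    rw [hh', map_add, hcond, zero_add, map_smul]
  rw [ConcreteCategory.isIso_iff_bijective]
  constructor
  · intro s t hst
    have h : f • (s - t) = 0 := by
      rw [smul_sub]
      exact sub_eq_zero.mpr hst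
    exact sub_eq_zero.mp (key1 _ h)
  · intro s
    obtain ⟨t, ht⟩ := key2 s
    exact ⟨t, ht⟩

/-- extension along a morphism whose kernel and cokernel have no `Ext⁰`, `Ext¹` into `F` -/
theorem exists_extend_of_ext {A B F : EtModW.ModP Λ X} (ν : A ⟶ B)
    (h0 : Subsingleton (Ext.{u + 1} (kernel ν) F 0))
    (h1 : Subsingleton (Ext.{u + 1} (cokernel ν) F 1)) (s : A ⟶ F) :
    ∃ s' : B ⟶ F, ν ≫ s' = s := by
  have hk : kernel.ι ν ≫ s = 0 := by
    have := Subsingleton.elim (Ext.mk₀ (kernel.ι ν ≫ s)) 0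
    rwa [Ext.mk₀_eq_zero_iff] at this
  -- factor `s` through the image
  let e := Abelian.factorThruImage ν
  have hfac : e ≫ Abelian.image.ι ν = ν := Abelian.image.fac ν
  have hke : kernel.ι e ≫ s = 0 := by
    have h2 : kernel.ι e ≫ ν = 0 := by
      have h3 : kernel.ι e ≫ ν = (kernel.ι e ≫ e) ≫ Abelian.image.ι ν := by
        rw [Category.assoc, hfac]
      rw [h3, kernel.condition, zero_comp]
    rw [← kernel.lift_ι ν (kernel.ι e) h2, Category.assoc, hk, comp_zero]
  let S₁ : ShortComplex (EtModW.ModP Λ X) := ShortComplex.mk (kernel.ι e) e (kernel.condition e)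
  have hS₁ : S₁.Exact := ShortComplex.exact_of_f_is_kernel S₁ (kernelIsKernel e)
  haveI : Epi S₁.g := inferInstanceAs (Epi (Abelian.factorThruImage ν))
  let s₁ : Abelian.image ν ⟶ F := hS₁.desc s hke
  have hs₁ : e ≫ s₁ = s := hS₁.g_desc s hke
  let S₂ : ShortComplex (EtModW.ModP Λ X) :=
    ShortComplex.mk (Abelian.image.ι ν) (cokernel.π ν) (kernel.condition (cokernel.π ν))
  have hS₂ : S₂.ShortExact :=
    { exact := ShortComplex.exact_of_f_is_kernel S₂ (kernelIsKernel (cokernel.π ν))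
      mono_f := inferInstanceAs (Mono (kernel.ι (cokernel.π ν)))
      epi_g := inferInstanceAs (Epi (cokernel.π ν)) }
  haveI : Subsingleton (Ext.{u + 1} S₂.X₃ F 1) := h1
  obtain ⟨x₂, hx₂⟩ := Ext.contravariant_sequence_exact₁ hS₂ F (Ext.mk₀ s₁)
    (by rfl : 1 + 0 = 1) (Subsingleton.elim _ _)
  obtain ⟨s', rfl⟩ := (Ext.mk₀_bijective _ _).2 x₂
  rw [Ext.mk₀_comp_mk₀] at hx₂
  have h3 : Abelian.image.ι ν ≫ s' = s₁ := (Ext.mk₀_bijective _ _).1 hx₂
  refine ⟨s', ?_⟩
  rw [← hfac, Category.assoc, h3, hs₁]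

theorem exists_extend [IsNoetherianRing Λ] (J : Ideal Λ) (f : Λ) (F : EtModW.ModP Λ X)
    (hF : ∀ W : X.ProEt, IsAffine W.left → EtPBC.IsWContractible ↥Γ(W.left, ⊤) →
      DerivedNak.T0 f (F.obj.obj (op W)) ∧ DerivedNak.T1 f (F.obj.obj (op W)))
    (s : ProEtDC.lambdaHat Λ X J ⟶ F) :
    ∃ s' : ProEtDC.lambdaHat Λ X (J ⊔ Ideal.span {f}) ⟶ F, ν X J f ≫ s' = s :=
  exists_extend_of_ext (ν X J f)
    (subsingleton_ext_of_FInv f F hF 0 _ (FInv_kernel J f))
    (subsingleton_ext_of_FInv f F hF 1 _ (FInv_cokernel J f)) s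

end Groth.Agent.H27.ProEtHatExt
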