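import Groth.Agent.H27.ProEtHatExt

/-!
# Every map `Λ_X ⟶ F` into a derived complete sheaf extends to the completed constant sheaf
-/

set_option autoImplicit false
set_option linter.style.haveILetI false
open CategoryTheory CategoryTheory.Limits AlgebraicGeometry Opposite
universe u

namespace Groth.Agent.H27.ProEtHatGen

open ProEtFree ProEtDCNak ProEtDCConv ProEtDCSerre ProEtDCHat ProEtConstExact ProEtHatStep
open ProEtHatExt

variable {Λ : Type (u + 1)} [CommRing Λ] {X : Scheme.{u}}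

variable (Λ X) in
/-- the constant sheaf `Λ_X` -/
noncomputable abbrev ΛX : EtModW.ModP Λ X := (cS Λ X).obj (ModuleCat.of Λ Λ)

/-- the quotient map `Λ ⟶ Λ/Jⁿ` -/
noncomputable abbrev qmk (J : Ideal Λ) (n : ℕ) :
    ModuleCat.of Λ Λ ⟶ (ProEtDC.quotTower Λ J).obj (op n) :=
  ModuleCat.ofHom (Submodule.mkQ (J ^ n • ⊤ : Submodule Λ Λ))

variable (X) in
/-- the canonical map `Λ_X ⟶ Λ^_J` -/
noncomputable def ι (J : Ideal Λ) : ΛX Λ X ⟶ ProEtDC.lambdaHat Λ X J :=
  limit.lift (tw X J)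
    { pt := ΛX Λ X
      π :=
        { app := fun n => (cS Λ X).map (qmk J n.unop)
          naturality := by
            intro n m h
            refine (Category.id_comp _).trans ?_
            change _ = (cS Λ X).map _ ≫ (cS Λ X).map _
            rw [← Functor.map_comp]
            rfl } }

theorem ι_π (J : Ideal Λ) (n : ℕ) :
    ι X J ≫ limit.π (tw X J) (op n) = (cS Λ X).map (qmk J n) := by
  unfold ι
  rw [limit.lift_π]

theorem ι_ν (J : Ideal Λ) (f : Λ) : ι X J ≫ ν X J f = ι X (J ⊔ Ideal.span {f}) := by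
  apply limit.hom_ext
  intro n
  induction n using Opposite.rec with | _ n => ?_
  rw [ι_π, Category.assoc]
  unfold ν
  rw [limMap_π, ← Category.assoc, ι_π]
  change (cS Λ X).map _ ≫ (cS Λ X).map _ = _
  rw [← Functor.map_comp]
  rfl

variable (X) in
/-- the extension property -/
def Q (F : EtModW.ModP Λ X) (J : Ideal Λ) : Prop :=
  ∀ s : ΛX Λ X ⟶ F, ∃ φ : ProEtDC.lambdaHat Λ X J ⟶ F, ι X J ≫ φ = s

theorem Q_bot (F : EtModW.ModP Λ X) : Q X F (⊥ : Ideal Λ) := by
  intro s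
  have hle : ((⊥ : Ideal Λ) ^ 1 • ⊤ : Submodule Λ Λ) ≤ LinearMap.ker (LinearMap.id : Λ →ₗ[Λ] Λ) := by
    rw [pow_one, Submodule.bot_smul]
    exact bot_le
  let e : (ProEtDC.quotTower Λ (⊥ : Ideal Λ)).obj (op 1) ⟶ ModuleCat.of Λ Λ :=
    ModuleCat.ofHom (Submodule.liftQ _ LinearMap.id hle)
  have he : qmk (⊥ : Ideal Λ) 1 ≫ e = 𝟙 _ := by
    ext
    rfl
  refine ⟨limit.π (tw X (⊥ : Ideal Λ)) (op 1) ≫ (cS Λ X).map e ≫ s, ?_⟩
  rw [← Category.assoc, ι_π, ← Category.assoc, ← Functor.map_comp, he,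
    CategoryTheory.Functor.map_id, Category.id_comp]

theorem Q_step [IsNoetherianRing Λ] (F : EtModW.ModP Λ X) (J : Ideal Λ) (f : Λ)
    (hF : ∀ W : X.ProEt, IsAffine W.left → EtPBC.IsWContractible ↥Γ(W.left, ⊤) →
      DerivedNak.T0 f (F.obj.obj (op W)) ∧ DerivedNak.T1 f (F.obj.obj (op W)))
    (h : Q X F J) : Q X F (J ⊔ Ideal.span {f}) := by
  intro s
  obtain ⟨φ, hφ⟩ := h s
  obtain ⟨φ', hφ'⟩ := exists_extend J f F hF φ
  refine ⟨φ', ?_⟩
  rw [← ι_ν, Category.assoc, hφ', hφ]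

theorem Q_span [IsNoetherianRing Λ] {r : ℕ} (a : Fin r → Λ) (F : EtModW.ModP Λ X)
    (hF : ProEtDC.IsDCSheaf Λ (Ideal.span (Set.range a)) F) :
    Q X F (Ideal.span (Set.range a)) := by
  have key : ∀ t : Finset (Fin r), Q X F (Ideal.span (a '' (t : Set (Fin r)))) := by
    intro t
    induction t using Finset.induction_on with
    | empty =>
      rw [Finset.coe_empty, Set.image_empty, Ideal.span_empty]
      exact Q_bot F
    | insert i t _ ih =>
      rw [Finset.coe_insert, Set.image_insert_eq, Ideal.span_insert, sup_comm]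
      refine Q_step F _ (a i) ?_ ih
      exact (isDCSheaf_iff _).mp hF (a i) (Ideal.subset_span ⟨i, rfl⟩)
  have := key Finset.univ
  rwa [Finset.coe_univ, Set.image_univ] at this

end Groth.Agent.H27.ProEtHatGen
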