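import Mathlib.Algebra.Module.LinearMap.End
import Mathlib.Algebra.Ring.GeomSum
import Mathlib.Tactic

/-!
# An operator lemma for towers

`P`, `P'` play the role of products `∏ Hₙ`, `∏ H'ₙ` of two towers, `S`, `S'` of the shift
operators (so that the limits are the fixed points), `p` of a surjection of towers.  If `f` is
pro-injective and pro-surjective on the kernel tower, then `f` is bijective on the kernel and the
cokernel of the induced map on limits.
-/

set_option autoImplicit false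

namespace Groth.Agent.H27.TowerOp

variable {Λ : Type*} [CommRing Λ] {P P' : Type*} [AddCommGroup P] [Module Λ P]
  [AddCommGroup P'] [Module Λ P']

/-- the hypotheses of the operator lemma -/
structure Hyp (S : P →ₗ[Λ] P) (S' : P' →ₗ[Λ] P') (p : P →ₗ[Λ] P') (f : Λ) : Prop where
  comm : ∀ x, p (S x) = S' (p x)
  psurj : Function.Surjective p
  ssurj : ∀ y, ∃ k, k - S k = y
  inj : ∃ d : ℕ, ∀ x, p x = 0 → f • x = 0 → (S ^ d) x = 0
  div : ∀ x, p x = 0 → ∃ y, p y = 0 ∧ S x = f • y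

variable {S : P →ₗ[Λ] P} {S' : P' →ₗ[Λ] P'} {p : P →ₗ[Λ] P'} {f : Λ}

theorem pow_fixed {x : P} (hx : S x = x) (d : ℕ) : (S ^ d) x = x := by
  induction d with
  | zero => simp
  | succ d ih => rw [pow_succ, Module.End.mul_apply, hx, ih]

theorem Hyp.p_pow (H : Hyp S S' p f) {x : P} (hx : p x = 0) (d : ℕ) : p ((S ^ d) x) = 0 := by
  induction d with
  | zero => simpa using hx
  | succ d ih => rw [pow_succ', Module.End.mul_apply, H.comm, ih, map_zero]

theorem Hyp.ker_inj (H : Hyp S S' p f) {x : P} (hx : S x = x) (hp : p x = 0)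
    (hf : f • x = 0) : x = 0 := by
  obtain ⟨d, hd⟩ := H.inj
  rw [← pow_fixed hx d]
  exact hd x hp hf

theorem Hyp.ker_surj (H : Hyp S S' p f) {x : P} (hx : S x = x) (hp : p x = 0) :
    ∃ y, S y = y ∧ p y = 0 ∧ f • y = x := by
  obtain ⟨d, hd⟩ := H.inj
  obtain ⟨y, hy, hxy⟩ := H.div x hp
  rw [hx] at hxy
  have hz1 : p (S y - y) = 0 := by rw [map_sub, H.comm, hy, map_zero, sub_zero]
  have hz2 : f • (S y - y) = 0 := by
    rw [smul_sub, ← map_smul, ← hxy, hx, sub_self]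
  have hz := hd _ hz1 hz2
  refine ⟨(S ^ d) y, ?_, H.p_pow hy d, ?_⟩
  · have h1 : S ((S ^ d) y) = (S ^ d) (S y) := by
      rw [← Module.End.mul_apply, ← Module.End.mul_apply, ← pow_succ', pow_succ]
    rw [h1]
    have h2 : S y = y + (S y - y) := by abel
    rw [h2, map_add, hz, add_zero]
  · rw [← map_smul, ← hxy, pow_fixed hx]

theorem Hyp.coker_surj (H : Hyp S S' p f) {h' : P'} (hh : S' h' = h') :
    ∃ h k', S h = h ∧ S' k' = k' ∧ h' = p h + f • k' := by
  obtain ⟨h₀, hh₀⟩ := H.psurj h'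
  have he : p (h₀ - S h₀) = 0 := by rw [map_sub, H.comm, hh₀, hh, sub_self]
  obtain ⟨y, hy, hey⟩ := H.div _ he
  obtain ⟨k, hk⟩ := H.ssurj y
  have hSk : S k = k - y := by rw [← hk]; abel
  refine ⟨S h₀ - f • k, p k, ?_, ?_, ?_⟩
  · rw [map_sub, map_smul, hSk]
    have h1 : S (S h₀) = S h₀ - S (h₀ - S h₀) := by rw [map_sub]; abel
    rw [h1, hey, smul_sub]
    abel
  · rw [← H.comm, hSk, map_sub, hy, sub_zero]
  · rw [map_sub, map_smul, H.comm, hh₀, hh]
    abel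

theorem geom_sub (S : P →ₗ[Λ] P) (d : ℕ) (y : P) :
    (∑ i ∈ Finset.range d, S ^ i) y - S ((∑ i ∈ Finset.range d, S ^ i) y) = y - (S ^ d) y := by
  have hc : S * (∑ i ∈ Finset.range d, S ^ i) = (∑ i ∈ Finset.range d, S ^ i) * S := by
    rw [Finset.mul_sum, Finset.sum_mul]
    exact Finset.sum_congr rfl (fun i _ => by rw [← pow_succ', pow_succ])
  have h1 : (∑ i ∈ Finset.range d, S ^ i) y - S ((∑ i ∈ Finset.range d, S ^ i) y) =
      ((∑ i ∈ Finset.range d, S ^ i) * (1 - S)) y := by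
    rw [mul_sub, mul_one, ← hc, LinearMap.sub_apply, Module.End.mul_apply]
  rw [h1, geom_sum_mul_neg, LinearMap.sub_apply, Module.End.one_apply]

theorem Hyp.coker_inj (H : Hyp S S' p f) {k' : P'} {h : P} (hk : S' k' = k') (hh : S h = h)
    (hfk : f • k' = p h) : ∃ k, S k = k ∧ p k = k' := by
  obtain ⟨d, hd⟩ := H.inj
  obtain ⟨k₀, hk₀⟩ := H.psurj k'
  have hw : p (f • k₀ - h) = 0 := by rw [map_sub, map_smul, hk₀, hfk, sub_self]
  have hy : p (k₀ - S k₀) = 0 := by rw [map_sub, H.comm, hk₀, hk, sub_self]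
  obtain ⟨v', hv', hSw⟩ := H.div _ hw
  -- w = f • (y + v')
  have hwv : f • k₀ - h = f • ((k₀ - S k₀) + v') := by
    rw [smul_add, ← hSw, map_sub, map_smul, hh, smul_sub]
    abel
  obtain ⟨v, hvdef⟩ : ∃ v, v = (k₀ - S k₀) + v' := ⟨_, rfl⟩
  rw [← hvdef] at hwv
  have hpv : p v = 0 := by rw [hvdef, map_add, hy, hv', add_zero]
  obtain ⟨k₁, hk₁def⟩ : ∃ k₁, k₁ = k₀ - v := ⟨_, rfl⟩
  have hpk₁ : p k₁ = k' := by rw [hk₁def, map_sub, hk₀, hpv, sub_zero]
  have hfk₁ : f • k₁ = h := by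
    rw [hk₁def, smul_sub, ← hwv]
    abel
  have hy₁p : p (k₁ - S k₁) = 0 := by rw [map_sub, H.comm, hpk₁, hk, sub_self]
  have hy₁f : f • (k₁ - S k₁) = 0 := by
    rw [smul_sub, ← map_smul, hfk₁, hh, sub_self]
  have hz := hd _ hy₁p hy₁f
  obtain ⟨q, hqdef⟩ : ∃ q, q = (∑ i ∈ Finset.range d, S ^ i) (k₁ - S k₁) := ⟨_, rfl⟩
  have hq1 : q - S q = k₁ - S k₁ := by
    rw [hqdef, geom_sub, hz, sub_zero]
  have hpq : p q = 0 := by
    rw [hqdef, LinearMap.sum_apply, map_sum]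
    exact Finset.sum_eq_zero (fun i _ => H.p_pow hy₁p i)
  refine ⟨k₁ - q, ?_, ?_⟩
  · have h2 : k₁ - q - S (k₁ - q) = 0 := by
      rw [map_sub]
      have : k₁ - q - (S k₁ - S q) = (k₁ - S k₁) - (q - S q) := by abel
      rw [this, hq1, sub_self]
    exact (sub_eq_zero.mp h2).symm
  · rw [map_sub, hpk₁, hpq, sub_zero]

end Groth.Agent.H27.TowerOp
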