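import Groth.Agent.H27.ProEtConstExact
import Groth.Agent.H27.TowerOp
import Groth.Agent.H27.ARQuot

/-!
# The comparison `Λ^_J ⟶ Λ^_{J+(f)}` of completed constant sheaves has kernel and cokernel on
which `f` is invertible
-/

set_option autoImplicit false
set_option linter.style.haveILetI false
open CategoryTheory CategoryTheory.Limits AlgebraicGeometry Opposite
universe u

namespace Groth.Agent.H27.ProEtHatStep

open ProEtFree ProEtDCNak ProEtDCConv ProEtDCSerre ProEtDCHat ProEtConstExact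

variable {Λ : Type (u + 1)} [CommRing Λ] {X : Scheme.{u}}

/-- comparison of the quotient towers -/
noncomputable def qcmp (J : Ideal Λ) (f : Λ) :
    ProEtDC.quotTower Λ J ⟶ ProEtDC.quotTower Λ (J ⊔ Ideal.span {f}) where
  app n := ModuleCat.ofHom (Submodule.factor (ARQuot.le' J f n.unop))
  naturality := by
    intro n m h
    ext x
    obtain ⟨z, rfl⟩ := Submodule.mkQ_surjective _ x
    rfl

variable (X) in
/-- the tower of constant sheaves -/
noncomputable abbrev tw (J : Ideal Λ) : ℕᵒᵖ ⥤ EtModW.ModP Λ X :=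
  ProEtDC.quotTower Λ J ⋙ cS Λ X

variable (X) in
/-- the comparison map of completed constant sheaves -/
noncomputable def ν (J : Ideal Λ) (f : Λ) :
    ProEtDC.lambdaHat Λ X J ⟶ ProEtDC.lambdaHat Λ X (J ⊔ Ideal.span {f}) :=
  limMap (Functor.whiskerRight (qcmp J f) (cS Λ X))

/-- sections of the `n`-th term of the tower -/
abbrev Hs (J : Ideal Λ) (W : X.ProEt) (n : ℕ) : Type (u + 1) :=
  ((cS Λ X).obj ((ProEtDC.quotTower Λ J).obj (op n))).obj.obj (op W)

/-- the transition map -/
noncomputable abbrev trn (J : Ideal Λ) {n m : ℕ} (h : n ≤ m) :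
    (ProEtDC.quotTower Λ J).obj (op m) ⟶ (ProEtDC.quotTower Λ J).obj (op n) :=
  (ProEtDC.quotTower Λ J).map (homOfLE h).op

theorem trn_refl (J : Ideal Λ) (n : ℕ) : trn J (le_refl n) = 𝟙 _ := by
  have : (homOfLE (le_refl n)).op = 𝟙 (op n) := Subsingleton.elim _ _
  unfold trn
  rw [this, CategoryTheory.Functor.map_id]

theorem trn_trans (J : Ideal Λ) {n m k : ℕ} (h1 : n ≤ m) (h2 : m ≤ k) :
    trn J h2 ≫ trn J h1 = trn J (h1.trans h2) := by
  unfold trn
  rw [← Functor.map_comp]
  rfl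

theorem Φm_id (W : X.ProEt) (M : ModuleCat.{u + 1} Λ) (x : ((cS Λ X).obj M).obj.obj (op W)) :
    Φm W (𝟙 M) x = x := by
  unfold Φm
  rw [CategoryTheory.Functor.map_id]
  rfl

/-- the shift operator -/
noncomputable def Sop (J : Ideal Λ) (W : X.ProEt) : (∀ n, Hs J W n) →ₗ[Λ] (∀ n, Hs J W n) :=
  LinearMap.pi (fun n => (Φm W (trn J (Nat.le_succ n))).comp (LinearMap.proj (n + 1)))

theorem Sop_apply (J : Ideal Λ) (W : X.ProEt) (x : ∀ n, Hs J W n) (n : ℕ) :
    Sop J W x n = Φm W (trn J (Nat.le_succ n)) (x (n + 1)) := rfl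

/-- the projection operator -/
noncomputable def pop (J : Ideal Λ) (f : Λ) (W : X.ProEt) :
    (∀ n, Hs J W n) →ₗ[Λ] (∀ n, Hs (J ⊔ Ideal.span {f}) W n) :=
  LinearMap.pi (fun n => (Φm W ((qcmp J f).app (op n))).comp (LinearMap.proj n))

theorem pop_apply (J : Ideal Λ) (f : Λ) (W : X.ProEt) (x : ∀ n, Hs J W n) (n : ℕ) :
    pop J f W x n = Φm W ((qcmp J f).app (op n)) (x n) := rfl

/-- sections of the limit as families -/
noncomputable def Θ (J : Ideal Λ) (W : X.ProEt) :
    (ProEtDC.lambdaHat Λ X J).obj.obj (op W) →ₗ[Λ] (∀ n, Hs J W n) :=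
  LinearMap.pi (fun n => ((limit.π (tw X J) (op n)).hom.app (op W)).hom)

theorem Θ_apply (J : Ideal Λ) (W : X.ProEt) (x : (ProEtDC.lambdaHat Λ X J).obj.obj (op W))
    (n : ℕ) : Θ J W x n = (limit.π (tw X J) (op n)).hom.app (op W) x := rfl

theorem Θ_injective (J : Ideal Λ) (W : X.ProEt) : Function.Injective (Θ J W) := by
  intro x y h
  apply ProEtDCLim.ext_sections (tw X J) W
  intro j
  exact congrFun h j.unop

theorem Sop_Θ (J : Ideal Λ) (W : X.ProEt) (x : (ProEtDC.lambdaHat Λ X J).obj.obj (op W)) :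
    Sop J W (Θ J W x) = Θ J W x := by
  funext n
  exact ProEtDCLim.map_π (tw X J) W (homOfLE (Nat.le_succ n)).op x

theorem Sop_pow (J : Ideal Λ) (W : X.ProEt) (d : ℕ) : ∀ (x : ∀ n, Hs J W n) (n : ℕ),
    ((Sop J W) ^ d) x n = Φm W (trn J (Nat.le_add_right n d)) (x (n + d)) := by
  induction d with
  | zero =>
    intro x n
    rw [pow_zero, Module.End.one_apply]
    have h := trn_refl J n
    change x n = Φm W (trn J (le_refl n)) (x n)
    rw [h, Φm_id]
  | succ d ih =>
    intro x n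
    rw [pow_succ, Module.End.mul_apply, ih, Sop_apply]
    change Φm W (trn J _) (Φm W (trn J _) (x (n + d + 1))) = Φm W (trn J _) (x (n + d + 1))
    rw [← Φm_comp, trn_trans]

theorem compat_of_fixed (J : Ideal Λ) (W : X.ProEt) (y : ∀ n, Hs J W n)
    (hy : Sop J W y = y) (k : ℕ) : ∀ n : ℕ,
    Φm W (trn J (Nat.le_add_right n k)) (y (n + k)) = y n := by
  intro n
  rw [← Sop_pow]
  exact congrFun (TowerOp.pow_fixed hy k) n

theorem exists_Θ (J : Ideal Λ) (W : X.ProEt) (y : ∀ n, Hs J W n) (hy : Sop J W y = y) :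
    ∃ x, Θ J W x = y := by
  obtain ⟨m, hm⟩ := ProEtDCLim.exists_sections (tw X J) W (fun j => y j.unop) (by
    intro j j' g
    induction j using Opposite.rec with | _ a => ?_
    induction j' using Opposite.rec with | _ b => ?_
    have hle : b ≤ a := leOfHom g.unop
    obtain ⟨k, rfl⟩ := Nat.exists_eq_add_of_le hle
    have hg : g = (homOfLE (Nat.le_add_right b k)).op := Subsingleton.elim _ _
    rw [hg]
    exact compat_of_fixed J W y hy k b)
  exact ⟨m, funext fun n => hm (op n)⟩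

theorem pop_Θ (J : Ideal Λ) (f : Λ) (W : X.ProEt)
    (x : (ProEtDC.lambdaHat Λ X J).obj.obj (op W)) :
    pop J f W (Θ J W x) = Θ (J ⊔ Ideal.span {f}) W ((ν X J f).hom.app (op W) x) := by
  funext n
  have h : ν X J f ≫ limit.π (tw X (J ⊔ Ideal.span {f})) (op n) =
      limit.π (tw X J) (op n) ≫ (cS Λ X).map ((qcmp J f).app (op n)) := by
    unfold ν
    rw [limMap_π]
    rfl
  exact (congrArg (fun ψ : ProEtDC.lambdaHat Λ X J ⟶ _ => ψ.hom.app (op W) x) h).symm

theorem pop_comm (J : Ideal Λ) (f : Λ) (W : X.ProEt) (x : ∀ n, Hs J W n) :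
    pop J f W (Sop J W x) = Sop (J ⊔ Ideal.span {f}) W (pop J f W x) := by
  funext n
  rw [pop_apply, Sop_apply, Sop_apply, pop_apply, ← Φm_comp, ← Φm_comp]
  have hn : trn J (Nat.le_succ n) ≫ (qcmp J f).app (op n) =
      (qcmp J f).app (op (n + 1)) ≫ trn (J ⊔ Ideal.span {f}) (Nat.le_succ n) :=
    (qcmp J f).naturality (homOfLE (Nat.le_succ n)).op
  rw [hn]

theorem trn_surjective (J : Ideal Λ) {n m : ℕ} (h : n ≤ m) :
    Function.Surjective (trn J h).hom :=
  Submodule.factor_surjective (Submodule.smul_mono_left (Ideal.pow_le_pow_right h))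

theorem hyp [IsNoetherianRing Λ] (J : Ideal Λ) (f : Λ) {W : X.ProEt} (hW : ProEtS.IsWC W) :
    TowerOp.Hyp (Sop J W) (Sop (J ⊔ Ideal.span {f}) W) (pop J f W) f where
  comm := pop_comm J f W
  psurj := by
    intro y
    have hs : ∀ n, ∃ a : Hs J W n, Φm W ((qcmp J f).app (op n)) a = y n := fun n =>
      Φm_surjective hW _ (Submodule.factor_surjective (ARQuot.le' J f n)) (y n)
    choose a ha using hs
    exact ⟨a, funext ha⟩
  ssurj := by
    intro y
    have hs : ∀ n (b : Hs J W n), ∃ a : Hs J W (n + 1), Φm W (trn J (Nat.le_succ n)) a = b :=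
      fun n b => Φm_surjective hW _ (trn_surjective J _) b
    choose g hg using hs
    let k : ∀ n, Hs J W n := fun n => Nat.rec (motive := fun n => Hs J W n) 0
      (fun n kn => g n (kn - y n)) n
    refine ⟨k, funext fun n => ?_⟩
    change k n - Φm W (trn J (Nat.le_succ n)) (k (n + 1)) = y n
    have : k (n + 1) = g n (k n - y n) := rfl
    rw [this, hg]
    abel
  inj := by
    obtain ⟨d, hd⟩ := ARQuot.quot_inj J f
    refine ⟨d, fun x hp hf => funext fun n => ?_⟩
    rw [Sop_pow]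
    exact transport_inj W ((qcmp J f).app (op (n + d))) (trn J (Nat.le_add_right n d)) f
      (hd n) (x (n + d)) (congrFun hp (n + d)) (congrFun hf (n + d))
  div := by
    intro x hp
    have hs : ∀ n, ∃ y : Hs J W n, Φm W ((qcmp J f).app (op n)) y = 0 ∧
        Φm W (trn J (Nat.le_succ n)) (x (n + 1)) = f • y := fun n =>
      transport_div hW ((qcmp J f).app (op (n + 1))) ((qcmp J f).app (op n))
        (trn J (Nat.le_succ n)) f (ARQuot.quot_div J f n) (x (n + 1)) (congrFun hp (n + 1))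
    choose y hy1 hy2 using hs
    exact ⟨y, funext hy1, funext hy2⟩

end Groth.Agent.H27.ProEtHatStep
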