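import Groth.Agent.H27.ProEtHatGen

/-!
# A locally constant sheaf of finite type on a w-contractible affine scheme is generated by
finitely many global sections
-/

set_option autoImplicit false
set_option linter.style.haveILetI false
open CategoryTheory CategoryTheory.Limits AlgebraicGeometry Opposite
universe u

namespace Groth.Agent.H27.ProEtLocConstGen

open ProEtFree ProEtDCNak ProEtDCConv ProEtDCSerre ProEtDCHat ProEtConstExact ProEtHatGen

variable {Λ : Type (u + 1)} [CommRing Λ] {X : Scheme.{u}}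

/-- the map to the terminal object of the pro-étale site -/
noncomputable def toTop (V : X.ProEt) : V ⟶ ProEtS.topP X :=
  MorphismProperty.Over.homMk V.hom (Category.comp_id _)

theorem comp_toTop {V' V : X.ProEt} (h : V' ⟶ V) : h ≫ toTop V = toTop V' := by
  apply MorphismProperty.Over.Hom.ext
  exact MorphismProperty.Over.w h

theorem map_map (G : EtModW.ModP Λ X) {V V' V'' : X.ProEt} (h : V' ⟶ V) (k : V'' ⟶ V')
    (s : G.obj.obj (op V)) :
    (G.obj.map k.op).hom ((G.obj.map h.op).hom s) = (G.obj.map (k ≫ h).op).hom s := by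
  rw [op_comp, G.obj.map_comp]
  rfl

/-- the presheaf map from the constant presheaf given by a global section -/
noncomputable def κ (G : EtModW.ModP Λ X) (g : G.obj.obj (op (ProEtS.topP X))) :
    (Functor.const X.ProEtᵒᵖ).obj (ModuleCat.of Λ Λ) ⟶ G.obj where
  app V := ModuleCat.ofHom (LinearMap.toSpanSingleton Λ _ ((G.obj.map (toTop V.unop).op).hom g))
  naturality := by
    intro V V' h
    refine (Category.id_comp _).trans ?_
    ext
    change (1 : Λ) • _ = (G.obj.map h).hom ((1 : Λ) • _)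
    rw [one_smul, one_smul]
    have h1 := map_map G (toTop V.unop) h.unop g
    rw [comp_toTop] at h1
    exact h1.symm

/-- the morphism `Λ_X ⟶ G` given by a global section -/
noncomputable def secHom (G : EtModW.ModP Λ X) (g : G.obj.obj (op (ProEtS.topP X))) :
    ΛX Λ X ⟶ G :=
  ⟨sheafifyLift (Scheme.ProEt.topology X) (κ G g) G.2⟩

/-- the unit section of `Λ_X` over `V` -/
noncomputable def one (V : X.ProEt) : (ΛX Λ X).obj.obj (op V) :=
  ((toSheafify (Scheme.ProEt.topology X)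
    ((Functor.const X.ProEtᵒᵖ).obj (ModuleCat.of Λ Λ))).app (op V)).hom (1 : Λ)

theorem secHom_one (G : EtModW.ModP Λ X) (g : G.obj.obj (op (ProEtS.topP X))) (V : X.ProEt) :
    ((secHom G g).hom.app (op V)).hom (one V) = (G.obj.map (toTop V).op).hom g := by
  have h := toSheafify_sheafifyLift (Scheme.ProEt.topology X) (κ G g) G.2
  have h2 := congrArg (fun ψ : (Functor.const X.ProEtᵒᵖ).obj (ModuleCat.of Λ Λ) ⟶ G.obj =>
    (ψ.app (op V)).hom (1 : Λ)) h
  refine h2.trans ?_
  exact one_smul Λ _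

theorem secHom_comp {F G : EtModW.ModP Λ X} (p : F ⟶ G)
    (s : F.obj.obj (op (ProEtS.topP X))) :
    secHom F s ≫ p = secHom G ((p.hom.app (op (ProEtS.topP X))).hom s) := by
  apply Sheaf.hom_ext
  apply sheafify_hom_ext _ _ _ G.2
  change toSheafify _ _ ≫ sheafifyLift _ (κ F s) F.2 ≫ p.hom =
    toSheafify _ _ ≫ sheafifyLift _ (κ G _) G.2
  rw [← Category.assoc, toSheafify_sheafifyLift, toSheafify_sheafifyLift]
  ext V
  change (p.hom.app V).hom ((1 : Λ) • (F.obj.map (toTop V.unop).op).hom s) =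
    (1 : Λ) • (G.obj.map (toTop V.unop).op).hom ((p.hom.app (op (ProEtS.topP X))).hom s)
  rw [one_smul, one_smul]
  exact congrArg (fun φ => (ModuleCat.Hom.hom φ) s) (p.hom.naturality (toTop V.unop).op)

/-- the sieve of maps over which `s` becomes a combination of the `γ j` -/
def combSieve (G : EtModW.ModP Λ X) {U : X.ProEt} {n : ℕ} (γ : Fin n → G.obj.obj (op U))
    {V : X.ProEt} (a : V ⟶ U) (s : G.obj.obj (op V)) : Sieve V where
  arrows V' h := ∃ c : Fin n → Λ,
    (G.obj.map h.op).hom s = ∑ j, c j • (G.obj.map (h ≫ a).op).hom (γ j)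
  downward_closed := by
    rintro V' V'' h ⟨c, hc⟩ k
    refine ⟨c, ?_⟩
    rw [← map_map G h k s, hc, map_sum]
    refine Finset.sum_congr rfl (fun j _ => ?_)
    rw [map_smul, map_map, Category.assoc]

set_option backward.isDefEq.respectTransparency.types false in
theorem combSieve_mem (G : EtModW.ModP Λ X) (U : X.ProEt) (M : ModuleCat.{u + 1} Λ)
    (e : G.over U ≅ (constantSheaf ((Scheme.ProEt.topology X).over U)
      (ModuleCat.{u + 1} Λ)).obj M)
    {n : ℕ} (m : Fin n → M) (hm : Submodule.span Λ (Set.range m) = ⊤)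
    {V : X.ProEt} (a : V ⟶ U) (s : G.obj.obj (op V)) :
    combSieve G (fun j => (e.inv.hom.app (op (Over.mk (𝟙 U)))).hom
      (((toSheafify ((Scheme.ProEt.topology X).over U)
        ((Functor.const (Over U)ᵒᵖ).obj M)).app (op (Over.mk (𝟙 U)))).hom (m j))) a s ∈
      Scheme.ProEt.topology X V := by
  let Y : Over U := Over.mk a
  let s' := (e.hom.hom.app (op Y)).hom s
  have hmem : Sieve.overEquiv Y (Presheaf.imageSieve (toSheafify ((Scheme.ProEt.topology X).over U)
      ((Functor.const (Over U)ᵒᵖ).obj M)) s') ∈ Scheme.ProEt.topology X V :=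
    (GrothendieckTopology.mem_over_iff _ _).mp
      (Presheaf.imageSieve_mem ((Scheme.ProEt.topology X).over U)
        (toSheafify ((Scheme.ProEt.topology X).over U) ((Functor.const (Over U)ᵒᵖ).obj M)) s')
  refine (Scheme.ProEt.topology X).superset_covering ?_ hmem
  intro V' h hh
  rw [Sieve.overEquiv_iff] at hh
  obtain ⟨t, ht⟩ := hh
  have htop : t ∈ Submodule.span Λ (Set.range m) := by rw [hm]; trivial
  obtain ⟨c, hc⟩ := (Submodule.mem_span_range_iff_exists_fun Λ).mp htop
  refine ⟨c, ?_⟩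
  let cM := (constantSheaf ((Scheme.ProEt.topology X).over U) (ModuleCat.{u + 1} Λ)).obj M
  let tS := toSheafify ((Scheme.ProEt.topology X).over U) ((Functor.const (Over U)ᵒᵖ).obj M)
  let Y₀ : Over U := Over.mk (𝟙 U)
  let Y' : Over U := Over.mk (h ≫ a)
  let h' : Y' ⟶ Y := Over.homMk h rfl
  let t₀ : Y' ⟶ Y₀ := Over.homMk (h ≫ a) (Category.comp_id _)
  -- (1)
  have nat1 := e.hom.hom.naturality h'.op
  have e1 : (e.hom.hom.app (op Y')).hom ((G.obj.map h.op).hom s) =
      (tS.app (op Y')).hom t := by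
    have := congrArg (fun φ => (ModuleCat.Hom.hom φ) s) nat1
    exact this.trans ht.symm
  let L : M →ₗ[Λ] G.obj.obj (op V') := (tS.app (op Y') ≫ e.inv.hom.app (op Y')).hom
  have e2 : (G.obj.map h.op).hom s = L t := by
    have h3 : e.hom.hom.app (op Y') ≫ e.inv.hom.app (op Y') = 𝟙 _ :=
      congrArg (fun ψ : G.over U ⟶ G.over U => ψ.hom.app (op Y')) e.hom_inv_id
    have h4 := congrArg (fun φ => (ModuleCat.Hom.hom φ) ((G.obj.map h.op).hom s)) h3
    have h5 : L t = (e.inv.hom.app (op Y')).hom ((tS.app (op Y')).hom t) := rfl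
    rw [h5, ← e1]
    exact h4.symm
  have e5 : ∀ j, L (m j) = (G.obj.map (h ≫ a).op).hom ((e.inv.hom.app (op Y₀)).hom
      ((tS.app (op Y₀)).hom (m j))) := by
    intro j
    have nat3 := tS.naturality t₀.op
    have e3 : (tS.app (op Y')).hom (m j) = (cM.obj.map t₀.op).hom ((tS.app (op Y₀)).hom (m j)) :=
      congrArg (fun φ => (ModuleCat.Hom.hom φ) (m j)) nat3
    have nat4 := e.inv.hom.naturality t₀.op
    have e4 := congrArg (fun φ => (ModuleCat.Hom.hom φ) ((tS.app (op Y₀)).hom (m j))) nat4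
    have h6 : L (m j) = (e.inv.hom.app (op Y')).hom ((tS.app (op Y')).hom (m j)) := rfl
    rw [h6, e3]
    exact e4
  rw [e2, ← hc, map_sum]
  refine Finset.sum_congr rfl (fun j _ => ?_)
  rw [map_smul, e5 j]
  rfl

theorem eq_toTop {V : X.ProEt} (f : V ⟶ ProEtS.topP X) : f = toTop V := by
  apply MorphismProperty.Over.Hom.ext
  have h1 : f.left ≫ 𝟙 X = V.hom := MorphismProperty.Over.w f
  exact (Category.comp_id f.left).symm.trans h1

/-- local generation: a finite family of sections over `U` generating `G` over `U` -/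
theorem exists_local_gens (G : EtModW.ModP Λ X) (U : X.ProEt)
    (h : ∃ (M : Type (u + 1)) (_ : AddCommGroup M) (_ : Module Λ M)
      (_ : Module.FinitePresentation Λ M),
      Nonempty (G.over U ≅ (constantSheaf ((Scheme.ProEt.topology X).over U)
        (ModuleCat.{u + 1} Λ)).obj (ModuleCat.of Λ M))) :
    ∃ (n : ℕ) (γ : Fin n → G.obj.obj (op U)), ∀ (V : X.ProEt) (a : V ⟶ U)
      (s : G.obj.obj (op V)), combSieve G γ a s ∈ Scheme.ProEt.topology X V := by
  obtain ⟨M, _, _, hfp, ⟨e⟩⟩ := h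
  haveI : Module.Finite Λ M := inferInstance
  obtain ⟨n, m, hm⟩ := Module.Finite.exists_fin (R := Λ) (M := M)
  exact ⟨n, _, fun V a s => combSieve_mem G U (ModuleCat.of Λ M) e m hm a s⟩

set_option backward.isDefEq.respectTransparency.types false in
theorem exists_epi [IsAffine X] (hX : EtPBC.IsWContractible ↥(Γ(X, ⊤))) (G : EtModW.ModP Λ X)
    (hG : EtModW.IsFPLocConstP Λ G) :
    ∃ (t : ℕ) (g : Fin t → G.obj.obj (op (ProEtS.topP X))),
      Epi (biproduct.desc (fun idx => secHom G (g idx)) : (⨁ fun _ : Fin t => ΛX Λ X) ⟶ G) := by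
  obtain ⟨ι, U, hcov, hU⟩ := hG
  choose n γ hγ using fun i => exists_local_gens G (U i) (hU i)
  let X₀ : X.ProEt := ProEtS.topP X
  haveI : IsAffine X₀.left := inferInstanceAs (IsAffine X)
  obtain ⟨N, W, -, hdisj, hcovW, hR⟩ := ProEtWCrit.forward X₀ hX _ hcov
  have hR' : ∀ k, ∃ (i : ι) (a : Scheme.ProEt.mk ((W k).ι ≫ X₀.hom) ⟶ U i),
      (MorphismProperty.Over.homMk (W k).ι : Scheme.ProEt.mk ((W k).ι ≫ X₀.hom) ⟶ X₀) =
        a ≫ (MorphismProperty.Over.homMk (U i).hom : U i ⟶ ProEtS.topP X) := fun k =>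
    (Sieve.mem_ofArrows_iff _ _ _).mp (hR k)
  choose ik hk hhk using hR'
  -- global sections
  let Gt : Sheaf (Scheme.ProEt.topology X) (Type (u + 1)) :=
    (sheafCompose (Scheme.ProEt.topology X) (forget (ModuleCat.{u + 1} Λ))).obj G
  have hg : ∀ (k : Fin N) (j : Fin (n (ik k))), ∃ g : G.obj.obj (op X₀),
      (G.obj.map (MorphismProperty.Over.homMk (W k).ι :
        Scheme.ProEt.mk ((W k).ι ≫ X₀.hom) ⟶ X₀).op).hom g =
        (G.obj.map (hk k).op).hom (γ (ik k) j) := by
    intro k j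
    obtain ⟨x, hx, -⟩ := ProEtSheafGlue.existsUnique_glue X₀ W hdisj hcovW Gt
      (Function.update (fun l => (0 : G.obj.obj (op (Scheme.ProEt.mk ((W l).ι ≫ X₀.hom))))) k
        ((G.obj.map (hk k).op).hom (γ (ik k) j)))
    refine ⟨x, ?_⟩
    have := hx k
    rw [Function.update_self] at this
    exact this
  choose g hg using hg
  -- the index type
  let T := Σ k : Fin N, Fin (n (ik k))
  let eT : T ≃ Fin (Fintype.card T) := Fintype.equivFin T
  let ψ : (⨁ fun _ : Fin (Fintype.card T) => ΛX Λ X) ⟶ G :=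
    biproduct.desc (fun idx => secHom G (g (eT.symm idx).1 (eT.symm idx).2))
  refine ⟨Fintype.card T, fun idx => g (eT.symm idx).1 (eT.symm idx).2, ?_⟩
  change Epi ψ
  rw [← Sheaf.isLocallySurjective_iff_epi' (ModuleCat.{u + 1} Λ) ψ]
  constructor
  intro V s
  -- the clopen pieces of `V`
  let VW : Fin N → V.left.Opens := fun k => V.hom ⁻¹ᵁ (W k)
  have hcovV : (⋃ k, (VW k : Set ↥V.left)) = Set.univ := by
    rw [Set.eq_univ_iff_forall]
    intro x
    have : V.hom.base x ∈ ⋃ k, (W k : Set ↥X₀.left) := by rw [hcovW]; trivial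
    obtain ⟨k, hk'⟩ := Set.mem_iUnion.mp this
    exact Set.mem_iUnion.mpr ⟨k, hk'⟩
  have hS := ProEtSheafGlue.generate_ofArrows_mem V VW hcovV
  refine (Scheme.ProEt.topology X).transitive hS _ ?_
  rintro Y f ⟨Z, g', _, ⟨k⟩, rfl⟩
  rw [Sieve.pullback_comp]
  apply (Scheme.ProEt.topology X).pullback_stable
  rw [Presheaf.pullback_imageSieve]
  -- now on the piece `V_k`
  let Vk : X.ProEt := Scheme.ProEt.mk ((VW k).ι ≫ V.hom)
  let vk : Vk ⟶ V := MorphismProperty.Over.homMk (VW k).ι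
  let qk : Vk ⟶ Scheme.ProEt.mk ((W k).ι ≫ X₀.hom) :=
    MorphismProperty.Over.homMk (V.hom ∣_ (W k))
      ((congrArg (fun z => (V.hom ∣_ (W k)) ≫ z) (Category.comp_id (W k).ι)).trans
        (morphismRestrict_ι V.hom (W k)))
  have hc := hγ (ik k) Vk (qk ≫ hk k) ((G.obj.map vk.op).hom s)
  refine (Scheme.ProEt.topology X).superset_covering ?_ hc
  rintro V' h ⟨c, hc'⟩
  refine ⟨∑ j, c j • ((biproduct.ι (fun _ : Fin (Fintype.card T) => ΛX Λ X)
    (eT ⟨k, j⟩)).hom.app (op V')).hom (one V'), ?_⟩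
  refine Eq.trans ?_ hc'.symm
  change (ψ.hom.app (op V')).hom _ = _
  rw [map_sum]
  refine Finset.sum_congr rfl (fun j _ => ?_)
  rw [map_smul]
  congr 1
  have h1 : biproduct.ι (fun _ : Fin (Fintype.card T) => ΛX Λ X) (eT ⟨k, j⟩) ≫ ψ =
      secHom G (g k j) := by
    rw [biproduct.ι_desc, Equiv.symm_apply_apply]
  have h2 := congrArg (fun φ : ΛX Λ X ⟶ G => (φ.hom.app (op V')).hom (one V')) h1
  refine h2.trans ?_
  rw [secHom_one]
  have h3 : toTop V' = ((h ≫ qk) ≫ (MorphismProperty.Over.homMk (W k).ι :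
      Scheme.ProEt.mk ((W k).ι ≫ X₀.hom) ⟶ X₀)) := (eq_toTop _).symm
  have e1 : (G.obj.map ((h ≫ qk) ≫ (MorphismProperty.Over.homMk (W k).ι :
      Scheme.ProEt.mk ((W k).ι ≫ X₀.hom) ⟶ X₀)).op).hom (g k j) =
      (G.obj.map (h ≫ qk).op).hom ((G.obj.map (MorphismProperty.Over.homMk (W k).ι :
      Scheme.ProEt.mk ((W k).ι ≫ X₀.hom) ⟶ X₀).op).hom (g k j)) :=
    (map_map G _ (h ≫ qk) (g k j)).symm
  have e2 : (G.obj.map (h ≫ qk ≫ hk k).op).hom (γ (ik k) j) =
      (G.obj.map (h ≫ qk).op).hom ((G.obj.map (hk k).op).hom (γ (ik k) j)) := by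
    rw [map_map, Category.assoc]
  rw [h3, e1, hg, e2]

end Groth.Agent.H27.ProEtLocConstGen
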