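import Groth.Agent.H27.ProEtPB

/-!
# Fibre products of cofiltered systems in the small pro-étale site over a base object
(helper27)
-/

set_option autoImplicit false
set_option linter.style.haveILetI false
set_option linter.unusedSectionVars false
set_option backward.isDefEq.respectTransparency.types false
open CategoryTheory CategoryTheory.Limits AlgebraicGeometry Opposite
universe u

namespace Groth.Agent.H27.ProEtPB

open ProEtBC

variable {X : Scheme.{u}}

section Map

variable {Y A B A' B' : X.ProEt} {f : A ⟶ Y} {g : B ⟶ Y} {f' : A' ⟶ Y} {g' : B' ⟶ Y}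

/-- functoriality of the fibre product -/
noncomputable def pbMap (a : A ⟶ A') (b : B ⟶ B') (ha : a ≫ f' = f) (hb : b ≫ g' = g) :
    pb f g ⟶ pb f' g' :=
  pbLift (pbFst f g ≫ a) (pbSnd f g ≫ b) (by
    rw [Category.assoc, Category.assoc, ha, hb, pb_cond])

@[simp]
theorem pbMap_fst (a : A ⟶ A') (b : B ⟶ B') (ha : a ≫ f' = f) (hb : b ≫ g' = g) :
    pbMap a b ha hb ≫ pbFst f' g' = pbFst f g ≫ a := pbLift_fst _ _ _

@[simp]
theorem pbMap_snd (a : A ⟶ A') (b : B ⟶ B') (ha : a ≫ f' = f) (hb : b ≫ g' = g) :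
    pbMap a b ha hb ≫ pbSnd f' g' = pbSnd f g ≫ b := pbLift_snd _ _ _

theorem pbMap_fst_assoc (a : A ⟶ A') (b : B ⟶ B') (ha : a ≫ f' = f) (hb : b ≫ g' = g)
    {Q : X.ProEt} (k : A' ⟶ Q) :
    pbMap a b ha hb ≫ pbFst f' g' ≫ k = pbFst f g ≫ a ≫ k := by
  rw [← Category.assoc, pbMap_fst, Category.assoc]

theorem pbMap_snd_assoc (a : A ⟶ A') (b : B ⟶ B') (ha : a ≫ f' = f) (hb : b ≫ g' = g)
    {Q : X.ProEt} (k : B' ⟶ Q) :
    pbMap a b ha hb ≫ pbSnd f' g' ≫ k = pbSnd f g ≫ b ≫ k := by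
  rw [← Category.assoc, pbMap_snd, Category.assoc]

end Map

section Triple

variable {Y A B C : X.ProEt} (f : A ⟶ Y) (g : B ⟶ Y) (h : C ⟶ Y)

/-- the projection `(A ×_Y B) ×_Y C ⟶ A ×_Y C` -/
noncomputable def p13 : pb (pbFst f g ≫ f) h ⟶ pb f h :=
  pbLift (pbFst (pbFst f g ≫ f) h ≫ pbFst f g) (pbSnd (pbFst f g ≫ f) h) (by
    rw [Category.assoc]
    exact pb_cond (pbFst f g ≫ f) h)

/-- the projection `(A ×_Y B) ×_Y C ⟶ B ×_Y C` -/
noncomputable def p23 : pb (pbFst f g ≫ f) h ⟶ pb g h :=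
  pbLift (pbFst (pbFst f g ≫ f) h ≫ pbSnd f g) (pbSnd (pbFst f g ≫ f) h) (by
    rw [Category.assoc, ← pb_cond f g]
    exact pb_cond (pbFst f g ≫ f) h)

@[simp]
theorem p13_fst : p13 f g h ≫ pbFst f h = pbFst (pbFst f g ≫ f) h ≫ pbFst f g :=
  pbLift_fst _ _ _

@[simp]
theorem p13_snd : p13 f g h ≫ pbSnd f h = pbSnd (pbFst f g ≫ f) h := pbLift_snd _ _ _

@[simp]
theorem p23_fst : p23 f g h ≫ pbFst g h = pbFst (pbFst f g ≫ f) h ≫ pbSnd f g :=
  pbLift_fst _ _ _

@[simp]
theorem p23_snd : p23 f g h ≫ pbSnd g h = pbSnd (pbFst f g ≫ f) h := pbLift_snd _ _ _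

end Triple

section TripleNat

variable {Y A B C A' B' C' : X.ProEt} {f : A ⟶ Y} {g : B ⟶ Y} {h : C ⟶ Y}
  {f' : A' ⟶ Y} {g' : B' ⟶ Y} {h' : C' ⟶ Y}
  (a : A ⟶ A') (b : B ⟶ B') (c : C ⟶ C') (ha : a ≫ f' = f) (hb : b ≫ g' = g) (hc : c ≫ h' = h)

theorem pbMap_comp_fst : pbMap a b ha hb ≫ pbFst f' g' ≫ f' = pbFst f g ≫ f := by
  rw [pbMap_fst_assoc, ha]

/-- functoriality of the triple fibre product -/
noncomputable def pbMap3 : pb (pbFst f g ≫ f) h ⟶ pb (pbFst f' g' ≫ f') h' :=
  pbMap (pbMap a b ha hb) c (pbMap_comp_fst a b ha hb) hc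

theorem pbMap3_p12 : pbMap3 a b c ha hb hc ≫ pbFst (pbFst f' g' ≫ f') h' =
    pbFst (pbFst f g ≫ f) h ≫ pbMap a b ha hb := pbMap_fst _ _ _ _

theorem pbMap3_p13 : pbMap3 a b c ha hb hc ≫ p13 f' g' h' = p13 f g h ≫ pbMap a c ha hc := by
  apply pb_hom_ext
  · rw [Category.assoc, p13_fst, ← Category.assoc, pbMap3_p12, Category.assoc, pbMap_fst,
      Category.assoc, pbMap_fst, ← Category.assoc, ← Category.assoc, p13_fst]
  · rw [Category.assoc, p13_snd, Category.assoc, pbMap_snd, ← Category.assoc, p13_snd]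
    exact pbMap_snd _ _ _ _

theorem pbMap3_p23 : pbMap3 a b c ha hb hc ≫ p23 f' g' h' = p23 f g h ≫ pbMap b c hb hc := by
  apply pb_hom_ext
  · rw [Category.assoc, p23_fst, ← Category.assoc, pbMap3_p12, Category.assoc, pbMap_snd,
      Category.assoc, pbMap_fst, ← Category.assoc, ← Category.assoc, p23_fst]
  · rw [Category.assoc, p23_snd, Category.assoc, pbMap_snd, ← Category.assoc, p23_snd]
    exact pbMap_snd _ _ _ _

end TripleNat

end Groth.Agent.H27.ProEtPB

namespace Groth.Agent.H27.ProEtPS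

open ProEtBC ProEtPB

variable {X : Scheme.{u}}

/-- a system in the small pro-étale site over a base object, with a cone -/
structure SysOver (J : Type u) [SmallCategory J] (Y : X.ProEt) where
  /-- the system -/
  Z : J ⥤ X.ProEt
  /-- the structure maps -/
  τ : ∀ j, Z.obj j ⟶ Y
  hτ : ∀ {i j : J} (f : i ⟶ j), Z.map f ≫ τ j = τ i
  /-- the cone -/
  c : Cone Z
  /-- the structure map of the apex -/
  tW : c.pt ⟶ Y
  htW : ∀ j, c.π.app j ≫ τ j = tW

variable {J : Type u} [SmallCategory J] {Y : X.ProEt}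

namespace SysOver

variable (S S' : SysOver J Y)

/-- the projection of the cone, with clean source -/
def π (j : J) : S.c.pt ⟶ S.Z.obj j := S.c.π.app j

theorem π_τ (j : J) : S.π j ≫ S.τ j = S.tW := S.htW j

theorem π_map {i j : J} (f : i ⟶ j) : S.π i ≫ S.Z.map f = S.π j := S.c.w f

/-- the cone is a limit cone of schemes -/
def IsLim : Prop := Nonempty (IsLimit (cS S.Z S.c))

/-- the fibre product of two systems -/
noncomputable def prodZ : J ⥤ X.ProEt where
  obj j := pb (S.τ j) (S'.τ j)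
  map f := pbMap (S.Z.map f) (S'.Z.map f) (S.hτ f) (S'.hτ f)
  map_id j := by
    apply pb_hom_ext
    · rw [pbMap_fst, S.Z.map_id, Category.comp_id, Category.id_comp]
    · rw [pbMap_snd, S'.Z.map_id, Category.comp_id, Category.id_comp]
  map_comp f g := by
    apply pb_hom_ext
    · rw [pbMap_fst, Category.assoc, pbMap_fst, pbMap_fst_assoc, S.Z.map_comp]
    · rw [pbMap_snd, Category.assoc, pbMap_snd, pbMap_snd_assoc, S'.Z.map_comp]

/-- the fibre product of two systems over the base -/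
noncomputable def prod : SysOver J Y where
  Z := prodZ S S'
  τ j := pbFst (S.τ j) (S'.τ j) ≫ S.τ j
  hτ f := by
    show pbMap (S.Z.map f) (S'.Z.map f) (S.hτ f) (S'.hτ f) ≫ pbFst _ _ ≫ S.τ _ = _
    rw [pbMap_fst_assoc, S.hτ]
    rfl
  c :=
    { pt := pb S.tW S'.tW
      π :=
        { app := fun j => pbMap (S.π j) (S'.π j) (S.π_τ j) (S'.π_τ j)
          naturality := fun i j f => by
            apply pb_hom_ext
            · show (𝟙 _ ≫ pbMap (S.π j) (S'.π j) (S.π_τ j) (S'.π_τ j)) ≫ pbFst _ _ =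
                (pbMap (S.π i) (S'.π i) (S.π_τ i) (S'.π_τ i) ≫
                  pbMap (S.Z.map f) (S'.Z.map f) (S.hτ f) (S'.hτ f)) ≫ pbFst _ _
              rw [Category.id_comp, pbMap_fst, Category.assoc, pbMap_fst, pbMap_fst_assoc,
                S.π_map]
            · show (𝟙 _ ≫ pbMap (S.π j) (S'.π j) (S.π_τ j) (S'.π_τ j)) ≫ pbSnd _ _ =
                (pbMap (S.π i) (S'.π i) (S.π_τ i) (S'.π_τ i) ≫
                  pbMap (S.Z.map f) (S'.Z.map f) (S.hτ f) (S'.hτ f)) ≫ pbSnd _ _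
              rw [Category.id_comp, pbMap_snd, Category.assoc, pbMap_snd, pbMap_snd_assoc,
                S'.π_map] } }
  tW := pbFst S.tW S'.tW ≫ S.tW
  htW j := by
    show pbMap (S.π j) (S'.π j) (S.π_τ j) (S'.π_τ j) ≫ pbFst _ _ ≫ S.τ _ = _
    rw [pbMap_fst_assoc, S.π_τ]

theorem prod_π (j : J) : (S.prod S').π j = pbMap (S.π j) (S'.π j) (S.π_τ j) (S'.π_τ j) := rfl

theorem prod_map {i j : J} (f : i ⟶ j) :
    (S.prod S').Z.map f = pbMap (S.Z.map f) (S'.Z.map f) (S.hτ f) (S'.hτ f) := rfl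

theorem prod_map_left_fst {i j : J} (f : i ⟶ j) :
    ((S.prod S').Z.map f).left ≫ (pbFst (S.τ j) (S'.τ j)).left =
      (pbFst (S.τ i) (S'.τ i)).left ≫ (S.Z.map f).left :=
  congrArg (fun m => m.left) (pbMap_fst (S.Z.map f) (S'.Z.map f) (S.hτ f) (S'.hτ f))

theorem prod_map_left_snd {i j : J} (f : i ⟶ j) :
    ((S.prod S').Z.map f).left ≫ (pbSnd (S.τ j) (S'.τ j)).left =
      (pbSnd (S.τ i) (S'.τ i)).left ≫ (S'.Z.map f).left :=
  congrArg (fun m => m.left) (pbMap_snd (S.Z.map f) (S'.Z.map f) (S.hτ f) (S'.hτ f))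

theorem prod_π_left_fst (j : J) :
    ((S.prod S').c.π.app j).left ≫ (pbFst (S.τ j) (S'.τ j)).left =
      (pbFst S.tW S'.tW).left ≫ (S.c.π.app j).left :=
  congrArg (fun m => m.left) (pbMap_fst (S.π j) (S'.π j) (S.π_τ j) (S'.π_τ j))

theorem prod_π_left_snd (j : J) :
    ((S.prod S').c.π.app j).left ≫ (pbSnd (S.τ j) (S'.τ j)).left =
      (pbSnd S.tW S'.tW).left ≫ (S'.c.π.app j).left :=
  congrArg (fun m => m.left) (pbMap_snd (S.π j) (S'.π j) (S.π_τ j) (S'.π_τ j))

/-- the first cone induced by a cone over the product system -/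
noncomputable def coneFst (s : Cone (DS (S.prod S').Z)) : Cone (DS S.Z) where
  pt := s.pt
  π :=
    { app := fun j => s.π.app j ≫ (pbFst (S.τ j) (S'.τ j)).left
      naturality := fun i j f => by
        have h := s.w f
        show 𝟙 _ ≫ s.π.app j ≫ (pbFst (S.τ j) (S'.τ j)).left =
          (s.π.app i ≫ (pbFst (S.τ i) (S'.τ i)).left) ≫ (S.Z.map f).left
        rw [Category.id_comp, ← h, Category.assoc, Category.assoc]
        exact congrArg (fun m => s.π.app i ≫ m) (prod_map_left_fst S S' f) }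

/-- the second cone induced by a cone over the product system -/
noncomputable def coneSnd (s : Cone (DS (S.prod S').Z)) : Cone (DS S'.Z) where
  pt := s.pt
  π :=
    { app := fun j => s.π.app j ≫ (pbSnd (S.τ j) (S'.τ j)).left
      naturality := fun i j f => by
        have h := s.w f
        show 𝟙 _ ≫ s.π.app j ≫ (pbSnd (S.τ j) (S'.τ j)).left =
          (s.π.app i ≫ (pbSnd (S.τ i) (S'.τ i)).left) ≫ (S'.Z.map f).left
        rw [Category.id_comp, ← h, Category.assoc, Category.assoc]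
        exact congrArg (fun m => s.π.app i ≫ m) (prod_map_left_snd S S' f) }

variable {S S'}

theorem lift_condition [IsCofiltered J] (hc : IsLimit (cS S.Z S.c)) (hc' : IsLimit (cS S'.Z S'.c))
    (s : Cone (DS (S.prod S').Z)) :
    hc.lift (coneFst S S' s) ≫ S.tW.left = hc'.lift (coneSnd S S' s) ≫ S'.tW.left := by
  obtain ⟨j⟩ := IsCofiltered.nonempty (C := J)
  have h1 : (S.c.π.app j).left ≫ (S.τ j).left = S.tW.left :=
    congrArg (fun m => m.left) (S.htW j)
  have h2 : (S'.c.π.app j).left ≫ (S'.τ j).left = S'.tW.left :=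
    congrArg (fun m => m.left) (S'.htW j)
  have e1 : hc.lift (coneFst S S' s) ≫ (S.c.π.app j).left =
      s.π.app j ≫ (pbFst (S.τ j) (S'.τ j)).left := hc.fac (coneFst S S' s) j
  have e2 : hc'.lift (coneSnd S S' s) ≫ (S'.c.π.app j).left =
      s.π.app j ≫ (pbSnd (S.τ j) (S'.τ j)).left := hc'.fac (coneSnd S S' s) j
  have h3 : (pbFst (S.τ j) (S'.τ j)).left ≫ (S.τ j).left =
      (pbSnd (S.τ j) (S'.τ j)).left ≫ (S'.τ j).left :=
    congrArg (fun m => m.left) (pb_cond (S.τ j) (S'.τ j))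
  exact (congrArg (fun m => hc.lift (coneFst S S' s) ≫ m) h1.symm).trans
    ((Category.assoc _ _ _).symm.trans ((congrArg (fun m => m ≫ (S.τ j).left) e1).trans
      ((Category.assoc _ _ _).trans ((congrArg (fun m => s.π.app j ≫ m) h3).trans
        ((Category.assoc _ _ _).symm.trans ((congrArg (fun m => m ≫ (S'.τ j).left) e2.symm).trans
          ((Category.assoc _ _ _).trans
            (congrArg (fun m => hc'.lift (coneSnd S S' s) ≫ m) h2))))))))

/-- the fibre product of two limit systems is a limit system -/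
theorem prod_isLim [IsCofiltered J] (h : S.IsLim) (h' : S'.IsLim) : (S.prod S').IsLim := by
  obtain ⟨hc⟩ := h
  obtain ⟨hc'⟩ := h'
  refine ⟨{ lift := fun s => pullback.lift (hc.lift (coneFst S S' s)) (hc'.lift (coneSnd S S' s))
              (lift_condition hc hc' s)
            fac := ?_
            uniq := ?_ }⟩
  · intro s j
    show pullback.lift _ _ _ ≫ ((S.prod S').c.π.app j).left = s.π.app j
    apply pullback.hom_ext
    · have e := prod_π_left_fst S S' j
      change _ ≫ pullback.fst _ _ = pullback.fst _ _ ≫ _ at e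
      exact (Category.assoc _ _ _).trans ((congrArg (fun m => pullback.lift _ _ _ ≫ m) e).trans
        ((Category.assoc _ _ _).symm.trans
          ((congrArg (fun m => m ≫ (S.c.π.app j).left) (pullback.lift_fst _ _ _)).trans
            (hc.fac (coneFst S S' s) j))))
    · have e := prod_π_left_snd S S' j
      change _ ≫ pullback.snd _ _ = pullback.snd _ _ ≫ _ at e
      exact (Category.assoc _ _ _).trans ((congrArg (fun m => pullback.lift _ _ _ ≫ m) e).trans
        ((Category.assoc _ _ _).symm.trans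
          ((congrArg (fun m => m ≫ (S'.c.π.app j).left) (pullback.lift_snd _ _ _)).trans
            (hc'.fac (coneSnd S S' s) j))))
  · intro s m hm
    apply pullback.hom_ext
    · rw [pullback.lift_fst]
      apply hc.uniq (coneFst S S' s)
      intro j
      have e := prod_π_left_fst S S' j
      change _ ≫ pullback.fst _ _ = pullback.fst _ _ ≫ _ at e
      show (m ≫ pullback.fst _ _) ≫ (S.c.π.app j).left = s.π.app j ≫ pullback.fst _ _
      exact (Category.assoc _ _ _).trans ((congrArg (fun k => m ≫ k) e.symm).trans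
        ((Category.assoc _ _ _).symm.trans (congrArg (fun k => k ≫ pullback.fst _ _) (hm j))))
    · rw [pullback.lift_snd]
      apply hc'.uniq (coneSnd S S' s)
      intro j
      have e := prod_π_left_snd S S' j
      change _ ≫ pullback.snd _ _ = pullback.snd _ _ ≫ _ at e
      show (m ≫ pullback.snd _ _) ≫ (S'.c.π.app j).left = s.π.app j ≫ pullback.snd _ _
      exact (Category.assoc _ _ _).trans ((congrArg (fun k => m ≫ k) e.symm).trans
        ((Category.assoc _ _ _).symm.trans (congrArg (fun k => k ≫ pullback.snd _ _) (hm j))))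

end SysOver

end Groth.Agent.H27.ProEtPS
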