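import Groth.Agent.H27.ProEtClopenPiece
import Groth.Agent.H27.ProEtWCrit
import Groth.Agent.H27.ProEtSheafGlue

/-!
# Points of the small pro-étale site attached to points of affine w-contractible objects
-/

set_option autoImplicit false
set_option linter.style.haveILetI false
open CategoryTheory CategoryTheory.Limits AlgebraicGeometry Opposite
universe u

namespace Groth.Agent.H27.ProEtPoint

variable {S : Scheme.{u}} (W : S.ProEt) (m : W.left)

/-- clopen neighbourhoods of a point -/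
def Nbhd : Type u := {T : W.left.Opens // IsClopen (T : Set W.left) ∧ m ∈ T}

instance : Preorder (Nbhd W m) := inferInstanceAs (Preorder (Subtype _))

instance : Nonempty (Nbhd W m) := ⟨⟨⊤, isClopen_univ, trivial⟩⟩

instance : IsDirected (Nbhd W m) (· ≥ ·) :=
  ⟨fun a b => ⟨⟨a.1 ⊓ b.1, a.2.1.inter b.2.1, ⟨a.2.2, b.2.2⟩⟩,
    (inf_le_left : a.1 ⊓ b.1 ≤ a.1), (inf_le_right : a.1 ⊓ b.1 ≤ b.1)⟩⟩

instance : IsCofiltered (Nbhd W m) := inferInstance

/-- the pro-object of clopen neighbourhoods -/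
noncomputable def p : Nbhd W m ⥤ S.ProEt where
  obj T := Scheme.ProEt.mk (T.1.ι ≫ W.hom)
  map {T' T} h := MorphismProperty.Over.homMk (W.left.homOfLE (leOfHom h))
    (Scheme.homOfLE_ι_assoc _ _ _)
  map_id T := by
    apply MorphismProperty.Over.Hom.ext
    exact Scheme.homOfLE_rfl _ _
  map_comp f g := by
    apply MorphismProperty.Over.Hom.ext
    exact (Scheme.homOfLE_homOfLE _ (leOfHom f) (leOfHom g)).symm

theorem isClopen_image (U : W.left.Opens) (hU : IsClopen (U : Set W.left))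
    (O : U.toScheme.Opens) (hO : IsClopen (O : Set U.toScheme)) :
    IsClopen ((U.ι ''ᵁ O : W.left.Opens) : Set W.left) := by
  refine ⟨?_, (U.ι ''ᵁ O).2⟩
  have hce : Topology.IsClosedEmbedding U.ι.base :=
    ⟨U.ι.isOpenEmbedding.isEmbedding, by
      rw [Scheme.Opens.range_ι]; exact hU.1⟩
  exact hce.isClosedMap _ hO.1

set_option backward.isDefEq.respectTransparency.types false in
/-- the lifting property making the pro-object of clopen neighbourhoods a point -/
theorem hp [IsAffine W.left] (hW : EtPBC.IsWContractible ↥Γ(W.left, ⊤))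
    ⦃X : S.ProEt⦄ (R : Sieve X) (hR : R ∈ Scheme.ProEt.topology S X) ⦃U : Nbhd W m⦄
    (f : (p W m).obj U ⟶ X) :
    ∃ (Y : S.ProEt) (g : Y ⟶ X) (_ : R g) (V : Nbhd W m) (q : V ⟶ U)
      (a : (p W m).obj V ⟶ Y), a ≫ g = (p W m).map q ≫ f := by
  obtain ⟨haff, hwc⟩ := ProEtClopenPiece.main hW U.1 U.2.1
  haveI : IsAffine ((p W m).obj U).left := haff
  have hwc' : EtPBC.IsWContractible ↥Γ(((p W m).obj U).left, ⊤) := hwc
  obtain ⟨n, O, hcl, -, hcov, hRO⟩ := ProEtWCrit.forward ((p W m).obj U) hwc' (R.pullback f)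
    ((Scheme.ProEt.topology S).pullback_stable f hR)
  have hm : (⟨m, U.2.2⟩ : ((p W m).obj U).left) ∈
      ⋃ k, ((O k : ((p W m).obj U).left.Opens) : Set ((p W m).obj U).left) := by
    rw [hcov]; trivial
  obtain ⟨k, hk⟩ := Set.mem_iUnion.mp hm
  let V : Nbhd W m := ⟨U.1.ι ''ᵁ (O k), isClopen_image W U.1 U.2.1 (O k) (hcl k),
    ⟨⟨m, U.2.2⟩, hk, rfl⟩⟩
  have hle : V.1 ≤ U.1 := U.1.ι_image_le (O k)
  let a₀ : V.1.toScheme ⟶ (O k).toScheme := (U.1.ι.isoImage (O k)).inv
  have ha₀ : a₀ ≫ (O k).ι = W.left.homOfLE hle := Scheme.Opens.isoImage_ι_inv_ι U.1 (O k)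
  have haw : a₀ ≫ ((O k).ι ≫ ((p W m).obj U).hom) = ((p W m).obj V).hom := by
    rw [← Category.assoc, ha₀]
    exact Scheme.homOfLE_ι_assoc _ _ _
  refine ⟨Scheme.ProEt.mk ((O k).ι ≫ ((p W m).obj U).hom),
    (MorphismProperty.Over.homMk (O k).ι : Scheme.ProEt.mk ((O k).ι ≫ ((p W m).obj U).hom) ⟶
      (p W m).obj U) ≫ f, hRO k, V, homOfLE hle, MorphismProperty.Over.homMk a₀ haw, ?_⟩
  rw [← Category.assoc]
  congr 1
  apply MorphismProperty.Over.Hom.ext
  exact ha₀

instance : LocallySmall.{u + 1} S.ProEt := inferInstance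

instance : InitiallySmall.{u + 1} (Nbhd W m) := by
  haveI : Small.{u + 1} (Nbhd W m) := inferInstance
  haveI : LocallySmall.{u + 1} (Nbhd W m) := inferInstance
  haveI : EssentiallySmall.{u + 1} (Nbhd W m) := essentiallySmall_of_small_of_locallySmall _
  exact initiallySmall_of_essentiallySmall _

/-- the point of the small pro-étale site attached to a point of an affine w-contractible object -/
noncomputable def pt [IsAffine W.left] (hW : EtPBC.IsWContractible ↥Γ(W.left, ⊤)) :
    GrothendieckTopology.Point.{u + 1} (Scheme.ProEt.topology S) :=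
  GrothendieckTopology.Point.ofIsCofiltered (p W m) (hp W m hW)

end Groth.Agent.H27.ProEtPoint
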