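import Groth.Agent.H27.ProEtWCover3
import Groth.Agent.H27.ProEtIsWC
import Groth.Prelude.Def_ProEtS
import Mathlib.Algebra.Homology.ShortComplex.ExactFunctor

/-!
# Exactness of push-forward on the pro-étale site when base change preserves
weakly contractible affines
-/

set_option autoImplicit false
set_option linter.style.haveILetI false
open CategoryTheory CategoryTheory.Limits AlgebraicGeometry Opposite
universe u

namespace Groth.Agent.H27.ProEtPushExact

/-- an epimorphism of abelian pro-étale sheaves is surjective on sections over a weakly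
contractible object -/
theorem surjective_of_isWC {X : Scheme.{u}} {U : X.ProEt} (hU : ProEtS.IsWC U)
    {F G : ProEtS.AbP X} (φ : F ⟶ G) [Epi φ] :
    Function.Surjective (φ.hom.app (op U)) := by
  let φ' : (sheafCompose (Scheme.ProEt.topology X) (forget AddCommGrpCat.{u + 1})).obj F ⟶
      (sheafCompose (Scheme.ProEt.topology X) (forget AddCommGrpCat.{u + 1})).obj G :=
    (sheafCompose (Scheme.ProEt.topology X) (forget AddCommGrpCat.{u + 1})).map φ
  have h1 : Sheaf.IsLocallySurjective φ := (Sheaf.isLocallySurjective_iff_epi' _ φ).mpr inferInstance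
  have h2 : Sheaf.IsLocallySurjective φ' := by
    change Presheaf.IsLocallySurjective _ (Functor.whiskerRight φ.hom (forget _))
    exact (Presheaf.isLocallySurjective_iff_whisker_forget _ φ.hom).mp h1
  have h3 : Epi φ' := (Sheaf.isLocallySurjective_iff_epi φ').mp h2
  intro s
  obtain ⟨t, ht⟩ := hU _ _ φ' h3 s
  exact ⟨t, ht⟩

variable {Z X : Scheme.{u}} (f : Z ⟶ X) [ProEtS.PCont f]

theorem epi_push
    (H : ∀ (W : X.ProEt) (Y : Scheme.{u}) (a : W.left ⟶ Y) (b : Y ⟶ X), IsAffine Y →
      IsOpenImmersion b → a ≫ b = W.hom → IsAffine W.left →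
      EtPBC.IsWContractible ↥Γ(W.left, ⊤) → ProEtS.IsWC ((ProEtS.bcP f).obj W))
    {F G : ProEtS.AbP Z} (φ : F ⟶ G) [Epi φ] : Epi ((ProEtS.pushP f).map φ) := by
  rw [← Sheaf.isLocallySurjective_iff_epi']
  constructor
  intro W s
  -- an open cover of `W.left` by affines mapping into affine opens of `X`
  let 𝒰 : W.left.OpenCover :=
    (X.affineCover.pullback₁ W.hom).bind (fun i => ((X.affineCover.pullback₁ W.hom).X i).affineCover)
  haveI : ∀ j, IsAffine (𝒰.X j) := fun j =>
    inferInstanceAs (IsAffine (Spec _))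
  obtain ⟨V, g, hcov, hV, h, hh⟩ := ProEtWCover3.main W 𝒰
  refine (Scheme.ProEt.topology X).superset_covering ?_ hcov
  rintro T k ⟨T', k', g', ⟨p⟩, rfl⟩
  apply Sieve.downward_closed
  -- the piece `V p`
  have hWC : ProEtS.IsWC ((ProEtS.bcP f).obj (V p)) := by
    refine H (V p) (X.affineCover.X p.1.1)
      (h p ≫ (((X.affineCover.pullback₁ W.hom).X p.1.1).affineCover.f p.1.2) ≫
        pullback.snd W.hom (X.affineCover.f p.1.1))
      (X.affineCover.f p.1.1) (Scheme.isAffine_affineCover X _)
      (X.affineCover.map_prop _) ?_ (hV p).1 (hV p).2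
    have hw : (V p).hom = (g p).left ≫ W.hom := (MorphismProperty.Over.w (g p)).symm
    rw [hw, ← hh p]
    simp only [Category.assoc]
    congr 1
    change _ = (((X.affineCover.pullback₁ W.hom).X p.1.1).affineCover.f p.1.2 ≫
      pullback.fst W.hom (X.affineCover.f p.1.1)) ≫ W.hom
    have key : ∀ {T : Scheme.{u}} (x : T ⟶ pullback W.hom (X.affineCover.f p.1.1)),
        (x ≫ pullback.snd W.hom (X.affineCover.f p.1.1)) ≫ X.affineCover.f p.1.1 =
          (x ≫ pullback.fst W.hom (X.affineCover.f p.1.1)) ≫ W.hom := by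
      intro T x
      rw [Category.assoc, Category.assoc, pullback.condition]
    exact key _
  obtain ⟨t, ht⟩ := surjective_of_isWC hWC φ
    (G.obj.map ((ProEtS.bcP f).map (g p)).op s)
  exact ⟨t, ht⟩

theorem main
    (H : ∀ (W : X.ProEt) (Y : Scheme.{u}) (a : W.left ⟶ Y) (b : Y ⟶ X), IsAffine Y →
      IsOpenImmersion b → a ≫ b = W.hom → IsAffine W.left →
      EtPBC.IsWContractible ↥Γ(W.left, ⊤) → ProEtS.IsWC ((ProEtS.bcP f).obj W)) :
    PreservesFiniteLimits (ProEtS.pushP f) ∧ PreservesFiniteColimits (ProEtS.pushP f) := by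
  haveI hl : PreservesLimitsOfSize.{0, 0} (ProEtS.pushP f) :=
    (ProEtS.pullPushAdjP f).rightAdjoint_preservesLimits
  haveI hfl : PreservesFiniteLimits (ProEtS.pushP f) := PreservesLimitsOfSize.preservesFiniteLimits _
  refine ⟨hfl, ?_⟩
  rw [Functor.preservesFiniteColimits_iff_forall_exact_map_and_epi]
  intro S hS
  haveI := hS.mono_f
  haveI := hS.epi_g
  exact ⟨hS.exact.map_of_mono_of_preservesKernel _ inferInstance inferInstance,
    epi_push f H S.g⟩

end Groth.Agent.H27.ProEtPushExact
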