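import Groth.Agent.H27.ProEtRecoll
import Mathlib.Algebra.Homology.ShortComplex.ShortExact

/-!
# The short exact sequence `0 → j_! j⁻¹ F → F → i_* i⁻¹ F → 0` on the pro-étale site
-/

set_option autoImplicit false
set_option linter.style.haveILetI false
set_option linter.unusedSectionVars false
open CategoryTheory CategoryTheory.Limits AlgebraicGeometry Opposite
universe u

namespace Groth.Agent.H27.ProEtRecoll2

open ProEtExtZeroLim ProEtRecoll

/-- a monomorphism of abelian pro-étale sheaves is injective on sections -/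
theorem injective_of_mono {X : Scheme.{u}} {G G' : ProEtS.AbP X} (φ : G ⟶ G') [Mono φ]
    (V : X.ProEt) : Function.Injective (φ.hom.app (op V)) := by
  haveI : Mono φ.hom := inferInstance
  haveI : Mono (φ.hom.app (op V)) := inferInstance
  exact (AddCommGrpCat.mono_iff_injective _).mp inferInstance

variable {X Z U : Scheme.{u}} (i : Z ⟶ X) [IsClosedImmersion i] (j : U ⟶ X) [IsOpenImmersion j]

section Epi

variable [QuasiCompact j] [ProEtS.JPCont j] [ProEtS.PCont i]
  (hc : Set.range j.base = (Set.range i.base)ᶜ)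

include hc in
/-- the unit `F ⟶ i_* i⁻¹ F` is an epimorphism -/
theorem epi_unit (F : ProEtS.AbP X) : Epi ((ProEtS.pullPushAdjP i).unit.app F) := by
  haveI := Groth.Agent.H4.ProEtCont.pCont j
  apply Preadditive.epi_of_isZero_cokernel
  apply isZero_of_pull_restr i j hc
  · haveI : IsIso ((ProEtS.pullPushAdjP i).counit.app ((ProEtS.pullP i).obj F)) :=
      ClosedDense.isIso_counit i _
    have htri : (ProEtS.pullP i).map ((ProEtS.pullPushAdjP i).unit.app F) ≫
        (ProEtS.pullPushAdjP i).counit.app ((ProEtS.pullP i).obj F) = 𝟙 _ :=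
      (ProEtS.pullPushAdjP i).left_triangle_components F
    haveI : IsIso ((ProEtS.pullP i).map ((ProEtS.pullPushAdjP i).unit.app F) ≫
        (ProEtS.pullPushAdjP i).counit.app ((ProEtS.pullP i).obj F)) := by
      rw [htri]; infer_instance
    haveI : IsIso ((ProEtS.pullP i).map ((ProEtS.pullPushAdjP i).unit.app F)) :=
      IsIso.of_isIso_comp_right _ ((ProEtS.pullPushAdjP i).counit.app ((ProEtS.pullP i).obj F))
    haveI : (ProEtS.pullP i).PreservesEpimorphisms :=
      (ProEtS.pullP i).preservesEpimorphisms_of_adjunction (ProEtS.pullPushAdjP i)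
    haveI : (ProEtS.pullP i).Additive := (ProEtS.pullPushAdjP i).left_adjoint_additive
    have h0 : (ProEtS.pullP i).map (cokernel.π ((ProEtS.pullPushAdjP i).unit.app F)) = 0 := by
      rw [← cancel_epi ((ProEtS.pullP i).map ((ProEtS.pullPushAdjP i).unit.app F)),
        ← Functor.map_comp, cokernel.condition, Functor.map_zero, comp_zero]
    exact IsZero.of_epi_eq_zero _ h0
  · haveI : (ProEtS.restrP j).PreservesEpimorphisms :=
      (ProEtS.restrP j).preservesEpimorphisms_of_adjunction
        (Groth.Agent.H4.ProEtRestr.restrPushAdj j)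
    exact IsZero.of_epi
      ((ProEtS.restrP j).map (cokernel.π ((ProEtS.pullPushAdjP i).unit.app F)))
      (isZero_restr_push i j (disjoint_range i j hc) _)

include hc in
/-- the composite `j_! j⁻¹ F ⟶ F ⟶ i_* i⁻¹ F` vanishes -/
theorem counit_comp_unit (F : ProEtS.AbP X) :
    (ProEtS.extZeroPAdj j).counit.app F ≫ (ProEtS.pullPushAdjP i).unit.app F = 0 := by
  apply ((ProEtS.extZeroPAdj j).homEquiv _ _).injective
  exact (isZero_restr_push i j (disjoint_range i j hc) _).eq_of_tgt _ _

end Epi

section Res

variable (W : X.ProEt) (T : W.left.Opens) (hT : IsClopen (T : Set W.left))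
  (hTO : T ≤ W.hom ⁻¹ᵁ j.opensRange)

set_option backward.isDefEq.respectTransparency.types false in
/-- sections over `W` are determined by their restrictions to the two clopen pieces -/
theorem eq_of_res_eq (G : ProEtS.AbP X) (x y : G.obj.obj (op W))
    (h0 : G.obj.map (ι0 j W T hTO).op x = G.obj.map (ι0 j W T hTO).op y)
    (h1 : G.obj.map (ιc W T hT).op x = G.obj.map (ιc W T hT).op y) : x = y := by
  let F' := (sheafCompose (Scheme.ProEt.topology X) (forget AddCommGrpCat.{u + 1})).obj G
  have hglue := fun t => ProEtSheafGlue2.existsUnique_glue W (piece j W T hT hTO)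
    (pieceι j W T hT hTO)
    (by
      intro k l hkl
      cases k <;> cases l
      · exact absurd rfl hkl
      · rw [range_pieceι_true, range_pieceι_false]
        exact disjoint_compl_left
      · rw [range_pieceι_true, range_pieceι_false]
        exact disjoint_compl_right
      · exact absurd rfl hkl)
    (by
      intro x
      by_cases hx : x ∈ T
      · exact ⟨true, by rw [range_pieceι_true]; exact hx⟩
      · exact ⟨false, by rw [range_pieceι_false]; exact hx⟩)
    F' t
  obtain ⟨z, -, hz⟩ := hglue (fun b => F'.obj.map (pieceι j W T hT hTO b).op x)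
  have hx : x = z := hz x (fun b => rfl)
  have hy : y = z := by
    apply hz y
    intro b
    cases b
    · exact h1.symm
    · exact h0.symm
  rw [hx, hy]

end Res

section Sections

variable [QuasiCompact j] [ProEtS.JPCont j] [ProEtS.PCont i]
  (hc : Set.range j.base = (Set.range i.base)ᶜ) (F : ProEtS.AbP X)

variable (W : X.ProEt) [IsAffine W.left] (hW : EtPBC.IsWContractible ↥Γ(W.left, ⊤))
  (T : W.left.Opens) (hT : IsClopen (T : Set W.left)) (hTO : T ≤ W.hom ⁻¹ᵁ j.opensRange)
  (hspec : ∀ x : W.left, x ∉ T → ∃ z : W.left, z ∉ W.hom ⁻¹ᵁ j.opensRange ∧ x ⤳ z)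

include hW hT hspec in
/-- the counit followed by restriction to the clopen piece inside `U` is bijective -/
theorem bijective_counit_res :
    Function.Bijective (((ProEtS.extZeroPAdj j).counit.app F).hom.app (op W) ≫
      F.obj.map (ι0 j W T hTO).op) := by
  rw [← ConcreteCategory.isIso_iff_bijective]
  have hnat : ((ProEtS.extZeroPAdj j).counit.app F).hom.app (op W) ≫
      F.obj.map (ι0 j W T hTO).op =
      res j W T hTO ((ProEtS.restrP j).obj F) ≫
        ((ProEtS.extZeroPAdj j).counit.app F).hom.app
          (op ((ProEtS.compP j).obj (V0 j W T hTO))) :=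
    (((ProEtS.extZeroPAdj j).counit.app F).hom.naturality (ι0 j W T hTO).op).symm
  rw [hnat]
  haveI := isIso_res j W hW T hT hTO hspec ((ProEtS.restrP j).obj F)
  haveI := isIso_unit_app j ((ProEtS.restrP j).obj F) (V0 j W T hTO)
  have htri : (ProEtS.extZeroPAdj j).unit.app ((ProEtS.restrP j).obj F) ≫
      (ProEtS.restrP j).map ((ProEtS.extZeroPAdj j).counit.app F) = 𝟙 _ :=
    (ProEtS.extZeroPAdj j).right_triangle_components F
  have htri' : ((ProEtS.extZeroPAdj j).unit.app ((ProEtS.restrP j).obj F)).hom.app
      (op (V0 j W T hTO)) ≫ ((ProEtS.extZeroPAdj j).counit.app F).hom.app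
        (op ((ProEtS.compP j).obj (V0 j W T hTO))) = 𝟙 _ :=
    congrArg (fun φ => φ.hom.app (op (V0 j W T hTO))) htri
  haveI : IsIso (((ProEtS.extZeroPAdj j).unit.app ((ProEtS.restrP j).obj F)).hom.app
      (op (V0 j W T hTO)) ≫ ((ProEtS.extZeroPAdj j).counit.app F).hom.app
        (op ((ProEtS.compP j).obj (V0 j W T hTO)))) := by
    rw [htri']; exact IsIso.id _
  have h2 : IsIso (((ProEtS.extZeroPAdj j).counit.app F).hom.app
      (op ((ProEtS.compP j).obj (V0 j W T hTO)))) :=
    IsIso.of_isIso_comp_left
      (((ProEtS.extZeroPAdj j).unit.app ((ProEtS.restrP j).obj F)).hom.app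
        (op (V0 j W T hTO))) _
  exact IsIso.comp_isIso' (isIso_res j W hW T hT hTO hspec ((ProEtS.restrP j).obj F)) h2

include hW hT hTO hspec in
theorem injective_counit :
    Function.Injective (((ProEtS.extZeroPAdj j).counit.app F).hom.app (op W)) := by
  have h := (bijective_counit_res j F W hW T hT hTO hspec).injective
  intro a b hab
  apply h
  show F.obj.map (ι0 j W T hTO).op (((ProEtS.extZeroPAdj j).counit.app F).hom.app (op W) a) =
    F.obj.map (ι0 j W T hTO).op (((ProEtS.extZeroPAdj j).counit.app F).hom.app (op W) b)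
  rw [hab]

include hc hW hT hTO hspec in
/-- exactness in the middle on sections over `W` -/
theorem exists_of_unit_eq_zero (t : F.obj.obj (op W))
    (ht : ((ProEtS.pullPushAdjP i).unit.app F).hom.app (op W) t = 0) :
    ∃ a : ((ProEtS.extZeroP j).obj ((ProEtS.restrP j).obj F)).obj.obj (op W),
      ((ProEtS.extZeroPAdj j).counit.app F).hom.app (op W) a = t := by
  obtain ⟨a, ha⟩ := (bijective_counit_res j F W hW T hT hTO hspec).surjective
    (F.obj.map (ι0 j W T hTO).op t)
  refine ⟨a, eq_of_res_eq j W T hT hTO F _ _ ha ?_⟩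
  haveI : IsAffine (Wc W T hT).left :=
    (ProEtClopenPiece.main hW (Tc W T hT) (isClopen_Tc W T hT)).1
  -- the left hand side vanishes on the complementary piece
  have h1 : F.obj.map (ιc W T hT).op
      (((ProEtS.extZeroPAdj j).counit.app F).hom.app (op W) a) = 0 := by
    have hnat := ConcreteCategory.congr_hom
      (((ProEtS.extZeroPAdj j).counit.app F).hom.naturality (ιc W T hT).op) a
    haveI := subsingleton_compl j W T hT hW hspec ((ProEtS.restrP j).obj F)
    have h0 : ((ProEtS.extZeroP j).obj ((ProEtS.restrP j).obj F)).obj.map (ιc W T hT).op a = 0 :=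
      Subsingleton.elim (α := ProEtS.sectP ((ProEtS.extZeroP j).obj ((ProEtS.restrP j).obj F))
        (Wc W T hT)) _ _
    refine hnat.symm.trans ?_
    show ((ProEtS.extZeroPAdj j).counit.app F).hom.app (op (Wc W T hT))
      (((ProEtS.extZeroP j).obj ((ProEtS.restrP j).obj F)).obj.map (ιc W T hT).op a) = 0
    rw [h0, map_zero]
  -- the right hand side vanishes on the complementary piece
  have h2 : F.obj.map (ιc W T hT).op t = 0 := by
    apply injective_unit i F (Wc W T hT) (zlocal_Wc i j hc W T hT hspec)
    have hnat := ConcreteCategory.congr_hom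
      (((ProEtS.pullPushAdjP i).unit.app F).hom.naturality (ιc W T hT).op) t
    refine hnat.trans ?_
    show ((ProEtS.pushP i).obj ((ProEtS.pullP i).obj F)).obj.map (ιc W T hT).op
      (((ProEtS.pullPushAdjP i).unit.app F).hom.app (op W) t) = _
    rw [ht, map_zero, map_zero]
  rw [h1, h2]

end Sections

section Main

variable [QuasiCompact j] [ProEtS.JPCont j] [ProEtS.PCont i]
  (hc : Set.range j.base = (Set.range i.base)ᶜ) (F : ProEtS.AbP X)

include hc in
theorem mono_counit : Mono ((ProEtS.extZeroPAdj j).counit.app F) := by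
  apply Preadditive.mono_of_isZero_kernel
  apply isZero_of_subsingleton_wc
  intro W hW1 hW2
  haveI := hW1
  obtain ⟨T, hT, hTO, hspec⟩ := WLocalScheme.exists_clopen W.left hW2
    (W.hom ⁻¹ᵁ j.opensRange) (isCompact_preimage j W)
  refine ⟨fun a b => ?_⟩
  apply injective_of_mono (kernel.ι ((ProEtS.extZeroPAdj j).counit.app F)) W
  apply injective_counit j F W hW2 T hT hTO hspec
  have h : ∀ x : (kernel ((ProEtS.extZeroPAdj j).counit.app F)).obj.obj (op W),
      ((ProEtS.extZeroPAdj j).counit.app F).hom.app (op W)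
        ((kernel.ι ((ProEtS.extZeroPAdj j).counit.app F)).hom.app (op W) x) = 0 := by
    intro x
    exact congrArg (fun φ : kernel ((ProEtS.extZeroPAdj j).counit.app F) ⟶ F =>
      φ.hom.app (op W) x) (kernel.condition ((ProEtS.extZeroPAdj j).counit.app F))
  rw [h a, h b]

include hc in
/-- **The short exact sequence `0 → j_! j⁻¹ F → F → i_* i⁻¹ F → 0`.** -/
theorem main :
    ∃ h : (ProEtS.extZeroPAdj j).counit.app F ≫ (ProEtS.pullPushAdjP i).unit.app F = 0,
      (ShortComplex.mk _ _ h).ShortExact := by
  have h := counit_comp_unit i j hc F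
  refine ⟨h, ?_⟩
  haveI := mono_counit i j hc F
  haveI := epi_unit i j hc F
  refine ShortComplex.ShortExact.mk' ?_ inferInstance inferInstance
  rw [ShortComplex.exact_iff_epi_kernel_lift]
  haveI : IsIso (kernel.lift ((ProEtS.pullPushAdjP i).unit.app F)
      ((ProEtS.extZeroPAdj j).counit.app F) h) := by
    apply ProEtIsoWC.isIso_of_isIso_app
    intro W hW1 hW2
    haveI := hW1
    obtain ⟨T, hT, hTO, hspec⟩ := WLocalScheme.exists_clopen W.left hW2
      (W.hom ⁻¹ᵁ j.opensRange) (isCompact_preimage j W)
    have hfac : ∀ a, (kernel.ι ((ProEtS.pullPushAdjP i).unit.app F)).hom.app (op W)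
        ((kernel.lift ((ProEtS.pullPushAdjP i).unit.app F)
          ((ProEtS.extZeroPAdj j).counit.app F) h).hom.app (op W) a) =
        ((ProEtS.extZeroPAdj j).counit.app F).hom.app (op W) a := by
      intro a
      exact congrArg (fun φ : (ProEtS.extZeroP j).obj ((ProEtS.restrP j).obj F) ⟶ F =>
        φ.hom.app (op W) a) (kernel.lift_ι ((ProEtS.pullPushAdjP i).unit.app F)
          ((ProEtS.extZeroPAdj j).counit.app F) h)
    rw [ConcreteCategory.isIso_iff_bijective]
    constructor
    · intro a b hab
      apply injective_counit j F W hW2 T hT hTO hspec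
      rw [← hfac a, ← hfac b, hab]
    · intro k
      have hk : ((ProEtS.pullPushAdjP i).unit.app F).hom.app (op W)
          ((kernel.ι ((ProEtS.pullPushAdjP i).unit.app F)).hom.app (op W) k) = 0 :=
        congrArg (fun φ : kernel ((ProEtS.pullPushAdjP i).unit.app F) ⟶ _ =>
          φ.hom.app (op W) k) (kernel.condition ((ProEtS.pullPushAdjP i).unit.app F))
      obtain ⟨a, ha⟩ := exists_of_unit_eq_zero i j hc F W hW2 T hT hTO hspec _ hk
      refine ⟨a, ?_⟩
      apply injective_of_mono (kernel.ι ((ProEtS.pullPushAdjP i).unit.app F)) W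
      rw [hfac a, ha]
  infer_instance

end Main

end Groth.Agent.H27.ProEtRecoll2
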