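import Groth.Agent.H27.ProEtCoprod
import Groth.Agent.H27.ProEtIsWC

/-!
# Sheafification does not change sections over affine weakly contractible objects
(for presheaves preserving finite products)
-/

set_option autoImplicit false
set_option linter.style.haveILetI false
open CategoryTheory CategoryTheory.Limits AlgebraicGeometry Opposite
universe u

namespace Groth.Agent.H27.ProEtSheafifyWC

set_option backward.isDefEq.respectTransparency.types false in
theorem main {X : Scheme.{u}} (F : X.ProEtᵒᵖ ⥤ Type (u + 1))
    [PreservesFiniteProducts F] (W : X.ProEt) [IsAffine W.left] (hW : ProEtS.IsWC W) :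
    Function.Bijective ((toSheafify (Scheme.ProEt.topology X) F).app (op W)) := by
  have hwc : EtPBC.IsWContractible ↥(Γ(W.left, ⊤)) := ProEtIsWC.isWContractible_of_isWC W hW
  constructor
  · intro a b hab
    have hmem := Presheaf.equalizerSieve_mem (Scheme.ProEt.topology X)
      (toSheafify (Scheme.ProEt.topology X) F) (X := op W) a b hab
    obtain ⟨n, O, -, hdisj, hcov, hR⟩ := ProEtWCrit.forward W hwc _ hmem
    obtain ⟨x, -, hux⟩ := ProEtCoprod.existsUnique_of_preservesFiniteProducts W O hdisj hcov F
      (fun k => F.map (ProEtCoprod.incl W O k).op a)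
    rw [hux a (fun k => rfl), hux b (fun k => (hR k).symm)]
  · intro s
    have hmem := Presheaf.imageSieve_mem (Scheme.ProEt.topology X)
      (toSheafify (Scheme.ProEt.topology X) F) (U := op W) s
    obtain ⟨n, O, -, hdisj, hcov, hR⟩ := ProEtWCrit.forward W hwc _ hmem
    choose t ht using hR
    obtain ⟨x, hx, -⟩ := ProEtCoprod.existsUnique_of_preservesFiniteProducts W O hdisj hcov F t
    refine ⟨x, ?_⟩
    let G : Sheaf (Scheme.ProEt.topology X) (Type (u + 1)) :=
      (presheafToSheaf (Scheme.ProEt.topology X) (Type (u + 1))).obj F
    obtain ⟨y, -, hy⟩ := ProEtSheafGlue.existsUnique_glue W O hdisj hcov G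
      (fun k => G.obj.map (ProEtCoprod.incl W O k).op s)
    have h1 : (toSheafify (Scheme.ProEt.topology X) F).app (op W) x = y := by
      apply hy
      intro k
      have hnat := ConcreteCategory.congr_hom
        ((toSheafify (Scheme.ProEt.topology X) F).naturality (ProEtCoprod.incl W O k).op) x
      dsimp at hnat
      refine hnat.symm.trans ?_
      refine (congrArg _ (hx k)).trans ?_
      exact ht k
    have h2 : s = y := hy s (fun k => rfl)
    rw [h1, h2]

end Groth.Agent.H27.ProEtSheafifyWC
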