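import Groth.Agent.H27.ProEtSheafGlue2

/-!
# Coproducts of objects of the small pro-étale site and weak contractibility
-/

set_option autoImplicit false
set_option linter.style.haveILetI false
open CategoryTheory CategoryTheory.Limits AlgebraicGeometry Opposite
universe u v

namespace Groth.Agent.H27.ProEtSigma

variable {X : Scheme.{u}} {ι : Type v} [Small.{u} ι] (V : ι → X.ProEt)

theorem weaklyEtale_sigmaDesc :
    WeaklyEtale (Sigma.desc (fun i => (V i).hom) : (∐ fun i => (V i).left) ⟶ X) :=
  IsZariskiLocalAtSource.sigmaDesc (P := @WeaklyEtale) (fun _ => inferInstance)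

/-- the coproduct of a family of objects of the small pro-étale site -/
noncomputable def sigmaObj : X.ProEt :=
  @Scheme.ProEt.mk X _ (Sigma.desc (fun i => (V i).hom) : (∐ fun i => (V i).left) ⟶ X)
    (weaklyEtale_sigmaDesc V)

/-- the inclusions into the coproduct -/
noncomputable def sigmaι (i : ι) : V i ⟶ sigmaObj V :=
  MorphismProperty.Over.homMk (Sigma.ι (fun i => (V i).left) i)
    (Sigma.ι_desc (fun i => (V i).hom) i)

theorem sigmaι_left (i : ι) : (sigmaι V i).left = Sigma.ι (fun i => (V i).left) i := rfl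

instance (i : ι) : IsOpenImmersion (sigmaι V i).left :=
  (sigmaOpenCover (fun i => (V i).left)).map_prop i

/-- the morphism out of the coproduct induced by a family of morphisms -/
noncomputable def sigmaDesc {U : X.ProEt} (g : ∀ i, V i ⟶ U) : sigmaObj V ⟶ U :=
  MorphismProperty.Over.homMk (Sigma.desc (fun i => (g i).left)) (by
    apply Sigma.hom_ext
    intro i
    have h1 : Sigma.ι (fun i => (V i).left) i ≫ (Sigma.desc fun i => (g i).left) ≫ U.hom =
        (g i).left ≫ U.hom := Sigma.ι_desc_assoc (fun i => (g i).left) i U.hom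
    have h2 : Sigma.ι (fun i => (V i).left) i ≫ (sigmaObj V).hom = (V i).hom :=
      Sigma.ι_desc (fun i => (V i).hom) i
    exact h1.trans ((MorphismProperty.Over.w (g i)).trans h2.symm))

theorem ι_desc {U : X.ProEt} (g : ∀ i, V i ⟶ U) (i : ι) : sigmaι V i ≫ sigmaDesc V g = g i := by
  apply MorphismProperty.Over.Hom.ext
  exact Sigma.ι_desc (fun i => (g i).left) i

theorem disjoint_range (i k : ι) (hik : i ≠ k) :
    Disjoint (Set.range (sigmaι V i).left.base) (Set.range (sigmaι V k).left.base) := by
  have h := disjoint_opensRange_sigmaι (fun i => (V i).left) i k hik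
  rw [Set.disjoint_iff]
  rintro x ⟨⟨a, ha⟩, ⟨b, hb⟩⟩
  have h1 : x ∈ (Sigma.ι (fun i => (V i).left) i).opensRange ⊓
      (Sigma.ι (fun i => (V i).left) k).opensRange := ⟨⟨a, ha⟩, ⟨b, hb⟩⟩
  rw [disjoint_iff.mp h] at h1
  exact h1

theorem exists_mem_range (x : (sigmaObj V).left) :
    ∃ k, x ∈ Set.range (sigmaι V k).left.base := by
  obtain ⟨k, y, hy⟩ := (sigmaOpenCover (fun i => (V i).left)).exists_eq x
  exact ⟨k, y, hy⟩

set_option backward.isDefEq.respectTransparency.types false in
/-- a coproduct of weakly contractible objects is weakly contractible -/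
theorem isWC_sigma (h : ∀ i, ProEtS.IsWC (V i)) : ProEtS.IsWC (sigmaObj V) := by
  intro F G φ hφ s
  have ht : ∀ i, ∃ t : F.obj.obj (op (V i)),
      φ.hom.app (op (V i)) t = G.obj.map (sigmaι V i).op s := fun i => h i F G φ hφ _
  choose t ht using ht
  have hdisj : Pairwise (fun k l => Disjoint (Set.range (sigmaι V k).left.base)
      (Set.range (sigmaι V l).left.base)) := fun k l hkl => disjoint_range V k l hkl
  obtain ⟨x, hx, -⟩ := ProEtSheafGlue2.existsUnique_glue (sigmaObj V) V (sigmaι V) hdisj
    (exists_mem_range V) F t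
  refine ⟨x, ?_⟩
  obtain ⟨y, -, hy⟩ := ProEtSheafGlue2.existsUnique_glue (sigmaObj V) V (sigmaι V) hdisj
    (exists_mem_range V) G (fun k => G.obj.map (sigmaι V k).op s)
  have h1 : φ.hom.app (op (sigmaObj V)) x = y := by
    apply hy
    intro k
    have hnat := ConcreteCategory.congr_hom (φ.hom.naturality (sigmaι V k).op) x
    dsimp at hnat
    refine hnat.symm.trans ?_
    refine (congrArg _ (hx k)).trans ?_
    exact ht k
  have h2 : s = y := hy s (fun k => rfl)
  rw [h1, h2]

/-- if a family generates a covering sieve, so does the induced morphism from the coproduct -/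
theorem generate_singleton_sigmaDesc_mem {U : X.ProEt} (g : ∀ i, V i ⟶ U)
    (hg : Sieve.generate (Presieve.ofArrows V g) ∈ Scheme.ProEt.topology X U) :
    Sieve.generate (Presieve.singleton (sigmaDesc V g)) ∈ Scheme.ProEt.topology X U := by
  refine (Scheme.ProEt.topology X).superset_covering ?_ hg
  rw [Sieve.generate_le_iff]
  rintro Y f ⟨i⟩
  exact ⟨_, sigmaι V i, sigmaDesc V g, Presieve.singleton.mk, ι_desc V g i⟩

end Groth.Agent.H27.ProEtSigma
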