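import Groth.Agent.H27.ProEtSigma

/-!
# Sections of sheaves over coproducts in the small pro-étale site
-/

set_option autoImplicit false
set_option linter.style.haveILetI false
open CategoryTheory CategoryTheory.Limits AlgebraicGeometry Opposite
universe u v w

namespace Groth.Agent.H27.ProEtSigma

variable {X : Scheme.{u}} {ι : Type v} [Small.{u} ι] (V : ι → X.ProEt)

/-- sections of a sheaf over a coproduct are families of sections -/
theorem existsUnique_section (F : Sheaf (Scheme.ProEt.topology X) (Type w))
    (t : ∀ k, F.obj.obj (op (V k))) :
    ∃! x : F.obj.obj (op (sigmaObj V)), ∀ k, F.obj.map (sigmaι V k).op x = t k :=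
  ProEtSheafGlue2.existsUnique_glue (sigmaObj V) V (sigmaι V)
    (fun k l hkl => disjoint_range V k l hkl) (exists_mem_range V) F t

/-- morphisms out of a coproduct are determined by their components -/
theorem hom_ext {U : X.ProEt} (a b : sigmaObj V ⟶ U) (h : ∀ k, sigmaι V k ≫ a = sigmaι V k ≫ b) :
    a = b := by
  apply MorphismProperty.Over.Hom.ext
  apply Sigma.hom_ext
  intro k
  exact congrArg (fun g => g.left) (h k)

end Groth.Agent.H27.ProEtSigma
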