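import Groth.Agent.H27.WContrSplit
import Groth.Agent.H27.ProEtCov

/-!
# Splitting finite weakly étale affine covers of an affine scheme with w-contractible ring
-/

set_option autoImplicit false
set_option linter.style.haveILetI false
open CategoryTheory CategoryTheory.Limits AlgebraicGeometry Opposite
universe u

namespace Groth.Agent.H27.ProEtSplit

/-- algebra structure is weakly étale for a weakly étale morphism of affine schemes -/
theorem weaklyEtale_appTop {T S : Scheme.{u}} [IsAffine T] [IsAffine S] (f : T ⟶ S)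
    [WeaklyEtale f] :
    letI := f.appTop.hom.toAlgebra
    Algebra.WeaklyEtale Γ(S, ⊤) Γ(T, ⊤) := by
  have h := (HasRingHomProperty.iff_of_isAffine (P := @WeaklyEtale) (f := f)).mp inferInstance
  exact (Groth.Agent.H10.weaklyEtale_SpecMap_iff _).mp h

/-- points of the spectrum of global sections lift along a jointly surjective family -/
theorem exists_comap_eq {T S : Scheme.{u}} [IsAffine T] [IsAffine S] (f : T ⟶ S) (t : T)
    (p : ↥(Spec Γ(S, ⊤))) (h : f.base t = S.isoSpec.inv.base p) :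
    ∃ q : ↥(Spec Γ(T, ⊤)), (Spec.map f.appTop).base q = p := by
  refine ⟨T.isoSpec.hom.base t, ?_⟩
  have h1 := Scheme.isoSpec_hom_naturality f
  have h2 : (Spec.map f.appTop).base (T.isoSpec.hom.base t) = S.isoSpec.hom.base (f.base t) := by
    have := congrArg (fun g => g.base t) h1
    simpa using this
  rw [h2, h]
  have h3 : S.isoSpec.inv ≫ S.isoSpec.hom = 𝟙 _ := Iso.inv_hom_id _
  have := congrArg (fun g => g.base p) h3
  simpa using this

/-- a complete system of orthogonal idempotents of global sections gives a clopen partition -/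
theorem clopen_cover {S : Scheme.{u}} {n : ℕ} (e : Fin n → Γ(S, ⊤))
    (hid : ∀ k, IsIdempotentElem (e k)) (horth : ∀ k l, k ≠ l → e k * e l = 0)
    (hsum : ∑ k, e k = 1) :
    (∀ k, IsClopen (S.basicOpen (e k) : Set S)) ∧
      Pairwise (fun k l => Disjoint (S.basicOpen (e k) : Set S) (S.basicOpen (e l))) ∧
      (⋃ k, (S.basicOpen (e k) : Set S)) = Set.univ := by
  have hpre : ∀ k, (S.basicOpen (e k) : Set S) =
      S.toSpecΓ.base ⁻¹' (PrimeSpectrum.basicOpen (e k) : Set (PrimeSpectrum Γ(S, ⊤))) := by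
    intro k
    rw [← Scheme.toSpecΓ_preimage_basicOpen]
    rfl
  refine ⟨?_, ?_, ?_⟩
  · intro k
    rw [hpre]
    refine IsClopen.preimage ?_ S.toSpecΓ.continuous
    refine PrimeSpectrum.isClopen_basicOpen_of_mul_add (e k) (1 - e k) ?_ (by ring)
    rw [mul_sub, mul_one, (hid k).eq, sub_self]
  · intro k l hkl
    rw [Set.disjoint_iff_inter_eq_empty]
    have h1 : S.basicOpen (e k) ⊓ S.basicOpen (e l) = ⊥ := by
      rw [← Scheme.basicOpen_mul, horth k l hkl, Scheme.basicOpen_zero]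
    have := congrArg (fun U : S.Opens => (U : Set S)) h1
    simpa using this
  · rw [Set.eq_univ_iff_forall]
    intro x
    rw [Set.mem_iUnion]
    by_contra hcon
    push Not at hcon
    have hall : ∀ k, e k ∈ (S.toSpecΓ.base x).asIdeal := by
      intro k
      have := hcon k
      rw [hpre] at this
      by_contra h'
      exact this h'
    have h1 : (∑ k, e k) ∈ (S.toSpecΓ.base x).asIdeal := Ideal.sum_mem _ (fun k _ => hall k)
    rw [hsum] at h1
    exact (S.toSpecΓ.base x).isPrime.ne_top ((Ideal.eq_top_iff_one _).mpr h1)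

/-- the restriction of an idempotent section to its basic open is `1` -/
theorem res_basicOpen_eq_one {S : Scheme.{u}} (e : Γ(S, ⊤)) (he : IsIdempotentElem e) :
    (S.presheaf.map (homOfLE (le_top : S.basicOpen e ≤ ⊤)).op).hom e = 1 := by
  have hu : IsUnit ((S.presheaf.map (homOfLE (le_top : S.basicOpen e ≤ ⊤)).op).hom e) :=
    S.toRingedSpace.isUnit_res_basicOpen e
  have hi : IsIdempotentElem ((S.presheaf.map (homOfLE (le_top : S.basicOpen e ≤ ⊤)).op).hom e) :=
    he.map _
  exact hu.mul_left_cancel (by rw [mul_one]; exact hi.eq)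

/-- lifting a morphism from an open of an affine scheme to an affine scheme along ring maps -/
theorem exists_lift {T S : Scheme.{u}} [IsAffine T] [IsAffine S] (f : T ⟶ S) (O : S.Opens)
    (ρ : Γ(T, ⊤) ⟶ Γ(S, O))
    (hρ : f.appTop ≫ ρ = S.presheaf.map (homOfLE (le_top : O ≤ ⊤)).op) :
    ∃ h : O.toScheme ⟶ T, h ≫ f = O.ι := by
  refine ⟨O.toSpecΓ ≫ Spec.map ρ ≫ T.isoSpec.inv, ?_⟩
  rw [← cancel_mono S.toSpecΓ]
  simp only [Category.assoc]
  rw [Scheme.toSpecΓ_naturality, ← Scheme.Opens.toSpecΓ_SpecMap_presheaf_map_top,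
    Scheme.isoSpec_inv_toSpecΓ_assoc, ← Spec.map_comp, hρ]

/-- splitting of a finite affine weakly étale cover of an affine scheme with w-contractible
ring of functions -/
theorem split {S : Scheme.{u}} [IsAffine S] (hwc : EtPBC.IsWContractible ↥Γ(S, ⊤)) {n : ℕ}
    (T : Fin n → Scheme.{u}) [∀ k, IsAffine (T k)] (f : ∀ k, T k ⟶ S) [∀ k, WeaklyEtale (f k)]
    (hsurj : ∀ x : S, ∃ (k : Fin n) (t : T k), (f k).base t = x) :
    ∃ O : Fin n → S.Opens, (∀ k, IsClopen (O k : Set S)) ∧
      Pairwise (fun k l => Disjoint (O k : Set S) (O l)) ∧ (⋃ k, (O k : Set S)) = Set.univ ∧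
      ∀ k, ∃ h : (O k).toScheme ⟶ T k, h ≫ f k = (O k).ι := by
  letI alg : ∀ k, Algebra Γ(S, ⊤) Γ(T k, ⊤) := fun k => (f k).appTop.hom.toAlgebra
  haveI : ∀ k, Algebra.WeaklyEtale Γ(S, ⊤) Γ(T k, ⊤) := fun k => weaklyEtale_appTop (f k)
  obtain ⟨e, hid, horth, hsum, hρ⟩ := WContrSplit.main hwc (fun k => Γ(T k, ⊤)) (by
    intro p
    obtain ⟨k, t, ht⟩ := hsurj (S.isoSpec.inv.base p)
    obtain ⟨q, hq⟩ := exists_comap_eq (f k) t p ht
    exact ⟨k, q, hq⟩)
  obtain ⟨h1, h2, h3⟩ := clopen_cover e hid horth hsum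
  refine ⟨fun k => S.basicOpen (e k), h1, h2, h3, ?_⟩
  intro k
  letI : Algebra Γ(S, ⊤) Γ(S, S.basicOpen (e k)) :=
    (S.presheaf.map (homOfLE (le_top : S.basicOpen (e k) ≤ ⊤)).op).hom.toAlgebra
  obtain ⟨ρ⟩ := hρ k Γ(S, S.basicOpen (e k)) (res_basicOpen_eq_one (e k) (hid k))
  refine exists_lift (f k) (S.basicOpen (e k)) (CommRingCat.ofHom ρ.toRingHom) ?_
  ext a
  exact ρ.commutes a

end Groth.Agent.H27.ProEtSplit
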