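import Groth.Agent.H27.ProEtWCover

/-!
# Coverings by affine w-contractible objects subordinate to a given affine open cover
-/

set_option autoImplicit false
set_option linter.style.haveILetI false
open CategoryTheory CategoryTheory.Limits AlgebraicGeometry Opposite
universe u

namespace Groth.Agent.H27.ProEtWCover2

set_option backward.isDefEq.respectTransparency.types false in
theorem main {X : Scheme.{u}} (U : X.ProEt) (𝒰 : U.left.OpenCover) [∀ i, IsAffine (𝒰.X i)] :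
    ∃ (V : (Σ _ : 𝒰.I₀, PUnit.{1}) → X.ProEt) (g : ∀ p, V p ⟶ U),
      Sieve.generate (Presieve.ofArrows V g) ∈ Scheme.ProEt.topology X U ∧
        ∀ p, IsAffine (V p).left ∧ EtPBC.IsWContractible ↥(Γ((V p).left, ⊤)) := by
  classical
  choose D hD1 hD2 hff hie hwc using
    fun i : 𝒰.I₀ => Groth.Agent.H27.WContrCover.main ↥Γ(𝒰.X i, ⊤)
  letI := hD1
  letI := hD2
  let φ : ∀ i, Γ(𝒰.X i, ⊤) ⟶ CommRingCat.of (D i) :=
    fun i => CommRingCat.ofHom (algebraMap Γ(𝒰.X i, ⊤) (D i))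
  haveI hweφ : ∀ i, WeaklyEtale (Spec.map (φ i)) := fun i => by
    haveI : Algebra.WeaklyEtale Γ(𝒰.X i, ⊤) (D i) := Groth.Agent.S0736.result _ _ (hie i)
    exact (Groth.Agent.H10.weaklyEtale_SpecMap_algebraMap_iff _ _).mpr inferInstance
  haveI hsφ : ∀ i, Surjective (Spec.map (φ i)) := fun i => by
    refine ((flat_and_surjective_SpecMap_iff (φ i)).mpr ?_).2
    show (algebraMap Γ(𝒰.X i, ⊤) (D i)).FaithfullyFlat
    rw [RingHom.faithfullyFlat_algebraMap_iff]
    exact hff i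
  let f' : ∀ i, Spec (CommRingCat.of (D i)) ⟶ 𝒰.X i :=
    fun i => Spec.map (φ i) ≫ (𝒰.X i).isoSpec.inv
  haveI hwef' : ∀ i, WeaklyEtale (f' i) := fun i =>
    inferInstanceAs (WeaklyEtale (Spec.map (φ i) ≫ (𝒰.X i).isoSpec.inv))
  haveI hsf' : ∀ i, Surjective (f' i) := fun i =>
    inferInstanceAs (Surjective (Spec.map (φ i) ≫ (𝒰.X i).isoSpec.inv))
  haveI hqf' : ∀ i, QuasiCompact (f' i) := fun i =>
    inferInstanceAs (QuasiCompact (Spec.map (φ i) ≫ (𝒰.X i).isoSpec.inv))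
  let f : ∀ i, Spec (CommRingCat.of (D i)) ⟶ U.left := fun i => f' i ≫ 𝒰.f i
  haveI hwef : ∀ i, WeaklyEtale (f i) := fun i => inferInstanceAs (WeaklyEtale (f' i ≫ 𝒰.f i))
  let V : (Σ _ : 𝒰.I₀, PUnit.{1}) → X.ProEt := fun p => Scheme.ProEt.mk (f p.1 ≫ U.hom)
  let g : ∀ p, V p ⟶ U := fun p => MorphismProperty.Over.homMk (f p.1)
  refine ⟨V, g, ?_, ?_⟩
  · apply Precoverage.generate_mem_toGrothendieck
    show Presieve.map (Scheme.ProEt.forget X ⋙ Over.forget X) (Presieve.ofArrows V g) ∈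
      Scheme.proetalePrecoverage U.left
    rw [Presieve.map_ofArrows]
    have h1 : Presieve.ofArrows 𝒰.X 𝒰.f ∈ Scheme.proetalePrecoverage U.left :=
      Scheme.zariskiPrecoverage_le_propQCPrecoverage _ 𝒰.mem₀
    have h2 : ∀ i, Presieve.ofArrows (fun _ : PUnit.{1} => Spec (CommRingCat.of (D i)))
        (fun _ => f' i) ∈ Scheme.proetalePrecoverage (𝒰.X i) := by
      intro i
      rw [Presieve.ofArrows_pUnit]
      exact ⟨Scheme.Hom.singleton_mem_qcPrecoverage _,
        (Scheme.singleton_mem_precoverage_iff _ _).mpr ⟨(hsf' i).surj, hwef' i⟩⟩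
    exact Precoverage.comp_mem_coverings 𝒰.f h1 (fun i _ => f' i) h2
  · intro p
    refine ⟨inferInstanceAs (IsAffine (Spec _)), ?_⟩
    exact ProEtWCover.isWContractible_of_ringEquiv
      (Scheme.ΓSpecIso (CommRingCat.of (D p.1))).symm.commRingCatIsoToRingEquiv (hwc p.1)

end Groth.Agent.H27.ProEtWCover2
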