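import Mathlib

set_option autoImplicit false
universe u

namespace Groth.Agent.H27.ProjClopen

open PrimeSpectrum

variable {R B : Type u} [CommRing R] [CommRing B] [Algebra R B]

/-- The trace ideal data of a projective algebra: there is an idempotent `e` of `R` with
`algebraMap e = 1` and such that every `r` with `r • 1 ∈ pB` satisfies `r * e ∈ p`. -/
theorem exists_idempotent [Module.Projective R B] :
    ∃ e : R, IsIdempotentElem e ∧ algebraMap R B e = 1 ∧
      ∀ (p : Ideal R) (r : R), algebraMap R B r ∈ p.map (algebraMap R B) → r * e ∈ p := by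
  classical
  obtain ⟨s, hs⟩ := (Module.projective_def' (R := R) (P := B)).mp inferInstance
  have hs' : ∀ x : B, Finsupp.linearCombination R id (s x) = x := fun x => by
    simpa using LinearMap.congr_fun hs x
  have hsum : ∀ x : B, x = (s x).sum fun b r => r • b := fun x => by
    conv_lhs => rw [← hs' x]
    rw [Finsupp.linearCombination_apply]; rfl
  set c := s 1 with hc
  let I₀ : Ideal R := Ideal.span ((fun b => c b) '' (c.support : Set B))
  have hI₀fg : I₀.FG := ⟨(c.support.image fun b => c b), by simp [I₀]⟩
  have hcI : ∀ b, c b ∈ I₀ := by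
    intro b
    by_cases hb : b ∈ c.support
    · exact Ideal.subset_span ⟨b, hb, rfl⟩
    · rw [Finsupp.notMem_support_iff.mp hb]; exact I₀.zero_mem
  -- every coefficient `s x b'` lies in `I₀`
  have hτI : ∀ x b', s x b' ∈ I₀ := by
    intro x b'
    have h1 : x = c.sum fun b r => r • (x * b) := by
      have := hsum 1
      calc x = x * 1 := (mul_one x).symm
        _ = x * (c.sum fun b r => r • b) := by rw [← this]
        _ = c.sum fun b r => r • (x * b) := by
            rw [Finsupp.mul_sum]; simp
    have h2 : s x b' = c.sum fun b r => r * s (x * b) b' := by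
      conv_lhs => rw [h1]
      rw [Finsupp.sum, map_sum, Finsupp.finsetSum_apply]
      simp [Finsupp.sum]
    rw [h2]
    exact Ideal.sum_mem _ fun b _ => Ideal.mul_mem_right _ _ (hcI b)
  -- `I₀` is idempotent
  have hidem : IsIdempotentElem I₀ := by
    refine le_antisymm Ideal.mul_le_right ?_
    rw [Ideal.span_le]
    rintro _ ⟨b', -, rfl⟩
    have h2 : c b' = c.sum fun b r => r * s b b' := by
      have h1 := hsum 1
      have : s 1 = c.sum fun b r => r • s b := by
        conv_lhs => rw [h1]
        rw [Finsupp.sum, map_sum]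
        simp [Finsupp.sum, hc]
      change (s 1) b' = _
      rw [this, Finsupp.sum, Finsupp.finsetSum_apply]
      simp [Finsupp.sum]
    change c b' ∈ I₀ * I₀
    rw [h2]
    exact Ideal.sum_mem _ fun b _ => Ideal.mul_mem_mul (hcI b) (hτI b b')
  obtain ⟨e, he, hIe⟩ := (Ideal.isIdempotentElem_iff_of_fg I₀ hI₀fg).mp hidem
  refine ⟨e, he, ?_, ?_⟩
  · -- `(1 - e) * c b = 0` for all `b`, hence `(1 - e) • 1 = 0`
    have hz : ∀ b, (1 - e) * c b = 0 := by
      intro b
      have : c b ∈ Ideal.span {e} := by have := hcI b; rw [hIe] at this; exact this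
      obtain ⟨r, hr⟩ := Ideal.mem_span_singleton'.mp this
      rw [← hr, mul_comm r e, ← mul_assoc, sub_mul, one_mul, he.eq, sub_self, zero_mul]
    have h1 : (1 - e) • (1 : B) = 0 := by
      conv_lhs => rw [hsum 1]
      rw [Finsupp.smul_sum]
      simp only [smul_smul]
      change (c.sum fun b r => ((1 - e) * r) • b) = 0
      rw [Finsupp.sum]
      refine Finset.sum_eq_zero fun b _ => ?_
      rw [hz b, zero_smul]
    rw [sub_smul, one_smul, sub_eq_zero] at h1
    rw [Algebra.algebraMap_eq_smul_one, ← h1]
  · intro p r hr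
    -- each coordinate functional maps `pB` into `p`
    have key : ∀ y ∈ p.map (algebraMap R B), ∀ b', s y b' ∈ p := by
      intro y hy b'
      have hy' : y ∈ p • (⊤ : Submodule R B) := by
        rw [Ideal.smul_top_eq_map]; exact hy
      refine Submodule.smul_induction_on hy' ?_ ?_
      · intro π hπ z _
        rw [map_smul, Finsupp.smul_apply, smul_eq_mul]
        exact Ideal.mul_mem_right _ _ hπ
      · intro y₁ y₂ h₁ h₂
        rw [map_add, Finsupp.add_apply]
        exact Ideal.add_mem _ h₁ h₂
    have hrc : ∀ b', r * c b' ∈ p := by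
      intro b'
      have := key _ hr b'
      rwa [Algebra.algebraMap_eq_smul_one, map_smul, Finsupp.smul_apply, smul_eq_mul] at this
    have heI : e ∈ I₀ := by rw [hIe]; exact Submodule.mem_span_singleton_self e
    -- `r * I₀ ⊆ p`
    have : ∀ x ∈ I₀, r * x ∈ p := by
      intro x hx
      refine Submodule.span_induction ?_ ?_ ?_ ?_ hx
      · rintro _ ⟨b, -, rfl⟩; exact hrc b
      · simp
      · intro x y _ _ hx hy; rw [mul_add]; exact Ideal.add_mem _ hx hy
      · intro a x _ hx; rw [smul_eq_mul, mul_left_comm]; exact Ideal.mul_mem_left _ _ hx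
    exact this e heI

/-- The image of `Spec B → Spec R` is clopen if `B` is a projective `R`-module. -/
theorem isClopen_range_comap [Module.Projective R B] :
    IsClopen (Set.range (PrimeSpectrum.comap (algebraMap R B))) := by
  obtain ⟨e, he, he1, hkey⟩ := exists_idempotent (R := R) (B := B)
  rw [PrimeSpectrum.isClopen_iff]
  refine ⟨e, he, ?_⟩
  ext p
  constructor
  · rintro ⟨q, rfl⟩
    change e ∉ (PrimeSpectrum.comap (algebraMap R B) q).asIdeal
    rw [PrimeSpectrum.comap_asIdeal, Ideal.mem_comap, he1]
    exact q.asIdeal.one_notMem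
  · intro hp
    have hp' : e ∉ p.asIdeal := hp
    rw [PrimeSpectrum.mem_range_comap_iff]
    refine le_antisymm ?_ Ideal.le_comap_map
    intro r hr
    have := hkey p.asIdeal r hr
    exact (p.2.mem_or_mem this).resolve_right hp'

end Groth.Agent.H27.ProjClopen
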