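import Mathlib

set_option autoImplicit false
universe u

namespace Groth.Agent.H27.ProjLift

open TensorProduct

variable {R : Type u} [CommRing R]

theorem matrix_pow_mem {n : Type*} [Fintype n] [DecidableEq n] (J : Ideal R) (M : Matrix n n R)
    (hM : ∀ i j, M i j ∈ J) (k : ℕ) : ∀ i j, (M ^ k) i j ∈ J ^ k := by
  induction k with
  | zero => intro i j; simp
  | succ k ih =>
    intro i j
    rw [pow_succ M, Matrix.mul_apply, pow_succ J]
    refine Ideal.sum_mem _ fun l _ => ?_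
    exact Ideal.mul_mem_mul (ih i l) (hM l j)

theorem isNilpotent_of_mem_ker_mapMatrix (I : Ideal R) (hI : ∀ x ∈ I, IsNilpotent x) {n : ℕ}
    (M : Matrix (Fin n) (Fin n) R)
    (hM : M ∈ RingHom.ker ((Ideal.Quotient.mk I).mapMatrix :
      Matrix (Fin n) (Fin n) R →+* Matrix (Fin n) (Fin n) (R ⧸ I))) : IsNilpotent M := by
  have hMI : ∀ i j, M i j ∈ I := by
    intro i j
    have h2 : ((Ideal.Quotient.mk I).mapMatrix M) i j = (0 : Matrix (Fin n) (Fin n) (R ⧸ I)) i j := by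
      rw [RingHom.mem_ker.mp hM]
    rwa [RingHom.mapMatrix_apply, Matrix.map_apply, Matrix.zero_apply,
      Ideal.Quotient.eq_zero_iff_mem] at h2
  let J : Ideal R := Ideal.span (Set.range fun p : Fin n × Fin n => M p.1 p.2)
  have hJfg : J.FG := Submodule.fg_span (Set.finite_range _)
  have hJI : J ≤ I := Ideal.span_le.mpr (by rintro _ ⟨p, rfl⟩; exact hMI _ _)
  have hJnil : IsNilpotent J :=
    (Ideal.FG.isNilpotent_iff_le_nilradical hJfg).mpr fun x hx => hI x (hJI hx)
  obtain ⟨N, hN⟩ := hJnil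
  refine ⟨N, ?_⟩
  ext i j
  have := matrix_pow_mem J M (fun i j => Ideal.subset_span ⟨(i, j), rfl⟩) N i j
  rw [hN] at this
  simpa using this

/-- Stacks 07LV-type statement: finite projective modules lift along locally nilpotent ideals. -/
theorem exists_finite_projective_lift (I : Ideal R) (hI : ∀ x ∈ I, IsNilpotent x) (Pb : Type u)
    [AddCommGroup Pb] [Module (R ⧸ I) Pb] [Module.Projective (R ⧸ I) Pb]
    [Module.Finite (R ⧸ I) Pb] :
    ∃ (P : Type u) (_ : AddCommGroup P) (_ : Module R P), Module.Projective R P ∧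
      Module.Finite R P ∧ Nonempty (((R ⧸ I) ⊗[R] P) ≃ₗ[R ⧸ I] Pb) := by
  classical
  obtain ⟨n, π, σ, -, -, hπσ⟩ := Module.Finite.exists_comp_eq_id_of_projective (R ⧸ I) Pb
  -- the idempotent endomorphism downstairs
  set eb : (Fin n → R ⧸ I) →ₗ[R ⧸ I] (Fin n → R ⧸ I) := σ ∘ₗ π with heb
  have heb2 : eb ∘ₗ eb = eb := by
    rw [heb, LinearMap.comp_assoc, ← LinearMap.comp_assoc π σ π, hπσ, LinearMap.id_comp]
  set Eb : Matrix (Fin n) (Fin n) (R ⧸ I) := LinearMap.toMatrix' eb with hEb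
  have hEb2 : IsIdempotentElem Eb := by
    change Eb * Eb = Eb
    rw [hEb, ← LinearMap.toMatrix'_comp, heb2]
  have hsurj : Eb ∈ ((Ideal.Quotient.mk I).mapMatrix :
      Matrix (Fin n) (Fin n) R →+* Matrix (Fin n) (Fin n) (R ⧸ I)).range := by
    refine ⟨Matrix.of fun i j => (Ideal.Quotient.mk_surjective (Eb i j)).choose, ?_⟩
    ext i j
    exact (Ideal.Quotient.mk_surjective (Eb i j)).choose_spec
  obtain ⟨E, hE2, hEEb⟩ := exists_isIdempotentElem_eq_of_ker_isNilpotent
    ((Ideal.Quotient.mk I).mapMatrix :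
      Matrix (Fin n) (Fin n) R →+* Matrix (Fin n) (Fin n) (R ⧸ I))
    (fun M hM => isNilpotent_of_mem_ker_mapMatrix I hI M hM) Eb hsurj hEb2
  set e : (Fin n → R) →ₗ[R] (Fin n → R) := Matrix.toLin' E with he
  have he2 : e ∘ₗ e = e := by
    rw [he, ← Matrix.toLin'_mul, hE2.eq]
  let P : Submodule R (Fin n → R) := LinearMap.range e
  let p : (Fin n → R) →ₗ[R] P := e.rangeRestrict
  let ι : P →ₗ[R] (Fin n → R) := P.subtype
  have hιp : ι ∘ₗ p = e := LinearMap.subtype_comp_codRestrict _ _ _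
  have hpι : p ∘ₗ ι = LinearMap.id := by
    refine LinearMap.ext fun x => Subtype.ext ?_
    obtain ⟨x, y, rfl⟩ := x
    change e (e y) = e y
    rw [← LinearMap.comp_apply, he2]
  refine ⟨P, inferInstance, inferInstance, ?_, ?_, ?_⟩
  · exact Module.Projective.of_split ι p hpι
  · exact Module.Finite.range e
  · -- the comparison
    let θ : (R ⧸ I) ⊗[R] (Fin n → R) ≃ₗ[R ⧸ I] (Fin n → R ⧸ I) :=
      TensorProduct.piScalarRight R (R ⧸ I) (R ⧸ I) (Fin n)
    have hK : θ.toLinearMap ∘ₗ e.baseChange (R ⧸ I) = eb ∘ₗ θ.toLinearMap := by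
      apply TensorProduct.AlgebraTensorModule.curry_injective
      refine LinearMap.ext_ring ?_
      refine LinearMap.ext fun v => ?_
      simp only [TensorProduct.AlgebraTensorModule.curry_apply, LinearMap.restrictScalars_comp,
        TensorProduct.curry_apply, LinearMap.coe_comp, LinearMap.coe_restrictScalars,
        Function.comp_apply, LinearMap.baseChange_tmul, LinearEquiv.coe_coe, θ,
        TensorProduct.piScalarRight_apply, TensorProduct.piScalarRightHom_tmul]
      have h1 : eb = Matrix.toLin' Eb := by rw [hEb, Matrix.toLin'_toMatrix']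
      rw [h1, ← hEEb]
      try rw [he]
      simp only [Matrix.toLin'_apply]
      have h2 : (fun j => v j • (1 : R ⧸ I)) = (Ideal.Quotient.mk I) ∘ v := by
        funext j
        rw [Algebra.smul_def, mul_one]; rfl
      have h3 : (fun j => (E.mulVec v) j • (1 : R ⧸ I)) = (Ideal.Quotient.mk I) ∘ (E.mulVec v) := by
        funext j
        rw [Algebra.smul_def, mul_one]; rfl
      rw [h2, h3, RingHom.mapMatrix_apply]
      funext i
      rw [Function.comp_apply, RingHom.map_mulVec]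
    let α : (R ⧸ I) ⊗[R] P →ₗ[R ⧸ I] Pb := π ∘ₗ θ.toLinearMap ∘ₗ ι.baseChange (R ⧸ I)
    let β : Pb →ₗ[R ⧸ I] (R ⧸ I) ⊗[R] P := p.baseChange (R ⧸ I) ∘ₗ θ.symm.toLinearMap ∘ₗ σ
    have hαβ : α ∘ₗ β = LinearMap.id := by
      have h1 : ι.baseChange (R ⧸ I) ∘ₗ p.baseChange (R ⧸ I) = e.baseChange (R ⧸ I) := by
        rw [← LinearMap.baseChange_comp, hιp]
      have h2 : θ.toLinearMap ∘ₗ e.baseChange (R ⧸ I) ∘ₗ θ.symm.toLinearMap = eb := by
        rw [← LinearMap.comp_assoc, hK, LinearMap.comp_assoc]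
        simp
      calc α ∘ₗ β = π ∘ₗ (θ.toLinearMap ∘ₗ (ι.baseChange (R ⧸ I) ∘ₗ p.baseChange (R ⧸ I)) ∘ₗ
            θ.symm.toLinearMap) ∘ₗ σ := by
            simp only [α, β, LinearMap.comp_assoc]
        _ = π ∘ₗ eb ∘ₗ σ := by rw [h1, h2]
        _ = (π ∘ₗ σ) ∘ₗ (π ∘ₗ σ) := by rw [heb]; simp only [LinearMap.comp_assoc]
        _ = LinearMap.id := by rw [hπσ, LinearMap.id_comp]
    have hβα : β ∘ₗ α = LinearMap.id := by
      have h2 : θ.symm.toLinearMap ∘ₗ eb ∘ₗ θ.toLinearMap = e.baseChange (R ⧸ I) := by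
        rw [← hK, ← LinearMap.comp_assoc]
        simp
      calc β ∘ₗ α = p.baseChange (R ⧸ I) ∘ₗ (θ.symm.toLinearMap ∘ₗ (σ ∘ₗ π) ∘ₗ θ.toLinearMap) ∘ₗ
            ι.baseChange (R ⧸ I) := by
            simp only [α, β, LinearMap.comp_assoc]
        _ = p.baseChange (R ⧸ I) ∘ₗ e.baseChange (R ⧸ I) ∘ₗ ι.baseChange (R ⧸ I) := by
            rw [← heb, h2]
        _ = (p ∘ₗ e ∘ₗ ι).baseChange (R ⧸ I) := by
            rw [LinearMap.baseChange_comp, LinearMap.baseChange_comp]
        _ = LinearMap.id := by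
            rw [← hιp, LinearMap.comp_assoc, hpι, LinearMap.comp_id, hpι, LinearMap.baseChange_id]
    exact ⟨LinearEquiv.ofLinearMap α β hαβ hβα⟩

end Groth.Agent.H27.ProjLift
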