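import Mathlib

/-!
# A quotient by a directed union of ideals is a filtered colimit of quotients (in `Under A`)
-/

namespace Groth.Agent.H27.QuotColim

open CategoryTheory Limits

universe u

variable {A : Type u} [CommRing A] (𝒥 : Set (Ideal A))

/-- the diagram `I ↦ A ⧸ I` indexed by the ideals in `𝒥`. -/
noncomputable def diag : ↥𝒥 ⥤ Under (CommRingCat.of A) where
  obj j := Under.mk (CommRingCat.ofHom (Ideal.Quotient.mk j.1))
  map {j k} f := Under.homMk (CommRingCat.ofHom (Ideal.Quotient.factor (leOfHom f)))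
    (by ext a; rfl)
  map_id j := by
    ext x
    obtain ⟨a, rfl⟩ := Ideal.Quotient.mk_surjective x
    rfl
  map_comp f g := by
    ext x
    obtain ⟨a, rfl⟩ := Ideal.Quotient.mk_surjective x
    rfl

/-- the cocone with vertex `A ⧸ sSup 𝒥`. -/
noncomputable def cocone : Cocone (diag 𝒥) where
  pt := Under.mk (CommRingCat.ofHom (Ideal.Quotient.mk (sSup 𝒥)))
  ι :=
    { app := fun j => Under.homMk
        (CommRingCat.ofHom (Ideal.Quotient.factor (le_sSup j.2))) (by ext a; rfl)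
      naturality := fun j k f => by
        ext x
        obtain ⟨a, rfl⟩ := Ideal.Quotient.mk_surjective x
        rfl }

variable {𝒥}

theorem hom_eq_zero (hdir : DirectedOn (· ≤ ·) 𝒥) (hne : 𝒥.Nonempty) (s : Cocone (diag 𝒥))
    (a : A) (ha : a ∈ sSup 𝒥) : s.pt.hom.hom a = 0 := by
  rw [Submodule.mem_sSup_of_directed hne hdir] at ha
  obtain ⟨I, hI, haI⟩ := ha
  have hw : ((diag 𝒥).obj ⟨I, hI⟩).hom ≫ (s.ι.app ⟨I, hI⟩).right = s.pt.hom :=
    Under.w (s.ι.app ⟨I, hI⟩)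
  have h1 : (s.ι.app ⟨I, hI⟩).right.hom (Ideal.Quotient.mk I a) = s.pt.hom.hom a :=
    congrArg (fun f => f.hom a) hw
  rw [← h1]
  have h0 : Ideal.Quotient.mk I a = 0 := Ideal.Quotient.eq_zero_iff_mem.2 haI
  rw [h0]
  exact map_zero (s.ι.app ⟨I, hI⟩).right.hom

/-- `A ⧸ sSup 𝒥` is the colimit of the `A ⧸ I`, `I ∈ 𝒥`, when `𝒥` is directed and nonempty. -/
noncomputable def isColimit (hdir : DirectedOn (· ≤ ·) 𝒥) (hne : 𝒥.Nonempty) :
    IsColimit (cocone 𝒥) where
  desc s := Under.homMk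
    (CommRingCat.ofHom (Ideal.Quotient.lift (sSup 𝒥) s.pt.hom.hom (hom_eq_zero hdir hne s)))
    (by ext a; rfl)
  fac s j := by
    ext x
    obtain ⟨a, rfl⟩ := Ideal.Quotient.mk_surjective x
    have hw : ((diag 𝒥).obj j).hom ≫ (s.ι.app j).right = s.pt.hom := Under.w (s.ι.app j)
    exact (congrArg (fun f => f.hom a) hw).symm
  uniq s m hm := by
    ext x
    obtain ⟨a, rfl⟩ := Ideal.Quotient.mk_surjective x
    have hw : (cocone 𝒥).pt.hom ≫ m.right = s.pt.hom := Under.w m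
    exact congrArg (fun f => f.hom a) hw

theorem isFiltered (hdir : DirectedOn (· ≤ ·) 𝒥) (hne : 𝒥.Nonempty) : IsFiltered ↥𝒥 := by
  haveI : Nonempty ↥𝒥 := hne.to_subtype
  haveI : IsDirected ↥𝒥 (· ≤ ·) := by
    constructor
    rintro ⟨a, ha⟩ ⟨b, hb⟩
    obtain ⟨c, hc, hac, hbc⟩ := hdir a ha b hb
    exact ⟨⟨c, hc⟩, hac, hbc⟩
  infer_instance

end Groth.Agent.H27.QuotColim
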