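import Groth.Agent.H27.Faithful

set_option autoImplicit false

namespace Groth.Agent.H27

open RootD Finsupp RootPairing

variable {ι M N : Type*} [AddCommGroup M] [AddCommGroup N] {P : RootPairing ι ℤ M N}

lemma smul_mem_span_root {g : P.Aut} {x : M} (hx : x ∈ Submodule.span ℤ (Set.range P.root)) :
    g • x ∈ Submodule.span ℤ (Set.range P.root) := by
  induction hx using Submodule.span_induction with
  | mem x hx =>
    obtain ⟨i, rfl⟩ := hx
    rw [← smul_root]
    exact Submodule.subset_span (Set.mem_range_self _)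
  | zero => rw [smul_zero]; exact zero_mem _
  | add x y _ _ hx hy => rw [smul_add]; exact add_mem hx hy
  | smul a x _ hx => rw [smul_comm]; exact Submodule.smul_mem _ _ hx

/-- the condition of acting trivially on the radical -/
def TrivOnRadical (P : RootPairing ι ℤ M N) (u : P.Aut) : Prop :=
  ∀ m : M, ∃ n : ℕ, 0 < n ∧ n • (u • m - m) ∈ Submodule.span ℤ (Set.range P.root)

section Finite
variable [Finite ι]

/-- S5477 core -/
lemma eq_one_of_trivOnRadical_of_fix {u : P.Aut} (hs : TrivOnRadical P u)
    (hfix : ∀ i : ι, u • i = i) : u = 1 := by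
  have := torsionFree P
  apply RootPairing.Equiv.weightHom_injective P
  ext m
  obtain ⟨n, hn, hmem⟩ := hs m
  have h0 : n • (u • m - m) = 0 := by
    apply eq_zero_of_mem_span_of_pairing_eq_zero hmem
    intro i
    rw [map_nsmul, LinearMap.smul_apply, pairing_smul_sub_eq_zero hfix, smul_zero]
  have h1 : u • m - m = 0 := by
    have h2 : n • (u • m - m) = n • (0 : M) := by simpa using h0
    exact nsmul_right_injective (by omega) h2
  have h2 : u • m = m := sub_eq_zero.1 h1
  simpa using (show u.weightMap m = m from h2)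

lemma trivOnRadical_inv_mul {u v : P.Aut} (hu : TrivOnRadical P u) (hv : TrivOnRadical P v) :
    TrivOnRadical P (u⁻¹ * v) := by
  intro m
  obtain ⟨n, hn, h1⟩ := hu m
  obtain ⟨n', hn', h2⟩ := hv m
  refine ⟨n * n', Nat.mul_pos hn hn', ?_⟩
  have e : (n * n') • ((u⁻¹ * v) • m - m) =
      u⁻¹ • (n • (n' • (v • m - m)) - n' • (n • (u • m - m))) := by
    have e1 : (u⁻¹ * v) • m - m = u⁻¹ • ((v • m - m) - (u • m - m)) := by
      rw [smul_sub, smul_sub, smul_sub, inv_smul_smul, mul_smul]
      abel
    rw [e1, mul_smul]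
    simp only [smul_sub, smul_comm n' n, smul_comm (u⁻¹) n, smul_comm (u⁻¹) n']
  rw [e]
  apply smul_mem_span_root
  exact sub_mem (Submodule.smul_of_tower_mem _ n h2) (Submodule.smul_of_tower_mem _ n' h1)

/-- S5478 core -/
lemma finite_trivOnRadical : Set.Finite {u : P.Aut | TrivOnRadical P u} := by
  have : Finite (Equiv.Perm ι) := inferInstance
  apply Set.Finite.of_finite_image (f := RootPairing.Equiv.indexHom P) (Set.toFinite _)
  intro u hu v hv huv
  have h1 : u⁻¹ * v = 1 := by
    apply eq_one_of_trivOnRadical_of_fix (trivOnRadical_inv_mul hu hv)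
    intro i
    rw [mul_smul]
    have : v • i = u • i := (DFunLike.congr_fun huv i).symm
    rw [this, smul_smul, inv_mul_cancel, one_smul]
  exact (inv_mul_eq_one.1 h1)

end Finite

end Groth.Agent.H27
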