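import Groth.Agent.H27.Basic
import Mathlib.LinearAlgebra.Dimension.RankNullity
import Mathlib.LinearAlgebra.Dimension.Free
import Mathlib.LinearAlgebra.FreeModule.PID
import Mathlib.LinearAlgebra.FreeModule.Finite.Matrix

set_option autoImplicit false

namespace Groth.Agent.H27

open RootD RootPairing Module

variable {ι M N : Type*} [AddCommGroup M] [AddCommGroup N] (P : RootPairing ι ℤ M N)

include P in
lemma free_weight [Module.Finite ℤ M] : Module.Free ℤ M := by
  have := torsionFree P
  infer_instance

include P in
lemma finrank_coweight_eq [Module.Finite ℤ M] [Module.Finite ℤ N] : finrank ℤ N = finrank ℤ M := by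
  have := free_weight P
  have := free_weight P.flip
  rw [LinearEquiv.finrank_eq P.toPerfPair, Module.finrank_linearMap]
  simp

section
variable [Fintype ι]

lemma iInf_ker_coroot'_eq_ker_rootForm :
    (⨅ i : ι, LinearMap.ker (P.coroot' i) : Submodule ℤ M) = LinearMap.ker P.RootForm := by
  ext x
  rw [← P.rootForm_self_eq_zero_iff, Submodule.mem_iInf, P.rootForm_apply_apply]
  constructor
  · intro h
    exact Finset.sum_eq_zero fun i _ => by rw [LinearMap.mem_ker.1 (h i), mul_zero]
  · intro h i
    rw [Finset.sum_eq_zero_iff_of_nonneg (fun i _ => mul_self_nonneg _)] at h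
    exact LinearMap.mem_ker.2 (mul_self_eq_zero.1 (h i (Finset.mem_univ i)))

lemma finrank_range_polarization [Module.Finite ℤ M] [Module.Finite ℤ N] :
    finrank ℤ (LinearMap.range P.Polarization) = finrank ℤ (P.rootSpan ℤ) := by
  apply le_antisymm
  · rw [← P.finrank_corootSpan_eq']
    apply Submodule.finrank_mono
    rintro _ ⟨x, rfl⟩
    rw [Polarization_apply]
    exact Submodule.sum_mem _ fun i _ => Submodule.smul_mem _ _ (Submodule.subset_span ⟨i, rfl⟩)
  · rw [← P.finrank_corootSpan_eq', ← P.finrank_rootSpan_map_polarization_eq_finrank_corootSpan]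
    apply Submodule.finrank_mono
    exact LinearMap.map_le_range

lemma finrank_coradical_add [Module.Finite ℤ M] [Module.Finite ℤ N] :
    finrank ℤ (⨅ i : ι, LinearMap.ker (P.coroot' i) : Submodule ℤ M) + finrank ℤ (P.rootSpan ℤ)
      = finrank ℤ M := by
  rw [iInf_ker_coroot'_eq_ker_rootForm, ← P.ker_polarization_eq_ker_rootForm,
    ← finrank_range_polarization, add_comm,
    ← LinearEquiv.finrank_eq P.Polarization.quotKerEquivRange]
  exact Submodule.finrank_quotient_add_finrank _

lemma finrank_radical_add [Module.Finite ℤ M] [Module.Finite ℤ N] :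
    finrank ℤ (⨅ i : ι, LinearMap.ker (P.root' i) : Submodule ℤ N) + finrank ℤ (P.rootSpan ℤ)
      = finrank ℤ M := by
  have := finrank_coradical_add P.flip
  rw [finrank_coweight_eq P] at this
  rw [← P.finrank_corootSpan_eq']
  exact this

end

end Groth.Agent.H27
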