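import Groth.Agent.H27.Levi3

set_option autoImplicit false

namespace Groth.Agent.H27

open RootD Finsupp RootPairing

variable {ι M N : Type*} [AddCommGroup M] [AddCommGroup N] {P : RootPairing ι ℤ M N}

section Finite
variable [Finite ι]

/-- a simple system containing `i` can be modified to make a root not proportional to `i` positive -/
lemma exists_simpleSys_mem_pos {Δ₀ : Set ι} (hΔ₀ : IsSimpleSys P Δ₀) {i k : ι} (hi : i ∈ Δ₀)
    (hli : LinearIndependent ℤ ![P.root k, P.root i]) :
    ∃ Δ : Set ι, IsSimpleSys P Δ ∧ i ∈ Δ ∧ k ∈ posOf P Δ := by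
  by_cases hk : k ∈ posOf P Δ₀
  · exact ⟨Δ₀, hΔ₀, hi, hk⟩
  · have hk' : ng P k ∈ posOf P Δ₀ := (ng_mem_posOf_iff hΔ₀ k).2 hk
    have hli' : LinearIndependent ℤ ![P.root (ng P k), P.root i] := by
      rw [LinearIndependent.pair_iff] at hli ⊢
      intro s t hst
      have := hli (-s) t (by rw [root_ng] at hst; rw [neg_smul, ← smul_neg]; exact hst)
      exact ⟨neg_eq_zero.1 this.1, this.2⟩
    have h1 := reflectionPerm_mem_posOf_of_linearIndependent hΔ₀ hi hk' hli'
    set s := refl P i with hs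
    have hΔ₁ : IsSimpleSys P ((fun l => s • l) '' Δ₀) := isSimpleSys_smul P s hΔ₀
    have hΔ₂ := isSimpleSys_ng hΔ₁
    refine ⟨_, hΔ₂, ⟨s • i, ⟨i, hi, rfl⟩, ?_⟩, ?_⟩
    · change ng P (s • i) = i
      rw [hs, refl_smul_self, ng_ng]
    · have h2 : ng P k ∈ posOf P ((fun l => s • l) '' Δ₀) := by
        rw [posOf_smul]
        refine ⟨P.reflectionPerm i (ng P k), h1, ?_⟩
        change s • (s • ng P k) = ng P k
        rw [smul_smul, hs, refl_mul_self, one_smul]
      have h3 := neg_mem_natSpan_ng (P := P) h2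
      rw [root_ng, neg_neg] at h3
      exact h3

/-- S5464 core -/
theorem exists_simpleSys_rank2 (i k : ι) (hα : IsIndiv P i)
    (hli : LinearIndependent ℤ ![P.root i, P.root k]) :
    ∃ Δ : Set ι, IsSimpleSys P Δ ∧ i ∈ Δ ∧
      ∃ j ∈ Δ, ∃ a b : ℕ, P.root k = a • P.root i + b • P.root j := by
  classical
  set V := Submodule.span ℤ ({P.root i, P.root k} : Set M) with hV
  set R' : Set ι := {l | ∃ n : ℕ, 0 < n ∧ n • P.root l ∈ V} with hR'
  have hVsat : ∀ x ∈ Submodule.span ℤ (P.root '' R'), ∃ n : ℕ, 0 < n ∧ n • x ∈ V := by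
    intro x hx
    induction hx using Submodule.span_induction with
    | mem x hx =>
      obtain ⟨l, hl, rfl⟩ := hx
      exact hl
    | zero => exact ⟨1, one_pos, by simp⟩
    | add x y _ _ hx hy =>
      obtain ⟨n, hn, hnx⟩ := hx
      obtain ⟨m, hm, hmy⟩ := hy
      refine ⟨n * m, Nat.mul_pos hn hm, ?_⟩
      rw [smul_add]
      refine add_mem ?_ ?_
      · rw [mul_comm, mul_smul]; exact Submodule.smul_of_tower_mem V m hnx
      · rw [mul_smul]; exact Submodule.smul_of_tower_mem V n hmy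
    | smul a x _ hx =>
      obtain ⟨n, hn, hnx⟩ := hx
      refine ⟨n, hn, ?_⟩
      rw [smul_comm]
      exact Submodule.smul_mem V a hnx
  have hsat : Sat P R' := by
    rintro l ⟨n, hn, hl⟩
    obtain ⟨m, hm, hml⟩ := hVsat _ hl
    exact ⟨m * n, Nat.mul_pos hm hn, by rw [mul_smul]; exact hml⟩
  have hiR : i ∈ R' := ⟨1, one_pos, by rw [one_smul]; exact Submodule.subset_span (by simp)⟩
  have hkR : k ∈ R' := ⟨1, one_pos, by rw [one_smul]; exact Submodule.subset_span (by simp)⟩
  have hst := hsat.reflStable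
  set Q := sub R' hst with hQ
  obtain ⟨T₀, hT₀, hiT₀⟩ := exists_simpleSys_mem_of_indiv (P := Q) (i := ⟨i, hiR⟩)
    (isIndiv_sub hst hα)
  have hliQ : LinearIndependent ℤ ![Q.root ⟨k, hkR⟩, Q.root ⟨i, hiR⟩] := by
    rw [LinearIndependent.pair_iff] at hli ⊢
    intro s t hst
    have := hli t s (by rw [add_comm]; exact hst)
    exact ⟨this.2, this.1⟩
  obtain ⟨T, hT, hiT, hkT⟩ := exists_simpleSys_mem_pos hT₀ hiT₀ hliQ
  obtain ⟨hliT, hgenT⟩ := isSimpleSys_sub_image hst hT
  set Δ' : Set ι := Subtype.val '' T with hΔ'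
  have hΔ'R : Δ' ⊆ R' := by rintro _ ⟨l, _, rfl⟩; exact l.2
  obtain ⟨Δ, hΔ, hsub, _⟩ := exists_simpleSys_extending hsat Δ' hΔ'R hliT hgenT
  have hiΔ' : i ∈ Δ' := ⟨⟨i, hiR⟩, hiT, rfl⟩
  refine ⟨Δ, hΔ, hsub hiΔ', ?_⟩
  -- coefficients of `k`
  have hk1 : P.root k ∈ natSpan P Δ' := by
    have : Q.root ⟨k, hkR⟩ ∈ natSpan Q T := hkT
    rwa [natSpan_sub] at this
  obtain ⟨c, hc1, hc2, hc3⟩ := (mem_natSpan_iff P).1 hk1
  -- there is some `l ≠ i` in the support
  obtain ⟨l, hl, hli'⟩ : ∃ l, c l ≠ 0 ∧ l ≠ i := by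
    by_contra hcon
    push Not at hcon
    have hc : c = Finsupp.single i (c i) := by
      ext m
      rw [Finsupp.single_apply]
      split_ifs with h
      · rw [h]
      · by_contra hm
        exact h (hcon m hm).symm
    rw [hc, Finsupp.linearCombination_single] at hc3
    rw [LinearIndependent.pair_iff] at hli
    have := hli (c i) (-1) (by rw [hc3]; simp)
    omega
  have hlΔ' : l ∈ Δ' := hc1 (by simpa using hl)
  obtain ⟨n, hn, hnl⟩ := hΔ'R hlΔ'
  obtain ⟨a, b, hab⟩ := Submodule.mem_span_pair.1 hnl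
  have e : (n : ℤ) • Finsupp.single l (1 : ℤ) = a • Finsupp.single i (1 : ℤ) + b • c := by
    apply coef_unique hliT
      (support_smul_subset (support_single_subset hlΔ' 1) _)
      (support_add_subset (support_smul_subset (support_single_subset hiΔ' 1) _)
        (support_smul_subset hc1 _))
    rw [map_add, map_smul, map_smul, map_smul, hc3, Finsupp.linearCombination_single,
      Finsupp.linearCombination_single, one_smul, one_smul, natCast_zsmul, hab]
  have el := DFunLike.congr_fun e l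
  simp only [Finsupp.smul_apply, Finsupp.add_apply, Finsupp.single_apply, smul_eq_mul,
    if_neg hli'.symm, if_true, mul_one, mul_zero, zero_add] at el
  have hb : b ≠ 0 := by
    rintro rfl
    rw [zero_mul] at el
    omega
  have hcm : ∀ m, m ≠ i → m ≠ l → c m = 0 := by
    intro m hmi hml
    have em := DFunLike.congr_fun e m
    simp only [Finsupp.smul_apply, Finsupp.add_apply, Finsupp.single_apply, smul_eq_mul,
      if_neg hmi.symm, if_neg hml.symm, mul_zero, zero_add] at em
    rcases mul_eq_zero.1 em.symm with h | h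
    · exact absurd h hb
    · exact h
  have hc : c = Finsupp.single i (c i) + Finsupp.single l (c l) := by
    ext m
    simp only [Finsupp.add_apply, Finsupp.single_apply]
    by_cases hmi : m = i
    · subst hmi
      rw [if_pos rfl, if_neg hli', add_zero]
    · by_cases hml : m = l
      · subst hml
        rw [if_neg (Ne.symm hmi), if_pos rfl, zero_add]
      · rw [if_neg (Ne.symm hmi), if_neg (Ne.symm hml), hcm m hmi hml, add_zero]
  refine ⟨l, hsub hlΔ', (c i).toNat, (c l).toNat, ?_⟩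
  rw [← hc3]
  conv_lhs => rw [hc]
  rw [map_add, Finsupp.linearCombination_single, Finsupp.linearCombination_single,
    ← natCast_zsmul, ← natCast_zsmul, Int.toNat_of_nonneg (hc2 i), Int.toNat_of_nonneg (hc2 l)]

end Finite

end Groth.Agent.H27
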