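import Mathlib

set_option autoImplicit false

namespace Groth.Agent.H27.RootsProd

open Polynomial Finset

variable {K : Type*} [Field K]

theorem nthRootsFinset_eq_image [DecidableEq K] {ζ : K} {n : ℕ} (hn : 0 < n) (h : IsPrimitiveRoot ζ n) :
    nthRootsFinset n (1 : K) = (range n).image (ζ ^ ·) := by
  symm
  apply Finset.eq_of_subset_of_card_le
  · intro x hx
    obtain ⟨k, -, rfl⟩ := Finset.mem_image.mp hx
    rw [Polynomial.mem_nthRootsFinset hn, ← pow_mul, mul_comm, pow_mul, h.pow_eq_one, one_pow]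
  · rw [h.card_nthRootsFinset, Finset.card_image_of_injOn h.injOn_pow, Finset.card_range]

theorem prod_range_mul_periodic {M : Type*} [CommMonoid M] (g : ℕ → M) (m e : ℕ)
    (hg : ∀ k, g (m + k) = g k) :
    ∏ k ∈ range (m * e), g k = (∏ k ∈ range m, g k) ^ e := by
  have hg' : ∀ a k, g (m * a + k) = g k := by
    intro a
    induction a with
    | zero => intro k; simp
    | succ a ih =>
      intro k
      rw [Nat.mul_succ, Nat.add_assoc, ih, hg]
  induction e with
  | zero => simp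
  | succ e ih =>
    rw [Nat.mul_succ, Finset.prod_range_add, ih, pow_succ]
    congr 1
    exact Finset.prod_congr rfl fun k _ => hg' e k

/-- `∏_{θⁿ = 1} (1 - θ^d w) = (1 - w^{n/e})^e` with `e = gcd n d`. -/
theorem prod_one_sub_pow_mul {ζ : K} {n : ℕ} (hn : 0 < n) (h : IsPrimitiveRoot ζ n) (d : ℕ)
    (hd : 0 < d) (w : K) :
    ∏ θ ∈ nthRootsFinset n (1 : K), (1 - θ ^ d * w) =
      (1 - w ^ (n / Nat.gcd n d)) ^ Nat.gcd n d := by
  classical
  set e := Nat.gcd n d with he
  set m := n / e with hm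
  have hem : n = m * e := (Nat.div_mul_cancel (Nat.gcd_dvd_left n d)).symm
  have hepos : 0 < e := Nat.gcd_pos_of_pos_left d hn
  have hmpos : 0 < m := Nat.div_pos (Nat.le_of_dvd hn (Nat.gcd_dvd_left n d)) hepos
  have hω : IsPrimitiveRoot (ζ ^ d) m := by
    have := IsPrimitiveRoot.orderOf (ζ ^ d)
    rwa [orderOf_pow' ζ hd.ne', ← h.eq_orderOf] at this
  rw [nthRootsFinset_eq_image hn h, Finset.prod_image h.injOn_pow]
  have h1 : ∀ k ∈ range n, (1 - (ζ ^ k) ^ d * w) = (fun k => 1 - (ζ ^ d) ^ k * w) k := by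
    intro k _
    simp only
    rw [← pow_mul, ← pow_mul, mul_comm k d]
  rw [Finset.prod_congr rfl h1]
  conv_lhs => rw [hem]
  rw [prod_range_mul_periodic (fun k => 1 - (ζ ^ d) ^ k * w) m e]
  · congr 1
    have h2 := hω.pow_sub_pow_eq_prod_sub_mul (1 : K) w hmpos
    rw [one_pow] at h2
    rw [h2, nthRootsFinset_eq_image hmpos hω, Finset.prod_image hω.injOn_pow]
  · intro k
    rw [pow_add, hω.pow_eq_one, one_mul]

end Groth.Agent.H27.RootsProd
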