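import Groth.Agent.H27.Aut

set_option autoImplicit false

namespace Groth.Agent.H27

open RootD Finsupp RootPairing

variable {ι M N : Type*} [AddCommGroup M] [AddCommGroup N] (P : RootPairing ι ℤ M N)

/-- no nontrivial nonnegative relation among the roots indexed by `S` -/
def Pointed (S : Set ι) : Prop :=
  ∀ c : ι →₀ ℤ, ↑c.support ⊆ S → (∀ i, 0 ≤ c i) → linearCombination ℤ P.root c = 0 → c = 0

variable {P}

lemma Pointed.mono {S T : Set ι} (h : S ⊆ T) (hT : Pointed P T) : Pointed P S :=
  fun c hc => hT c (hc.trans h)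

lemma pointed_of_linearIndepOn {Δ : Set ι} (h : LinearIndepOn ℤ P.root Δ) : Pointed P Δ :=
  fun c hc _ h0 => (linearIndepOn_iff.1 h) c ((Finsupp.mem_supported ℤ c).2 hc) h0

lemma coef_unique {Δ : Set ι} (h : LinearIndepOn ℤ P.root Δ) {c d : ι →₀ ℤ}
    (hc : ↑c.support ⊆ Δ) (hd : ↑d.support ⊆ Δ)
    (hcd : linearCombination ℤ P.root c = linearCombination ℤ P.root d) : c = d := by
  classical
  have hsub : ↑(c - d).support ⊆ Δ := by
    intro i hi
    have hi' : (c - d) i ≠ 0 := by simpa using hi
    by_cases hci : c i = 0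
    · have : d i ≠ 0 := by
        intro hdi; apply hi'; simp [hci, hdi]
      exact hd (by simpa using this)
    · exact hc (by simpa using hci)
  have := (linearIndepOn_iff.1 h) (c - d) ((Finsupp.mem_supported ℤ _).2 hsub)
    (by rw [map_sub, hcd, sub_self])
  exact sub_eq_zero.1 this

lemma isPosSys_pointed {S : Set ι} (hS : IsPosSys P S) : Pointed P S := by
  classical
  intro c hc hnn h0
  by_contra hne
  obtain ⟨s, hs⟩ : ∃ s, c s ≠ 0 := by
    by_contra hcon
    push Not at hcon
    exact hne (Finsupp.ext hcon)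
  have hspos : 0 < c s := lt_of_le_of_ne (hnn s) (Ne.symm hs)
  have hsS : s ∈ S := hc (by simpa using hs)
  have hdecomp : c = Finsupp.single s (c s) + c.erase s := (Finsupp.single_add_erase s c).symm
  have h1 : c s • P.root s + linearCombination ℤ P.root (c.erase s) = 0 := by
    rw [← h0]
    conv_rhs => rw [hdecomp]
    rw [map_add, Finsupp.linearCombination_single]
  obtain ⟨n, hn⟩ := Int.eq_ofNat_of_zero_le (hnn s)
  have hnpos : 0 < n := by omega
  have key : n • P.root (ng P s) = linearCombination ℤ P.root (c.erase s) := by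
    rw [root_ng, ← natCast_zsmul, ← hn, smul_neg]
    exact (eq_neg_of_add_eq_zero_right h1).symm ▸ by simp
  have hmem : n • P.root (ng P s) ∈ natSpan P S := by
    rw [key]
    refine (mem_natSpan_iff P).2 ⟨c.erase s, ?_, ?_, rfl⟩
    · intro i hi
      have hi' : i ∈ (c.erase s).support := hi
      rw [Finsupp.support_erase] at hi'
      exact hc (Finset.mem_coe.2 (Finset.mem_of_mem_erase hi'))
    · intro i
      by_cases his : i = s
      · subst his; simp
      · rw [Finsupp.erase_ne his]; exact hnn i
  exact hS.disjoint hsS (hS.sat n hnpos hmem)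

lemma isPosSys_closed {S : Set ι} (hS : IsPosSys P S) : IsClosedSub P S := by
  intro i j k hi hj hk
  refine hS.sat 1 one_pos ?_
  rw [one_smul, hk]
  exact add_mem (root_mem_natSpan P hi) (root_mem_natSpan P hj)

section Finite

variable [Finite ι]

/-- Pairwise obtuse roots in a pointed set are linearly independent. -/
lemma linearIndepOn_of_obtuse {Δ : Set ι} (hp : Pointed P Δ)
    (hob : ∀ i ∈ Δ, ∀ j ∈ Δ, i ≠ j → P.pairing i j ≤ 0) : LinearIndepOn ℤ P.root Δ := by
  classical
  have := Fintype.ofFinite ι
  rw [linearIndepOn_iff]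
  intro l hl h0
  have hlΔ : ↑l.support ⊆ Δ := (Finsupp.mem_supported ℤ l).1 hl
  let p : ι →₀ ℤ := l.mapRange (fun a => max a 0) (by simp)
  let q : ι →₀ ℤ := l.mapRange (fun a => max (-a) 0) (by simp)
  have hpi : ∀ i, p i = max (l i) 0 := fun i => by simp [p]
  have hqi : ∀ i, q i = max (-(l i)) 0 := fun i => by simp [q]
  have hpq : l = p - q := by
    ext i
    rw [Finsupp.sub_apply, hpi, hqi]
    omega
  have hx : linearCombination ℤ P.root p = linearCombination ℤ P.root q := by
    rw [hpq, map_sub, sub_eq_zero] at h0; exact h0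
  have hpΔ : ↑p.support ⊆ Δ := by
    intro i hi
    have : p i ≠ 0 := by simpa using hi
    apply hlΔ
    have : l i ≠ 0 := by
      intro h; rw [hpi, h] at this; simp at this
    simpa using this
  have hqΔ : ↑q.support ⊆ Δ := by
    intro i hi
    have : q i ≠ 0 := by simpa using hi
    apply hlΔ
    have : l i ≠ 0 := by
      intro h; rw [hqi, h] at this; simp at this
    simpa using this
  set x := linearCombination ℤ P.root p with hxdef
  have hB : P.RootForm x x ≤ 0 := by
    have e1 : P.RootForm x x = P.RootForm (linearCombination ℤ P.root p)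
        (linearCombination ℤ P.root q) := by rw [← hx]
    rw [e1, rootForm_linearCombination_left, Finsupp.sum]
    refine Finset.sum_nonpos fun i hi => ?_
    rw [rootForm_comm, rootForm_linearCombination_left, Finsupp.sum, Finset.mul_sum]
    refine Finset.sum_nonpos fun j hj => ?_
    have hpi0 : 0 ≤ p i := by rw [hpi]; exact le_max_right _ _
    have hqj0 : 0 ≤ q j := by rw [hqi]; exact le_max_right _ _
    by_cases hij : i = j
    · subst hij
      have : p i * q i = 0 := by
        rw [hpi, hqi]
        rcases le_total (l i) 0 with h | h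
        · rw [max_eq_right h]; simp
        · rw [max_eq_right (by omega : -(l i) ≤ 0)]; simp
      rw [← mul_assoc, this, zero_mul]
    · have hiΔ : i ∈ Δ := hpΔ (Finset.mem_coe.2 hi)
      have hjΔ : j ∈ Δ := hqΔ (Finset.mem_coe.2 hj)
      have hB' : P.RootForm (P.root j) (P.root i) ≤ 0 :=
        (rootForm_root_nonpos_iff P j (P.root i)).2 (hob i hiΔ j hjΔ hij)
      exact mul_nonpos_of_nonneg_of_nonpos hpi0 (mul_nonpos_of_nonneg_of_nonpos hqj0 hB')
  have hx0 : x = 0 := by
    by_contra hne
    have := P.rootForm_pos_of_ne_zero (linearCombination_mem_rootSpan P p) hne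
    linarith
  have hp0 : p = 0 := hp p hpΔ (fun i => by rw [hpi]; exact le_max_right _ _) hx0
  have hq0 : q = 0 := hp q hqΔ (fun i => by rw [hqi]; exact le_max_right _ _) (hx ▸ hx0)
  rw [hpq, hp0, hq0, sub_zero]

/-- Decomposition lemma: a root which is a nonnegative combination `c`, and not one of the roots
occurring in `c`, can be written as another root plus one of the roots of `c`. -/
lemma exists_sub_root (c : ι →₀ ℤ) (hc : ∀ i, 0 ≤ c i) (k : ι)
    (hk : linearCombination ℤ P.root c = P.root k) (hne : ∀ j, 0 < c j → j ≠ k) :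
    ∃ j, 0 < c j ∧ 0 < P.pairing k j ∧ ∃ l, P.root l = linearCombination ℤ P.root (c - Finsupp.single j 1) ∧
      P.root k = P.root l + P.root j := by
  obtain ⟨j, hj, hjp⟩ := exists_pos_pairing_of_nonneg_comb P c hc (by rw [hk]; exact P.ne_zero k)
  rw [hk] at hjp
  change 0 < P.pairing k j at hjp
  refine ⟨j, hj, hjp, ?_⟩
  have hkj : k ≠ j := (hne j hj).symm
  obtain ⟨l, hl⟩ := P.root_sub_root_mem_of_pairingIn_pos (by rwa [pairingIn_int]) hkj
  refine ⟨l, ?_, ?_⟩
  · rw [hl, map_sub, hk, Finsupp.linearCombination_single, one_smul]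
  · rw [hl]; abel

end Finite

end Groth.Agent.H27
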