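import Groth.Agent.H27.Simple

set_option autoImplicit false

namespace Groth.Agent.H27

open RootD Finsupp RootPairing

variable {ι M N : Type*} [AddCommGroup M] [AddCommGroup N] {P : RootPairing ι ℤ M N}

lemma mem_posOf_iff {Δ : Set ι} {k : ι} :
    k ∈ posOf P Δ ↔ ∃ c : ι →₀ ℤ, (↑c.support ⊆ Δ) ∧ (∀ i, 0 ≤ c i) ∧
      linearCombination ℤ P.root c = P.root k := mem_natSpan_iff P

lemma subset_posOf (Δ : Set ι) : Δ ⊆ posOf P Δ := fun _ hi => root_mem_natSpan P hi

lemma support_neg_subset {Δ : Set ι} {c : ι →₀ ℤ} (hc : ↑c.support ⊆ Δ) : ↑(-c).support ⊆ Δ := by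
  rwa [Finsupp.support_neg]

lemma support_add_subset {Δ : Set ι} {c d : ι →₀ ℤ} (hc : ↑c.support ⊆ Δ) (hd : ↑d.support ⊆ Δ) :
    ↑(c + d).support ⊆ Δ := by
  classical
  intro i hi
  have hi' : i ∈ (c + d).support := hi
  rcases Finset.mem_union.1 (Finsupp.support_add hi') with h | h
  · exact hc h
  · exact hd h

lemma support_sub_subset {Δ : Set ι} {c d : ι →₀ ℤ} (hc : ↑c.support ⊆ Δ) (hd : ↑d.support ⊆ Δ) :
    ↑(c - d).support ⊆ Δ := by
  rw [sub_eq_add_neg]
  exact support_add_subset hc (support_neg_subset hd)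

lemma support_single_subset {Δ : Set ι} {i : ι} (hi : i ∈ Δ) (a : ℤ) :
    ↑(Finsupp.single i a).support ⊆ Δ := by
  classical
  intro j hj
  have hj' : j ∈ (Finsupp.single i a).support := hj
  have := Finsupp.support_single_subset hj'
  rw [Finset.mem_singleton] at this
  exact this ▸ hi

lemma support_smul_subset {Δ : Set ι} {c : ι →₀ ℤ} (hc : ↑c.support ⊆ Δ) (a : ℤ) :
    ↑(a • c).support ⊆ Δ := by
  intro i hi
  have hi' : i ∈ (a • c).support := hi
  exact hc (Finsupp.support_smul hi')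

/-- every root has a coefficient vector along a simple system, of constant sign -/
lemma exists_coef {Δ : Set ι} (hΔ : IsSimpleSys P Δ) (k : ι) :
    ∃ c : ι →₀ ℤ, (↑c.support ⊆ Δ) ∧ ((∀ i, 0 ≤ c i) ∨ (∀ i, c i ≤ 0)) ∧
      linearCombination ℤ P.root c = P.root k := by
  rcases hΔ.mem_or_neg_mem k with h | h
  · obtain ⟨c, h1, h2, h3⟩ := (mem_natSpan_iff P).1 h
    exact ⟨c, h1, Or.inl h2, h3⟩
  · obtain ⟨c, h1, h2, h3⟩ := (mem_natSpan_iff P).1 h
    refine ⟨-c, support_neg_subset h1, Or.inr fun i => ?_, ?_⟩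
    · have := h2 i
      simp only [Finsupp.neg_apply]; omega
    · rw [map_neg, h3, neg_neg]

lemma mem_posOf_of_coef_pos {Δ : Set ι} (hΔ : IsSimpleSys P Δ) {k : ι} {c : ι →₀ ℤ}
    (hc : ↑c.support ⊆ Δ) (hk : linearCombination ℤ P.root c = P.root k) {j : ι} (hj : 0 < c j) :
    k ∈ posOf P Δ := by
  obtain ⟨d, hd1, hd2, hd3⟩ := exists_coef hΔ k
  have : c = d := coef_unique hΔ.linInd hc hd1 (hk.trans hd3.symm)
  subst this
  rcases hd2 with h | h
  · exact mem_posOf_iff.2 ⟨c, hc, h, hk⟩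
  · exact absurd (h j) (by omega)

lemma not_mem_posOf_of_coef_neg {Δ : Set ι} (hΔ : IsSimpleSys P Δ) {k : ι} {c : ι →₀ ℤ}
    (hc : ↑c.support ⊆ Δ) (hk : linearCombination ℤ P.root c = P.root k) {j : ι} (hj : c j < 0) :
    k ∉ posOf P Δ := by
  intro hk'
  obtain ⟨d, hd1, hd2, hd3⟩ := mem_posOf_iff.1 hk'
  have : c = d := coef_unique hΔ.linInd hc hd1 (hk.trans hd3.symm)
  subst this
  exact absurd (hd2 j) (by omega)

lemma ng_mem_posOf_iff {Δ : Set ι} (hΔ : IsSimpleSys P Δ) (k : ι) :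
    ng P k ∈ posOf P Δ ↔ k ∉ posOf P Δ := by
  constructor
  · intro h hk
    obtain ⟨c, hc1, hc2, hc3⟩ := mem_posOf_iff.1 h
    obtain ⟨d, hd1, hd2, hd3⟩ := mem_posOf_iff.1 hk
    have h0 : linearCombination ℤ P.root (c + d) = 0 := by
      rw [map_add, hc3, hd3, root_ng]; simp
    have hcd : c + d = 0 := pointed_of_linearIndepOn hΔ.linInd (c + d) (support_add_subset hc1 hd1)
      (fun i => by have := hc2 i; have := hd2 i; simp only [Finsupp.add_apply]; omega) h0
    have hd0 : d = 0 := by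
      ext i
      have := hc2 i; have := hd2 i
      have h3 : (c + d) i = 0 := by rw [hcd]; rfl
      simp only [Finsupp.add_apply] at h3
      simp only [Finsupp.zero_apply]; omega
    rw [hd0, map_zero] at hd3
    exact P.ne_zero k hd3.symm
  · intro hk
    rcases hΔ.mem_or_neg_mem k with h | h
    · exact absurd h hk
    · change P.root (ng P k) ∈ natSpan P Δ
      rwa [root_ng]

/-- S5448 core -/
lemma isIndiv_of_mem {Δ : Set ι} (hΔ : IsSimpleSys P Δ) {i : ι} (hi : i ∈ Δ) : IsIndiv P i := by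
  intro j hj
  obtain ⟨c, hc1, _, hc3⟩ := exists_coef hΔ j
  have h1 : linearCombination ℤ P.root ((2 : ℤ) • c) =
      linearCombination ℤ P.root (Finsupp.single i 1) := by
    rw [map_smul, hc3, hj, Finsupp.linearCombination_single, one_smul]
  have := coef_unique hΔ.linInd (support_smul_subset hc1 2) (support_single_subset hi 1) h1
  have h2 := DFunLike.congr_fun this i
  simp only [Finsupp.smul_apply, Finsupp.single_eq_same, smul_eq_mul] at h2
  omega

/-- S5449 core, part 1 -/
lemma isPosSys_posOf {Δ : Set ι} (hΔ : IsSimpleSys P Δ) : IsPosSys P (posOf P Δ) := by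
  refine ⟨?_, ?_, ?_⟩
  · intro i hi hi'
    exact (ng_mem_posOf_iff hΔ i).1 hi' hi
  · intro i
    by_cases h : i ∈ posOf P Δ
    · exact Or.inl h
    · exact Or.inr ((ng_mem_posOf_iff hΔ i).2 h)
  · intro k n hn hk
    have hk' : n • P.root k ∈ natSpan P Δ := by
      have hle : natSpan P (posOf P Δ) ≤ natSpan P Δ := by
        unfold natSpan
        rw [AddSubmonoid.closure_le]
        rintro x ⟨i, hi, rfl⟩
        exact hi
      exact hle hk
    by_contra hcon
    have h2 := (ng_mem_posOf_iff hΔ k).2 hcon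
    obtain ⟨c, hc1, hc2, hc3⟩ := (mem_natSpan_iff P).1 hk'
    obtain ⟨d, hd1, hd2, hd3⟩ := mem_posOf_iff.1 h2
    have h0 : linearCombination ℤ P.root (c + (n : ℤ) • d) = 0 := by
      rw [map_add, map_smul, hc3, hd3, root_ng, natCast_zsmul]; simp
    have hcd : c + (n : ℤ) • d = 0 :=
      pointed_of_linearIndepOn hΔ.linInd _ (support_add_subset hc1 (support_smul_subset hd1 _))
        (fun i => by
          have := hc2 i; have := hd2 i
          simp only [Finsupp.add_apply, Finsupp.smul_apply, smul_eq_mul]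
          positivity) h0
    have hc0 : c = 0 := by
      ext i
      have h1 := hc2 i; have h2 := hd2 i
      have h3 : (c + (n : ℤ) • d) i = 0 := by rw [hcd]; rfl
      simp only [Finsupp.add_apply, Finsupp.smul_apply, smul_eq_mul] at h3
      have h4 : 0 ≤ (n : ℤ) * d i := by positivity
      simp only [Finsupp.zero_apply]; omega
    rw [hc0, map_zero] at hc3
    exact nsmul_root_ne_zero P k hn hc3.symm

/-- S5449 core, part 2 -/
lemma subset_iff_eq_posOf {Δ : Set ι} (hΔ : IsSimpleSys P Δ) {S : Set ι} (hS : IsPosSys P S) :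
    Δ ⊆ S ↔ S = posOf P Δ := by
  constructor
  · intro h
    have h1 : posOf P Δ ⊆ S := by
      intro k hk
      refine hS.sat 1 one_pos ?_
      rw [one_smul]
      exact natSpan_mono P h hk
    refine Set.Subset.antisymm ?_ h1
    intro k hk
    by_contra hcon
    exact hS.disjoint hk (h1 ((ng_mem_posOf_iff hΔ k).2 hcon))
  · intro h
    rw [h]
    exact subset_posOf Δ

end Groth.Agent.H27
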