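import Groth.Agent.H27.Simple2

set_option autoImplicit false

namespace Groth.Agent.H27

open RootD Finsupp RootPairing

variable {ι M N : Type*} [AddCommGroup M] [AddCommGroup N] {P : RootPairing ι ℤ M N}

lemma nonneg_sub_single {c : ι →₀ ℤ} (hc : ∀ i, 0 ≤ c i) {j : ι} (hj : 0 < c j) :
    ∀ i, 0 ≤ (c - Finsupp.single j (1:ℤ)) i := by
  classical
  intro i
  rw [Finsupp.sub_apply, Finsupp.single_apply]
  split_ifs with h
  · subst h; omega
  · have := hc i; omega

lemma pos_mem_of_support_subset {Δ : Set ι} {c : ι →₀ ℤ} (hc : ↑c.support ⊆ Δ) {j : ι}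
    (hj : c j ≠ 0) : j ∈ Δ := hc (by simpa using hj)

section Finite
variable [Finite ι]

/-- S5450 core -/
lemma mem_simple_iff_indecomposable {Δ : Set ι} (hΔ : IsSimpleSys P Δ) {k : ι}
    (hk : k ∈ posOf P Δ) :
    k ∈ Δ ↔ ¬ ∃ i j : ι, i ∈ posOf P Δ ∧ j ∈ posOf P Δ ∧ P.root k = P.root i + P.root j := by
  classical
  constructor
  · rintro hkΔ ⟨i, j, hi, hj, hkij⟩
    obtain ⟨c, hc1, hc2, hc3⟩ := mem_posOf_iff.1 hi
    obtain ⟨d, hd1, hd2, hd3⟩ := mem_posOf_iff.1 hj
    have h1 : linearCombination ℤ P.root (Finsupp.single k 1) =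
        linearCombination ℤ P.root (c + d) := by
      rw [map_add, hc3, hd3, Finsupp.linearCombination_single, one_smul, hkij]
    have h2 := coef_unique hΔ.linInd (support_single_subset hkΔ 1) (support_add_subset hc1 hd1) h1
    have h3 : ∀ l, (Finsupp.single k (1:ℤ)) l = c l + d l := fun l => by rw [h2]; rfl
    have hk1 : c k + d k = 1 := by rw [← h3 k]; simp
    have hl0 : ∀ l, l ≠ k → c l = 0 ∧ d l = 0 := fun l hl => by
      have := h3 l
      rw [Finsupp.single_apply, if_neg (Ne.symm hl)] at this
      have := hc2 l; have := hd2 l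
      omega
    have hck := hc2 k; have hdk := hd2 k
    rcases (by omega : c k = 0 ∨ d k = 0) with h | h
    · have : c = 0 := by
        ext l
        by_cases hl : l = k
        · subst hl; simpa using h
        · simpa using (hl0 l hl).1
      rw [this, map_zero] at hc3
      exact P.ne_zero i hc3.symm
    · have : d = 0 := by
        ext l
        by_cases hl : l = k
        · subst hl; simpa using h
        · simpa using (hl0 l hl).2
      rw [this, map_zero] at hd3
      exact P.ne_zero j hd3.symm
  · intro hno
    by_contra hkΔ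
    apply hno
    obtain ⟨c, hc1, hc2, hc3⟩ := mem_posOf_iff.1 hk
    obtain ⟨j, hj, _, l, hl1, hl2⟩ := exists_sub_root c hc2 k hc3 (fun j hj hjk => by
      apply hkΔ
      rw [← hjk]
      exact pos_mem_of_support_subset hc1 hj.ne')
    have hjΔ : j ∈ Δ := pos_mem_of_support_subset hc1 hj.ne'
    refine ⟨l, j, ?_, subset_posOf Δ hjΔ, hl2⟩
    exact mem_posOf_iff.2 ⟨c - Finsupp.single j 1,
      support_sub_subset hc1 (support_single_subset hjΔ 1), nonneg_sub_single hc2 hj, hl1.symm⟩

/-- the indecomposable elements of a set of roots -/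
def indec (P : RootPairing ι ℤ M N) (S : Set ι) : Set ι :=
  {k | k ∈ S ∧ ¬ ∃ i j : ι, i ∈ S ∧ j ∈ S ∧ P.root k = P.root i + P.root j}

omit [Finite ι] in
lemma indec_subset (S : Set ι) : indec P S ⊆ S := fun _ h => h.1

/-- the elements of `S` below `k` -/
def downSet (P : RootPairing ι ℤ M N) (S : Set ι) (k : ι) : Set ι :=
  {i | i ∈ S ∧ P.root k - P.root i ∈ natSpan P S}

lemma mem_natSpan_indec {S : Set ι} (hS : IsPosSys P S) :
    ∀ k ∈ S, P.root k ∈ natSpan P (indec P S) := by
  classical
  have hpt := isPosSys_pointed hS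
  have key : ∀ n : ℕ, ∀ k ∈ S, (downSet P S k).ncard = n → P.root k ∈ natSpan P (indec P S) := by
    intro n
    induction n using Nat.strong_induction_on with
    | _ n ih =>
      intro k hk hn
      by_cases hki : k ∈ indec P S
      · exact root_mem_natSpan P hki
      · have : ∃ i j : ι, i ∈ S ∧ j ∈ S ∧ P.root k = P.root i + P.root j := by
          by_contra hcon
          exact hki ⟨hk, hcon⟩
        obtain ⟨i, j, hi, hj, hkij⟩ := this
        have hlt : ∀ i j : ι, i ∈ S → j ∈ S → P.root k = P.root i + P.root j →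
            (downSet P S i).ncard < n := by
          intro i j hi hj hkij
          rw [← hn]
          apply Set.ncard_lt_ncard _ (Set.toFinite _)
          refine ⟨?_, ?_⟩
          · rintro l ⟨hl, hl2⟩
            refine ⟨hl, ?_⟩
            have : P.root k - P.root l = (P.root i - P.root l) + P.root j := by
              rw [hkij]; abel
            rw [this]
            exact add_mem hl2 (root_mem_natSpan P hj)
          · intro hsub
            have hkk : k ∈ downSet P S k := ⟨hk, by rw [sub_self]; exact zero_mem _⟩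
            obtain ⟨_, hk2⟩ := hsub hkk
            have : P.root i - P.root k = - P.root j := by rw [hkij]; abel
            rw [this] at hk2
            obtain ⟨c, hc1, hc2, hc3⟩ := (mem_natSpan_iff P).1 hk2
            have h0 : linearCombination ℤ P.root (c + Finsupp.single j 1) = 0 := by
              rw [map_add, hc3, Finsupp.linearCombination_single, one_smul]; simp
            have := hpt _ (support_add_subset hc1 (support_single_subset hj 1))
              (fun l => by
                have := hc2 l
                rw [Finsupp.add_apply, Finsupp.single_apply]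
                split_ifs <;> omega) h0
            have h1 := DFunLike.congr_fun this j
            have := hc2 j
            simp only [Finsupp.add_apply, Finsupp.single_eq_same, Finsupp.zero_apply] at h1
            omega
        have h1 := ih _ (hlt i j hi hj hkij) i hi rfl
        have h2 := ih _ (hlt j i hj hi (by rw [hkij, add_comm])) j hj rfl
        rw [hkij]
        exact add_mem h1 h2
  intro k hk
  exact key _ k hk rfl

lemma pairing_nonpos_of_indec {S : Set ι} (hS : IsPosSys P S) {i j : ι} (hi : i ∈ indec P S)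
    (hj : j ∈ indec P S) (hij : i ≠ j) : P.pairing i j ≤ 0 := by
  by_contra hcon
  push Not at hcon
  obtain ⟨k, hk⟩ := P.root_sub_root_mem_of_pairingIn_pos (by rwa [pairingIn_int]) hij
  rcases hS.cover k with hkS | hkS
  · exact hi.2 ⟨k, j, hkS, hj.1, by rw [hk]; abel⟩
  · refine hj.2 ⟨i, ng P k, hi.1, hkS, ?_⟩
    rw [root_ng, hk]; abel

lemma isSimpleSys_indec {S : Set ι} (hS : IsPosSys P S) : IsSimpleSys P (indec P S) := by
  refine ⟨?_, ?_⟩
  · exact linearIndepOn_of_obtuse ((isPosSys_pointed hS).mono (indec_subset S))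
      fun i hi j hj hij => pairing_nonpos_of_indec hS hi hj hij
  · intro i
    rcases hS.cover i with h | h
    · exact Or.inl (mem_natSpan_indec hS i h)
    · right
      have := mem_natSpan_indec hS _ h
      change P.root (ng P i) ∈ _ at this
      rwa [root_ng] at this

/-- S5445 core -/
lemma existsUnique_simple_subset {S : Set ι} (hS : IsPosSys P S) :
    ∃! Δ : Set ι, IsSimpleSys P Δ ∧ Δ ⊆ S := by
  refine ⟨indec P S, ⟨isSimpleSys_indec hS, indec_subset S⟩, ?_⟩
  rintro Δ ⟨hΔ, hΔS⟩
  have hSeq : S = posOf P Δ := (subset_iff_eq_posOf hΔ hS).1 hΔS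
  ext k
  constructor
  · intro hk
    have hkS : k ∈ S := hΔS hk
    refine ⟨hkS, ?_⟩
    have := (mem_simple_iff_indecomposable hΔ (hSeq ▸ hkS)).1 hk
    rwa [← hSeq] at this
  · rintro ⟨hkS, hk2⟩
    rw [hSeq] at hkS hk2
    exact (mem_simple_iff_indecomposable hΔ hkS).2 hk2

end Finite

end Groth.Agent.H27
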