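import Mathlib
import Groth.Prelude.Def_W4stktopologysheavesDim

/-!
# The soberification of a topological space

Opens of `PtTop.Sob X` correspond bijectively to opens of `X` via `U ↦ tilde U`.
-/

namespace Groth.Agent.H27.Sober

open TopologicalSpace PtTop Set

universe u

variable {X : Type u} [TopologicalSpace X]

/-- view a point of the soberification as an irreducible closed set -/
def ic (Z : Sob X) : IrreducibleCloseds X := Z

/-- view an irreducible closed set as a point of the soberification -/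
def ofIC (Z : IrreducibleCloseds X) : Sob X := Z

theorem ic_injective {Z Z' : Sob X} (h : (ic Z : Set X) = (ic Z' : Set X)) : Z = Z' :=
  IrreducibleCloseds.ext (s := ic Z) (t := ic Z') h

/-- the set of irreducible closed subsets meeting `U` -/
def tilde (U : Set X) : Set (Sob X) :=
  {Z : Sob X | ((ic Z : Set X) ∩ U).Nonempty}

theorem mem_tilde {U : Set X} {Z : Sob X} :
    Z ∈ tilde U ↔ ((ic Z : Set X) ∩ U).Nonempty := Iff.rfl

theorem tilde_mono {U V : Set X} (h : U ⊆ V) : tilde U ⊆ tilde V := by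
  intro Z hZ
  obtain ⟨x, hx, hxU⟩ := mem_tilde.mp hZ
  exact mem_tilde.mpr ⟨x, hx, h hxU⟩

theorem tilde_inter {U V : Set X} (hU : IsOpen U) (hV : IsOpen V) :
    tilde (U ∩ V) = tilde U ∩ tilde V := by
  apply Subset.antisymm
  · exact subset_inter (tilde_mono inter_subset_left) (tilde_mono inter_subset_right)
  · rintro Z ⟨h1, h2⟩
    exact mem_tilde.mpr ((ic Z).isIrreducible.isPreirreducible U V hU hV
      (mem_tilde.mp h1) (mem_tilde.mp h2))

theorem tilde_iUnion {ι : Sort*} (U : ι → Set X) : tilde (⋃ i, U i) = ⋃ i, tilde (U i) := by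
  ext Z
  simp only [mem_tilde, mem_iUnion, inter_iUnion]
  constructor
  · rintro ⟨x, hx⟩
    obtain ⟨i, hi⟩ := mem_iUnion.mp hx
    exact ⟨i, x, hi⟩
  · rintro ⟨i, x, hx⟩
    exact ⟨x, mem_iUnion.mpr ⟨i, hx⟩⟩

theorem tilde_univ : tilde (univ : Set X) = univ := by
  ext Z
  simp only [mem_tilde, inter_univ, mem_univ, iff_true]
  exact (ic Z).isIrreducible.nonempty

theorem isOpen_tilde {U : Set X} (hU : IsOpen U) : IsOpen (tilde U) :=
  TopologicalSpace.isOpen_generateFrom_of_mem ⟨⟨U, hU⟩, rfl⟩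

theorem exists_eq_tilde {S : Set (Sob X)} (hS : IsOpen S) : ∃ U : Set X, IsOpen U ∧ S = tilde U := by
  induction hS with
  | basic s hs =>
    obtain ⟨U, rfl⟩ := hs
    exact ⟨U, U.isOpen, rfl⟩
  | univ => exact ⟨univ, isOpen_univ, tilde_univ.symm⟩
  | inter s t _ _ hs ht =>
    obtain ⟨U, hU, rfl⟩ := hs
    obtain ⟨V, hV, rfl⟩ := ht
    exact ⟨U ∩ V, hU.inter hV, (tilde_inter hU hV).symm⟩
  | sUnion S _ ih =>
    choose U hU hSU using ih
    refine ⟨⋃ (s : Set (Sob X)) (hs : s ∈ S), U s hs, isOpen_iUnion fun s => isOpen_iUnion fun hs =>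
      hU s hs, ?_⟩
    rw [tilde_iUnion]
    simp_rw [tilde_iUnion]
    rw [sUnion_eq_biUnion]
    refine iUnion_congr fun s => iUnion_congr fun hs => hSU s hs

theorem isOpen_iff {S : Set (Sob X)} : IsOpen S ↔ ∃ U : Set X, IsOpen U ∧ S = tilde U :=
  ⟨exists_eq_tilde, fun ⟨_, hU, h⟩ => h ▸ isOpen_tilde hU⟩

theorem coe_toSob (x : X) : (ic (toSob X x) : Set X) = closure {x} := rfl

theorem preimage_tilde {U : Set X} (hU : IsOpen U) : toSob X ⁻¹' tilde U = U := by
  ext x
  rw [mem_preimage, mem_tilde, coe_toSob]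
  constructor
  · rintro ⟨y, hy, hyU⟩
    obtain ⟨z, hzU, hz⟩ := mem_closure_iff.mp hy U hU hyU
    rwa [mem_singleton_iff.mp hz] at hzU
  · intro hx
    exact ⟨x, subset_closure (mem_singleton x), hx⟩

theorem tilde_subset_iff {U V : Set X} (hU : IsOpen U) (hV : IsOpen V) :
    tilde U ⊆ tilde V ↔ U ⊆ V := by
  refine ⟨fun h => ?_, tilde_mono⟩
  rw [← preimage_tilde hU, ← preimage_tilde hV]
  exact preimage_mono h

theorem tilde_injective {U V : Set X} (hU : IsOpen U) (hV : IsOpen V) (h : tilde U = tilde V) :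
    U = V := by
  rw [← preimage_tilde hU, ← preimage_tilde hV, h]

theorem continuous_toSob : Continuous (toSob X) := by
  rw [continuous_def]
  intro S hS
  obtain ⟨U, hU, rfl⟩ := exists_eq_tilde hS
  rwa [preimage_tilde hU]

theorem bijOn_preimage : Set.BijOn (fun U' : Set (Sob X) => toSob X ⁻¹' U') {U' | IsOpen U'}
    {U : Set X | IsOpen U} := by
  refine ⟨fun S hS => continuous_toSob.isOpen_preimage S hS, ?_, ?_⟩
  · intro S hS T hT h
    obtain ⟨U, hU, rfl⟩ := exists_eq_tilde hS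
    obtain ⟨V, hV, rfl⟩ := exists_eq_tilde hT
    simp only [preimage_tilde hU, preimage_tilde hV] at h
    rw [h]
  · intro U hU
    exact ⟨tilde U, isOpen_tilde hU, preimage_tilde hU⟩

instance t0Space : T0Space (Sob X) := by
  rw [t0Space_iff_exists_isOpen_xor_mem]
  intro Z Z' hne
  have hne' : (ic Z : Set X) ≠ (ic Z' : Set X) :=
    fun h => hne (ic_injective h)
  have key : ∀ W W' : Sob X, ¬ ((ic W : Set X) ⊆
      (ic W' : Set X)) →
      W ∈ tilde ((ic W' : Set X)ᶜ) ∧
      W' ∉ tilde ((ic W' : Set X)ᶜ) := by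
    intro W W' h
    obtain ⟨x, hx, hx'⟩ := not_subset.mp h
    refine ⟨mem_tilde.mpr ⟨x, hx, hx'⟩, fun h' => ?_⟩
    obtain ⟨y, hy, hy'⟩ := mem_tilde.mp h'
    exact hy' hy
  by_cases h : (ic Z : Set X) ⊆ (ic Z' : Set X)
  · have h' : ¬ ((ic Z' : Set X) ⊆ (ic Z : Set X)) :=
      fun h' => hne' (Subset.antisymm h h')
    obtain ⟨h1, h2⟩ := key Z' Z h'
    exact ⟨_, isOpen_tilde (ic Z).isClosed.isOpen_compl, Or.inr ⟨h1, h2⟩⟩
  · obtain ⟨h1, h2⟩ := key Z Z' h
    exact ⟨_, isOpen_tilde (ic Z').isClosed.isOpen_compl, Or.inl ⟨h1, h2⟩⟩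

instance quasiSober : QuasiSober (Sob X) := by
  constructor
  intro T hTirr hTcl
  obtain ⟨U, hU, hTU⟩ := exists_eq_tilde hTcl.isOpen_compl
  have hmemT : ∀ Z : Sob X, Z ∈ T ↔ (ic Z : Set X) ⊆ Uᶜ := by
    intro Z
    rw [← Set.notMem_compl_iff, hTU, mem_tilde, not_nonempty_iff_eq_empty, ← disjoint_iff_inter_eq_empty,
      disjoint_left]
    exact Iff.rfl
  have hpt : ∀ x ∈ Uᶜ, toSob X x ∈ T := by
    intro x hx
    rw [hmemT, coe_toSob]
    exact closure_minimal (singleton_subset_iff.mpr hx) hU.isClosed_compl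
  have hFirr : IsIrreducible (Uᶜ : Set X) := by
    constructor
    · obtain ⟨Z₀, hZ₀⟩ := hTirr.nonempty
      obtain ⟨x, hx⟩ := (ic Z₀).isIrreducible.nonempty
      exact ⟨x, (hmemT Z₀).mp hZ₀ hx⟩
    · intro u v hu hv ⟨x, hxF, hxu⟩ ⟨y, hyF, hyv⟩
      have h1 : (T ∩ tilde u).Nonempty :=
        ⟨toSob X x, hpt x hxF, mem_tilde.mpr ⟨x, subset_closure (mem_singleton x), hxu⟩⟩
      have h2 : (T ∩ tilde v).Nonempty :=
        ⟨toSob X y, hpt y hyF, mem_tilde.mpr ⟨y, subset_closure (mem_singleton y), hyv⟩⟩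
      obtain ⟨Z, hZT, hZu, hZv⟩ := hTirr.isPreirreducible _ _ (isOpen_tilde hu) (isOpen_tilde hv) h1 h2
      obtain ⟨z, hz, hzuv⟩ := (ic Z).isIrreducible.isPreirreducible u v hu hv
        (mem_tilde.mp hZu) (mem_tilde.mp hZv)
      exact ⟨z, (hmemT Z).mp hZT hz, hzuv⟩
  let G : Sob X := ofIC ⟨Uᶜ, hFirr, hU.isClosed_compl⟩
  have hGT : G ∈ T := (hmemT G).mpr (Subset.refl _)
  refine ⟨G, ?_⟩
  show closure {G} = T
  apply Subset.antisymm
  · exact closure_minimal (singleton_subset_iff.mpr hGT) hTcl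
  · intro Z hZ
    rw [mem_closure_iff]
    intro o ho hZo
    obtain ⟨V, hV, rfl⟩ := exists_eq_tilde ho
    obtain ⟨x, hx, hxV⟩ := mem_tilde.mp hZo
    exact ⟨G, mem_tilde.mpr ⟨x, (hmemT Z).mp hZ hx, hxV⟩, mem_singleton G⟩

/-- the extension of a continuous map to the soberification -/
noncomputable def ext {Y : Type*} [TopologicalSpace Y] [QuasiSober Y] (f : X → Y)
    (hf : Continuous f) (Z : Sob X) : Y :=
  (QuasiSober.sober (((ic Z).isIrreducible.image f hf.continuousOn).closure)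
    isClosed_closure).choose

theorem ext_spec {Y : Type*} [TopologicalSpace Y] [QuasiSober Y] (f : X → Y)
    (hf : Continuous f) (Z : Sob X) :
    IsGenericPoint (ext f hf Z) (closure (f '' (ic Z : Set X))) :=
  (QuasiSober.sober (((ic Z).isIrreducible.image f hf.continuousOn).closure)
    isClosed_closure).choose_spec

theorem preimage_ext {Y : Type*} [TopologicalSpace Y] [QuasiSober Y] (f : X → Y)
    (hf : Continuous f) {V : Set Y} (hV : IsOpen V) : ext f hf ⁻¹' V = tilde (f ⁻¹' V) := by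
  ext Z
  rw [mem_preimage, (ext_spec f hf Z).mem_open_set_iff hV, closure_inter_open_nonempty_iff hV,
    mem_tilde]
  constructor
  · rintro ⟨_, ⟨x, hx, rfl⟩, hxV⟩
    exact ⟨x, hx, hxV⟩
  · rintro ⟨x, hx, hxV⟩
    exact ⟨f x, ⟨x, hx, rfl⟩, hxV⟩

theorem continuous_ext {Y : Type*} [TopologicalSpace Y] [QuasiSober Y] (f : X → Y)
    (hf : Continuous f) : Continuous (ext f hf) := by
  rw [continuous_def]
  intro V hV
  rw [preimage_ext f hf hV]
  exact isOpen_tilde (hf.isOpen_preimage V hV)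

theorem ext_comp {Y : Type*} [TopologicalSpace Y] [QuasiSober Y] [T0Space Y] (f : X → Y)
    (hf : Continuous f) : ext f hf ∘ toSob X = f := by
  funext x
  have h1 := ext_spec f hf (toSob X x)
  rw [coe_toSob, closure_image_closure hf, image_singleton] at h1
  exact h1.eq (isGenericPoint_closure)

/-- compactness of opens transfers -/
theorem isCompact_tilde_iff {U : Set X} (hU : IsOpen U) : IsCompact (tilde U) ↔ IsCompact U := by
  constructor
  · intro h
    rw [isCompact_iff_finite_subcover]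
    intro ι V hV hcov
    obtain ⟨t, ht⟩ := h.elim_finite_subcover (fun i => tilde (V i)) (fun i => isOpen_tilde (hV i))
      (by rw [← tilde_iUnion]; exact tilde_mono hcov)
    refine ⟨t, ?_⟩
    have : tilde U ⊆ tilde (⋃ i ∈ t, V i) := by
      rw [tilde_iUnion]; simp_rw [tilde_iUnion]; exact ht
    exact (tilde_subset_iff hU (isOpen_biUnion fun i _ => hV i)).mp this
  · intro h
    rw [isCompact_iff_finite_subcover]
    intro ι S hS hcov
    choose V hV hSV using fun i => exists_eq_tilde (hS i)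
    have h1 : U ⊆ ⋃ i, V i := by
      rw [← tilde_subset_iff hU (isOpen_iUnion hV), tilde_iUnion]
      simpa only [← hSV] using hcov
    obtain ⟨t, ht⟩ := h.elim_finite_subcover V hV h1
    refine ⟨t, ?_⟩
    have := tilde_mono ht
    rw [tilde_iUnion] at this
    simp_rw [tilde_iUnion] at this
    simpa only [← hSV] using this

theorem compactSpace [CompactSpace X] : CompactSpace (Sob X) := by
  constructor
  rw [← tilde_univ, isCompact_tilde_iff isOpen_univ]
  exact isCompact_univ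

theorem quasiSeparatedSpace [QuasiSeparatedSpace X] : QuasiSeparatedSpace (Sob X) := by
  constructor
  intro S T hS hSc hT hTc
  obtain ⟨U, hU, rfl⟩ := exists_eq_tilde hS
  obtain ⟨V, hV, rfl⟩ := exists_eq_tilde hT
  rw [← tilde_inter hU hV, isCompact_tilde_iff (hU.inter hV)]
  exact QuasiSeparatedSpace.inter_isCompact U V hU ((isCompact_tilde_iff hU).mp hSc) hV
    ((isCompact_tilde_iff hV).mp hTc)

theorem prespectralSpace [PrespectralSpace X] : PrespectralSpace (Sob X) := by
  constructor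
  apply TopologicalSpace.isTopologicalBasis_of_isOpen_of_nhds
  · exact fun _ h => h.1
  · intro Z S hZS hS
    obtain ⟨U, hU, rfl⟩ := exists_eq_tilde hS
    obtain ⟨x, hx, hxU⟩ := mem_tilde.mp hZS
    obtain ⟨V, ⟨hVo, hVc⟩, hxV, hVU⟩ :=
      (PrespectralSpace.isTopologicalBasis (X := X)).exists_subset_of_mem_open hxU hU
    exact ⟨tilde V, ⟨isOpen_tilde hVo, (isCompact_tilde_iff hVo).mpr hVc⟩,
      mem_tilde.mpr ⟨x, hx, hxV⟩, tilde_mono hVU⟩

theorem spectralSpace [CompactSpace X] [PrespectralSpace X] [QuasiSeparatedSpace X] :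
    SpectralSpace (Sob X) :=
  { t0Space, compactSpace, quasiSober, quasiSeparatedSpace, prespectralSpace with }

theorem noetherianSpace [NoetherianSpace X] : NoetherianSpace (Sob X) := by
  rw [noetherianSpace_iff_opens]
  intro S
  obtain ⟨U, hU, hSU⟩ := exists_eq_tilde S.isOpen
  rw [hSU, isCompact_tilde_iff hU]
  exact NoetherianSpace.isCompact U

end Groth.Agent.H27.Sober
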