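import Mathlib.RingTheory.TensorProduct.Nontrivial
import Mathlib.RingTheory.Ideal.Over
import Mathlib.RingTheory.Localization.FractionRing
import Mathlib.RingTheory.Ideal.Maximal

/-!
# Primes of a tensor product lying over a compatible pair of primes
-/

set_option autoImplicit false
universe u

open scoped TensorProduct

namespace Groth.Agent.H27.TensorPrime

theorem comap_eq_of_field {R K T : Type*} [CommRing R] [Field K] [CommRing T] (I : Ideal R)
    (i : R →+* K) (hi : RingHom.ker i = I) (j : K →+* T) (M : Ideal T) (hM : M ≠ ⊤) :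
    M.comap (j.comp i) = I := by
  ext x
  rw [Ideal.mem_comap, RingHom.comp_apply, ← hi, RingHom.mem_ker]
  constructor
  · intro hx
    by_contra h0
    apply hM
    rw [Ideal.eq_top_iff_one]
    have : j (i x) * j (i x)⁻¹ = 1 := by
      rw [← map_mul, mul_inv_cancel₀ h0, map_one]
    rw [← this]
    exact M.mul_mem_right _ hx
  · intro hx
    rw [hx, map_zero]
    exact M.zero_mem

variable {A B C : Type u} [CommRing A] [CommRing B] [CommRing C] [Algebra A B] [Algebra A C]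

theorem exists_prime_aux (p : Ideal A) (𝔮 : Ideal B) (m : Ideal C) [p.IsPrime] [𝔮.IsPrime]
    [m.IsPrime] [𝔮.LiesOver p] [m.LiesOver p] :
    ∃ Q : Ideal (B ⊗[A] C), Q.IsPrime ∧ Q.comap (algebraMap B (B ⊗[A] C)) = 𝔮 ∧
      Q.comap (Algebra.TensorProduct.includeRight : C →ₐ[A] B ⊗[A] C).toRingHom = m := by
  let K := FractionRing (B ⧸ 𝔮)
  let L := FractionRing (C ⧸ m)
  have ha : Function.Injective (algebraMap (A ⧸ p) K) := by
    rw [IsScalarTower.algebraMap_eq (A ⧸ p) (B ⧸ 𝔮) K]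
    exact (IsFractionRing.injective (B ⧸ 𝔮) K).comp (FaithfulSMul.algebraMap_injective _ _)
  have hb : Function.Injective (algebraMap (A ⧸ p) L) := by
    rw [IsScalarTower.algebraMap_eq (A ⧸ p) (C ⧸ m) L]
    exact (IsFractionRing.injective (C ⧸ m) L).comp (FaithfulSMul.algebraMap_injective _ _)
  haveI : Nontrivial (K ⊗[A ⧸ p] L) :=
    Algebra.TensorProduct.nontrivial_of_algebraMap_injective_of_isDomain (A ⧸ p) K L ha hb
  obtain ⟨M, hM⟩ := Ideal.exists_maximal (K ⊗[A ⧸ p] L)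
  let iB : B →+* K := (algebraMap (B ⧸ 𝔮) K).comp (Ideal.Quotient.mk 𝔮)
  let iC : C →+* L := (algebraMap (C ⧸ m) L).comp (Ideal.Quotient.mk m)
  have hiB : RingHom.ker iB = 𝔮 := by
    ext x
    rw [RingHom.mem_ker, RingHom.comp_apply,
      (injective_iff_map_eq_zero' _).mp (IsFractionRing.injective (B ⧸ 𝔮) K),
      Ideal.Quotient.eq_zero_iff_mem]
  have hiC : RingHom.ker iC = m := by
    ext x
    rw [RingHom.mem_ker, RingHom.comp_apply,
      (injective_iff_map_eq_zero' _).mp (IsFractionRing.injective (C ⧸ m) L),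
      Ideal.Quotient.eq_zero_iff_mem]
  let jK : K →+* K ⊗[A ⧸ p] L := (Algebra.TensorProduct.includeLeft : K →ₐ[A ⧸ p] K ⊗[A ⧸ p] L).toRingHom
  let jL : L →+* K ⊗[A ⧸ p] L := (Algebra.TensorProduct.includeRight : L →ₐ[A ⧸ p] K ⊗[A ⧸ p] L).toRingHom
  let fB : B →+* K ⊗[A ⧸ p] L := jK.comp iB
  let fC : C →+* K ⊗[A ⧸ p] L := jL.comp iC
  have hcomm : ∀ a : A, fC (algebraMap A C a) = fB (algebraMap A B a) := by
    intro a
    change (1 : K) ⊗ₜ[A ⧸ p] (algebraMap (C ⧸ m) L (Ideal.Quotient.mk m (algebraMap A C a))) =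
      (algebraMap (B ⧸ 𝔮) K (Ideal.Quotient.mk 𝔮 (algebraMap A B a))) ⊗ₜ[A ⧸ p] (1 : L)
    have h1 : Ideal.Quotient.mk m (algebraMap A C a) =
        algebraMap (A ⧸ p) (C ⧸ m) (Ideal.Quotient.mk p a) := rfl
    have h2 : Ideal.Quotient.mk 𝔮 (algebraMap A B a) =
        algebraMap (A ⧸ p) (B ⧸ 𝔮) (Ideal.Quotient.mk p a) := rfl
    rw [h1, h2, ← IsScalarTower.algebraMap_apply, ← IsScalarTower.algebraMap_apply,
      Algebra.algebraMap_eq_smul_one, Algebra.algebraMap_eq_smul_one (A := K),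
      TensorProduct.smul_tmul]
  letI algT : Algebra A (K ⊗[A ⧸ p] L) := (fB.comp (algebraMap A B)).toAlgebra
  let gB : B →ₐ[A] K ⊗[A ⧸ p] L := { fB with commutes' := fun _ => rfl }
  let gC : C →ₐ[A] K ⊗[A ⧸ p] L := { fC with commutes' := fun a => hcomm a }
  let φ : B ⊗[A] C →ₐ[A] K ⊗[A ⧸ p] L :=
    Algebra.TensorProduct.productMap gB gC
  refine ⟨M.comap φ.toRingHom, Ideal.comap_isPrime _ _, ?_, ?_⟩
  · have h1 : φ.toRingHom.comp (algebraMap B (B ⊗[A] C)) = jK.comp iB := by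
      ext b
      change φ (b ⊗ₜ[A] (1 : C)) = fB b
      rw [Algebra.TensorProduct.productMap_apply_tmul, map_one, mul_one]
      rfl
    rw [Ideal.comap_comap, h1]
    exact comap_eq_of_field 𝔮 iB hiB jK M hM.ne_top
  · have h1 : φ.toRingHom.comp
        (Algebra.TensorProduct.includeRight : C →ₐ[A] B ⊗[A] C).toRingHom = jL.comp iC := by
      ext c
      change φ ((1 : B) ⊗ₜ[A] c) = fC c
      rw [Algebra.TensorProduct.productMap_apply_tmul, map_one, one_mul]
      rfl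
    rw [Ideal.comap_comap, h1]
    exact comap_eq_of_field m iC hiC jL M hM.ne_top

theorem exists_prime (𝔮 : Ideal B) [𝔮.IsPrime] (m : Ideal C) [m.IsPrime]
    (hpm : 𝔮.comap (algebraMap A B) = m.comap (algebraMap A C)) :
    ∃ Q : Ideal (B ⊗[A] C), Q.IsPrime ∧ Q.comap (algebraMap B (B ⊗[A] C)) = 𝔮 ∧
      Q.comap (Algebra.TensorProduct.includeRight : C →ₐ[A] B ⊗[A] C).toRingHom = m := by
  haveI : 𝔮.LiesOver (𝔮.comap (algebraMap A B)) := ⟨rfl⟩
  haveI : m.LiesOver (𝔮.comap (algebraMap A B)) := ⟨hpm⟩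
  exact exists_prime_aux (𝔮.comap (algebraMap A B)) 𝔮 m

end Groth.Agent.H27.TensorPrime
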