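import Mathlib

set_option autoImplicit false
universe u

namespace Groth.Agent.H27.TotalFrac

variable {R : Type u} [CommRing R]

/-- For distinct minimal primes `qi ≠ qj` there is `b ∉ qi` that vanishes in `R_{qj}`. -/
theorem exists_notMem_map_eq_zero {qi qj : Ideal R} [qi.IsPrime] [qj.IsPrime]
    (hi : qi ∈ minimalPrimes R) (hj : qj ∈ minimalPrimes R) (hne : qi ≠ qj) :
    ∃ b : R, b ∉ qi ∧ algebraMap R (Localization.AtPrime qj) b = 0 := by
  have hnle : ¬ qj ≤ qi := by
    intro hle
    exact hne (le_antisymm (hi.2 ⟨inferInstance, bot_le⟩ hle) hle)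
  obtain ⟨a, haj, hai⟩ := SetLike.not_le_iff_exists.mp hnle
  have hrad := IsLocalization.AtPrime.radical_map_of_mem_minimalPrimes
    (A := Localization.AtPrime qj) qj (⊥ : Ideal R) hj
  have hmem : algebraMap R (Localization.AtPrime qj) a ∈
      ((⊥ : Ideal R).map (algebraMap R (Localization.AtPrime qj))).radical := by
    rw [hrad]
    exact Ideal.mem_map_of_mem _ haj
  rw [Ideal.map_bot] at hmem
  obtain ⟨N, hN⟩ := hmem
  rw [Ideal.mem_bot, ← map_pow] at hN
  exact ⟨a ^ N, fun h => hai (Ideal.IsPrime.mem_of_pow_mem inferInstance N h), hN⟩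

/-- Stacks 02LX: if `R` has finitely many minimal primes `q i` whose union is the set of
zerodivisors, then `∏ R_{q i}` is the total ring of fractions. -/
theorem isLocalization_pi_atPrime {ι : Type} [Fintype ι] (q : ι → Ideal R) [∀ i, (q i).IsPrime]
    (hinj : Function.Injective q) (hmin : ∀ P : Ideal R, P ∈ minimalPrimes R ↔ P ∈ Set.range q)
    (hzd : ∀ x : R, x ∈ nonZeroDivisors R ↔ ∀ i, x ∉ q i) :
    IsLocalization (nonZeroDivisors R) (∀ i, Localization.AtPrime (q i)) := by
  classical
  have hqmin : ∀ i, q i ∈ minimalPrimes R := fun i => (hmin _).mpr ⟨i, rfl⟩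
  have hb : ∀ i j, i ≠ j → ∃ b : R, b ∉ q i ∧ algebraMap R (Localization.AtPrime (q j)) b = 0 :=
    fun i j hij => exists_notMem_map_eq_zero (hqmin i) (hqmin j) (fun h => hij (hinj h))
  choose b hb1 hb2 using hb
  let e : ι → R := fun i => ∏ j ∈ (Finset.univ.erase i).attach,
    b i j.1 (Finset.ne_of_mem_erase j.2).symm
  have he1 : ∀ i, e i ∉ q i := by
    intro i h
    obtain ⟨j, -, hj⟩ := (Ideal.IsPrime.prod_mem_iff (hp := inferInstance)).mp h
    exact hb1 i j.1 _ hj
  have he2 : ∀ i j, i ≠ j → algebraMap R (Localization.AtPrime (q j)) (e i) = 0 := by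
    intro i j hij
    rw [map_prod]
    exact Finset.prod_eq_zero (i := ⟨j, Finset.mem_erase.mpr ⟨hij.symm, Finset.mem_univ _⟩⟩)
      (Finset.mem_attach _ _) (hb2 i j _)
  have hsum : ∀ (t : ι → R) (i : ι), algebraMap R (Localization.AtPrime (q i)) (∑ k, e k * t k) =
      algebraMap R (Localization.AtPrime (q i)) (e i) *
        algebraMap R (Localization.AtPrime (q i)) (t i) := by
    intro t i
    rw [map_sum, Finset.sum_eq_single i]
    · rw [map_mul]
    · intro k _ hki
      rw [map_mul, he2 k i hki, zero_mul]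
    · intro h; exact absurd (Finset.mem_univ i) h
  have hnzd : ∀ t : ι → R, (∀ i, t i ∉ q i) → (∑ k, e k * t k) ∈ nonZeroDivisors R := by
    intro t ht
    rw [hzd]
    intro i hi
    have h1 : IsUnit (algebraMap R (Localization.AtPrime (q i)) (∑ k, e k * t k)) := by
      rw [hsum t i]
      exact ((IsLocalization.AtPrime.isUnit_to_map_iff _ (q i) _).mpr (he1 i)).mul
        ((IsLocalization.AtPrime.isUnit_to_map_iff _ (q i) _).mpr (ht i))
    exact (IsLocalization.AtPrime.isUnit_to_map_iff _ (q i) _).mp h1 hi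
  rw [isLocalization_iff]
  refine ⟨?_, ?_, ?_⟩
  · intro y
    rw [Pi.isUnit_iff]
    intro i
    exact (IsLocalization.AtPrime.isUnit_to_map_iff _ (q i) _).mpr ((hzd _).mp y.2 i)
  · intro z
    have hz : ∀ i, ∃ x : R × (q i).primeCompl, z i * algebraMap R (Localization.AtPrime (q i)) x.2 =
      algebraMap R (Localization.AtPrime (q i)) x.1 := fun i => IsLocalization.surj _ (z i)
    choose x hx using hz
    refine ⟨(∑ k, e k * (x k).1, ⟨∑ k, e k * ((x k).2 : R), hnzd _ fun i => (x i).2.2⟩), ?_⟩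
    funext i
    change z i * algebraMap R (Localization.AtPrime (q i)) (∑ k, e k * ((x k).2 : R)) =
      algebraMap R (Localization.AtPrime (q i)) (∑ k, e k * (x k).1)
    rw [hsum, hsum, ← hx i]
    ring
  · intro x y hxy
    have hc : ∀ i, ∃ c : (q i).primeCompl, (c : R) * x = c * y := by
      intro i
      exact IsLocalization.exists_of_eq (S := Localization.AtPrime (q i)) (congrFun hxy i)
    choose c hc using hc
    refine ⟨⟨∑ k, e k * (c k : R), hnzd _ fun i => (c i).2⟩, ?_⟩
    change (∑ k, e k * (c k : R)) * x = (∑ k, e k * (c k : R)) * y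
    rw [Finset.sum_mul, Finset.sum_mul]
    refine Finset.sum_congr rfl fun k _ => ?_
    rw [mul_assoc, mul_assoc, hc k]

end Groth.Agent.H27.TotalFrac
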