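import Mathlib

/-!
# Traces of elements of a finite projective algebra after base change

If `B` is a finite projective `A`-module, `L` is the base change of `B` along `A → K`
(finite free over `K`), then the `K`-traces of elements of `B` lie in the image of `A`.
-/

namespace Groth.Agent.H27.TraceFlat

open LinearMap

theorem trace_pi {R : Type*} [CommRing R] {n : ℕ} (f : (Fin n → R) →ₗ[R] (Fin n → R)) :
    LinearMap.trace R _ f = ∑ i, f (Pi.single i 1) i := by
  classical
  rw [LinearMap.trace_eq_matrix_trace R (Pi.basisFun R (Fin n)), Matrix.trace]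
  refine Finset.sum_congr rfl fun i _ => ?_
  simp [LinearMap.toMatrix_apply, Pi.basisFun_apply]

variable {A K B L : Type*} [CommRing A] [CommRing K] [CommRing B] [CommRing L]
  [Algebra A K] [Algebra A B] [Algebra B L] [Algebra K L] [Algebra A L]
  [IsScalarTower A K L] [IsScalarTower A B L]

theorem trace_mem_range [Module.Finite A B] [Module.Projective A B] [Module.Free K L]
    [Module.Finite K L]
    (hbc : IsBaseChange K (IsScalarTower.toAlgHom A B L).toLinearMap) (b : B) :
    Algebra.trace K L (algebraMap B L b) ∈ (algebraMap A K).range := by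
  classical
  obtain ⟨n, π, hπ⟩ := Module.Finite.exists_fin' A B
  obtain ⟨ι, hι⟩ := Module.projective_lifting_property π LinearMap.id hπ
  have hι' : ∀ x, π (ι x) = x := fun x => LinearMap.congr_fun hι x
  set g : B →ₗ[A] L := (IsScalarTower.toAlgHom A B L).toLinearMap with hg
  have hgmul : ∀ x y, g (x * y) = g x * g y := fun x y => map_mul (algebraMap B L) x y
  have hgb : ∀ x, g x = algebraMap B L x := fun x => rfl
  let c : (Fin n → A) →ₗ[A] (Fin n → K) := (Algebra.linearMap A K).compLeft (Fin n)
  have hF : IsBaseChange K c := IsBaseChange.finitePow (Fin n) (IsBaseChange.linearMap A K)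
  have hc : ∀ v i, c v i = algebraMap A K (v i) := fun v i => rfl
  let ιK : L →ₗ[K] (Fin n → K) := hbc.lift (c ∘ₗ ι)
  have hιK : ∀ x, ιK (g x) = c (ι x) := fun x => hbc.lift_eq _ x
  let πK : (Fin n → K) →ₗ[K] L := hF.lift (g ∘ₗ π)
  have hπK : ∀ v, πK (c v) = g (π v) := fun v => hF.lift_eq _ v
  let φ : (Fin n → A) →ₗ[A] (Fin n → A) := ι ∘ₗ (LinearMap.mulLeft A b) ∘ₗ π
  have hφ : ∀ v, φ v = ι (b * π v) := fun v => rfl
  let φK : (Fin n → K) →ₗ[K] (Fin n → K) := hF.lift (c ∘ₗ φ)
  have hφK : ∀ v, φK (c v) = c (φ v) := fun v => hF.lift_eq _ v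
  have h1 : πK ∘ₗ ιK = LinearMap.id := by
    apply hbc.algHom_ext
    intro x
    rw [LinearMap.comp_apply, hιK, hπK, hι', LinearMap.id_apply]
  have h2 : (ιK ∘ₗ LinearMap.mulLeft K (algebraMap B L b)) ∘ₗ πK = φK := by
    apply hF.algHom_ext
    intro v
    rw [LinearMap.comp_apply, LinearMap.comp_apply, hπK, LinearMap.mulLeft_apply, ← hgb, ← hgmul,
      hιK, hφK, hφ]
  have h3 : Algebra.trace K L (algebraMap B L b) = LinearMap.trace K _ φK := by
    rw [Algebra.trace_apply, ← h2, ← LinearMap.trace_comp_comm', ← LinearMap.comp_assoc, h1,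
      LinearMap.id_comp]
    rfl
  have hsingle : ∀ i : Fin n, c (Pi.single i 1) = Pi.single i 1 := by
    intro i
    ext j
    rw [hc]
    by_cases hij : j = i
    · subst hij; simp
    · simp [Pi.single_eq_of_ne hij]
  refine ⟨LinearMap.trace A _ φ, ?_⟩
  rw [h3, trace_pi, trace_pi, map_sum]
  refine Finset.sum_congr rfl fun i _ => ?_
  rw [← hsingle i, hφK, hc]

end Groth.Agent.H27.TraceFlat
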