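import Mathlib

/-!
# Models of unramified algebras over finite type `ℤ`-algebras

A Jacobian-style criterion for vanishing of Kähler differentials in terms of generators:
`Ω[S⁄R] = 0` iff for every generator `xᵢ` there is `fᵢ` in the kernel with
`∂fᵢ/∂xⱼ ≡ δᵢⱼ` modulo the kernel.  Using it we descend (formally) unramified algebras
to finite type `ℤ`-subalgebras of the base.
-/

namespace Groth.Agent.H27.UnramModel

open MvPolynomial KaehlerDifferential TensorProduct

universe u

section criterion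

variable {R S ι : Type*} [CommRing R] [CommRing S] [Algebra R S]

theorem subsingleton_kaehler_of_exists [DecidableEq ι] (P : Algebra.Generators R S ι)
    (h : ∀ i, ∃ f ∈ P.ker, ∀ j, aeval P.val (pderiv j f) = if j = i then 1 else 0) :
    Subsingleton Ω[S⁄R] := by
  have hzero : P.toExtension.toKaehler = 0 := by
    apply P.cotangentSpaceBasis.ext
    intro i
    obtain ⟨f, hf, hfj⟩ := h i
    have : P.cotangentSpaceBasis i =
        P.toExtension.cotangentComplex (Algebra.Extension.Cotangent.mk ⟨f, hf⟩) := by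
      apply P.cotangentSpaceBasis.repr.injective
      ext j
      rw [Algebra.Extension.cotangentComplex_mk, P.cotangentSpaceBasis_repr_one_tmul, hfj]
      simp [Finsupp.single_apply, eq_comm]
    rw [this]
    exact P.toExtension.exact_cotangentComplex_toKaehler.apply_apply_eq_zero _
  constructor
  intro a b
  obtain ⟨a', rfl⟩ := P.toExtension.toKaehler_surjective a
  obtain ⟨b', rfl⟩ := P.toExtension.toKaehler_surjective b
  simp [hzero]

theorem exists_of_subsingleton_kaehler [DecidableEq ι] (P : Algebra.Generators R S ι)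
    [Subsingleton Ω[S⁄R]] (i : ι) :
    ∃ f ∈ P.ker, ∀ j, aeval P.val (pderiv j f) = if j = i then 1 else 0 := by
  have hex := P.toExtension.exact_cotangentComplex_toKaehler
  obtain ⟨c, hc⟩ := (hex (P.cotangentSpaceBasis i)).mp (Subsingleton.elim _ _)
  obtain ⟨⟨f, hf⟩, rfl⟩ := Algebra.Extension.Cotangent.mk_surjective c
  refine ⟨f, hf, fun j => ?_⟩
  have := congrArg (fun x => P.cotangentSpaceBasis.repr x j) hc
  simp only [Algebra.Extension.cotangentComplex_mk, P.cotangentSpaceBasis_repr_one_tmul] at this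
  rw [this]
  simp [Finsupp.single_apply, eq_comm]

/-- evaluation at the naive generators of a quotient is the quotient map -/
theorem aeval_naive {σ : Type*} (I : Ideal (MvPolynomial σ R)) (p : MvPolynomial σ R) :
    aeval (Algebra.Generators.naive (I := I)).val p = Ideal.Quotient.mk I p := by
  show _ = Ideal.Quotient.mkₐ R I p
  rw [aeval_unique (Ideal.Quotient.mkₐ R I)]
  rfl

/-- the criterion for a quotient of a polynomial ring -/
theorem subsingleton_kaehler_quotient {σ : Type*} [DecidableEq σ] (I : Ideal (MvPolynomial σ R))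
    (f : σ → MvPolynomial σ R) (hf : ∀ i, f i ∈ I)
    (hd : ∀ i j, pderiv j (f i) - C (if j = i then 1 else 0) ∈ I) :
    Subsingleton Ω[(MvPolynomial σ R ⧸ I)⁄R] := by
  refine subsingleton_kaehler_of_exists (Algebra.Generators.naive (I := I)) fun i => ?_
  refine ⟨f i, ?_, fun j => ?_⟩
  · rw [Algebra.Generators.ker_naive]; exact hf i
  · rw [aeval_naive]
    have := (Ideal.Quotient.eq (I := I)).mpr (hd i j)
    rw [this]
    split_ifs <;> simp

theorem surjective_of_val_mem_range {A : Type*} [Semiring A] [Algebra R A]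
    (P : Algebra.Generators R S ι) (ψ : A →ₐ[R] S) (h : ∀ i, P.val i ∈ ψ.range) :
    Function.Surjective ψ := by
  intro s
  obtain ⟨p, rfl⟩ := P.aeval_val_surjective s
  rw [← AlgHom.mem_range]
  induction p using MvPolynomial.induction_on with
  | C r => exact (AlgHom.mem_range ψ).mpr ⟨algebraMap R A r, by simp⟩
  | add p q hp hq => rw [map_add]; exact add_mem hp hq
  | mul_X p i hp => rw [map_mul, aeval_X]; exact mul_mem hp (h i)

end criterion

section models

variable {R S : Type u} [CommRing R] [CommRing S] [Algebra R S]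

theorem exists_lift_of_coeffs {ι : Type*} {T : Set R} (p : MvPolynomial ι R)
    (hp : (p.coeffs : Set R) ⊆ T) :
    ∃ p₀ : MvPolynomial ι (Algebra.adjoin ℤ T),
      MvPolynomial.map (algebraMap (Algebra.adjoin ℤ T) R) p₀ = p := by
  have : p ∈ Set.range (MvPolynomial.map (algebraMap (Algebra.adjoin ℤ T) R)) := by
    rw [MvPolynomial.mem_range_map_iff_coeffs_subset]
    exact fun x hx => ⟨⟨x, Algebra.subset_adjoin (hp hx)⟩, rfl⟩
  exact this

/-- finite presentation case: a model over a finite type `ℤ`-subalgebra -/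
theorem exists_model_of_presentation {ι σ : Type*} [Fintype ι] [Fintype σ] [DecidableEq ι]
    (P : Algebra.Presentation R S ι σ) [Algebra.FormallyUnramified R S] :
    ∃ (R₁ : Subalgebra ℤ R) (_ : P.HasCoeffs R₁), Algebra.FiniteType ℤ R₁ ∧
      Algebra.FormallyUnramified R₁ (P.ModelOfHasCoeffs R₁) := by
  choose f hfker hfd using exists_of_subsingleton_kaehler P.toGenerators
  have hker : ∀ p : MvPolynomial ι R, p ∈ P.ker → ∃ c : σ → MvPolynomial ι R,
      p = ∑ j, c j * P.relation j := by
    intro p hp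
    rw [← P.span_range_relation_eq_ker] at hp
    obtain ⟨c, hc⟩ := (Ideal.mem_span_range_iff_exists_fun).mp hp
    exact ⟨c, hc.symm⟩
  choose a ha using fun i => hker (f i) (hfker i)
  have hh : ∀ i j, pderiv j (f i) - C (if j = i then 1 else 0) ∈ P.ker := by
    intro i j
    rw [Algebra.Generators.ker_eq_ker_aeval_val, RingHom.mem_ker]
    simp only [map_sub, hfd, aeval_C]
    split_ifs <;> simp
  choose b hb using fun i j => hker _ (hh i j)
  let T : Set R := P.coeffs ∪ (⋃ i, ⋃ k, ((a i k).coeffs : Set R)) ∪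
    (⋃ i, ⋃ j, ⋃ k, ((b i j k).coeffs : Set R))
  have hT : T.Finite := by
    refine Set.Finite.union (Set.Finite.union P.finite_coeffs ?_) ?_
    · exact Set.finite_iUnion fun _ => Set.finite_iUnion fun _ => Finset.finite_toSet _
    · exact Set.finite_iUnion fun _ => Set.finite_iUnion fun _ => Set.finite_iUnion fun _ =>
        Finset.finite_toSet _
  let R₁ : Subalgebra ℤ R := Algebra.adjoin ℤ T
  have hft : Algebra.FiniteType ℤ R₁ := .adjoin_of_finite hT
  have hrange : ∀ x ∈ T, x ∈ Set.range (algebraMap R₁ R) := fun x hx =>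
    ⟨⟨x, Algebra.subset_adjoin hx⟩, rfl⟩
  have hc : P.HasCoeffs R₁ := ⟨fun x hx => hrange x (by
    simp only [T, Set.mem_union]; exact Or.inl (Or.inl hx))⟩
  refine ⟨R₁, hc, hft, ?_⟩
  have hφ : Function.Injective (algebraMap R₁ R) := FaithfulSMul.algebraMap_injective R₁ R
  choose a₀ ha₀ using fun i k => exists_lift_of_coeffs (T := T) (a i k) (fun x hx => by
    simp only [T, Set.mem_union, Set.mem_iUnion]
    exact Or.inl (Or.inr ⟨i, k, hx⟩))
  choose b₀ hb₀ using fun i j k => exists_lift_of_coeffs (T := T) (b i j k) (fun x hx => by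
    simp only [T, Set.mem_union, Set.mem_iUnion]
    exact Or.inr ⟨i, j, k, hx⟩)
  set φ := algebraMap R₁ R with hφdef
  have hrel : ∀ j, MvPolynomial.map φ (P.relationOfHasCoeffs R₁ j) = P.relation j :=
    fun j => P.map_relationOfHasCoeffs R₁ j
  let f₀ : ι → MvPolynomial ι R₁ := fun i => ∑ k, a₀ i k * P.relationOfHasCoeffs R₁ k
  have hf₀ : ∀ i, MvPolynomial.map φ (f₀ i) = f i := by
    intro i
    rw [ha i, map_sum]
    refine Finset.sum_congr rfl fun k _ => ?_
    rw [map_mul, ha₀, hrel]
  have hsum_mem : ∀ (g : σ → MvPolynomial ι R₁), ∑ l, g l * P.relationOfHasCoeffs R₁ l ∈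
      Ideal.span (Set.range (P.relationOfHasCoeffs R₁)) :=
    fun g => Ideal.sum_mem _ fun l _ => Ideal.mul_mem_left _ _ (Ideal.subset_span ⟨l, rfl⟩)
  have hd₀ : ∀ i j, pderiv j (f₀ i) - C (if j = i then 1 else 0) =
      ∑ k, b₀ i j k * P.relationOfHasCoeffs R₁ k := by
    intro i j
    apply MvPolynomial.map_injective φ hφ
    rw [map_sub, ← pderiv_map, hf₀, map_C, map_sum]
    have : φ (if j = i then 1 else 0) = if j = i then 1 else 0 := by split_ifs <;> simp
    rw [this, hb]
    refine Finset.sum_congr rfl fun k _ => ?_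
    rw [map_mul, hb₀, hrel]
  exact ⟨subsingleton_kaehler_quotient _ f₀ (fun i => hsum_mem _)
    (fun i j => by rw [hd₀]; exact hsum_mem _)⟩

/-- finite type case: an unramified model surjecting onto `S` after base change -/
theorem exists_model_of_generators {n : ℕ} (P : Algebra.Generators R S (Fin n))
    [Algebra.FormallyUnramified R S] :
    ∃ (R₁ : Subalgebra ℤ R) (I₀ : Ideal (MvPolynomial (Fin n) R₁)), Algebra.FiniteType ℤ R₁ ∧
      Algebra.FormallyUnramified R₁ (MvPolynomial (Fin n) R₁ ⧸ I₀) ∧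
      ∃ ψ : R ⊗[R₁] (MvPolynomial (Fin n) R₁ ⧸ I₀) →ₐ[R] S, Function.Surjective ψ := by
  choose f hfker hfd using exists_of_subsingleton_kaehler P
  let T : Set R := ⋃ i, ((f i).coeffs : Set R)
  have hT : T.Finite := Set.finite_iUnion fun _ => Finset.finite_toSet _
  let R₁ : Subalgebra ℤ R := Algebra.adjoin ℤ T
  have hft : Algebra.FiniteType ℤ R₁ := .adjoin_of_finite hT
  choose f₀ hf₀ using fun i => exists_lift_of_coeffs (T := T) (f i) (fun x hx => by
    simp only [T, Set.mem_iUnion]
    exact ⟨i, hx⟩)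
  set φ := algebraMap R₁ R with hφdef
  let h₀ : Fin n → Fin n → MvPolynomial (Fin n) R₁ :=
    fun i j => pderiv j (f₀ i) - C (if j = i then 1 else 0)
  let I₀ : Ideal (MvPolynomial (Fin n) R₁) :=
    Ideal.span (Set.range f₀ ∪ Set.range (fun p : Fin n × Fin n => h₀ p.1 p.2))
  have hunr : Algebra.FormallyUnramified R₁ (MvPolynomial (Fin n) R₁ ⧸ I₀) :=
    ⟨subsingleton_kaehler_quotient I₀ f₀ (fun i => Ideal.subset_span (Or.inl ⟨i, rfl⟩))
      (fun i j => Ideal.subset_span (Or.inr ⟨(i, j), rfl⟩))⟩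
  refine ⟨R₁, I₀, hft, hunr, ?_⟩
  have hev : ∀ p : MvPolynomial (Fin n) R₁,
      aeval P.val p = aeval P.val (MvPolynomial.map φ p) := fun p =>
    (MvPolynomial.aeval_map_algebraMap R P.val p).symm
  have hkill : ∀ p ∈ I₀, (aeval P.val : MvPolynomial (Fin n) R₁ →ₐ[R₁] S) p = 0 := by
    intro p hp
    have hle : I₀ ≤ RingHom.ker (aeval P.val : MvPolynomial (Fin n) R₁ →ₐ[R₁] S).toRingHom := by
      rw [Ideal.span_le]
      rintro _ (⟨i, rfl⟩ | ⟨⟨i, j⟩, rfl⟩)
      · show (aeval P.val : MvPolynomial (Fin n) R₁ →ₐ[R₁] S) (f₀ i) = 0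
        rw [hev, hf₀]
        exact P.aeval_val_eq_zero (hfker i)
      · show (aeval P.val : MvPolynomial (Fin n) R₁ →ₐ[R₁] S) (h₀ i j) = 0
        rw [hev]
        simp only [h₀, map_sub, ← pderiv_map, hf₀, map_C, hfd, aeval_C]
        split_ifs <;> simp
    exact hle hp
  let φ₀ : (MvPolynomial (Fin n) R₁ ⧸ I₀) →ₐ[R₁] S := Ideal.Quotient.liftₐ I₀ (aeval P.val) hkill
  let ψ : R ⊗[R₁] (MvPolynomial (Fin n) R₁ ⧸ I₀) →ₐ[R] S :=
    Algebra.TensorProduct.lift (Algebra.ofId R S) φ₀ (fun _ _ => Commute.all _ _)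
  have hψ2 : ∀ i, ψ ((1 : R) ⊗ₜ[R₁] (Ideal.Quotient.mk I₀ (X i))) = P.val i := by
    intro i
    rw [Algebra.TensorProduct.lift_tmul, map_one, one_mul]
    show (aeval P.val : MvPolynomial (Fin n) R₁ →ₐ[R₁] S) (X i) = P.val i
    exact aeval_X _ _
  exact ⟨ψ, surjective_of_val_mem_range P ψ fun i => (AlgHom.mem_range ψ).mpr ⟨_, hψ2 i⟩⟩

end models

end Groth.Agent.H27.UnramModel
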