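import Groth.Agent.H27.WLocal

/-!
# Ring maps between w-local rings identifying local rings
-/

namespace Groth.Agent.H27.WLocalRing

open PrimeSpectrum Topology

universe u

variable {A B : Type u} [CommRing A] [CommRing B] [Algebra A B]

theorem main
    (h1 : ∀ q : PrimeSpectrum B, Function.Bijective
      (Localization.localRingHom (q.asIdeal.comap (algebraMap A B)) q.asIdeal (algebraMap A B) rfl))
    (hA0 : IsClosed {x : PrimeSpectrum A | IsClosed ({x} : Set (PrimeSpectrum A))})
    (hAu : ∀ x : PrimeSpectrum A, ∃! y : PrimeSpectrum A,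
      IsClosed ({y} : Set (PrimeSpectrum A)) ∧ x ⤳ y)
    (hB0 : IsClosed {x : PrimeSpectrum B | IsClosed ({x} : Set (PrimeSpectrum B))})
    (hBu : ∀ x : PrimeSpectrum B, ∃! y : PrimeSpectrum B,
      IsClosed ({y} : Set (PrimeSpectrum B)) ∧ x ⤳ y)
    (h4 : ∀ x : PrimeSpectrum B, IsClosed ({x} : Set (PrimeSpectrum B)) →
      IsClosed ({PrimeSpectrum.comap (algebraMap A B) x} : Set (PrimeSpectrum A)))
    (h5 : Function.Bijective
      (PrimeSpectrum.continuous_comap (algebraMap A B)).connectedComponentsMap) :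
    Function.Bijective (algebraMap A B) := by
  have cA := WLocal.bijective_of_unique_specialization (PrimeSpectrum A) hA0 hAu
  have cB := WLocal.bijective_of_unique_specialization (PrimeSpectrum B) hB0 hBu
  set f := PrimeSpectrum.comap (algebraMap A B) with hf
  have hcont := PrimeSpectrum.continuous_comap (algebraMap A B)
  -- (1a) every closed point of `A` is the image of a closed point of `B`
  have h1a : ∀ m' : PrimeSpectrum A, IsClosed ({m'} : Set (PrimeSpectrum A)) →
      ∃ m : PrimeSpectrum B, IsClosed ({m} : Set (PrimeSpectrum B)) ∧ f m = m' := by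
    intro m' hm'
    obtain ⟨c, hc⟩ := h5.2 (ConnectedComponents.mk m')
    obtain ⟨⟨m, hm⟩, rfl⟩ := cB.2 c
    refine ⟨m, hm, ?_⟩
    have e : ConnectedComponents.mk (f m) = ConnectedComponents.mk m' := by
      rw [← hc]
      exact (hcont.connectedComponentsMap_mk m).symm
    have := cA.1 (a₁ := ⟨f m, h4 m hm⟩) (a₂ := ⟨m', hm'⟩) e
    exact congrArg Subtype.val this
  -- (1b) injectivity on closed points
  have h1b : ∀ m1 m2 : PrimeSpectrum B, IsClosed ({m1} : Set (PrimeSpectrum B)) →
      IsClosed ({m2} : Set (PrimeSpectrum B)) → f m1 = f m2 → m1 = m2 := by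
    intro m1 m2 hm1 hm2 h
    have e : hcont.connectedComponentsMap (ConnectedComponents.mk m1) =
        hcont.connectedComponentsMap (ConnectedComponents.mk m2) := by
      rw [hcont.connectedComponentsMap_mk, hcont.connectedComponentsMap_mk]
      exact congrArg _ h
    have := cB.1 (a₁ := ⟨m1, hm1⟩) (a₂ := ⟨m2, hm2⟩) (h5.1 e)
    exact congrArg Subtype.val this
  -- (2) primes over generizations of `m'` lie under `m`
  have h2 : ∀ (q m : PrimeSpectrum B), IsClosed ({m} : Set (PrimeSpectrum B)) →
      f q ≤ f m → q ≤ m := by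
    intro q m hm hq
    obtain ⟨M, hM, hqM⟩ := Ideal.exists_le_maximal q.asIdeal q.2.ne_top
    let mq : PrimeSpectrum B := ⟨M, hM.isPrime⟩
    have hmq : IsClosed ({mq} : Set (PrimeSpectrum B)) :=
      (PrimeSpectrum.isClosed_singleton_iff_isMaximal mq).2 hM
    have hqmq : q ≤ mq := hqM
    have hle : f q ≤ f mq := Ideal.comap_mono hqM
    have e : f mq = f m :=
      (hAu (f q)).unique ⟨h4 mq hmq, (PrimeSpectrum.le_iff_specializes _ _).1 hle⟩
        ⟨h4 m hm, (PrimeSpectrum.le_iff_specializes _ _).1 hq⟩
    rw [← h1b mq m hmq hm e]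
    exact hqmq
  constructor
  · -- injectivity
    rw [injective_iff_map_eq_zero]
    intro a ha
    by_contra hane
    have hann : (Ideal.span {a}).annihilator ≠ ⊤ := by
      intro h
      have h1 : (1 : A) ∈ (Ideal.span {a}).annihilator := h ▸ Submodule.mem_top
      rw [Submodule.mem_annihilator_span_singleton] at h1
      exact hane (by simpa using h1)
    obtain ⟨M', hM', hle⟩ := Ideal.exists_le_maximal _ hann
    let m' : PrimeSpectrum A := ⟨M', hM'.isPrime⟩
    have hm' : IsClosed ({m'} : Set (PrimeSpectrum A)) :=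
      (PrimeSpectrum.isClosed_singleton_iff_isMaximal m').2 hM'
    obtain ⟨m, hm, hmm'⟩ := h1a m' hm'
    have hbij := h1 m
    have hz : Localization.localRingHom (m.asIdeal.comap (algebraMap A B)) m.asIdeal
        (algebraMap A B) rfl (algebraMap A _ a) = 0 := by
      rw [Localization.localRingHom_to_map, ha, map_zero]
    have hz' : algebraMap A (Localization.AtPrime (m.asIdeal.comap (algebraMap A B))) a = 0 :=
      hbij.1 (by rw [hz, map_zero])
    rw [IsLocalization.map_eq_zero_iff (m.asIdeal.comap (algebraMap A B)).primeCompl] at hz'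
    obtain ⟨s, hs⟩ := hz'
    have hsM : (s : A) ∈ M' := by
      apply hle
      rw [Submodule.mem_annihilator_span_singleton]
      exact hs
    have : (s : A) ∉ (f m).asIdeal := s.2
    rw [hmm'] at this
    exact this hsM
  · -- surjectivity
    intro b
    let I : Ideal A :=
      { carrier := {a | ∃ a', algebraMap A B a' = a • b}
        add_mem' := by
          rintro x y ⟨x', hx⟩ ⟨y', hy⟩
          exact ⟨x' + y', by rw [map_add, hx, hy, add_smul]⟩
        zero_mem' := ⟨0, by simp⟩
        smul_mem' := by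
          rintro c x ⟨x', hx⟩
          exact ⟨c * x', by rw [map_mul, hx, smul_eq_mul, mul_smul, Algebra.smul_def c]⟩ }
    by_cases hI : I = ⊤
    · have h1 : (1 : A) ∈ I := hI ▸ Submodule.mem_top
      obtain ⟨a', ha'⟩ := h1
      exact ⟨a', by rw [ha', one_smul]⟩
    exfalso
    obtain ⟨M', hM', hle⟩ := Ideal.exists_le_maximal _ hI
    let m' : PrimeSpectrum A := ⟨M', hM'.isPrime⟩
    have hm' : IsClosed ({m'} : Set (PrimeSpectrum A)) :=
      (PrimeSpectrum.isClosed_singleton_iff_isMaximal m').2 hM'
    obtain ⟨m, hm, hmm'⟩ := h1a m' hm'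
    have hbij := h1 m
    obtain ⟨x, hx⟩ := hbij.2 (algebraMap B _ b)
    obtain ⟨a, s, rfl⟩ := IsLocalization.exists_mk'_eq
      (m.asIdeal.comap (algebraMap A B)).primeCompl x
    rw [Localization.localRingHom_mk', IsLocalization.mk'_eq_iff_eq_mul,
      ← map_mul, IsLocalization.eq_iff_exists m.asIdeal.primeCompl] at hx
    obtain ⟨t, ht⟩ := hx
    -- `t` becomes a unit after inverting `A \ m'`
    have hs' : ∃ (t' : B) (s' : A), s' ∉ M' ∧ t' * (t : B) = algebraMap A B s' := by
      by_contra hcon
      push Not at hcon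
      let S : Submonoid B := Submonoid.map (algebraMap A B : A →* B) M'.primeCompl
      have hdisj : Disjoint ((Ideal.span {(t : B)} : Ideal B) : Set B) (S : Set B) := by
        rw [Set.disjoint_iff]
        rintro y ⟨hy1, hy2⟩
        obtain ⟨t', rfl⟩ := Ideal.mem_span_singleton'.1 hy1
        obtain ⟨s', hs'1, hs'2⟩ := hy2
        exact hcon t' s' hs'1 hs'2.symm
      obtain ⟨p, hp, hJp, hpS⟩ := Ideal.exists_le_prime_disjoint _ S hdisj
      let q : PrimeSpectrum B := ⟨p, hp⟩
      have hq : f q ≤ f m := by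
        rw [hmm']
        intro a ha
        by_contra haM
        exact Set.disjoint_iff.1 hpS ⟨ha, ⟨a, haM, rfl⟩⟩
      have hqm : q ≤ m := h2 q m hm hq
      exact t.2 (hqm (hJp (Ideal.mem_span_singleton_self _)))
    obtain ⟨t', s', hs'M, hts'⟩ := hs'
    have hsM : (s : A) ∉ M' := by
      have : (s : A) ∉ (f m).asIdeal := s.2
      rwa [hmm'] at this
    have hmem : s' * (s : A) ∈ I := by
      refine ⟨s' * a, ?_⟩
      rw [map_mul, ← hts', Algebra.smul_def, map_mul, ← hts']
      calc t' * (t : B) * algebraMap A B a = t' * ((t : B) * algebraMap A B a) := by ring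
        _ = t' * ((t : B) * (b * algebraMap A B s)) := by rw [ht]
        _ = t' * (t : B) * algebraMap A B s * b := by ring
    exact (hM'.isPrime.mem_or_mem (hle hmem)).elim hs'M hsM

end Groth.Agent.H27.WLocalRing
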