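import Groth.Agent.H27.WLocRetract
import Groth.Agent.H27.IndZarQuot
import Groth.Agent.H27.WLocalRing

/-!
# Rings all of whose faithfully flat ind-Zariski algebras have retractions (⇐ direction)
-/

set_option autoImplicit false
universe u

namespace Groth.Agent.H27.Adm

open Groth.Agent.H27.WLocal

section Top

variable {X' X : Type u} [TopologicalSpace X'] [TopologicalSpace X] [SpectralSpace X']
  [SpectralSpace X]

/-- the topological heart: a closed set of components of `X'` whose closed points map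
bijectively onto the components of `X` -/
theorem exists_closed_section (hX' : ProEtW.IsWLocal X') (hX : ProEtW.IsWLocal X)
    (hed : ExtremallyDisconnected (_root_.ConnectedComponents X))
    (q : X' → X) (hq : Continuous q)
    (hs : ∀ x : X, IsClosed ({x} : Set X) → ∃ z : X', IsClosed ({z} : Set X') ∧ q z = x) :
    ∃ T'' : Set (_root_.ConnectedComponents X'), IsClosed T'' ∧
      (∀ z : X', IsClosed ({z} : Set X') → _root_.ConnectedComponents.mk z ∈ T'' →
        IsClosed ({q z} : Set X)) ∧
      (∀ a : _root_.ConnectedComponents X, ∃ z : X', IsClosed ({z} : Set X') ∧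
        _root_.ConnectedComponents.mk z ∈ T'' ∧ _root_.ConnectedComponents.mk (q z) = a) ∧
      (∀ z₁ z₂ : X', IsClosed ({z₁} : Set X') → IsClosed ({z₂} : Set X') →
        _root_.ConnectedComponents.mk z₁ ∈ T'' → _root_.ConnectedComponents.mk z₂ ∈ T'' →
        (_root_.ConnectedComponents.mk (q z₁) : _root_.ConnectedComponents X) =
          _root_.ConnectedComponents.mk (q z₂) → z₁ = z₂) := by
  haveI : T2Space (_root_.ConnectedComponents X') :=
    Groth.Agent.H4.SpectralCC.t2Space_connectedComponents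
  haveI : T2Space (_root_.ConnectedComponents X) :=
    Groth.Agent.H4.SpectralCC.t2Space_connectedComponents
  have hinj' := (bijective_of_unique_specialization X' hX'.2.1 hX'.2.2).1
  -- closed points in the same component agree
  have hinj : ∀ z₁ z₂ : X', IsClosed ({z₁} : Set X') → IsClosed ({z₂} : Set X') →
      (_root_.ConnectedComponents.mk z₁ : _root_.ConnectedComponents X') =
        _root_.ConnectedComponents.mk z₂ → z₁ = z₂ := by
    intro z₁ z₂ h1 h2 h
    have := @hinj' ⟨z₁, h1⟩ ⟨z₂, h2⟩ h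
    exact congrArg Subtype.val this
  set K : Set X' := {z | IsClosed ({z} : Set X')} ∩ q ⁻¹' {x | IsClosed ({x} : Set X)} with hK
  have hKcl : IsClosed K := hX'.2.1.inter (hX.2.1.preimage hq)
  set T' : Set (_root_.ConnectedComponents X') := _root_.ConnectedComponents.mk '' K with hT'
  have hT'cl : IsClosed T' :=
    (hKcl.isCompact.image ConnectedComponents.continuous_coe).isClosed
  have hqbar : Continuous hq.connectedComponentsMap := hq.connectedComponentsMap_continuous
  -- the surjection from `T'`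
  let p : T' → _root_.ConnectedComponents X := fun c => hq.connectedComponentsMap c.1
  have hp : Continuous p := hqbar.comp continuous_subtype_val
  have hpsurj : Function.Surjective p := by
    intro a
    obtain ⟨⟨x, hx⟩, rfl⟩ := surjective_closedPoints (X := X) a
    obtain ⟨z, hz, rfl⟩ := hs x hx
    exact ⟨⟨_root_.ConnectedComponents.mk z, ⟨z, ⟨hz, hx⟩, rfl⟩⟩, rfl⟩
  haveI : CompactSpace T' := isCompact_iff_compactSpace.mp hT'cl.isCompact
  have hproj : CompactT2.Projective (_root_.ConnectedComponents X) :=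
    CompactT2.ExtremallyDisconnected.projective
  obtain ⟨σ, hσ, hσp⟩ := hproj (continuous_id) hp hpsurj
  have hσp' : ∀ a, hq.connectedComponentsMap (σ a).1 = a := fun a => congrFun hσp a
  set T'' : Set (_root_.ConnectedComponents X') := Set.range (fun a => (σ a).1) with hT''
  have hT''cl : IsClosed T'' :=
    (isCompact_range (continuous_subtype_val.comp hσ)).isClosed
  have hmem : ∀ z : X', IsClosed ({z} : Set X') → _root_.ConnectedComponents.mk z ∈ T'' →
      z ∈ K ∧ ∃ a, (σ a).1 = _root_.ConnectedComponents.mk z := by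
    rintro z hz ⟨a, ha⟩
    obtain ⟨k, hk, hka⟩ := (σ a).2
    have : k = z := hinj k z hk.1 hz (hka.trans ha)
    exact ⟨this ▸ hk, a, ha⟩
  refine ⟨T'', hT''cl, ?_, ?_, ?_⟩
  · intro z hz hzT
    exact (hmem z hz hzT).1.2
  · intro a
    obtain ⟨k, hk, hka⟩ := (σ a).2
    refine ⟨k, hk.1, ⟨a, hka.symm⟩, ?_⟩
    have := hσp' a
    rw [← hka] at this
    exact this
  · intro z₁ z₂ h1 h2 hT1 hT2 h
    obtain ⟨-, a₁, ha₁⟩ := hmem z₁ h1 hT1
    obtain ⟨-, a₂, ha₂⟩ := hmem z₂ h2 hT2
    have e1 : a₁ = _root_.ConnectedComponents.mk (q z₁) := by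
      rw [← hσp' a₁, ha₁]; rfl
    have e2 : a₂ = _root_.ConnectedComponents.mk (q z₂) := by
      rw [← hσp' a₂, ha₂]; rfl
    have : a₁ = a₂ := by rw [e1, e2, h]
    apply hinj z₁ z₂ h1 h2
    rw [← ha₁, ← ha₂, this]

omit [SpectralSpace X'] [SpectralSpace X] in
/-- consequences for a closed subspace realizing the union of the chosen components -/
theorem bijective_of_closed_section {Y : Type u} [TopologicalSpace Y] [SpectralSpace Y]
    (q : X' → X) {T'' : Set (_root_.ConnectedComponents X')}
    (h2 : ∀ a : _root_.ConnectedComponents X, ∃ z : X', IsClosed ({z} : Set X') ∧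
        _root_.ConnectedComponents.mk z ∈ T'' ∧ _root_.ConnectedComponents.mk (q z) = a)
    (h3 : ∀ z₁ z₂ : X', IsClosed ({z₁} : Set X') → IsClosed ({z₂} : Set X') →
        _root_.ConnectedComponents.mk z₁ ∈ T'' → _root_.ConnectedComponents.mk z₂ ∈ T'' →
        (_root_.ConnectedComponents.mk (q z₁) : _root_.ConnectedComponents X) =
          _root_.ConnectedComponents.mk (q z₂) → z₁ = z₂)
    (j : Y → X') (hj : Topology.IsClosedEmbedding j)
    (hrange : Set.range j = _root_.ConnectedComponents.mk ⁻¹' T'')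
    (f : Y → X) (hf : Continuous f) (hfq : ∀ y, f y = q (j y)) :
    Function.Bijective hf.connectedComponentsMap := by
  have hclj : ∀ y : Y, IsClosed ({y} : Set Y) → IsClosed ({j y} : Set X') := by
    intro y hy
    have := hj.isClosedMap _ hy
    rwa [Set.image_singleton] at this
  have hjT : ∀ y : Y, _root_.ConnectedComponents.mk (j y) ∈ T'' := by
    intro y
    have : j y ∈ _root_.ConnectedComponents.mk ⁻¹' T'' := by
      rw [← hrange]; exact ⟨y, rfl⟩
    exact this
  constructor
  · intro c₁ c₂ h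
    obtain ⟨⟨y₁, hy₁⟩, rfl⟩ := surjective_closedPoints (X := Y) c₁
    obtain ⟨⟨y₂, hy₂⟩, rfl⟩ := surjective_closedPoints (X := Y) c₂
    have h' : (_root_.ConnectedComponents.mk (f y₁) : _root_.ConnectedComponents X) =
        _root_.ConnectedComponents.mk (f y₂) := h
    rw [hfq, hfq] at h'
    have := h3 (j y₁) (j y₂) (hclj y₁ hy₁) (hclj y₂ hy₂) (hjT y₁) (hjT y₂) h'
    have hyy : y₁ = y₂ := hj.injective this
    subst hyy
    rfl
  · intro a
    obtain ⟨z, -, hzT, hza⟩ := h2 a
    have : z ∈ Set.range j := by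
      rw [hrange]; exact hzT
    obtain ⟨y, rfl⟩ := this
    refine ⟨_root_.ConnectedComponents.mk y, ?_⟩
    change _root_.ConnectedComponents.mk (f y) = a
    rw [hfq, hza]

end Top

/-- **w-local rings with extremally disconnected `π₀` have ind-Zariski retractions** -/
theorem hasIndZariskiRetractions_of (A : Type u) [CommRing A]
    (hw : ProEtW.IsWLocal (PrimeSpectrum A))
    (hed : ExtremallyDisconnected (_root_.ConnectedComponents (PrimeSpectrum A))) :
    ProEtW.HasIndZariskiRetractions A := by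
  intro B _ _ hff hiz
  -- the w-localization of `B`
  letI algABw : Algebra A (R (⊥ : Ideal B)) :=
    ((algebraMap B (R (⊥ : Ideal B))).comp (algebraMap A B)).toAlgebra
  haveI towerABw : IsScalarTower A B (R (⊥ : Ideal B)) :=
    IsScalarTower.of_algebraMap_eq (R := A) (S := B) (A := R (⊥ : Ideal B)) (fun _ => rfl)
  have hq : Continuous (PrimeSpectrum.comap (algebraMap A (R (⊥ : Ideal B)))) :=
    PrimeSpectrum.continuous_comap _
  have hs : ∀ x : PrimeSpectrum A, IsClosed ({x} : Set (PrimeSpectrum A)) →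
      ∃ z : PrimeSpectrum (R (⊥ : Ideal B)), IsClosed ({z} : Set (PrimeSpectrum (R (⊥ : Ideal B)))) ∧
        PrimeSpectrum.comap (algebraMap A (R (⊥ : Ideal B))) z = x := by
    intro x _
    obtain ⟨𝔮, rfl⟩ := PrimeSpectrum.comap_surjective_of_faithfullyFlat (A := A) (B := B) x
    refine ⟨⟨maxAt ⊥ ⟨𝔮, bot_le⟩, inferInstance⟩, ?_, ?_⟩
    · rw [PrimeSpectrum.isClosed_singleton_iff_isMaximal]
      exact maxAt_isMaximal ⊥ _
    · apply PrimeSpectrum.ext
      change (maxAt ⊥ ⟨𝔮, bot_le⟩).comap (algebraMap A (R (⊥ : Ideal B))) = _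
      rw [IsScalarTower.algebraMap_eq A B (R (⊥ : Ideal B)), ← Ideal.comap_comap, comap_maxAt]
      rfl
  obtain ⟨T'', hT''cl, h1, h2, h3⟩ := exists_closed_section (isWLocal (⊥ : Ideal B)) hw hed
    (PrimeSpectrum.comap (algebraMap A (R (⊥ : Ideal B)))) hq hs
  obtain ⟨C, _, algBwC, hCiz, hCsurj, -, hCrange⟩ :=
    Groth.Agent.H27.IndZarQuot.main (A := R (⊥ : Ideal B)) T'' hT''cl
  letI algAC : Algebra A C :=
    ((algebraMap (R (⊥ : Ideal B)) C).comp (algebraMap A (R (⊥ : Ideal B)))).toAlgebra
  haveI towerABwC : IsScalarTower A (R (⊥ : Ideal B)) C :=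
    IsScalarTower.of_algebraMap_eq (R := A) (S := R (⊥ : Ideal B)) (A := C) (fun _ => rfl)
  letI algBC : Algebra B C :=
    ((algebraMap (R (⊥ : Ideal B)) C).comp (algebraMap B (R (⊥ : Ideal B)))).toAlgebra
  haveI towerABC : IsScalarTower A B C :=
    IsScalarTower.of_algebraMap_eq (R := A) (S := B) (A := C) (fun _ => rfl)
  have hj : Topology.IsClosedEmbedding (PrimeSpectrum.comap (algebraMap (R (⊥ : Ideal B)) C)) :=
    PrimeSpectrum.isClosedEmbedding_comap_of_surjective _ _ hCsurj
  have hCw : ProEtW.IsWLocal (PrimeSpectrum C) :=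
    isWLocal_of_isClosedEmbedding _ hj (isWLocal (⊥ : Ideal B))
  have hid : EtPBC.IdentifiesLocalRings A C :=
    identifiesLocalRings_trans A (R (⊥ : Ideal B)) C
      (identifiesLocalRings_trans A B (R (⊥ : Ideal B))
        (identifiesLocalRings_of_isIndZariski hiz) (identifiesLocalRings ⊥))
      (identifiesLocalRings_of_isIndZariski hCiz)
  have hfq : ∀ y : PrimeSpectrum C, PrimeSpectrum.comap (algebraMap A C) y =
      PrimeSpectrum.comap (algebraMap A (R (⊥ : Ideal B)))
        (PrimeSpectrum.comap (algebraMap (R (⊥ : Ideal B)) C) y) := fun y => rfl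
  have h4 : ∀ y : PrimeSpectrum C, IsClosed ({y} : Set (PrimeSpectrum C)) →
      IsClosed ({PrimeSpectrum.comap (algebraMap A C) y} : Set (PrimeSpectrum A)) := by
    intro y hy
    rw [hfq]
    apply h1
    · have := hj.isClosedMap _ hy
      rwa [Set.image_singleton] at this
    · have : PrimeSpectrum.comap (algebraMap (R (⊥ : Ideal B)) C) y ∈
          _root_.ConnectedComponents.mk ⁻¹' T'' := by
        rw [← hCrange]; exact ⟨y, rfl⟩
      exact this
  have h5 := bijective_of_closed_section
    (PrimeSpectrum.comap (algebraMap A (R (⊥ : Ideal B)))) h2 h3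
    (PrimeSpectrum.comap (algebraMap (R (⊥ : Ideal B)) C)) hj hCrange
    (PrimeSpectrum.comap (algebraMap A C)) (PrimeSpectrum.continuous_comap _) hfq
  have hbij : Function.Bijective (algebraMap A C) :=
    Groth.Agent.H27.WLocalRing.main hid hw.2.1 hw.2.2 hCw.2.1 hCw.2.2 h4 h5
  let eAC : A ≃ₐ[A] C := AlgEquiv.ofBijective (Algebra.ofId A C) hbij
  exact ⟨eAC.symm.toAlgHom.comp (IsScalarTower.toAlgHom A B C)⟩

end Groth.Agent.H27.Adm
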