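import Groth.Agent.H27.WEtIndEt
import Groth.Agent.H27.AdmProfinite
import Groth.Agent.H27.AdmMain
import Groth.Agent.H27.WLocRetract
import Groth.Agent.H27.WLocRetract2
import Groth.Agent.S0675
import Groth.Agent.H10.WeaklyEtaleField2

/-!
# Characterisation of w-contractible rings
-/

set_option autoImplicit false
set_option linter.style.haveILetI false
universe u

open TensorProduct

namespace Groth.Agent.H27.WContrChar

open Groth.Agent.H27.Adm

section Fibre

variable (A B : Type u) [CommRing A] [CommRing B] [Algebra A B] [Algebra.WeaklyEtale A B]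

/-- the fibre of a weakly étale algebra over a maximal ideal is von Neumann regular -/
theorem exists_sub_mem_map (m : Ideal A) [m.IsMaximal] (x : B) :
    ∃ t : B, x - x * x * t ∈ m.map (algebraMap A B) := by
  letI := Ideal.Quotient.field m
  have hV : Groth.Agent.H10.IsVNR ((A ⧸ m) ⊗[A] B) :=
    Groth.Agent.H10.isVNR_of_weaklyEtale (A ⧸ m) _
  have hV2 : Groth.Agent.H10.IsVNR (B ⧸ m.map (algebraMap A B)) :=
    hV.of_surjective
      (Algebra.TensorProduct.quotIdealMapEquivQuotTensor B m).symm.toRingEquiv.toRingHom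
      (Algebra.TensorProduct.quotIdealMapEquivQuotTensor B m).symm.surjective
  obtain ⟨t, ht⟩ := hV2 (Ideal.Quotient.mk _ x)
  obtain ⟨t, rfl⟩ := Ideal.Quotient.mk_surjective t
  refine ⟨t, ?_⟩
  rw [← Ideal.Quotient.eq_zero_iff_mem, map_sub, map_mul, map_mul, sub_eq_zero]
  exact ht

/-- primes of a weakly étale algebra lying over a maximal ideal are maximal -/
theorem isMaximal_of_comap_isMaximal (q : Ideal B) [hqp : q.IsPrime]
    (hq : (q.comap (algebraMap A B)).IsMaximal) : q.IsMaximal := by
  obtain ⟨q', hq', hle⟩ := Ideal.exists_le_maximal q hqp.ne_top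
  suffices h : q' ≤ q by
    rw [le_antisymm hle h]
    exact hq'
  intro x hx
  by_contra hxq
  obtain ⟨t, ht⟩ := exists_sub_mem_map A B (q.comap (algebraMap A B)) x
  have h2 : x - x * x * t ∈ q := Ideal.map_comap_le ht
  have h3 : x * (1 - x * t) ∈ q := by
    have : x * (1 - x * t) = x - x * x * t := by ring
    rw [this]
    exact h2
  rcases hqp.mem_or_mem h3 with h | h
  · exact hxq h
  · have h1 : (1 : B) ∈ q' := by
      have h4 := hle h
      have h5 : x * t ∈ q' := q'.mul_mem_right _ hx
      have := q'.add_mem h4 h5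
      simpa using this
    exact hq'.ne_top ((Ideal.eq_top_iff_one _).mpr h1)

end Fibre

theorem aux (A : Type u) [CommRing A] (hw : ProEtW.IsWLocal (PrimeSpectrum A))
    (hed : ExtremallyDisconnected (_root_.ConnectedComponents (PrimeSpectrum A)))
    (hSH : ∀ (m : Ideal A) [m.IsMaximal],
      EtCoh.IsStrictlyHenselianLocalRing (Localization.AtPrime m))
    (I : Ideal A)
    (hI : PrimeSpectrum.zeroLocus (I : Set A) = ProEtW.closedPoints (PrimeSpectrum A))
    (B : Type u) [CommRing B] [Algebra A B] [Module.FaithfullyFlat A B]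
    [Algebra.WeaklyEtale A B] : Nonempty (B →ₐ[A] A) := by
  have hmaxJ : ∀ q : PrimeSpectrum B, I.map (algebraMap A B) ≤ q.asIdeal →
      q.asIdeal.IsMaximal := by
    intro q hq
    apply isMaximal_of_comap_isMaximal A B q.asIdeal
    have h1 : PrimeSpectrum.comap (algebraMap A B) q ∈ PrimeSpectrum.zeroLocus (I : Set A) := by
      rw [PrimeSpectrum.mem_zeroLocus]
      intro a ha
      exact hq (Ideal.mem_map_of_mem _ ha)
    rw [hI] at h1
    exact (PrimeSpectrum.isClosed_singleton_iff_isMaximal _).mp h1
  letI algAC : Algebra A (R (I.map (algebraMap A B))) :=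
    ((algebraMap B (R (I.map (algebraMap A B)))).comp (algebraMap A B)).toAlgebra
  haveI tower : IsScalarTower A B (R (I.map (algebraMap A B))) :=
    IsScalarTower.of_algebraMap_eq (fun _ => rfl)
  have hBC : EtPBC.IsIndZariski B (R (I.map (algebraMap A B))) := isIndZariski _
  have hWC : ProEtW.IsWLocal (PrimeSpectrum (R (I.map (algebraMap A B)))) := isWLocal _
  have hcl := closedPoints_eq_zeroLocus (I.map (algebraMap A B)) hmaxJ
  haveI : Algebra.WeaklyEtale B (R (I.map (algebraMap A B))) :=
    Groth.Agent.S0736.result B _ (Groth.Agent.H27.IndEtPrimes.isIndEtale_of_isIndZariski hBC)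
  haveI : Algebra.WeaklyEtale A (R (I.map (algebraMap A B))) :=
    Algebra.WeaklyEtale.trans A B _
  have hmax : ∀ (n : Ideal (R (I.map (algebraMap A B)))) [n.IsMaximal],
      (n.comap (algebraMap A (R (I.map (algebraMap A B))))).IsMaximal := by
    intro n hn
    have h1 : (⟨n, hn.isPrime⟩ : PrimeSpectrum (R (I.map (algebraMap A B)))) ∈
        ProEtW.closedPoints (PrimeSpectrum (R (I.map (algebraMap A B)))) := by
      show IsClosed _
      rw [PrimeSpectrum.isClosed_singleton_iff_isMaximal]
      exact hn
    rw [hcl, PrimeSpectrum.mem_zeroLocus] at h1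
    have h2 : PrimeSpectrum.comap (algebraMap A (R (I.map (algebraMap A B)))) ⟨n, hn.isPrime⟩ ∈
        PrimeSpectrum.zeroLocus (I : Set A) := by
      rw [PrimeSpectrum.mem_zeroLocus]
      intro a ha
      show algebraMap A (R (I.map (algebraMap A B))) a ∈ n
      rw [IsScalarTower.algebraMap_apply A B (R (I.map (algebraMap A B)))]
      exact h1 (Ideal.mem_map_of_mem _ (Ideal.mem_map_of_mem _ ha))
    rw [hI] at h2
    exact (PrimeSpectrum.isClosed_singleton_iff_isMaximal _).mp h2
  have hid : EtPBC.IdentifiesLocalRings A (R (I.map (algebraMap A B))) :=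
    Groth.Agent.H27.WEtIndEt.identifiesLocalRings_of_strictHens A _ hmax hSH
  have hZ : EtPBC.IsIndZariski A (R (I.map (algebraMap A B))) :=
    Groth.Agent.H27.IndZarWLocal.main A _ hid hWC
  haveI : Module.Flat A (R (I.map (algebraMap A B))) := flat_of_isIndZariski hZ
  have hffC : Module.FaithfullyFlat A (R (I.map (algebraMap A B))) := by
    refine ⟨fun m hm => ?_⟩
    obtain ⟨q, hq⟩ := PrimeSpectrum.comap_surjective_of_faithfullyFlat (A := A) (B := B)
      ⟨m, hm.isPrime⟩
    have hqm : q.asIdeal.comap (algebraMap A B) = m := congrArg PrimeSpectrum.asIdeal hq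
    have hIm : I ≤ m := by
      have h1 : (⟨m, hm.isPrime⟩ : PrimeSpectrum A) ∈ ProEtW.closedPoints (PrimeSpectrum A) := by
        show IsClosed _
        rw [PrimeSpectrum.isClosed_singleton_iff_isMaximal]
        exact hm
      rw [← hI, PrimeSpectrum.mem_zeroLocus] at h1
      exact h1
    have hJq : I.map (algebraMap A B) ≤ q.asIdeal := by
      rw [Ideal.map_le_iff_le_comap, hqm]
      exact hIm
    have hQ : (maxAt (I.map (algebraMap A B)) ⟨q, hJq⟩).comap
        (algebraMap A (R (I.map (algebraMap A B)))) = m := by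
      rw [IsScalarTower.algebraMap_eq A B (R (I.map (algebraMap A B))), ← Ideal.comap_comap,
        comap_maxAt]
      exact hqm
    rw [Ideal.smul_top_eq_map, ← hQ]
    exact (Submodule.restrictScalars_eq_top_iff _ _ _).ne.mpr fun top ↦
      (maxAt_isPrime (I.map (algebraMap A B)) ⟨q, hJq⟩).ne_top <|
        top_le_iff.mp <| top ▸ Ideal.map_comap_le
  obtain ⟨r⟩ := hasIndZariskiRetractions_of A hw hed (R (I.map (algebraMap A B))) hffC hZ
  exact ⟨r.comp (IsScalarTower.toAlgHom A B (R (I.map (algebraMap A B))))⟩

theorem main (A : Type u) [CommRing A] :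
    EtPBC.IsWContractible A ↔
      (ProEtW.IsWLocal (PrimeSpectrum A) ∧
        ExtremallyDisconnected (_root_.ConnectedComponents (PrimeSpectrum A)) ∧
        ∀ (m : Ideal A) [m.IsMaximal],
          EtCoh.IsStrictlyHenselianLocalRing (Localization.AtPrime m)) := by
  constructor
  · intro h
    have hZ : ProEtW.HasIndZariskiRetractions A := by
      intro B _ _ hff hiz
      haveI : Algebra.WeaklyEtale A B :=
        Groth.Agent.S0736.result A B (Groth.Agent.H27.IndEtPrimes.isIndEtale_of_isIndZariski hiz)
      exact h B hff inferInstance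
    have hE : ProEtW.HasEtaleRetractions A := by
      intro B _ _ hff het
      haveI := het
      exact h B hff inferInstance
    exact ⟨isWLocal_of_hasIndZariskiRetractions A hZ,
      extremallyDisconnected_of_hasIndZariskiRetractions A hZ,
      fun m _ => Groth.Agent.S0675.result A hE m⟩
  · rintro ⟨hw, hed, hSH⟩ B _ _ hff hwe
    haveI := hff
    haveI := hwe
    exact aux A hw hed hSH
      (PrimeSpectrum.vanishingIdeal (ProEtW.closedPoints (PrimeSpectrum A)))
      (by
        rw [PrimeSpectrum.zeroLocus_vanishingIdeal_eq_closure]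
        exact hw.2.1.closure_eq) B

end Groth.Agent.H27.WContrChar
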