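import Groth.Agent.H27.WContrQuot
import Groth.Agent.H27.EDQuasiFinite
import Groth.Agent.H14.HensProp.Unibranch3
import Groth.Agent.H67.HenselFinite
import Groth.Agent.S0499

/-!
# Finite finitely presented algebras over w-contractible rings are w-contractible
-/

set_option autoImplicit false
set_option linter.style.haveILetI false
universe u

open TensorProduct

namespace Groth.Agent.H27.WContrFinite

/-- a local ring finite over a strictly henselian local ring is strictly henselian -/
theorem isStrictlyHenselian_of_finite (R C : Type u) [CommRing R] [CommRing C] [IsLocalRing C]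
    [Algebra R C] [Module.Finite R C] (hR : EtCoh.IsStrictlyHenselianLocalRing R) :
    EtCoh.IsStrictlyHenselianLocalRing C := by
  obtain ⟨hH, hsc⟩ := hR
  haveI := hH
  haveI := hsc
  haveI hHC : HenselianLocalRing C := Groth.Agent.H67.HenselFinite.henselian_of_finite R C
  refine ⟨hHC, ?_⟩
  haveI : IsLocalHom (algebraMap R C) := by
    refine ((IsLocalRing.local_hom_TFAE (algebraMap R C)).out 4 0).mp ?_
    haveI : ((IsLocalRing.maximalIdeal C).comap (algebraMap R C)).IsMaximal :=
      Ideal.isMaximal_comap_of_isIntegral_of_isMaximal (IsLocalRing.maximalIdeal C)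
    exact (IsLocalRing.eq_maximalIdeal inferInstance)
  haveI : Algebra.IsAlgebraic (IsLocalRing.ResidueField R) (IsLocalRing.ResidueField C) :=
    Algebra.IsAlgebraic.of_finite _ _
  exact Algebra.IsAlgebraic.isSepClosed (F := IsLocalRing.ResidueField R)

/-- the localization of a finite algebra over a strictly henselian local ring at a maximal
ideal is strictly henselian -/
theorem isStrictlyHenselian_atPrime_of_finite (R S : Type u) [CommRing R] [CommRing S]
    [Algebra R S] [Module.Finite R S] (hR : EtCoh.IsStrictlyHenselianLocalRing R)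
    (N : Ideal S) [hN : N.IsMaximal] :
    EtCoh.IsStrictlyHenselianLocalRing (Localization.AtPrime N) := by
  classical
  haveI hH : HenselianLocalRing R := hR.1
  obtain ⟨ι, _, C, _, hloc, ⟨φ⟩⟩ := Groth.Agent.S0499.result R S
  haveI := hloc
  let P : PrimeSpectrum (∀ i, C i) :=
    ⟨N.comap φ.symm.toRingHom, Ideal.comap_isPrime _ _⟩
  obtain ⟨⟨i0, Q⟩, hQ⟩ := (PrimeSpectrum.sigmaToPi_bijective C).surjective P
  rw [PrimeSpectrum.sigmaToPi_apply] at hQ
  let ψ : S →+* C i0 := (Pi.evalRingHom C i0).comp φ.toRingHom
  have hψ : Function.Surjective ψ :=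
    (Function.surjective_eval i0).comp φ.surjective
  have hNQ : N = Q.asIdeal.comap ψ := by
    have h1 := congrArg PrimeSpectrum.asIdeal hQ
    have h2 : N = (N.comap φ.symm.toRingHom).comap φ.toRingHom := by
      ext x
      simp
    rw [h2]
    show Ideal.comap φ.toRingHom P.asIdeal = _
    rw [← h1]
    rfl
  have hQmax : Q.asIdeal = IsLocalRing.maximalIdeal (C i0) := by
    have h1 : Q.asIdeal = N.map ψ := by
      rw [hNQ, Ideal.map_comap_of_surjective ψ hψ]
    have h2 := Ideal.map_eq_top_or_isMaximal_of_surjective ψ hψ hN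
    rcases h2 with h2 | h2
    · exact absurd (h1.trans h2) Q.2.ne_top
    · rw [h1]
      exact IsLocalRing.eq_maximalIdeal h2
  letI algSC : Algebra S (C i0) := ψ.toAlgebra
  haveI hloc' : IsLocalization.AtPrime (C i0) N := by
    refine ⟨?_, ?_, ?_⟩
    · rintro ⟨s, hs⟩
      show IsUnit (ψ s)
      have : ψ s ∉ IsLocalRing.maximalIdeal (C i0) := by
        rw [← hQmax]
        intro h
        apply hs
        rw [hNQ]
        exact h
      simpa [IsLocalRing.mem_maximalIdeal] using this
    · intro c
      obtain ⟨x, rfl⟩ := hψ c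
      exact ⟨(x, 1), by simp only [OneMemClass.coe_one, map_one, mul_one]; rfl⟩
    · intro x y hxy
      have hxy' : ψ x = ψ y := hxy
      let e : S := φ.symm (Pi.single i0 1)
      have he : ψ e = 1 := by
        show (φ (φ.symm (Pi.single i0 1))) i0 = 1
        rw [RingEquiv.apply_symm_apply, Pi.single_eq_same]
      have heN : e ∈ N.primeCompl := by
        intro h
        rw [hNQ] at h
        have h' : ψ e ∈ Q.asIdeal := h
        rw [he] at h'
        exact Q.2.ne_top ((Ideal.eq_top_iff_one _).mpr h')
      refine ⟨⟨e, heN⟩, ?_⟩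
      show e * x = e * y
      apply φ.injective
      rw [map_mul, map_mul]
      show φ (φ.symm (Pi.single i0 1)) * φ x = φ (φ.symm (Pi.single i0 1)) * φ y
      rw [RingEquiv.apply_symm_apply]
      funext j
      by_cases hj : j = i0
      · subst hj
        simp only [Pi.mul_apply, Pi.single_eq_same, one_mul]
        exact hxy'
      · simp only [Pi.mul_apply, Pi.single_eq_of_ne hj, zero_mul]
  let e : Localization.AtPrime N ≃ₐ[S] C i0 := IsLocalization.algEquiv N.primeCompl _ _
  letI algRC : Algebra R (C i0) := (ψ.comp (algebraMap R S)).toAlgebra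
  haveI : IsScalarTower R S (C i0) := IsScalarTower.of_algebraMap_eq (fun _ => rfl)
  haveI : Module.Finite R (C i0) :=
    Module.Finite.of_surjective (IsScalarTower.toAlgHom R S (C i0)).toLinearMap hψ
  have hC : EtCoh.IsStrictlyHenselianLocalRing (C i0) := isStrictlyHenselian_of_finite R (C i0) hR
  exact SHTransport.isStrictlyHenselian_of_ringEquiv e.symm.toRingEquiv hC

end Groth.Agent.H27.WContrFinite
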