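import Groth.Agent.H27.WEtProd
import Groth.Agent.H10.WeaklyEtaleStalk

/-!
# w-contractibility passes to localizations onto the generizations of `V(E)`, `E` finite
-/

namespace Groth.Agent.H27.WContrLoc

open TensorProduct

universe u

theorem main (A B : Type u) [CommRing A] [CommRing B]
    [Algebra A B] (S : Submonoid A) [IsLocalization S B] (E : Finset A)
    (hB : Set.range (PrimeSpectrum.comap (algebraMap A B)) =
      {x | ∃ z : PrimeSpectrum A, z ∈ PrimeSpectrum.zeroLocus (R := A) E ∧ x ⤳ z})
    (h : ∀ (C : Type u) [CommRing C] [Algebra A C],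
      Module.FaithfullyFlat A C → Algebra.WeaklyEtale A C → Nonempty (C →ₐ[A] A))
    (B' : Type u) [CommRing B'] [Algebra B B'] (hff : Module.FaithfullyFlat B B')
    (hwe : Algebra.WeaklyEtale B B') :
    Nonempty (B' →ₐ[B] B) := by
  classical
  letI : Algebra A B' := ((algebraMap B B').comp (algebraMap A B)).toAlgebra
  haveI : IsScalarTower A B B' := IsScalarTower.of_algebraMap_eq (fun _ => rfl)
  haveI : Algebra.WeaklyEtale A B := Groth.Agent.H10.weaklyEtale_of_isLocalization S B
  haveI : Algebra.WeaklyEtale A B' := Algebra.WeaklyEtale.trans A B B'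
  let P := ∀ f : E, Localization.Away (f : A)
  haveI : Algebra.Etale A P := inferInstance
  haveI : Algebra.WeaklyEtale A P := inferInstance
  haveI hWE : Algebra.WeaklyEtale A (P × B') := WEtProd.weaklyEtale_prod A P B'
  have hVB : PrimeSpectrum.zeroLocus (E : Set A) ⊆
      Set.range (PrimeSpectrum.comap (algebraMap A B)) := by
    intro z hz
    rw [hB]
    exact ⟨z, hz, specializes_rfl⟩
  have hFF : Module.FaithfullyFlat A (P × B') := by
    refine Module.FaithfullyFlat.of_comap_surjective fun p => ?_
    by_cases hp : p ∈ Set.range (PrimeSpectrum.comap (algebraMap A B))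
    · obtain ⟨P0, rfl⟩ := hp
      obtain ⟨Q, rfl⟩ := PrimeSpectrum.comap_surjective_of_faithfullyFlat (A := B) (B := B') P0
      refine ⟨PrimeSpectrum.comap (RingHom.snd P B') Q, ?_⟩
      rw [← PrimeSpectrum.comap_comp_apply, ← PrimeSpectrum.comap_comp_apply]
      rfl
    · have hpE : p ∉ PrimeSpectrum.zeroLocus (E : Set A) := fun hz => hp (hVB hz)
      rw [PrimeSpectrum.mem_zeroLocus, Set.not_subset] at hpE
      obtain ⟨f, hfE, hfp⟩ := hpE
      have hdisj : Disjoint (Submonoid.powers f : Set A) (p.asIdeal : Set A) := by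
        rw [Set.disjoint_left]
        rintro _ ⟨n, rfl⟩ hn
        exact hfp (p.2.mem_of_pow_mem n hn)
      have hprime := IsLocalization.isPrime_of_isPrime_disjoint (Submonoid.powers f)
        (Localization.Away f) p.asIdeal p.2 hdisj
      have hcomap := IsLocalization.under_map_of_isPrime_disjoint (Submonoid.powers f)
        (Localization.Away f) p.2 hdisj
      let f' : E := ⟨f, hfE⟩
      refine ⟨PrimeSpectrum.comap ((Pi.evalRingHom (fun f : E => Localization.Away (f : A)) f').comp
        (RingHom.fst P B')) ⟨_, hprime⟩, ?_⟩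
      rw [← PrimeSpectrum.comap_comp_apply]
      exact PrimeSpectrum.ext hcomap
  obtain ⟨σ⟩ := h (P × B') hFF hWE
  let τ : (P × B') →ₐ[A] B := (Algebra.ofId A B).comp σ
  -- elements of `E` lie in every maximal ideal of `B`
  have hrad : ∀ M : Ideal B, M.IsMaximal → ∀ f ∈ E, algebraMap A B f ∈ M := by
    intro M hM f hfE
    let P0 : PrimeSpectrum B := ⟨M, hM.isPrime⟩
    have hp : PrimeSpectrum.comap (algebraMap A B) P0 ∈
        Set.range (PrimeSpectrum.comap (algebraMap A B)) := ⟨P0, rfl⟩
    rw [hB] at hp
    obtain ⟨z, hz, hpz⟩ := hp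
    obtain ⟨Z', rfl⟩ := hVB hz
    have hle : PrimeSpectrum.comap (algebraMap A B) P0 ≤
        PrimeSpectrum.comap (algebraMap A B) Z' :=
      (PrimeSpectrum.le_iff_specializes _ _).2 hpz
    have hPZ : M ≤ Z'.asIdeal := by
      have h1 := IsLocalization.map_under S B M
      have h2 := IsLocalization.map_under S B Z'.asIdeal
      rw [← h1, ← h2]
      exact Ideal.map_mono hle
    have hMZ : M = Z'.asIdeal := hM.eq_of_le Z'.2.ne_top hPZ
    have : f ∈ (PrimeSpectrum.comap (algebraMap A B) Z').asIdeal :=
      (PrimeSpectrum.mem_zeroLocus _ _).mp hz hfE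
    rw [hMZ]
    exact this
  have hzero : ∀ f : E, τ ((Pi.single f 1, 0) : P × B') = 0 := by
    intro f
    set ε := τ ((Pi.single f 1, 0) : P × B') with hε
    have hss : (Pi.single f (1 : Localization.Away (f : A)) : P) * Pi.single f 1 =
        Pi.single f 1 := by
      rw [← Pi.single_mul, one_mul]
    have hidem : ε * ε = ε := by
      rw [hε, ← map_mul, Prod.mk_mul_mk, hss, mul_zero]
    have hmem : ∀ M : Ideal B, M.IsMaximal → ε ∈ M := by
      intro M hM
      have hsm : (Pi.single f 1 : P) =
          (f : A) • (Pi.single f (IsLocalization.Away.invSelf (f : A)) : P) := by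
        rw [← Pi.single_smul, Algebra.smul_def, IsLocalization.Away.mul_invSelf]
      have : ((Pi.single f 1, 0) : P × B') =
          (f : A) • ((Pi.single f (IsLocalization.Away.invSelf (f : A)), 0) : P × B') := by
        rw [Prod.smul_mk, ← hsm, smul_zero]
      rw [hε, this, map_smul, Algebra.smul_def]
      exact M.mul_mem_right _ (hrad M hM f f.2)
    have hunit : IsUnit (1 - ε) := by
      by_contra hnu
      obtain ⟨M, hM, h1M⟩ := exists_max_ideal_of_mem_nonunits hnu
      have : (1 : B) ∈ M := by
        have := M.add_mem h1M (hmem M hM)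
        simpa using this
      exact hM.ne_top ((Ideal.eq_top_iff_one _).2 this)
    have : (1 - ε) * ε = 0 := by rw [sub_mul, one_mul, hidem, sub_self]
    exact (hunit.mul_right_eq_zero).1 this
  have h10 : τ ((1, 0) : P × B') = 0 := by
    have hP1 : (1 : P) = ∑ f : E, (Pi.single f 1 : P) :=
      (Finset.univ_sum_single (1 : P)).symm
    have : ((1, 0) : P × B') = ∑ f : E, ((Pi.single f 1, 0) : P × B') := by
      refine Prod.ext ?_ ?_
      · rw [Prod.fst_sum]
        exact hP1
      · rw [Prod.snd_sum]
        simp
    rw [this, map_sum]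
    exact Finset.sum_eq_zero fun f _ => hzero f
  have hone : τ ((0, 1) : P × B') = 1 := by
    have : ((0, 1) : P × B') = 1 - (1, 0) := by
      ext <;> simp
    rw [this, map_sub, map_one, h10, sub_zero]
  let g : B' →ₐ[A] B :=
    { toFun := fun b => τ (0, b)
      map_one' := hone
      map_mul' := fun a b => by rw [← map_mul]; simp
      map_zero' := by
        have : ((0, 0) : P × B') = 0 := rfl
        rw [this, map_zero]
      map_add' := fun a b => by rw [← map_add]; simp
      commutes' := fun a => by
        have : ((0, algebraMap A B' a) : P × B') = a • ((0, 1) : P × B') := by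
          ext
          · simp
          · simp [Algebra.smul_def]
        rw [this, map_smul, hone, Algebra.smul_def, mul_one] }
  have hgB : ∀ b : B, g (algebraMap B B' b) = b := by
    have : (g : B' →+* B).comp (algebraMap B B') = RingHom.id B := by
      refine IsLocalization.ringHom_ext S ?_
      ext a
      simp only [RingHom.coe_comp, Function.comp_apply, RingHom.id_apply, RingHom.coe_coe]
      rw [← IsScalarTower.algebraMap_apply A B B']
      exact g.commutes a
    intro b
    exact congrArg (fun φ : B →+* B => φ b) this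
  exact ⟨{ (g : B' →+* B) with commutes' := hgB }⟩

end Groth.Agent.H27.WContrLoc
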