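import Mathlib
import Groth.Agent.H89.FlatExt

/-!
# Products of weakly étale algebras are weakly étale
-/

namespace Groth.Agent.H27.WEtProd

open TensorProduct

universe u

/-- a ring map to a product is flat if both components are -/
theorem flat_of_fst_snd {T S1 S2 : Type u} [CommRing T] [CommRing S1] [CommRing S2]
    (f : T →+* S1 × S2) (h1 : ((RingHom.fst S1 S2).comp f).Flat)
    (h2 : ((RingHom.snd S1 S2).comp f).Flat) : f.Flat := by
  letI a1 : Algebra T S1 := ((RingHom.fst S1 S2).comp f).toAlgebra
  letI a2 : Algebra T S2 := ((RingHom.snd S1 S2).comp f).toAlgebra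
  haveI f1 : Module.Flat T S1 := h1
  haveI f2 : Module.Flat T S2 := h2
  have key : Module.Flat T (S1 × S2) := Groth.Agent.H89.flat_prod T S1 S2
  show @Module.Flat T (S1 × S2) _ _ f.toAlgebra.toModule
  have heq : (Prod.instModule : Module T (S1 × S2)) = f.toAlgebra.toModule := by
    refine Module.ext' _ _ fun t x => ?_
    letI := f.toAlgebra
    show (t • x.1, t • x.2) = f t * x
    ext
    · show ((RingHom.fst S1 S2).comp f) t * x.1 = (f t * x).1
      simp
    · show ((RingHom.snd S1 S2).comp f) t * x.2 = (f t * x).2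
      simp
  rw [← heq]
  exact key

theorem flat_fst (S1 S2 : Type u) [CommRing S1] [CommRing S2] : (RingHom.fst S1 S2).Flat := by
  letI := (RingHom.fst S1 S2).toAlgebra
  haveI : IsLocalization.Away (R := S1 × S2) (1, 0) S1 := IsLocalization.away_fst
  exact IsLocalization.flat S1 (Submonoid.powers ((1, 0) : S1 × S2))

theorem flat_snd (S1 S2 : Type u) [CommRing S1] [CommRing S2] : (RingHom.snd S1 S2).Flat := by
  letI := (RingHom.snd S1 S2).toAlgebra
  haveI : IsLocalization.Away (R := S1 × S2) (0, 1) S2 := IsLocalization.away_snd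
  exact IsLocalization.flat S2 (Submonoid.powers ((0, 1) : S1 × S2))

variable (A S1 S2 : Type u) [CommRing A] [CommRing S1] [CommRing S2] [Algebra A S1] [Algebra A S2]

theorem weaklyEtale_prod [Algebra.WeaklyEtale A S1] [Algebra.WeaklyEtale A S2] :
    Algebra.WeaklyEtale A (S1 × S2) := by
  haveI : Module.Flat A (S1 × S2) := Groth.Agent.H89.flat_prod A S1 S2
  refine ⟨inferInstance, ?_⟩
  apply flat_of_fst_snd
  · have hcomp : (RingHom.fst S1 S2).comp
        (Algebra.TensorProduct.lmul' A (S := S1 × S2) : (S1 × S2) ⊗[A] (S1 × S2) →+* S1 × S2) =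
        ((Algebra.TensorProduct.lmul' A (S := S1) : S1 ⊗[A] S1 →+* S1)).comp
          (Algebra.TensorProduct.map (AlgHom.fst A S1 S2) (AlgHom.fst A S1 S2) :
            (S1 × S2) ⊗[A] (S1 × S2) →+* S1 ⊗[A] S1) := by
      refine RingHom.ext fun z => ?_
      induction z using TensorProduct.induction_on with
      | zero => simp
      | tmul a b => simp
      | add x y hx hy => rw [map_add, map_add, hx, hy]
    rw [AlgHom.toRingHom_eq_coe, hcomp]
    refine RingHom.Flat.comp ?_ (Algebra.WeaklyEtale.flat_lmul' A S1)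
    exact RingHom.Flat.tensorProductMap (flat_fst S1 S2) (flat_fst S1 S2)
  · have hcomp : (RingHom.snd S1 S2).comp
        (Algebra.TensorProduct.lmul' A (S := S1 × S2) : (S1 × S2) ⊗[A] (S1 × S2) →+* S1 × S2) =
        ((Algebra.TensorProduct.lmul' A (S := S2) : S2 ⊗[A] S2 →+* S2)).comp
          (Algebra.TensorProduct.map (AlgHom.snd A S1 S2) (AlgHom.snd A S1 S2) :
            (S1 × S2) ⊗[A] (S1 × S2) →+* S2 ⊗[A] S2) := by
      refine RingHom.ext fun z => ?_
      induction z using TensorProduct.induction_on with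
      | zero => simp
      | tmul a b => simp
      | add x y hx hy => rw [map_add, map_add, hx, hy]
    rw [AlgHom.toRingHom_eq_coe, hcomp]
    refine RingHom.Flat.comp ?_ (Algebra.WeaklyEtale.flat_lmul' A S2)
    exact RingHom.Flat.tensorProductMap (flat_snd S1 S2) (flat_snd S1 S2)

end Groth.Agent.H27.WEtProd
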