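import Mathlib
import Groth.Prelude.Def_PBC
import Groth.Agent.H27.WEtProd

/-!
# Splitting finite weakly étale covers of a w-contractible ring

* `weaklyEtale_pi`: finite products of weakly étale algebras are weakly étale.
* `main`: if `A` is w-contractible and `B k` (`k : Fin n`) are weakly étale `A`-algebras which are
  jointly surjective on spectra, there is a complete system of orthogonal idempotents `e k` of `A`
  such that `B k` maps (as `A`-algebra) to every `A`-algebra in which `e k` becomes `1`.
-/

set_option autoImplicit false
set_option linter.style.haveILetI false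

namespace Groth.Agent.H27.WContrSplit

universe u

theorem weaklyEtale_of_algEquiv {A B B' : Type u} [CommRing A] [CommRing B] [CommRing B']
    [Algebra A B] [Algebra A B'] (e : B ≃ₐ[A] B') [Algebra.WeaklyEtale A B] :
    Algebra.WeaklyEtale A B' := by
  letI algBB' : Algebra B B' := e.toRingEquiv.toRingHom.toAlgebra
  haveI : IsScalarTower A B B' := IsScalarTower.of_algebraMap_eq (fun a => (e.commutes a).symm)
  have hbij : Function.Bijective (algebraMap B B') := e.bijective
  let e' : B ≃ₐ[B] B' := AlgEquiv.ofBijective (Algebra.ofId B B') hbij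
  haveI : Algebra.Etale B B' := Algebra.Etale.of_equiv e'
  exact Algebra.WeaklyEtale.trans A B B'

theorem weaklyEtale_of_subsingleton (A B : Type u) [CommRing A] [CommRing B] [Algebra A B]
    [Subsingleton B] : Algebra.WeaklyEtale A B := by
  refine ⟨inferInstance, ?_⟩
  letI := (Algebra.TensorProduct.lmul' A (S := B)).toRingHom.toAlgebra
  show Module.Flat (TensorProduct A B B) B
  infer_instance

theorem weaklyEtale_pi (A : Type u) [CommRing A] {ι : Type} [Finite ι] :
    ∀ (B : ι → Type u) [∀ i, CommRing (B i)] [∀ i, Algebra A (B i)]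
      [∀ i, Algebra.WeaklyEtale A (B i)], Algebra.WeaklyEtale A (∀ i, B i) := by
  induction ι using Finite.induction_empty_option with
  | of_equiv e ih =>
    intro B _ _ _
    haveI := ih (fun i => B (e i))
    exact weaklyEtale_of_algEquiv (AlgEquiv.piCongrLeft A B e)
  | h_empty =>
    intro B _ _ _
    exact weaklyEtale_of_subsingleton A _
  | h_option ih =>
    intro B _ _ _
    haveI := ih (fun i => B (some i))
    haveI : Algebra.WeaklyEtale A (B none × (∀ i, B (some i))) :=
      WEtProd.weaklyEtale_prod A _ _
    let e : (B none × (∀ i, B (some i))) ≃ₐ[A] (∀ i, B i) :=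
      AlgEquiv.ofRingEquiv (f := (RingEquiv.piOptionEquivProd (R := B)).symm) (by
        intro a
        funext i
        cases i <;> rfl)
    exact weaklyEtale_of_algEquiv e

/-- ring-level splitting of a finite weakly étale cover of a w-contractible ring -/
theorem main {A : Type u} [CommRing A] (hwc : EtPBC.IsWContractible A) {n : ℕ}
    (B : Fin n → Type u) [∀ k, CommRing (B k)] [∀ k, Algebra A (B k)]
    [∀ k, Algebra.WeaklyEtale A (B k)]
    (hsurj : ∀ p : PrimeSpectrum A, ∃ (k : Fin n) (q : PrimeSpectrum (B k)),
      PrimeSpectrum.comap (algebraMap A (B k)) q = p) :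
    ∃ e : Fin n → A, (∀ k, IsIdempotentElem (e k)) ∧ (∀ k l, k ≠ l → e k * e l = 0) ∧
      (∑ k, e k = 1) ∧
      ∀ (k : Fin n) (C : Type u) [CommRing C] [Algebra A C], algebraMap A C (e k) = 1 →
        Nonempty (B k →ₐ[A] C) := by
  classical
  haveI : Algebra.WeaklyEtale A (∀ k, B k) := weaklyEtale_pi A B
  haveI : Module.FaithfullyFlat A (∀ k, B k) := by
    apply Module.FaithfullyFlat.of_comap_surjective
    intro p
    obtain ⟨k, q, hq⟩ := hsurj p
    refine ⟨PrimeSpectrum.comap (Pi.evalRingHom B k) q, ?_⟩
    rw [← hq]
    rfl
  obtain ⟨r⟩ := hwc (∀ k, B k) inferInstance inferInstance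
  refine ⟨fun k => r (Pi.single k 1), ?_, ?_, ?_, ?_⟩
  · intro k
    show r (Pi.single k 1) * r (Pi.single k 1) = r (Pi.single k 1)
    rw [← map_mul, ← Pi.single_mul, one_mul]
  · intro k l hkl
    show r (Pi.single k 1) * r (Pi.single l 1) = 0
    have h0 : (Pi.single k 1 * Pi.single l 1 : ∀ k, B k) = 0 := by
      funext i
      by_cases hik : i = k
      · subst hik
        simp [Pi.single_eq_of_ne hkl]
      · simp [Pi.single_eq_of_ne hik]
    rw [← map_mul, h0, map_zero]
  · show ∑ k, r (Pi.single k 1) = 1
    rw [← map_sum, Finset.univ_sum_single]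
    exact map_one r
  · intro k C _ _ hC
    refine ⟨{ toFun := fun b => algebraMap A C (r (Pi.single k b))
              map_one' := hC
              map_mul' := ?_
              map_zero' := ?_
              map_add' := ?_
              commutes' := ?_ }⟩
    · intro b b'
      show algebraMap A C (r (Pi.single k (b * b'))) = _
      rw [Pi.single_mul, map_mul, map_mul]
    · show algebraMap A C (r (Pi.single k 0)) = 0
      rw [Pi.single_zero, map_zero, map_zero]
    · intro b b'
      show algebraMap A C (r (Pi.single k (b + b'))) = _
      rw [Pi.single_add, map_add, map_add]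
    · intro a
      show algebraMap A C (r (Pi.single k (algebraMap A (B k) a))) = algebraMap A C a
      have h1 : (Pi.single k (algebraMap A (B k) a) : ∀ k, B k) =
          a • (Pi.single k 1 : ∀ k, B k) := by
        rw [← Pi.single_smul, Algebra.smul_def, mul_one]
      rw [h1, map_smul, smul_eq_mul, map_mul]
      show _ * algebraMap A C (r (Pi.single k 1)) = _
      rw [hC, mul_one]

end Groth.Agent.H27.WContrSplit
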