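import Groth.Agent.H27.AdmAlgRes
import Groth.Agent.H27.IndEtPrimes
import Groth.Agent.H27.IndEtTrans
import Groth.Agent.H27.AlgResBC
import Groth.Agent.H27.TensorPrime
import Groth.Agent.S0733

/-!
# The w-local cover of `B` over a w-local cover `C` of `A`, for algebraic residue field extensions
-/

set_option autoImplicit false
universe u

open scoped TensorProduct

namespace Groth.Agent.H27.WLocStage2

open Groth.Agent.H27.Adm Groth.Agent.H27.IndEtPrimes

/-- primes lift along `R → S` when `R/I → S/IS` is bijective and the prime contains `I` -/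
theorem lift_prime_of_quotientMap_bijective {R S : Type*} [CommRing R] [CommRing S] (f : R →+* S)
    (I : Ideal R)
    (hbij : Function.Bijective (Ideal.quotientMap (I.map f) f Ideal.le_comap_map))
    (Q : Ideal R) [hQ : Q.IsPrime] (hIQ : I ≤ Q) : ∃ Q' : Ideal S, Q'.IsPrime ∧ Q'.comap f = Q := by
  let e : R ⧸ I ≃+* S ⧸ I.map f := RingEquiv.ofBijective _ hbij
  haveI hQbar : (Q.map (Ideal.Quotient.mk I)).IsPrime :=
    Ideal.map_isPrime_of_surjective Ideal.Quotient.mk_surjective (by rwa [Ideal.mk_ker])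
  refine ⟨((Q.map (Ideal.Quotient.mk I)).comap e.symm.toRingHom).comap
    (Ideal.Quotient.mk (I.map f)), inferInstance, ?_⟩
  ext x
  rw [Ideal.mem_comap, Ideal.mem_comap, Ideal.mem_comap]
  have h1 : Ideal.Quotient.mk (I.map f) (f x) = e (Ideal.Quotient.mk I x) := rfl
  rw [h1]
  change e.symm (e (Ideal.Quotient.mk I x)) ∈ _ ↔ _
  rw [RingEquiv.symm_apply_apply]
  exact Ideal.mem_quotient_iff_mem hIQ

variable (A B C : Type u) [CommRing A] [CommRing B] [CommRing C] [Algebra A B] [Algebra A C]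

attribute [local instance] Algebra.TensorProduct.rightAlgebra in
theorem adjoin_eq_top :
    Algebra.adjoin C (Set.range (algebraMap B (B ⊗[A] C))) = ⊤ := by
  rw [eq_top_iff]
  rintro x -
  induction x using TensorProduct.induction_on with
  | zero => exact Subalgebra.zero_mem _
  | tmul b c =>
    have : b ⊗ₜ[A] c = algebraMap C (B ⊗[A] C) c * algebraMap B (B ⊗[A] C) b := by
      rw [Algebra.TensorProduct.right_algebraMap_apply, Algebra.TensorProduct.algebraMap_apply,
        Algebra.TensorProduct.tmul_mul_tmul, one_mul, mul_one]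
      rfl
    rw [this]
    exact Subalgebra.mul_mem _ (Subalgebra.algebraMap_mem _ c)
      (Algebra.subset_adjoin ⟨b, rfl⟩)
  | add x y hx hy => exact Subalgebra.add_mem _ hx hy

attribute [local instance] Algebra.TensorProduct.rightAlgebra in
theorem main (h : ProEtW.AlgebraicResidueExtensions A B)
    (hie : EtPBC.IsIndEtale A C) (hW : ProEtW.IsWLocal (PrimeSpectrum C))
    (hsurj : PrimeSpectrum.comap (algebraMap A C) '' ProEtW.closedPoints (PrimeSpectrum C) =
      Set.univ) :
    ∃ (D : Type u) (_ : CommRing D) (_ : Algebra B D) (_ : Algebra C D) (_ : Algebra A D)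
      (_ : IsScalarTower A C D) (_ : IsScalarTower A B D),
      Module.FaithfullyFlat B D ∧ EtPBC.IsIndEtale B D ∧ ProEtW.IsWLocal (PrimeSpectrum D) ∧
      ProEtW.IsWLocalMap (PrimeSpectrum.comap (algebraMap C D)) ∧
      ProEtW.closedPoints (PrimeSpectrum D) =
        PrimeSpectrum.comap (algebraMap C D) ⁻¹' ProEtW.closedPoints (PrimeSpectrum C) ∧
      PrimeSpectrum.comap (algebraMap B D) '' ProEtW.closedPoints (PrimeSpectrum D) =
        Set.univ := by
  have h' : ProEtW.AlgebraicResidueExtensions C (B ⊗[A] C) :=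
    Groth.Agent.H27.AlgResBC.algebraicResidueExtensions_of_adjoin h (adjoin_eq_top A B C)
  set I : Ideal C := PrimeSpectrum.vanishingIdeal (ProEtW.closedPoints (PrimeSpectrum C)) with hI
  have hI0 : PrimeSpectrum.zeroLocus (R := C) I = ProEtW.closedPoints (PrimeSpectrum C) := by
    rw [hI, PrimeSpectrum.zeroLocus_vanishingIdeal_eq_closure]
    exact hW.2.1.closure_eq
  obtain ⟨_, D, iD, algB'D, algCD, twCB'D, hZ, hbij, hWD, hWmap, hcl⟩ :=
    main737 C (B ⊗[A] C) I hI0 h'
  letI algBD : Algebra B D := ((algebraMap (B ⊗[A] C) D).comp (algebraMap B (B ⊗[A] C))).toAlgebra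
  letI algAD : Algebra A D := ((algebraMap (B ⊗[A] C) D).comp (algebraMap A (B ⊗[A] C))).toAlgebra
  haveI twBB'D : IsScalarTower B (B ⊗[A] C) D := IsScalarTower.of_algebraMap_eq (fun _ => rfl)
  haveI twAB'D : IsScalarTower A (B ⊗[A] C) D := IsScalarTower.of_algebraMap_eq (fun _ => rfl)
  have twACD : IsScalarTower A C D := by
    apply IsScalarTower.of_algebraMap_eq
    intro a
    rw [IsScalarTower.algebraMap_apply C (B ⊗[A] C) D, ← IsScalarTower.algebraMap_apply A C (B ⊗[A] C)]
    rfl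
  have twABD : IsScalarTower A B D := by
    apply IsScalarTower.of_algebraMap_eq
    intro a
    rw [IsScalarTower.algebraMap_apply B (B ⊗[A] C) D, ← IsScalarTower.algebraMap_apply A B (B ⊗[A] C)]
    rfl
  have hieBD : EtPBC.IsIndEtale B D :=
    Groth.Agent.H27.IndEtTrans.main B (B ⊗[A] C) D (Groth.Agent.S0733.result A C B hie)
      (isIndEtale_of_isIndZariski hZ)
  have hsurjD : ∀ 𝔮 : PrimeSpectrum B, ∃ z : PrimeSpectrum D,
      z ∈ ProEtW.closedPoints (PrimeSpectrum D) ∧ PrimeSpectrum.comap (algebraMap B D) z = 𝔮 := by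
    intro 𝔮
    have hp : PrimeSpectrum.comap (algebraMap A B) 𝔮 ∈
        PrimeSpectrum.comap (algebraMap A C) '' ProEtW.closedPoints (PrimeSpectrum C) := by
      rw [hsurj]; trivial
    obtain ⟨m, hm1, hm2⟩ := hp
    have hpm : 𝔮.asIdeal.comap (algebraMap A B) = m.asIdeal.comap (algebraMap A C) :=
      (congrArg PrimeSpectrum.asIdeal hm2).symm
    obtain ⟨Q, hQp, hQB, hQC⟩ := Groth.Agent.H27.TensorPrime.exists_prime 𝔮.asIdeal m.asIdeal hpm
    have hQC' : Q.comap (algebraMap C (B ⊗[A] C)) = m.asIdeal := hQC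
    have hIQ : I.map (algebraMap C (B ⊗[A] C)) ≤ Q := by
      rw [Ideal.map_le_iff_le_comap, hQC']
      have : m ∈ PrimeSpectrum.zeroLocus (R := C) I := by rw [hI0]; exact hm1
      exact this
    obtain ⟨Q', hQ'p, hQ'⟩ := lift_prime_of_quotientMap_bijective (algebraMap (B ⊗[A] C) D)
      (I.map (algebraMap C (B ⊗[A] C))) hbij Q hIQ
    refine ⟨⟨Q', hQ'p⟩, ?_, ?_⟩
    · rw [hcl, Set.mem_preimage]
      have : PrimeSpectrum.comap (algebraMap C D) ⟨Q', hQ'p⟩ = m := by
        apply PrimeSpectrum.ext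
        change Q'.comap (algebraMap C D) = m.asIdeal
        rw [IsScalarTower.algebraMap_eq C (B ⊗[A] C) D, ← Ideal.comap_comap, hQ', hQC']
      rw [this]
      exact hm1
    · apply PrimeSpectrum.ext
      change Q'.comap (algebraMap B D) = 𝔮.asIdeal
      rw [IsScalarTower.algebraMap_eq B (B ⊗[A] C) D, ← Ideal.comap_comap, hQ', hQB]
  haveI : Module.Flat B D := flat_of_isIndEtale hieBD
  refine ⟨D, iD, algBD, algCD, algAD, twACD, twABD, ?_, hieBD, hWD, hWmap, hcl, ?_⟩
  · apply Module.FaithfullyFlat.of_comap_surjective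
    intro 𝔮
    obtain ⟨z, _, hz⟩ := hsurjD 𝔮
    exact ⟨z, hz⟩
  · rw [Set.eq_univ_iff_forall]
    intro 𝔮
    obtain ⟨z, hz1, hz2⟩ := hsurjD 𝔮
    exact ⟨z, hz1, hz2⟩

end Groth.Agent.H27.WLocStage2
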