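import Groth.Agent.H27.WContrQuot

/-!
# The largest clopen subset inside a quasi-compact open of a w-local space
-/

set_option autoImplicit false
set_option linter.style.haveILetI false
universe u

open Topology

namespace Groth.Agent.H27.WLocalClopen

theorem exists_clopen {X : Type u} [TopologicalSpace X] [SpectralSpace X]
    (hX : ProEtW.IsWLocal X) (O : Set X) (hO : IsOpen O) (hOc : IsCompact O) :
    ∃ S : Set X, IsClopen S ∧ S ⊆ O ∧ ∀ x, x ∉ S → ∃ z, z ∉ O ∧ x ⤳ z := by
  classical
  let h := WContrQuot.closedPointsHomeo hX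
  have hh : ∀ x : {x : X // IsClosed ({x} : Set X)}, h x = ConnectedComponents.mk x.1 :=
    fun x => rfl
  haveI := WContrQuot.t2Space_closedPoints hX
  let K : Set {x : X // IsClosed ({x} : Set X)} := Subtype.val ⁻¹' O
  have hKo : IsOpen K := hO.preimage continuous_subtype_val
  have hKc : IsCompact K := by
    rw [Subtype.isCompact_iff]
    have : (Subtype.val '' K : Set X) = O ∩ {x : X | IsClosed ({x} : Set X)} := by
      ext x
      constructor
      · rintro ⟨y, hy, rfl⟩
        exact ⟨hy, y.2⟩
      · rintro ⟨h1, h2⟩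
        exact ⟨⟨x, h2⟩, h1, rfl⟩
    rw [this]
    exact hOc.inter_right hX.2.1
  have hKcl : IsClopen K := ⟨hKc.isClosed, hKo⟩
  have hC : IsClopen (h '' K) :=
    ⟨(h.isClosed_image).mpr hKcl.1, (h.isOpen_image).mpr hKcl.2⟩
  refine ⟨ConnectedComponents.mk ⁻¹' (h '' K), hC.preimage ConnectedComponents.continuous_coe,
    ?_, ?_⟩
  · rintro x ⟨k, hk, hkx⟩
    obtain ⟨z, ⟨hz1, hz2⟩, -⟩ := hX.2.2 x
    have hzx : (ConnectedComponents.mk z : ConnectedComponents X) = ConnectedComponents.mk x := by
      rw [ConnectedComponents.coe_eq_coe']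
      have : closure ({x} : Set X) ⊆ connectedComponent x :=
        (isPreconnected_singleton.closure).subset_connectedComponent (subset_closure rfl)
      exact this (specializes_iff_mem_closure.mp hz2)
    have hzk : (⟨z, hz1⟩ : {x : X // IsClosed ({x} : Set X)}) = k := by
      apply h.injective
      rw [hh, hh k, hzx]
      exact hkx.symm
    have hzO : z ∈ O := by
      have : k.1 ∈ O := hk
      rw [← hzk] at this
      exact this
    exact hz2.mem_open hO hzO
  · intro x hx
    obtain ⟨z, ⟨hz1, hz2⟩, -⟩ := hX.2.2 x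
    refine ⟨z, ?_, hz2⟩
    intro hzO
    apply hx
    refine ⟨⟨z, hz1⟩, hzO, ?_⟩
    rw [hh]
    show (ConnectedComponents.mk z : ConnectedComponents X) = ConnectedComponents.mk x
    rw [ConnectedComponents.coe_eq_coe']
    have : closure ({x} : Set X) ⊆ connectedComponent x :=
      (isPreconnected_singleton.closure).subset_connectedComponent (subset_closure rfl)
    exact this (specializes_iff_mem_closure.mp hz2)

end Groth.Agent.H27.WLocalClopen
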