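import Groth.Agent.H27.Simple3

set_option autoImplicit false

namespace Groth.Agent.H27

open RootD Finsupp RootPairing

variable {ι M N : Type*} [AddCommGroup M] [AddCommGroup N] {P : RootPairing ι ℤ M N}

/-- sum of coefficients, as a linear map -/
noncomputable def csum : (ι →₀ ℤ) →ₗ[ℤ] ℤ := Finsupp.linearCombination ℤ (fun _ => (1 : ℤ))

lemma csum_apply (c : ι →₀ ℤ) : csum c = c.sum (fun _ a => a) := by
  unfold csum
  rw [Finsupp.linearCombination_apply]
  simp

lemma csum_single (i : ι) (a : ℤ) : csum (Finsupp.single i a) = a := by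
  unfold csum
  rw [Finsupp.linearCombination_single]; simp

lemma csum_nonneg {c : ι →₀ ℤ} (hc : ∀ i, 0 ≤ c i) : 0 ≤ csum c := by
  rw [csum_apply, Finsupp.sum]
  exact Finset.sum_nonneg fun i _ => hc i

lemma csum_eq_zero_iff {c : ι →₀ ℤ} (hc : ∀ i, 0 ≤ c i) : csum c = 0 ↔ c = 0 := by
  constructor
  · intro h
    rw [csum_apply, Finsupp.sum, Finset.sum_eq_zero_iff_of_nonneg (fun i _ => hc i)] at h
    ext i
    by_cases hi : i ∈ c.support
    · simpa using h i hi
    · simpa using hi
  · rintro rfl; simp

lemma csum_pos_of_pos {c : ι →₀ ℤ} (hc : ∀ i, 0 ≤ c i) {j : ι} (hj : 0 < c j) : 0 < csum c := by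
  rcases (csum_nonneg hc).lt_or_eq with h | h
  · exact h
  · have := (csum_eq_zero_iff hc).1 h.symm
    rw [this] at hj; simp at hj

/-- a root which is an integer multiple of another root -/
lemma eq_of_root_eq_zsmul {k i : ι} {n : ℤ} (h : P.root k = n • P.root i) :
    n = 1 ∨ n = -1 ∨ n = 2 ∨ n = -2 := by
  have h1 : P.pairing k k = n * P.pairing i k := by
    unfold RootPairing.pairing RootPairing.root'
    rw [h, map_smul, LinearMap.smul_apply, smul_eq_mul]
  rw [P.pairing_same] at h1
  have hdvd : n ∣ 2 := ⟨_, h1⟩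
  have h2 : n ≤ 2 := Int.le_of_dvd (by norm_num) hdvd
  have h3 : -n ≤ 2 := Int.le_of_dvd (by norm_num) ((neg_dvd).2 hdvd)
  have h4 : n ≠ 0 := by rintro rfl; simp at h1
  omega

section Finite
variable [Finite ι]

omit [Finite ι] in
lemma root_reflectionPerm_eq (i k : ι) :
    P.root (P.reflectionPerm i k) = P.root k - P.pairing k i • P.root i := by
  rw [P.root_reflectionPerm, P.reflection_apply_root]

/-- Lemma R: a simple reflection permutes the positive roots not proportional to it. -/
lemma reflectionPerm_mem_posOf {Δ : Set ι} (hΔ : IsSimpleSys P Δ) {i k : ι} (hi : i ∈ Δ)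
    (hk : k ∈ posOf P Δ) :
    P.reflectionPerm i k ∈ posOf P Δ ∨ k = i ∨ P.root k = (2 : ℤ) • P.root i := by
  classical
  obtain ⟨c, hc1, hc2, hc3⟩ := mem_posOf_iff.1 hk
  by_cases hex : ∃ j, j ≠ i ∧ 0 < c j
  · obtain ⟨j, hji, hj⟩ := hex
    left
    have h1 : linearCombination ℤ P.root (c - P.pairing k i • Finsupp.single i 1) =
        P.root (P.reflectionPerm i k) := by
      rw [root_reflectionPerm_eq, map_sub, map_smul, hc3, Finsupp.linearCombination_single,
        one_smul]
    refine mem_posOf_of_coef_pos hΔ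
      (support_sub_subset hc1 (support_smul_subset (support_single_subset hi 1) _)) h1 (j := j) ?_
    rw [Finsupp.sub_apply, Finsupp.smul_apply, Finsupp.single_apply, if_neg (Ne.symm hji)]
    simpa using hj
  · right
    push Not at hex
    have hc : c = Finsupp.single i (c i) := by
      ext j
      by_cases hji : j = i
      · subst hji; simp
      · rw [Finsupp.single_apply, if_neg (Ne.symm hji)]
        have := hex j hji; have := hc2 j; omega
    have hki : P.root k = c i • P.root i := by
      rw [← hc3]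
      conv_lhs => rw [hc]
      rw [Finsupp.linearCombination_single]
    have := hc2 i
    rcases eq_of_root_eq_zsmul hki with h | h | h | h
    · left
      apply P.root.injective
      rw [hki, h, one_smul]
    · omega
    · right; rw [hki, h]
    · omega

/-- S5466 core -/
lemma reflectionPerm_mem_posOf_of_linearIndependent {Δ : Set ι} (hΔ : IsSimpleSys P Δ) {i k : ι}
    (hi : i ∈ Δ) (hk : k ∈ posOf P Δ) (hli : LinearIndependent ℤ ![P.root k, P.root i]) :
    P.reflectionPerm i k ∈ posOf P Δ := by
  rw [LinearIndependent.pair_iff] at hli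
  rcases reflectionPerm_mem_posOf hΔ hi hk with h | h | h
  · exact h
  · exfalso
    have := hli 1 (-1) (by rw [h]; simp)
    omega
  · exfalso
    have := hli 1 (-2) (by rw [h]; simp)
    omega

/-- S5467 core -/
lemma exists_simple_pairing_pos {Δ : Set ι} (hΔ : IsSimpleSys P Δ) {k : ι}
    (hk : k ∈ posOf P Δ) (hkΔ : k ∉ Δ) (hind : IsIndiv P k) :
    ∃ i ∈ Δ, 0 < P.pairing k i ∧ P.reflectionPerm i k ∈ posOf P Δ := by
  obtain ⟨c, hc1, hc2, hc3⟩ := mem_posOf_iff.1 hk
  obtain ⟨i, hi, hip⟩ := exists_pos_pairing_of_nonneg_comb P c hc2 (by rw [hc3]; exact P.ne_zero k)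
  rw [hc3] at hip
  have hiΔ : i ∈ Δ := pos_mem_of_support_subset hc1 hi.ne'
  refine ⟨i, hiΔ, hip, ?_⟩
  rcases reflectionPerm_mem_posOf hΔ hiΔ hk with h | h | h
  · exact h
  · exact absurd (h ▸ hiΔ) hkΔ
  · exact absurd h.symm (hind i)

/-- induction principle on positive roots -/
lemma posOf_induction {Δ : Set ι} (_hΔ : IsSimpleSys P Δ) {p : ι → Prop}
    (h1 : ∀ i ∈ Δ, p i)
    (h2 : ∀ k l j, l ∈ posOf P Δ → p l → j ∈ Δ → P.root k = P.root l + P.root j → p k) :
    ∀ k ∈ posOf P Δ, p k := by
  have key : ∀ n : ℕ, ∀ k (c : ι →₀ ℤ), (↑c.support ⊆ Δ) → (∀ i, 0 ≤ c i) →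
      linearCombination ℤ P.root c = P.root k → csum c = n → p k := by
    intro n
    induction n with
    | zero =>
      intro k c _ hc2 hc3 hn
      exfalso
      have : c = 0 := (csum_eq_zero_iff hc2).1 (by simpa using hn)
      rw [this, map_zero] at hc3
      exact P.ne_zero k hc3.symm
    | succ n ih =>
      intro k c hc1 hc2 hc3 hn
      by_cases hkΔ : k ∈ Δ
      · exact h1 k hkΔ
      · obtain ⟨j, hj, _, l, hl1, hl2⟩ := exists_sub_root c hc2 k hc3 (fun j hj hjk => by
          apply hkΔ
          rw [← hjk]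
          exact pos_mem_of_support_subset hc1 hj.ne')
        have hjΔ : j ∈ Δ := pos_mem_of_support_subset hc1 hj.ne'
        have hsub := support_sub_subset hc1 (support_single_subset hjΔ 1)
        have hnn := nonneg_sub_single hc2 hj
        have hl : l ∈ posOf P Δ := mem_posOf_iff.2 ⟨_, hsub, hnn, hl1.symm⟩
        refine h2 k l j hl (ih l _ hsub hnn hl1.symm ?_) hjΔ hl2
        rw [map_sub, csum_single, hn]; push_cast; ring
  intro k hk
  obtain ⟨c, hc1, hc2, hc3⟩ := mem_posOf_iff.1 hk
  exact key (csum c).toNat k c hc1 hc2 hc3 (Int.toNat_of_nonneg (csum_nonneg hc2)).symm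

lemma posOf_subset_of_closed {Δ : Set ι} (hΔ : IsSimpleSys P Δ) {P' : Set ι}
    (hcl : IsClosedSub P P') (h : Δ ⊆ P') : posOf P Δ ⊆ P' :=
  posOf_induction hΔ (fun i hi => h hi) (fun _ _ _ _ hl hj hk => hcl hl (h hj) hk)

/-- the reflection automorphism -/
noncomputable abbrev refl (P : RootPairing ι ℤ M N) (i : ι) : P.Aut := RootPairing.Equiv.reflection P i

omit [Finite ι] in
lemma refl_smul_self (i : ι) : refl P i • i = ng P i := rfl

/-- S5453 for simple systems. -/
lemma exists_weyl_image_posOf_subset {P' : Set ι}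
    (hP2 : ∀ i : ι, i ∈ P' ∨ P.reflectionPerm i i ∈ P') (hcl : IsClosedSub P P') :
    ∀ (Δ : Set ι), IsSimpleSys P Δ →
      ∃ g : P.Aut, g ∈ P.weylGroup ∧ (fun i : ι => g • i) '' posOf P Δ ⊆ P' := by
  have key : ∀ n : ℕ, ∀ (Δ : Set ι), IsSimpleSys P Δ → (posOf P Δ \ P').ncard = n →
      ∃ g : P.Aut, g ∈ P.weylGroup ∧ (fun i : ι => g • i) '' posOf P Δ ⊆ P' := by
    intro n
    induction n using Nat.strong_induction_on with
    | _ n ih =>
      intro Δ hΔ hn
      by_cases hsub : posOf P Δ ⊆ P'
      · exact ⟨1, one_mem _, by simpa using hsub⟩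
      · have hex : ∃ i ∈ Δ, i ∉ P' := by
          by_contra hcon
          push Not at hcon
          exact hsub (posOf_subset_of_closed hΔ hcl hcon)
        obtain ⟨i, hiΔ, hiP⟩ := hex
        have hngi : ng P i ∈ P' := (hP2 i).resolve_left hiP
        set Δ' := (fun j : ι => refl P i • j) '' Δ with hΔ'def
        have hΔ' : IsSimpleSys P Δ' := isSimpleSys_smul P _ hΔ
        have hpos' : posOf P Δ' = (fun j : ι => refl P i • j) '' posOf P Δ := posOf_smul P _ Δ
        have hlt : (posOf P Δ' \ P').ncard < n := by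
          rw [← hn]
          apply Set.ncard_lt_ncard _ (Set.toFinite _)
          refine ⟨?_, ?_⟩
          · rintro k' ⟨hk'1, hk'2⟩
            refine ⟨?_, hk'2⟩
            rw [hpos'] at hk'1
            obtain ⟨k, hk, rfl⟩ := hk'1
            rcases reflectionPerm_mem_posOf hΔ hiΔ hk with h | h | h
            · exact h
            · exfalso
              subst h
              exact hk'2 hngi
            · exfalso
              apply hk'2
              refine hcl hngi hngi ?_
              change P.root (P.reflectionPerm i k) = _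
              rw [root_reflectionPerm_eq, root_ng, h]
              have : P.pairing k i = 4 := by
                unfold RootPairing.pairing RootPairing.root'
                rw [h, map_smul, LinearMap.smul_apply]
                change (2:ℤ) • P.pairing i i = 4
                rw [P.pairing_same]; norm_num
              rw [this]
              module
          · intro hsub2
            have hi1 : i ∈ posOf P Δ \ P' := ⟨subset_posOf Δ hiΔ, hiP⟩
            have hi2 := (hsub2 hi1).1
            have hi3 : ng P i ∈ posOf P Δ' := by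
              rw [hpos']
              exact ⟨i, subset_posOf Δ hiΔ, rfl⟩
            exact (ng_mem_posOf_iff hΔ' i).1 hi3 hi2
        obtain ⟨g', hg'W, hg'⟩ := ih _ hlt Δ' hΔ' rfl
        refine ⟨g' * refl P i, mul_mem hg'W (P.reflection_mem_weylGroup i), ?_⟩
        rintro _ ⟨k, hk, rfl⟩
        apply hg'
        refine ⟨refl P i • k, ?_, ?_⟩
        · rw [hpos']; exact ⟨k, hk, rfl⟩
        · simp only [mul_smul]
  intro Δ hΔ
  exact key _ Δ hΔ rfl

end Finite

end Groth.Agent.H27
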